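import Mathlib
import Cfsg.Agent.S3867

set_option autoImplicit false

/-!
General counting lemmas for the number of Sylow subgroups:
quotients by normal subgroups inside the normalizers, normal subgroups of index prime to `p`,
normal subgroups of prime index from Burnside's transfer, and the fixed point congruence for
invariant sets of Sylow subgroups.
-/

namespace Cfsg.Agent.Lib.Helper20.SylowCount

open Subgroup MulAction

variable {G : Type*} [Group G] [Finite G] {p : ℕ} [Fact p.Prime]

/-- Passing to the quotient by a normal subgroup contained in a Sylow normalizer keeps `n_p`. -/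
theorem card_sylow_quotient_eq (K : Subgroup G) [K.Normal] (P : Sylow p G)
    (hK : K ≤ normalizer ((P : Subgroup G) : Set G)) :
    Nat.card (Sylow p (G ⧸ K)) = Nat.card (Sylow p G) := by
  have h1 := Cfsg.Agent.S3867.card_sylow_quotient P K
  rw [sup_eq_left.mpr hK] at h1
  have h2 : Nat.card (Sylow p G) * Nat.card ↥(normalizer ((P : Subgroup G) : Set G)) =
      Nat.card G := by
    have := Sylow.card_eq_index_normalizer P
    rw [this]
    exact Subgroup.index_mul_card _
  have hpos : 0 < Nat.card ↥(normalizer ((P : Subgroup G) : Set G)) := Nat.card_pos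
  exact Nat.eq_of_mul_eq_mul_right hpos (h1.trans h2.symm)

/-- A Sylow `p`-subgroup lies in every normal subgroup of index prime to `p`. -/
theorem sylow_le_of_not_dvd_index (N : Subgroup G) [N.Normal] (hN : ¬ p ∣ N.index)
    (P : Sylow p G) : (P : Subgroup G) ≤ N := by
  rw [← Subgroup.relIndex_eq_one]
  have h1 : N.relIndex (P : Subgroup G) ∣ N.index := Subgroup.relIndex_dvd_index_of_normal N P
  have h2 : N.relIndex (P : Subgroup G) ∣ Nat.card (P : Subgroup G) :=
    Subgroup.relIndex_dvd_card N P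
  obtain ⟨k, hk⟩ := P.2.exists_card_eq
  rw [hk] at h2
  obtain ⟨j, _, hj⟩ := (Nat.dvd_prime_pow (Fact.out : p.Prime)).mp h2
  rcases Nat.eq_zero_or_pos j with rfl | hjpos
  · simpa using hj
  · exfalso
    apply hN
    have : p ∣ N.relIndex (P : Subgroup G) := by
      rw [hj]; exact dvd_pow_self p hjpos.ne'
    exact this.trans h1

/-- A normal subgroup of index prime to `p` has the same number of Sylow `p`-subgroups. -/
theorem card_sylow_of_normal (N : Subgroup G) [N.Normal] (hN : ¬ p ∣ N.index) :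
    Nat.card (Sylow p N) = Nat.card (Sylow p G) := by
  obtain ⟨P⟩ : Nonempty (Sylow p G) := inferInstance
  have hP : (P : Subgroup G) ≤ N := sylow_le_of_not_dvd_index N hN P
  set Nm := normalizer ((P : Subgroup G) : Set G) with hNm
  have htop : Nm ⊔ N = ⊤ := Sylow.normalizer_sup_eq_top' P hP
  have e1 : Nat.card (Sylow p N) = Nm.relIndex N := by
    have := Sylow.card_eq_index_normalizer (P.subtype hP)
    rw [this]
    have e : normalizer (((P.subtype hP : Sylow p N) : Subgroup N) : Set N) = Nm.subgroupOf N := by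
      rw [Sylow.coe_subtype, ← Subgroup.subgroupOf_normalizer_eq hP]
    change (normalizer (((P.subtype hP : Sylow p N) : Subgroup N) : Set N)).index = _
    rw [e]
    rfl
  have e2 : Nat.card (Sylow p G) = Nm.index := Sylow.card_eq_index_normalizer P
  rw [e1, e2]
  -- cardinalities
  have c1 : Nat.card N = Nat.card ↥(N ⊓ Nm) * Nm.relIndex N :=
    Cfsg.Agent.Lib.Helper18.card_eq_card_inf_mul_relIndex N Nm
  have c2 : Nat.card Nm = Nat.card ↥(Nm ⊓ N) * N.relIndex Nm :=
    Cfsg.Agent.Lib.Helper18.card_eq_card_inf_mul_relIndex Nm N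
  have c3 : N.relIndex Nm = N.index := by
    rw [← Subgroup.relIndex_sup_right Nm N, htop, Subgroup.relIndex_top_right]
  have c4 : N.index * Nat.card N = Nat.card G := Subgroup.index_mul_card N
  have c5 : Nm.index * Nat.card Nm = Nat.card G := Subgroup.index_mul_card Nm
  rw [c3] at c2
  rw [inf_comm] at c1
  have hpos1 : 0 < Nat.card ↥(Nm ⊓ N) := Nat.card_pos
  have hpos2 : 0 < N.index := by
    have : N.index ≠ 0 := Subgroup.index_ne_zero_of_finite
    omega
  have : Nm.index * (Nat.card ↥(Nm ⊓ N) * N.index) =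
      Nm.relIndex N * (Nat.card ↥(Nm ⊓ N) * N.index) := by
    calc Nm.index * (Nat.card ↥(Nm ⊓ N) * N.index) = Nm.index * Nat.card Nm := by rw [c2]
      _ = Nat.card G := c5
      _ = N.index * Nat.card N := c4.symm
      _ = N.index * (Nat.card ↥(Nm ⊓ N) * Nm.relIndex N) := by rw [c1]
      _ = Nm.relIndex N * (Nat.card ↥(Nm ⊓ N) * N.index) := by ring
  exact (Nat.eq_of_mul_eq_mul_right (Nat.mul_pos hpos1 hpos2) this).symm

/-- Burnside transfer: a Sylow `q`-subgroup of prime order `q` with `gcd(|G|, q-1) = 1`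
has a normal complement, of index `q`. -/
theorem exists_normal_card_mul (q : ℕ) [Fact q.Prime] (Q : Sylow q G) (hQ : Nat.card Q = q)
    (hcop : (Nat.card G).Coprime (q - 1)) :
    ∃ K : Subgroup G, K.Normal ∧ Nat.card K * q = Nat.card G := by
  have hcyc : IsCyclic Q := isCyclic_of_prime_card hQ
  have hNC : normalizer ((Q : Subgroup G) : Set G) ≤ centralizer ((Q : Subgroup G) : Set G) := by
    have key := Subgroup.card_dvd_of_injective _
      (QuotientGroup.kerLift_injective (Q : Subgroup G).normalizerMonoidHom)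
    rw [Subgroup.normalizerMonoidHom_ker, ← Subgroup.index, ← Subgroup.relIndex] at key
    rw [hcyc.card_mulAut, hQ, Nat.totient_prime Fact.out] at key
    have h2 : (centralizer ((Q : Subgroup G) : Set G)).relIndex
        (normalizer ((Q : Subgroup G) : Set G)) ∣ Nat.card G :=
      (Subgroup.relIndex_dvd_card _ _).trans (Subgroup.card_subgroup_dvd_card _)
    exact Subgroup.relIndex_eq_one.mp (Nat.eq_one_of_dvd_coprimes hcop h2 key)
  refine ⟨(MonoidHom.transferSylow Q hNC).ker, inferInstance, ?_⟩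
  have := (MonoidHom.ker_transferSylow_isComplement' Q hNC).card_mul
  rw [hQ] at this
  exact this

/-- invariance of a set of Sylow subgroups under a Sylow subgroup -/
def Inv (Q : Sylow p G) (T : Set (Sylow p G)) : Prop :=
  ∀ u ∈ (Q : Subgroup G), ∀ t ∈ T, u • t ∈ T

omit [Finite G] [Fact p.Prime] in
theorem Inv.inter {Q : Sylow p G} {T S : Set (Sylow p G)} (hT : Inv Q T) (hS : Inv Q S) :
    Inv Q (T ∩ S) := fun u hu t ht => ⟨hT u hu t ht.1, hS u hu t ht.2⟩

omit [Finite G] [Fact p.Prime] in
theorem Inv.diff {Q : Sylow p G} {T S : Set (Sylow p G)} (hT : Inv Q T) (hS : Inv Q S) :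
    Inv Q (T \ S) := by
  intro u hu t ht
  refine ⟨hT u hu t ht.1, fun h => ht.2 ?_⟩
  have := hS u⁻¹ (inv_mem hu) _ h
  rwa [inv_smul_smul] at this

omit [Finite G] [Fact p.Prime] in
/-- the fixed points of an element are invariant under anything commuting with it -/
theorem inv_fixedBy {Q : Sylow p G} (c : G)
    (hc : ∀ u ∈ (Q : Subgroup G), u * c = c * u) : Inv Q (fixedBy (Sylow p G) c) := by
  intro u hu t ht
  rw [mem_fixedBy] at ht ⊢
  rw [← mul_smul, ← hc u hu, mul_smul, ht]

/-- the only Sylow subgroup fixed by all elements of `Q` is `Q` -/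
theorem eq_of_forall_smul_eq (Q t : Sylow p G) (h : ∀ u ∈ (Q : Subgroup G), u • t = t) :
    t = Q := by
  have hmem : t ∈ fixedPoints (Q : Subgroup G) (Sylow p G) := by
    intro u
    exact h u u.2
  have hle : (Q : Subgroup G) ≤ t := (IsPGroup.sylow_mem_fixedPoints_iff Q.2).mp hmem
  exact Sylow.ext (Q.3 t.2 hle)

omit [Finite G] [Fact p.Prime] in
theorem smul_self_eq (Q : Sylow p G) (u : G) (hu : u ∈ (Q : Subgroup G)) : u • Q = Q :=
  Sylow.smul_eq_iff_mem_normalizer.mpr (Subgroup.le_normalizer hu)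

/-- a `p`-element normalizing a Sylow `p`-subgroup lies in it -/
theorem mem_of_smul_eq (Q t : Sylow p G) (c : G) (hc : c ∈ (Q : Subgroup G)) (h : c • t = t) :
    c ∈ (t : Subgroup G) := by
  have hz : IsPGroup p (zpowers c) := Q.2.to_le (zpowers_le.mpr hc)
  have := hz.inf_normalizer_sylow t
  have hmem : c ∈ zpowers c ⊓ (t : Subgroup G) := by
    rw [← this]
    exact ⟨mem_zpowers c, Sylow.smul_eq_iff_mem_normalizer.mp h⟩
  exact hmem.2

/-- fixed point congruence for an invariant set of Sylow subgroups -/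
theorem ncard_modEq_fixed (Q : Sylow p G) (T : Set (Sylow p G)) (hT : Inv Q T) :
    ∃ k : ℕ, T.ncard ≡ k [MOD p] ∧ (Q ∈ T → k = 1) ∧ (Q ∉ T → k = 0) := by
  classical
  let S : SubMulAction ↥(Q : Subgroup G) (Sylow p G) :=
    { carrier := T
      smul_mem' := fun u t ht => hT u u.2 t ht }
  have h := Q.2.card_modEq_card_fixedPoints ↥S
  have hS : Nat.card ↥S = T.ncard := Nat.card_coe_set_eq T
  rw [hS] at h
  refine ⟨_, h, ?_, ?_⟩
  all_goals
    have hfix : ∀ s : ↥S, s ∈ fixedPoints ↥(Q : Subgroup G) ↥S ↔ (s : Sylow p G) = Q := by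
      intro s
      constructor
      · intro hs
        apply eq_of_forall_smul_eq
        intro u hu
        have := hs ⟨u, hu⟩
        exact congrArg Subtype.val this
      · intro hs u
        apply Subtype.ext
        change (u : G) • (s : Sylow p G) = s
        rw [hs]
        exact smul_self_eq Q u u.2
  · intro hQ
    rw [Nat.card_eq_one_iff_unique]
    refine ⟨⟨?_⟩, ⟨⟨⟨Q, hQ⟩, (hfix _).mpr rfl⟩⟩⟩
    rintro ⟨a, ha⟩ ⟨b, hb⟩
    apply Subtype.ext
    apply Subtype.ext
    rw [(hfix a).mp ha, (hfix b).mp hb]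
  · intro hQ
    rw [Nat.card_eq_zero]
    left
    refine ⟨fun ⟨a, ha⟩ => hQ ?_⟩
    have := (hfix a).mp ha
    rw [← this]
    exact a.2

theorem ncard_modEq_one (Q : Sylow p G) (T : Set (Sylow p G)) (hT : Inv Q T) (hQ : Q ∈ T) :
    T.ncard ≡ 1 [MOD p] := by
  obtain ⟨k, hk, h1, _⟩ := ncard_modEq_fixed Q T hT
  rw [h1 hQ] at hk
  exact hk

theorem dvd_ncard_of_inv (Q : Sylow p G) (T : Set (Sylow p G)) (hT : Inv Q T) (hQ : Q ∉ T) :
    p ∣ T.ncard := by
  obtain ⟨k, hk, _, h0⟩ := ncard_modEq_fixed Q T hT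
  rw [h0 hQ] at hk
  exact (Nat.modEq_zero_iff_dvd).mp hk

end Cfsg.Agent.Lib.Helper20.SylowCount
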