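import Mathlib

/-!
Minimal normal subgroups and subnormal subgroups of finite groups.

* `IsMinNormal B`: `B` is a minimal normal subgroup of `G`.
* `exists_isMinNormal_le`: a nontrivial normal subgroup of a finite group contains a minimal normal subgroup.
* `IsMinNormal.le_normalizer_of_isSubnormal` (Wielandt): a minimal normal subgroup of a finite group
  normalizes every subnormal subgroup.
-/

set_option autoImplicit false

namespace Cfsg.Agent.Lib.Helper20

open scoped Pointwise

universe u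

variable {G : Type u} [Group G]

/-- `B` is a minimal normal subgroup of `G`. -/
def IsMinNormal (B : Subgroup G) : Prop :=
  B.Normal ∧ B ≠ ⊥ ∧ ∀ B₀ : Subgroup G, B₀.Normal → B₀ ≤ B → B₀ = ⊥ ∨ B₀ = B

theorem exists_isMinNormal_le [Finite G] {N : Subgroup G} (hN : N.Normal) (hne : N ≠ ⊥) :
    ∃ B : Subgroup G, IsMinNormal B ∧ B ≤ N := by
  obtain ⟨B, hB, hmin⟩ := exists_minimal_of_wellFoundedLT
    (fun B : Subgroup G => B.Normal ∧ B ≠ ⊥ ∧ B ≤ N) ⟨N, hN, hne, le_rfl⟩
  refine ⟨B, ⟨hB.1, hB.2.1, ?_⟩, hB.2.2⟩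
  intro B₀ hB₀ hle
  by_cases h0 : B₀ = ⊥
  · exact Or.inl h0
  · right
    exact le_antisymm hle (hmin ⟨hB₀, h0, hle.trans hB.2.2⟩ hle)

/-- "minimal normal subgroup of `K`" expressed for subgroups of `G` contained in `K`. -/
def IsMinNormalIn (B K : Subgroup G) : Prop :=
  B ≤ K ∧ K ≤ Subgroup.normalizer (B : Set G) ∧ B ≠ ⊥ ∧
    ∀ B₀ : Subgroup G, B₀ ≤ B → K ≤ Subgroup.normalizer (B₀ : Set G) → B₀ = ⊥ ∨ B₀ = B

theorem IsMinNormalIn.isMinNormal_subgroupOf {B K : Subgroup G} (h : IsMinNormalIn B K) :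
    IsMinNormal (B.subgroupOf K) := by
  obtain ⟨hBK, hn, hne, hmin⟩ := h
  refine ⟨(Subgroup.normal_subgroupOf_iff_le_normalizer hBK).mpr hn, ?_, ?_⟩
  · intro h0
    apply hne
    rw [Subgroup.subgroupOf_eq_bot] at h0
    exact disjoint_iff.mp h0 ▸ (inf_of_le_left hBK).symm
  · intro B₀ hB₀ hle
    have h1 : B₀.map K.subtype ≤ B := by
      rintro _ ⟨y, hy, rfl⟩
      exact hle hy
    have h2 : K ≤ Subgroup.normalizer ((B₀.map K.subtype : Subgroup G) : Set G) := by
      rw [Subgroup.le_normalizer_iff]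
      rintro k hk _ ⟨y, hy, rfl⟩
      exact ⟨⟨k, hk⟩ * y * ⟨k, hk⟩⁻¹, hB₀.conj_mem y hy ⟨k, hk⟩, rfl⟩
    rcases hmin _ h1 h2 with h3 | h3
    · left
      rw [eq_bot_iff]
      intro y hy
      have : (y : G) ∈ B₀.map K.subtype := ⟨y, hy, rfl⟩
      rw [h3, Subgroup.mem_bot] at this
      exact Subgroup.mem_bot.mpr (Subtype.ext this)
    · right
      apply le_antisymm hle
      intro y hy
      have : (y : G) ∈ B₀.map K.subtype := by rw [h3]; exact hy
      obtain ⟨z, hz, hzy⟩ := this
      have : z = y := Subtype.ext hzy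
      rwa [← this]

theorem exists_isMinNormalIn_le [Finite G] {N K : Subgroup G} (hNK : N ≤ K)
    (hn : K ≤ Subgroup.normalizer (N : Set G)) (hne : N ≠ ⊥) :
    ∃ B : Subgroup G, IsMinNormalIn B K ∧ B ≤ N := by
  obtain ⟨B, hB, hmin⟩ := exists_minimal_of_wellFoundedLT
    (fun B : Subgroup G => K ≤ Subgroup.normalizer (B : Set G) ∧ B ≠ ⊥ ∧ B ≤ N) ⟨N, hn, hne, le_rfl⟩
  refine ⟨B, ⟨hB.2.2.trans hNK, hB.1, hB.2.1, ?_⟩, hB.2.2⟩
  intro B₀ hle hB₀
  by_cases h0 : B₀ = ⊥
  · exact Or.inl h0
  · right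
    exact le_antisymm hle (hmin ⟨hB₀, h0, hle.trans hB.2.2⟩ hle)

theorem smul_normalizer_eq (g : G) (B : Subgroup G) :
    Subgroup.normalizer ((MulAut.conj g • B : Subgroup G) : Set G) =
      MulAut.conj g • Subgroup.normalizer (B : Set G) := by
  ext x
  rw [Subgroup.mem_pointwise_smul_iff_inv_smul_mem, Subgroup.mem_normalizer_iff,
    Subgroup.mem_normalizer_iff]
  simp only [MulAut.smul_def, MulAut.conj_inv_apply]
  constructor
  · intro h y
    have := h (g * y * g⁻¹)
    rw [Subgroup.mem_pointwise_smul_iff_inv_smul_mem, Subgroup.mem_pointwise_smul_iff_inv_smul_mem] at this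
    simp only [MulAut.smul_def, MulAut.conj_inv_apply] at this
    have e1 : g⁻¹ * (g * y * g⁻¹) * g = y := by group
    have e2 : g⁻¹ * (x * (g * y * g⁻¹) * x⁻¹) * g = g⁻¹ * x * g * y * (g⁻¹ * x * g)⁻¹ := by group
    rw [e1, e2] at this
    exact this
  · intro h y
    rw [Subgroup.mem_pointwise_smul_iff_inv_smul_mem, Subgroup.mem_pointwise_smul_iff_inv_smul_mem]
    simp only [MulAut.smul_def, MulAut.conj_inv_apply]
    have := h (g⁻¹ * y * g)
    have e2 : g⁻¹ * (x * y * x⁻¹) * g = g⁻¹ * x * g * (g⁻¹ * y * g) * (g⁻¹ * x * g)⁻¹ := by group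
    rw [e2]
    exact this

theorem smul_eq_bot_iff' {α : Type*} [Group α] [MulDistribMulAction α G] (a : α) (B : Subgroup G) :
    a • B = ⊥ ↔ B = ⊥ := by
  constructor
  · intro h
    have : a⁻¹ • (a • B) = a⁻¹ • (⊥ : Subgroup G) := by rw [h]
    rwa [inv_smul_smul, Subgroup.smul_bot] at this
  · rintro rfl; exact Subgroup.smul_bot a

theorem IsMinNormalIn.smul {B K : Subgroup G} (h : IsMinNormalIn B K) (g : G)
    (hg : MulAut.conj g • K = K) : IsMinNormalIn (MulAut.conj g • B) K := by
  obtain ⟨hBK, hn, hne, hmin⟩ := h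
  refine ⟨?_, ?_, ?_, ?_⟩
  · rw [← hg]; exact Subgroup.pointwise_smul_le_pointwise_smul_iff.mpr hBK
  · rw [smul_normalizer_eq, ← hg]
    exact Subgroup.pointwise_smul_le_pointwise_smul_iff.mpr hn
  · intro h0
    apply hne
    rwa [smul_eq_bot_iff'] at h0
  · intro B₀ hle hB₀
    have h1 : (MulAut.conj g)⁻¹ • B₀ ≤ B := by
      rw [Subgroup.pointwise_smul_subset_iff, inv_inv]; exact hle
    have hg' : (MulAut.conj g⁻¹) • K = K := by
      conv_lhs => rw [← hg]
      rw [← mul_smul, ← map_mul, inv_mul_cancel, map_one, one_smul]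
    have h2 : K ≤ Subgroup.normalizer (((MulAut.conj g)⁻¹ • B₀ : Subgroup G) : Set G) := by
      rw [← map_inv, smul_normalizer_eq, ← hg']
      exact Subgroup.pointwise_smul_le_pointwise_smul_iff.mpr hB₀
    rcases hmin _ h1 h2 with h3 | h3
    · left
      rwa [smul_eq_bot_iff'] at h3
    · right
      rw [← h3, smul_inv_smul]

theorem conj_smul_eq_of_normal {K : Subgroup G} (hK : K.Normal) (g : G) : MulAut.conj g • K = K := by
  haveI := hK
  exact Subgroup.Normal.conj_smul_eq_self g K

theorem wielandt_aux : ∀ n : ℕ, ∀ (G : Type u) [Group G] [Finite G], Nat.card G = n →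
    ∀ S A : Subgroup G, S.IsSubnormal → IsMinNormal A → A ≤ Subgroup.normalizer (S : Set G) := by
  intro n
  induction n using Nat.strong_induction_on with
  | _ n ih =>
  intro G _ _ hn S A hS hA
  by_cases hStop : S = ⊤
  · subst hStop
    intro a _
    rw [Subgroup.mem_normalizer_iff]
    intro h; simp
  obtain ⟨K, hKn, hSK, hKlt⟩ := hS.exists_normal_and_le_and_lt_top_of_ne hStop
  obtain ⟨hAn, hAne, hAmin⟩ := hA
  by_cases hAK : A ⊓ K = ⊥
  · rw [Subgroup.le_normalizer_iff]
    intro a ha s hs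
    have hc := Subgroup.commute_of_normal_of_disjoint A K hAn hKn (disjoint_iff.mpr hAK) a s ha (hSK hs)
    have : a * s * a⁻¹ = s := by rw [hc.eq]; group
    rw [this]; exact hs
  · have hAleK : A ≤ K := by
      have hinfn : (A ⊓ K).Normal := by
        haveI := hAn; haveI := hKn; infer_instance
      rcases hAmin (A ⊓ K) hinfn inf_le_left with h | h
      · exact absurd h hAK
      · exact h ▸ inf_le_right
    have hKA : K ≤ Subgroup.normalizer (A : Set G) := by
      rw [Subgroup.normalizer_eq_top_iff.mpr hAn]; exact le_top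
    obtain ⟨B, hB, hBA⟩ := exists_isMinNormalIn_le hAleK hKA hAne
    have hlt : Nat.card K < n := by
      rw [← hn]
      have h1 : Nat.card K * K.index = Nat.card G := Subgroup.card_mul_index K
      have h2 : K.index ≠ 1 := by
        intro h; exact hKlt.ne (Subgroup.index_eq_one.mp h)
      have h3 : K.index ≠ 0 := Subgroup.index_ne_zero_of_finite
      have h4 : 0 < Nat.card K := Nat.card_pos
      have h5 : 2 ≤ K.index := by omega
      nlinarith
    have hconj : ∀ g : G, MulAut.conj g • B ≤ Subgroup.normalizer (S : Set G) := by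
      intro g
      have hBg := hB.smul g (conj_smul_eq_of_normal hKn g)
      have hmin' := hBg.isMinNormal_subgroupOf
      have h1 := ih (Nat.card K) hlt K rfl (S.subgroupOf K) ((MulAut.conj g • B).subgroupOf K)
        hS.subgroupOf hmin'
      rw [← Subgroup.subgroupOf_normalizer_eq hSK] at h1
      intro x hx
      have hxK : x ∈ K := hBg.1 hx
      have h2 : (⟨x, hxK⟩ : K) ∈ (MulAut.conj g • B).subgroupOf K := hx
      exact h1 h2
    have hN : Subgroup.normalClosure (B : Set G) = A := by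
      have h1 : Subgroup.normalClosure (B : Set G) ≤ A := by
        haveI := hAn
        exact Subgroup.normalClosure_le_normal hBA
      rcases hAmin _ Subgroup.normalClosure_normal h1 with h | h
      · exfalso
        apply hB.2.2.1
        rw [eq_bot_iff, ← h]
        exact Subgroup.le_normalClosure
      · exact h
    rw [← hN, Subgroup.normalClosure]
    rw [Subgroup.closure_le]
    intro x hx
    rw [Group.mem_conjugatesOfSet_iff] at hx
    obtain ⟨b, hb, hbx⟩ := hx
    rw [isConj_iff] at hbx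
    obtain ⟨c, rfl⟩ := hbx
    apply hconj c
    rw [Subgroup.mem_pointwise_smul_iff_inv_smul_mem]
    simp only [MulAut.smul_def, MulAut.conj_inv_apply]
    have : c⁻¹ * (c * b * c⁻¹) * c = b := by group
    rw [this]; exact hb

/-- **Wielandt**: a minimal normal subgroup of a finite group normalizes every subnormal subgroup. -/
theorem IsMinNormal.le_normalizer_of_isSubnormal [Finite G] {A S : Subgroup G} (hA : IsMinNormal A)
    (hS : S.IsSubnormal) : A ≤ Subgroup.normalizer (S : Set G) :=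
  wielandt_aux (Nat.card G) G rfl S A hS hA

end Cfsg.Agent.Lib.Helper20
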