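import Mathlib
import Cfsg.Prelude.Def_PLocal

set_option autoImplicit false
open Cfsg

/-!
Generalities on `Cfsg.iterCommutator`, a `≤ N` form of the three subgroups lemma, and the
filtration `Efil` of a central section by iterated commutators with a fixed element.
-/

namespace Cfsg.Agent.Lib.Helper20.IterComm

open Subgroup
open scoped commutatorElement

variable {G : Type*} [Group G]

/-- three subgroups lemma, `≤ N` form -/
theorem three_subgroups_le {H₁ H₂ H₃ N : Subgroup G}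
    (h1n : H₁ ≤ normalizer (N : Set G)) (h2n : H₂ ≤ normalizer (N : Set G))
    (h3n : H₃ ≤ normalizer (N : Set G))
    (h1 : ⁅⁅H₂, H₃⁆, H₁⁆ ≤ N) (h2 : ⁅⁅H₃, H₁⁆, H₂⁆ ≤ N) : ⁅⁅H₁, H₂⁆, H₃⁆ ≤ N := by
  -- the subgroup of elements of the normalizer whose commutators with `H₃` lie in `N`
  let M : Subgroup G :=
    { carrier := {w | w ∈ normalizer (N : Set G) ∧ ∀ z ∈ H₃, ⁅w, z⁆ ∈ N}
      one_mem' := ⟨one_mem _, fun z _ => by simp⟩
      mul_mem' := by
        rintro a b ⟨ha, ha'⟩ ⟨hb, hb'⟩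
        refine ⟨mul_mem ha hb, fun z hz => ?_⟩
        have e : ⁅a * b, z⁆ = a * ⁅b, z⁆ * a⁻¹ * ⁅a, z⁆ := by
          simp only [commutatorElement_def]; group
        rw [e]
        exact mul_mem ((mem_normalizer_iff.mp ha _).mp (hb' z hz)) (ha' z hz)
      inv_mem' := by
        rintro a ⟨ha, ha'⟩
        refine ⟨inv_mem ha, fun z hz => ?_⟩
        have e : ⁅a⁻¹, z⁆ = a⁻¹ * ⁅a, z⁆⁻¹ * a⁻¹⁻¹ := by
          simp only [commutatorElement_def]; group
        rw [e]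
        exact (mem_normalizer_iff.mp (inv_mem ha) _).mp (inv_mem (ha' z hz)) }
  have hM : ⁅H₁, H₂⁆ ≤ M := by
    rw [commutator_le]
    intro x hx y hy
    refine ⟨commutator_le.mp (le_refl ⁅H₁, H₂⁆) x hx y hy |> fun h => ?_, ?_⟩
    · exact (commutator_le.mpr (fun a ha b hb =>
        (normalizer (N : Set G)).mul_mem
          ((normalizer (N : Set G)).mul_mem ((normalizer (N : Set G)).mul_mem (h1n ha) (h2n hb))
            (inv_mem (h1n ha))) (inv_mem (h2n hb)))) h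
    · intro z hz
      have hn2 : ⁅y, ⁅z⁻¹, x⁻¹⁆⁆ ∈ N := by
        have : ⁅⁅z⁻¹, x⁻¹⁆, y⁆ ∈ ⁅⁅H₃, H₁⁆, H₂⁆ :=
          commutator_mem_commutator (commutator_mem_commutator (inv_mem hz) (inv_mem hx)) hy
        have h3 := inv_mem (h2 this)
        rwa [commutatorElement_inv] at h3
      have hn1 : ⁅x⁻¹, ⁅y⁻¹, z⁆⁆ ∈ N := by
        have : ⁅⁅y⁻¹, z⁆, x⁻¹⁆ ∈ ⁅⁅H₂, H₃⁆, H₁⁆ :=
          commutator_mem_commutator (commutator_mem_commutator (inv_mem hy) hz) (inv_mem hx)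
        have h3 := inv_mem (h1 this)
        rwa [commutatorElement_inv] at h3
      have e : ⁅z, ⁅x, y⁆⁆ =
          (x * z) * ⁅y, ⁅z⁻¹, x⁻¹⁆⁆⁻¹ * (x * z)⁻¹ * ((x * y) * ⁅x⁻¹, ⁅y⁻¹, z⁆⁆⁻¹ * (x * y)⁻¹) := by
        simp only [commutatorElement_def]; group
      have hxz : x * z ∈ normalizer (N : Set G) := mul_mem (h1n hx) (h3n hz)
      have hxy : x * y ∈ normalizer (N : Set G) := mul_mem (h1n hx) (h2n hy)
      have h4 : ⁅z, ⁅x, y⁆⁆ ∈ N := by
        rw [e]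
        exact mul_mem ((mem_normalizer_iff.mp hxz _).mp (inv_mem hn2))
          ((mem_normalizer_iff.mp hxy _).mp (inv_mem hn1))
      have h5 := inv_mem h4
      rwa [commutatorElement_inv] at h5
  rw [commutator_le]
  intro w hw z hz
  exact (hM hw).2 z hz

/-! ### iterated commutators -/

theorem iter_mono {A B : Subgroup G} (K : Subgroup G) (h : A ≤ B) :
    ∀ n, iterCommutator A K n ≤ iterCommutator B K n
  | 0 => h
  | n + 1 => commutator_mono (iter_mono K h n) le_rfl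

theorem iter_le_of_normal {A N : Subgroup G} (K : Subgroup G) [N.Normal] (h : A ≤ N) :
    ∀ n, iterCommutator A K n ≤ N
  | 0 => h
  | n + 1 => (commutator_mono (iter_le_of_normal K h n) le_rfl).trans (commutator_le_left N K)

theorem iter_succ' (A K : Subgroup G) : ∀ n, iterCommutator ⁅A, K⁆ K n = iterCommutator A K (n + 1)
  | 0 => rfl
  | n + 1 => by
    show ⁅iterCommutator ⁅A, K⁆ K n, K⁆ = ⁅iterCommutator A K (n + 1), K⁆
    rw [iter_succ' A K n]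

theorem iter_add (A K : Subgroup G) (m : ℕ) :
    ∀ n, iterCommutator (iterCommutator A K m) K n = iterCommutator A K (m + n)
  | 0 => rfl
  | n + 1 => by
    show ⁅iterCommutator (iterCommutator A K m) K n, K⁆ = ⁅iterCommutator A K (m + n), K⁆
    rw [iter_add A K m n]

theorem normalizes_commutator {X K : Subgroup G} (h : K ≤ normalizer (X : Set G)) :
    K ≤ normalizer ((⁅X, K⁆ : Subgroup G) : Set G) := by
  have key : ∀ k ∈ K, ∀ w ∈ ⁅X, K⁆, k * w * k⁻¹ ∈ ⁅X, K⁆ := by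
    intro k hk
    have : ⁅X, K⁆ ≤ (⁅X, K⁆).comap (MulAut.conj k).toMonoidHom := by
      rw [commutator_le]
      intro x hx c hc
      rw [mem_comap]
      have e : (MulAut.conj k).toMonoidHom ⁅x, c⁆ = ⁅k * x * k⁻¹, k * c * k⁻¹⁆ := by
        simp only [MulEquiv.coe_toMonoidHom, MulAut.conj_apply, commutatorElement_def]; group
      rw [e]
      exact commutator_mem_commutator ((mem_normalizer_iff.mp (h hk) x).mp hx)
        (K.mul_mem (K.mul_mem hk hc) (K.inv_mem hk))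
    intro w hw
    have := this hw
    rwa [mem_comap, MulEquiv.coe_toMonoidHom, MulAut.conj_apply] at this
  intro k hk
  rw [mem_normalizer_iff]
  intro w
  refine ⟨key k hk w, fun hw => ?_⟩
  have := key k⁻¹ (K.inv_mem hk) _ hw
  have e : k⁻¹ * (k * w * k⁻¹) * k⁻¹⁻¹ = w := by group
  rwa [e] at this

theorem normalizes_iter {A K : Subgroup G} (h : K ≤ normalizer (A : Set G)) :
    ∀ n, K ≤ normalizer ((iterCommutator A K n : Subgroup G) : Set G)
  | 0 => h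
  | n + 1 => normalizes_commutator (normalizes_iter h n)

theorem commutator_le_self {X K : Subgroup G} (h : K ≤ normalizer (X : Set G)) : ⁅X, K⁆ ≤ X := by
  rw [commutator_le]
  intro x hx k hk
  have e : ⁅x, k⁆ = x * (k * x⁻¹ * k⁻¹) := by
    simp only [commutatorElement_def]; group
  rw [e]
  exact X.mul_mem hx ((mem_normalizer_iff.mp (h hk) _).mp (X.inv_mem hx))

theorem iter_succ_le {A K : Subgroup G} (h : K ≤ normalizer (A : Set G)) (n : ℕ) :
    iterCommutator A K (n + 1) ≤ iterCommutator A K n :=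
  commutator_le_self (normalizes_iter h n)

theorem iter_antitone {A K : Subgroup G} (h : K ≤ normalizer (A : Set G)) {m n : ℕ} (hmn : m ≤ n) :
    iterCommutator A K n ≤ iterCommutator A K m := by
  induction n, hmn using Nat.le_induction with
  | base => exact le_rfl
  | succ n _ ih => exact (iter_succ_le h n).trans ih

/-- `[V ⊔ Y, K] ≤ V ⊔ [Y, K]` for `V` normal. -/
theorem sup_commutator_le_sup {V Y K : Subgroup G} [hV : V.Normal] : ⁅V ⊔ Y, K⁆ ≤ V ⊔ ⁅Y, K⁆ := by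
  rw [commutator_le]
  intro w hw k hk
  obtain ⟨v, hv, y, hy, rfl⟩ := mem_sup_of_normal_left.mp hw
  have e : ⁅v * y, k⁆ = (v * (⁅y, k⁆ * v⁻¹ * ⁅y, k⁆⁻¹)) * ⁅y, k⁆ * (v * (k * v⁻¹ * k⁻¹)) := by
    simp only [commutatorElement_def]; group
  rw [e]
  have hyk : ⁅y, k⁆ ∈ ⁅Y, K⁆ := commutator_mem_commutator hy hk
  have h1 : v * (⁅y, k⁆ * v⁻¹ * ⁅y, k⁆⁻¹) ∈ V :=
    V.mul_mem hv (hV.conj_mem _ (V.inv_mem hv) _)
  have h2 : v * (k * v⁻¹ * k⁻¹) ∈ V := V.mul_mem hv (hV.conj_mem _ (V.inv_mem hv) _)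
  -- reorder: a * c * b with a, b ∈ V, c ∈ [Y,K]
  have h3 : (v * (⁅y, k⁆ * v⁻¹ * ⁅y, k⁆⁻¹)) * ⁅y, k⁆ * (v * (k * v⁻¹ * k⁻¹)) =
      ((v * (⁅y, k⁆ * v⁻¹ * ⁅y, k⁆⁻¹)) * (⁅y, k⁆ * (v * (k * v⁻¹ * k⁻¹)) * ⁅y, k⁆⁻¹)) * ⁅y, k⁆ := by
    group
  rw [h3]
  exact mul_mem_sup (V.mul_mem h1 (hV.conj_mem _ h2 _)) hyk

theorem iter_sup_le {V A K : Subgroup G} [V.Normal] :
    ∀ n, iterCommutator (V ⊔ A) K n ≤ V ⊔ iterCommutator A K n
  | 0 => le_rfl
  | n + 1 => (commutator_mono (iter_sup_le n) le_rfl).trans sup_commutator_le_sup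

/-! ### iterated commutators of elements with a fixed element -/

/-- `[y, g, …, g]` -/
def cg (g : G) : ℕ → G → G
  | 0, y => y
  | n + 1, y => ⁅cg g n y, g⁆

theorem cg_succ' (g : G) : ∀ (n : ℕ) (y : G), cg g n ⁅y, g⁆ = cg g (n + 1) y
  | 0, _ => rfl
  | n + 1, y => by
    show ⁅cg g n ⁅y, g⁆, g⁆ = ⁅cg g (n + 1) y, g⁆
    rw [cg_succ' g n y]

theorem cg_mem_iter {g : G} {Y K : Subgroup G} (hg : g ∈ K) {y : G} (hy : y ∈ Y) :
    ∀ n, cg g n y ∈ iterCommutator Y K n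
  | 0 => hy
  | n + 1 => commutator_mem_commutator (cg_mem_iter hg hy n) hg

theorem cg_mem_of_normal {g : G} {N : Subgroup G} [hN : N.Normal] {y : G} (hy : y ∈ N) :
    ∀ n, cg g n y ∈ N
  | 0 => hy
  | n + 1 => by
    show ⁅cg g n y, g⁆ ∈ N
    have e : ⁅cg g n y, g⁆ = cg g n y * (g * (cg g n y)⁻¹ * g⁻¹) := by
      simp only [commutatorElement_def]; group
    rw [e]
    exact N.mul_mem (cg_mem_of_normal hy n) (hN.conj_mem _ (N.inv_mem (cg_mem_of_normal hy n)) g)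

theorem cg_conj (g : G) : ∀ (n : ℕ) (y : G), cg g n (g * y * g⁻¹) = g * cg g n y * g⁻¹
  | 0, _ => rfl
  | n + 1, y => by
    show ⁅cg g n (g * y * g⁻¹), g⁆ = g * ⁅cg g n y, g⁆ * g⁻¹
    rw [cg_conj g n y]
    simp only [commutatorElement_def]; group

theorem cg_one (g : G) : ∀ n, cg g n 1 = 1
  | 0 => rfl
  | n + 1 => by
    show ⁅cg g n 1, g⁆ = 1
    rw [cg_one g n]; simp

theorem map_cg {H : Type*} [Group H] (f : G →* H) (g y : G) :
    ∀ n, f (cg g n y) = cg (f g) n (f y)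
  | 0 => rfl
  | n + 1 => by
    show f ⁅cg g n y, g⁆ = ⁅cg (f g) n (f y), f g⁆
    rw [map_commutatorElement, map_cg f g y n]

theorem cg_mul_of_comm {A : Subgroup G} [hA : A.Normal] (hc : ∀ a ∈ A, ∀ b ∈ A, a * b = b * a)
    (g : G) : ∀ n, ∀ a ∈ A, ∀ b ∈ A, cg g n (a * b) = cg g n a * cg g n b
  | 0, _, _, _, _ => rfl
  | n + 1, a, ha, b, hb => by
    show ⁅cg g n (a * b), g⁆ = ⁅cg g n a, g⁆ * ⁅cg g n b, g⁆
    rw [cg_mul_of_comm hc g n a ha b hb]
    have hu : cg g n a ∈ A := cg_mem_of_normal ha n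
    have hu' : cg g n b ∈ A := cg_mem_of_normal hb n
    set u := cg g n a
    set u' := cg g n b
    have hs : g * u⁻¹ * g⁻¹ ∈ A := hA.conj_mem _ (A.inv_mem hu) g
    have hs' : g * u'⁻¹ * g⁻¹ ∈ A := hA.conj_mem _ (A.inv_mem hu') g
    have e1 : ⁅u * u', g⁆ = u * u' * ((g * u'⁻¹ * g⁻¹) * (g * u⁻¹ * g⁻¹)) := by
      simp only [commutatorElement_def]; group
    have e2 : ⁅u, g⁆ * ⁅u', g⁆ = u * ((g * u⁻¹ * g⁻¹) * u') * (g * u'⁻¹ * g⁻¹) := by
      simp only [commutatorElement_def]; group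
    rw [e1, e2, hc _ hs _ hu', hc _ hs' _ hs]
    group

section Efil

variable (g : G) (B C' : Subgroup G) [hB : B.Normal] [hC : C'.Normal]

include hB hC in
theorem cg_mul_mem (hBB : ⁅B, B⁆ ≤ C') {y y' : G} (hy : y ∈ B) (hy' : y' ∈ B) (n : ℕ) :
    (cg g n y * cg g n y')⁻¹ * cg g n (y * y') ∈ C' := by
  set π := QuotientGroup.mk' C' with hπ
  haveI hA : (B.map π).Normal := hB.map π (QuotientGroup.mk'_surjective C')
  have hc : ∀ a ∈ B.map π, ∀ b ∈ B.map π, a * b = b * a := by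
    rintro _ ⟨b, hb, rfl⟩ _ ⟨b', hb', rfl⟩
    rw [← map_mul, ← map_mul]
    symm
    apply (QuotientGroup.eq (s := C')).mpr
    have e : (b' * b)⁻¹ * (b * b') = ⁅b⁻¹, b'⁻¹⁆ := by
      simp only [commutatorElement_def]; group
    rw [e]
    exact hBB (commutator_mem_commutator (B.inv_mem hb) (B.inv_mem hb'))
  have h1 := cg_mul_of_comm hc (π g) n (π y) (mem_map_of_mem π hy) (π y') (mem_map_of_mem π hy')
  rw [← map_mul, ← map_cg, ← map_cg, ← map_cg, ← map_mul] at h1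
  exact (QuotientGroup.eq (s := C')).mp h1.symm

/-- the elements `y ∈ B` with `[y, g; n] ∈ C'`. -/
def Efil (hBB : ⁅B, B⁆ ≤ C') (n : ℕ) : Subgroup G where
  carrier := {y | y ∈ B ∧ cg g n y ∈ C'}
  one_mem' := ⟨B.one_mem, by rw [cg_one]; exact C'.one_mem⟩
  mul_mem' := by
    rintro y y' ⟨hy, hy2⟩ ⟨hy', hy2'⟩
    refine ⟨B.mul_mem hy hy', ?_⟩
    have h := cg_mul_mem g B C' hBB hy hy' n
    have e : cg g n (y * y') = (cg g n y * cg g n y') * ((cg g n y * cg g n y')⁻¹ * cg g n (y * y')) := by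
      group
    rw [e]
    exact C'.mul_mem (C'.mul_mem hy2 hy2') h
  inv_mem' := by
    rintro y ⟨hy, hy2⟩
    refine ⟨B.inv_mem hy, ?_⟩
    have h := cg_mul_mem g B C' hBB hy (B.inv_mem hy) n
    rw [mul_inv_cancel, cg_one, mul_one] at h
    have h2 := C'.inv_mem h
    rw [inv_inv] at h2
    have e : cg g n y⁻¹ = (cg g n y)⁻¹ * (cg g n y * cg g n y⁻¹) := by group
    rw [e]
    exact C'.mul_mem (C'.inv_mem hy2) h2

variable {g B C'}

theorem mem_Efil {hBB : ⁅B, B⁆ ≤ C'} {n : ℕ} {y : G} :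
    y ∈ Efil g B C' hBB n ↔ y ∈ B ∧ cg g n y ∈ C' := Iff.rfl

theorem Efil_le (hBB : ⁅B, B⁆ ≤ C') (n : ℕ) : Efil g B C' hBB n ≤ B := fun _ h => h.1

theorem le_Efil (hBB : ⁅B, B⁆ ≤ C') (hCB : C' ≤ B) (n : ℕ) : C' ≤ Efil g B C' hBB n :=
  fun _ h => ⟨hCB h, cg_mem_of_normal h n⟩

theorem Efil_zero (hBB : ⁅B, B⁆ ≤ C') (hCB : C' ≤ B) : Efil g B C' hBB 0 = C' := by
  ext y
  rw [mem_Efil]
  exact ⟨fun h => h.2, fun h => ⟨hCB h, h⟩⟩

theorem Efil_mono (hBB : ⁅B, B⁆ ≤ C') (n : ℕ) : Efil g B C' hBB n ≤ Efil g B C' hBB (n + 1) := by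
  intro y hy
  exact ⟨hy.1, cg_mem_of_normal (g := g) hy.2 1⟩

theorem Efil_mono' (hBB : ⁅B, B⁆ ≤ C') {m n : ℕ} (h : m ≤ n) :
    Efil g B C' hBB m ≤ Efil g B C' hBB n := by
  induction n, h using Nat.le_induction with
  | base => exact le_rfl
  | succ n _ ih => exact ih.trans (Efil_mono hBB n)

theorem le_normalizer_Efil (hBB : ⁅B, B⁆ ≤ C') (hCB : C' ≤ B) {X : Subgroup G}
    (hX : ⁅X, B⁆ ≤ C') (n : ℕ) : X ≤ normalizer ((Efil g B C' hBB n : Subgroup G) : Set G) := by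
  have key : ∀ x ∈ X, ∀ e ∈ Efil g B C' hBB n, x * e * x⁻¹ ∈ Efil g B C' hBB n := by
    intro x hx e he
    have e1 : x * e * x⁻¹ = ⁅x, e⁆ * e := by simp only [commutatorElement_def]; group
    rw [e1]
    exact mul_mem (le_Efil hBB hCB n (hX (commutator_mem_commutator hx he.1))) he
  intro x hx
  rw [mem_normalizer_iff]
  intro e
  refine ⟨key x hx e, fun h => ?_⟩
  have := key x⁻¹ (X.inv_mem hx) _ h
  have e2 : x⁻¹ * (x * e * x⁻¹) * x⁻¹⁻¹ = e := by group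
  rwa [e2] at this

theorem zpowers_le_normalizer_Efil (hBB : ⁅B, B⁆ ≤ C') (n : ℕ) :
    zpowers g ≤ normalizer ((Efil g B C' hBB n : Subgroup G) : Set G) := by
  rw [zpowers_le, mem_normalizer_iff]
  intro e
  constructor
  · intro he
    refine ⟨hB.conj_mem _ he.1 g, ?_⟩
    rw [cg_conj]
    exact hC.conj_mem _ he.2 g
  · intro he
    have h1 : e ∈ B := by
      have := hB.conj_mem _ he.1 g⁻¹
      have e2 : g⁻¹ * (g * e * g⁻¹) * g⁻¹⁻¹ = e := by group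
      rwa [e2] at this
    refine ⟨h1, ?_⟩
    have h2 := he.2
    rw [cg_conj] at h2
    have := hC.conj_mem _ h2 g⁻¹
    have e2 : g⁻¹ * (g * cg g n e * g⁻¹) * g⁻¹⁻¹ = cg g n e := by group
    rwa [e2] at this

theorem commutator_Efil_le (hBB : ⁅B, B⁆ ≤ C') (n : ℕ) :
    ⁅Efil g B C' hBB (n + 1), zpowers g⁆ ≤ Efil g B C' hBB n := by
  let T : Subgroup G :=
    { carrier := {k | k ∈ normalizer ((Efil g B C' hBB n : Subgroup G) : Set G) ∧
        ∀ e ∈ Efil g B C' hBB (n + 1), ⁅e, k⁆ ∈ Efil g B C' hBB n}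
      one_mem' := ⟨one_mem _, fun e _ => by simp⟩
      mul_mem' := by
        rintro k k' ⟨hk, hk2⟩ ⟨hk', hk2'⟩
        refine ⟨mul_mem hk hk', fun e he => ?_⟩
        have e1 : ⁅e, k * k'⁆ = ⁅e, k⁆ * (k * ⁅e, k'⁆ * k⁻¹) := by
          simp only [commutatorElement_def]; group
        rw [e1]
        exact mul_mem (hk2 e he) ((mem_normalizer_iff.mp hk _).mp (hk2' e he))
      inv_mem' := by
        rintro k ⟨hk, hk2⟩
        refine ⟨inv_mem hk, fun e he => ?_⟩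
        have e1 : ⁅e, k⁻¹⁆ = k⁻¹ * ⁅e, k⁆⁻¹ * k⁻¹⁻¹ := by
          simp only [commutatorElement_def]; group
        rw [e1]
        exact (mem_normalizer_iff.mp (inv_mem hk) _).mp (inv_mem (hk2 e he)) }
  have hgT : g ∈ T := by
    refine ⟨zpowers_le_normalizer_Efil hBB n (mem_zpowers g), fun e he => ?_⟩
    refine ⟨?_, ?_⟩
    · have e1 : ⁅e, g⁆ = e * (g * e⁻¹ * g⁻¹) := by simp only [commutatorElement_def]; group
      rw [e1]
      exact B.mul_mem he.1 (hB.conj_mem _ (B.inv_mem he.1) g)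
    · rw [cg_succ']
      exact he.2
  have hT : zpowers g ≤ T := zpowers_le.mpr hgT
  rw [commutator_le]
  intro e he k hk
  exact (hT hk).2 e he

theorem le_Efil_of_iter (hBB : ⁅B, B⁆ ≤ C') {Y : Subgroup G} (hY : Y ≤ B) {n : ℕ}
    (h : iterCommutator Y (zpowers g) n ≤ C') : Y ≤ Efil g B C' hBB n :=
  fun _ hy => ⟨hY hy, h (cg_mem_iter (mem_zpowers g) hy n)⟩

end Efil

end Cfsg.Agent.Lib.Helper20.IterComm
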