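import Mathlib

/-!
# Helper20 library: groups of order 64 with a fixed-point-free automorphism of order three

`Fpf3 ρ` says that `ρ` is an automorphism with `ρ³ = 1` fixing only the identity.  For a
non-commutative group `T` of order `64` carrying such a `ρ` we show that `T` is special:
the centre has order four, squares and commutators are central, and the commutator pairing
satisfies `[ρ u, v] = ρ² [u, v] = [u, ρ v]`.
-/

set_option autoImplicit false
set_option linter.style.haveILetI false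
set_option linter.unusedSimpArgs false
set_option linter.unusedSectionVars false
set_option linter.unusedVariables false

namespace Cfsg.Agent.Lib.Helper20.Ord64

open Subgroup

variable {T : Type*} [Group T]

/-- an automorphism of order dividing three without nontrivial fixed points -/
structure Fpf3 (ρ : MulAut T) : Prop where
  cube : ∀ y : T, ρ (ρ (ρ y)) = y
  fpf : ∀ y : T, ρ y = y → y = 1

namespace Fpf3

variable {ρ : MulAut T}

theorem inj_twist (h : Fpf3 ρ) : Function.Injective (fun w : T => w⁻¹ * ρ w) := by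
  intro a b hab
  have hab' : a⁻¹ * ρ a = b⁻¹ * ρ b := hab
  have h1 : ρ (b * a⁻¹) = b * a⁻¹ := by
    rw [map_mul, map_inv]
    have e1 : ρ a = a * (b⁻¹ * ρ b) := by rw [← hab']; group
    rw [e1]; group
  have h2 := h.fpf _ h1
  have : b = a := by
    calc b = (b * a⁻¹) * a := by group
      _ = a := by rw [h2, one_mul]
  exact this.symm

theorem tri [Finite T] (h : Fpf3 ρ) (y : T) : y * ρ y * ρ (ρ y) = 1 := by
  obtain ⟨w, hw⟩ := (Finite.injective_iff_surjective.mp h.inj_twist) y
  have hw' : w⁻¹ * ρ w = y := hw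
  rw [← hw']
  simp only [map_mul, map_inv]
  rw [h.cube w]
  group

theorem tri' [Finite T] (h : Fpf3 ρ) (y : T) : ρ (ρ y) * ρ y * y = 1 := by
  have h1 := h.tri y⁻¹
  simp only [map_inv] at h1
  have h2 : (y⁻¹ * (ρ y)⁻¹ * (ρ (ρ y))⁻¹)⁻¹ = 1 := by rw [h1, inv_one]
  rw [← h2]; group

theorem comm1 [Finite T] (h : Fpf3 ρ) (y : T) : y * ρ y = ρ y * y := by
  have h1 := h.tri y
  have h2 := h.tri' y
  have e1 : y * ρ y = (ρ (ρ y))⁻¹ := eq_inv_of_mul_eq_one_left h1
  have e2 : ρ y * y = (ρ (ρ y))⁻¹ := by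
    apply eq_inv_of_mul_eq_one_right
    rw [← mul_assoc]; exact h2
  rw [e1, e2]

theorem comm2 [Finite T] (h : Fpf3 ρ) (y : T) : y * ρ (ρ y) = ρ (ρ y) * y := by
  have := h.comm1 (ρ (ρ y))
  rw [h.cube] at this
  exact this.symm

theorem comm3 [Finite T] (h : Fpf3 ρ) (y : T) : ρ y * ρ (ρ y) = ρ (ρ y) * ρ y :=
  h.comm1 (ρ y)

theorem ne_one (h : Fpf3 ρ) {y : T} (hy : y ≠ 1) : ρ y ≠ 1 := by
  intro h1
  apply hy
  have : ρ y = ρ 1 := by rw [h1, map_one]
  exact ρ.injective this

/-- `ρ`-invariant subgroups have order congruent to one modulo three -/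
theorem card_mod_three [Finite T] (h : Fpf3 ρ) (M : Subgroup T) (hM : ∀ m ∈ M, ρ m ∈ M) :
    Nat.card M % 3 = 1 := by
  classical
  haveI : Fintype M := Fintype.ofFinite M
  haveI : Fact (Nat.Prime 3) := ⟨Nat.prime_three⟩
  let f : Function.End M := fun m => ⟨ρ m.1, hM m.1 m.2⟩
  have hf3 : f ^ 3 ^ 1 = 1 := by
    funext m
    apply Subtype.ext
    have hpow : f ^ 3 ^ 1 = f * f * f := by rw [pow_one, pow_succ, pow_succ, pow_one]
    rw [hpow]
    show (f (f (f m))).1 = m.1
    exact h.cube m.1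
  have h1 := Equiv.Perm.card_fixedPoints_modEq (p := 3) (n := 1) hf3
  have hfix : Fintype.card (Function.fixedPoints f) = 1 := by
    rw [Fintype.card_eq_one_iff]
    refine ⟨⟨1, ?_⟩, ?_⟩
    · apply Subtype.ext
      exact map_one ρ
    · rintro ⟨m, hm⟩
      apply Subtype.ext
      apply Subtype.ext
      have : (f m).1 = m.1 := congrArg Subtype.val hm
      exact h.fpf m.1 this
  rw [hfix] at h1
  rw [Nat.card_eq_fintype_card]
  exact h1

theorem card_cases [Finite T] (h : Fpf3 ρ) (hT : Nat.card T = 64) (M : Subgroup T)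
    (hM : ∀ m ∈ M, ρ m ∈ M) :
    Nat.card M = 1 ∨ Nat.card M = 4 ∨ Nat.card M = 16 ∨ Nat.card M = 64 := by
  have h1 := h.card_mod_three M hM
  have h2 : Nat.card M ∣ 2 ^ 6 := by
    have := Subgroup.card_subgroup_dvd_card M
    rw [hT] at this
    exact this
  obtain ⟨k, hk, hk'⟩ := (Nat.dvd_prime_pow Nat.prime_two).1 h2
  rw [hk'] at h1 ⊢
  interval_cases k <;> simp_all

/-- fixed-point-freeness passes to quotients by invariant subgroups -/
theorem mem_of_twist_mem [Finite T] (h : Fpf3 ρ) (N : Subgroup T) (hN : ∀ n ∈ N, ρ n ∈ N)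
    (t : T) (ht : ρ t * t⁻¹ ∈ N) : t ∈ N := by
  let g : N → N := fun n => ⟨ρ n.1 * n.1⁻¹, N.mul_mem (hN n.1 n.2) (N.inv_mem n.2)⟩
  have hinj : Function.Injective g := by
    intro a b hab
    have hab' : ρ a.1 * a.1⁻¹ = ρ b.1 * b.1⁻¹ := congrArg Subtype.val hab
    have h1 : ρ (b.1⁻¹ * a.1) = b.1⁻¹ * a.1 := by
      rw [map_mul, map_inv]
      have e1 : ρ a.1 = ρ b.1 * b.1⁻¹ * a.1 := by rw [← hab']; group
      rw [e1]; group
    have h2 := h.fpf _ h1
    apply Subtype.ext
    calc a.1 = b.1 * (b.1⁻¹ * a.1) := by group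
      _ = b.1 := by rw [h2, mul_one]
  obtain ⟨n, hn⟩ := (Finite.injective_iff_surjective.mp hinj) ⟨ρ t * t⁻¹, ht⟩
  have hn' : ρ n.1 * n.1⁻¹ = ρ t * t⁻¹ := congrArg Subtype.val hn
  have h1 : ρ (n.1⁻¹ * t) = n.1⁻¹ * t := by
    rw [map_mul, map_inv]
    have e1 : ρ t = ρ n.1 * n.1⁻¹ * t := by rw [hn']; group
    rw [e1]; group
  have h2 := h.fpf _ h1
  have : t = n.1 := by
    calc t = n.1 * (n.1⁻¹ * t) := by group
      _ = n.1 := by rw [h2, mul_one]
  rw [this]; exact n.2

theorem center_inv (ρ : MulAut T) (z : T) (hz : z ∈ center T) : ρ z ∈ center T := by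
  rw [mem_center_iff] at hz ⊢
  intro g
  have h1 := hz (ρ⁻¹ g)
  have h2 := congrArg ρ h1
  simpa using h2

/-- the "line" through `y`: the subgroup generated by the centre and the `ρ`-orbit of `y` -/
def lineOf (ρ : MulAut T) (y : T) : Subgroup T :=
  closure ((center T : Set T) ∪ {y, ρ y, ρ (ρ y)})

theorem center_le_lineOf (ρ : MulAut T) (y : T) : center T ≤ lineOf ρ y := by
  intro z hz
  exact subset_closure (Or.inl hz)

theorem mem_lineOf_self (ρ : MulAut T) (y : T) : y ∈ lineOf ρ y :=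
  subset_closure (Or.inr (by simp))

theorem map_mem_lineOf_self (ρ : MulAut T) (y : T) : ρ y ∈ lineOf ρ y :=
  subset_closure (Or.inr (by simp))

theorem map_map_mem_lineOf_self (ρ : MulAut T) (y : T) : ρ (ρ y) ∈ lineOf ρ y :=
  subset_closure (Or.inr (by simp))

theorem lineOf_inv (h : Fpf3 ρ) (y : T) : ∀ m ∈ lineOf ρ y, ρ m ∈ lineOf ρ y := by
  intro m hm
  induction hm using closure_induction with
  | mem x hx =>
    rcases hx with hx | hx
    · exact center_le_lineOf ρ y (center_inv ρ x hx)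
    · simp only [Set.mem_insert_iff, Set.mem_singleton_iff] at hx
      rcases hx with rfl | rfl | rfl
      · exact map_mem_lineOf_self ρ _
      · exact map_map_mem_lineOf_self ρ _
      · rw [h.cube]; exact mem_lineOf_self ρ _
  | one => rw [map_one]; exact one_mem _
  | mul a b _ _ ha hb => rw [map_mul]; exact mul_mem ha hb
  | inv a _ ha => rw [map_inv]; exact inv_mem ha

theorem lineOf_gen_comm [Finite T] (h : Fpf3 ρ) (y : T) :
    ∀ a ∈ ((center T : Set T) ∪ {y, ρ y, ρ (ρ y)}), ∀ b ∈ ((center T : Set T) ∪ {y, ρ y, ρ (ρ y)}),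
      a * b = b * a := by
  intro a ha b hb
  rcases ha with ha | ha
  · exact ((mem_center_iff.mp ha) b).symm
  rcases hb with hb | hb
  · exact (mem_center_iff.mp hb) a
  simp only [Set.mem_insert_iff, Set.mem_singleton_iff] at ha hb
  rcases ha with rfl | rfl | rfl <;> rcases hb with rfl | rfl | rfl
  · rfl
  · exact h.comm1 _
  · exact h.comm2 _
  · exact (h.comm1 _).symm
  · rfl
  · exact h.comm3 _
  · exact (h.comm2 _).symm
  · exact (h.comm3 _).symm
  · rfl

theorem closure_comm {S : Set T} (hS : ∀ a ∈ S, ∀ b ∈ S, a * b = b * a) :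
    ∀ a ∈ closure S, ∀ b ∈ closure S, a * b = b * a := by
  have h1 : closure S ≤ centralizer S := by
    rw [closure_le]
    intro a ha
    rw [SetLike.mem_coe, mem_centralizer_iff]
    intro s hs
    exact hS s hs a ha
  have h2 : closure S ≤ centralizer (closure S : Set T) := by
    rw [closure_le]
    intro s hs
    rw [SetLike.mem_coe, mem_centralizer_iff]
    intro a ha
    have := mem_centralizer_iff.mp (h1 ha) s hs
    exact this.symm
  intro a ha b hb
  exact (mem_centralizer_iff.mp (h2 hb) a ha)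

theorem lineOf_comm [Finite T] (h : Fpf3 ρ) (y : T) :
    ∀ a ∈ lineOf ρ y, ∀ b ∈ lineOf ρ y, a * b = b * a :=
  closure_comm (h.lineOf_gen_comm y)

end Fpf3

/-- the standing hypotheses: order `64`, non-commutative, with `ρ` as above -/
structure Setup (ρ : MulAut T) : Prop where
  fp : Fpf3 ρ
  card : Nat.card T = 64
  nc : ¬ IsMulCommutative T

theorem exists_sq_mem (Z : Subgroup T) (y : T) :
    ∀ k : ℕ, y ∉ Z → y ^ (2 ^ k) ∈ Z → ∃ j : ℕ, y ^ (2 ^ j) ∉ Z ∧ y ^ (2 ^ j) * y ^ (2 ^ j) ∈ Z := by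
  intro k
  induction k with
  | zero =>
    intro hy h1
    rw [pow_zero, pow_one] at h1
    exact absurd h1 hy
  | succ k ih =>
    intro hy h1
    by_cases h2 : y ^ (2 ^ k) ∈ Z
    · exact ih hy h2
    · refine ⟨k, h2, ?_⟩
      rw [← pow_add, ← two_mul, ← pow_succ']
      exact h1

namespace Setup

variable {ρ : MulAut T}

theorem finite (S : Setup ρ) : Finite T :=
  Nat.finite_of_card_ne_zero (by rw [S.card]; norm_num)

theorem ne_top_of_comm (S : Setup ρ) (M : Subgroup T) (hM : ∀ a ∈ M, ∀ b ∈ M, a * b = b * a) :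
    M ≠ ⊤ := by
  intro h
  apply S.nc
  refine ⟨⟨fun a b => ?_⟩⟩
  exact hM a (h ▸ mem_top a) b (h ▸ mem_top b)

theorem card_ne_of_comm (S : Setup ρ) (M : Subgroup T) (hM : ∀ a ∈ M, ∀ b ∈ M, a * b = b * a) :
    Nat.card M ≠ 64 := by
  haveI := S.finite
  intro h
  exact S.ne_top_of_comm M hM (Subgroup.eq_top_of_card_eq M (by rw [h, S.card]))

theorem center_comm (a : T) (ha : a ∈ center T) (b : T) : a * b = b * a :=
  ((mem_center_iff.mp ha) b).symm

theorem exists_not_mem_center (S : Setup ρ) : ∃ y : T, y ∉ center T := by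
  by_contra hcon
  push Not at hcon
  apply S.nc
  refine ⟨⟨fun a b => center_comm a (hcon a) b⟩⟩

theorem card_line_gt (S : Setup ρ) (y : T) (hy : y ∉ center T) :
    Nat.card (center T) < Nat.card (Fpf3.lineOf ρ y) := by
  haveI := S.finite
  by_contra hcon
  push Not at hcon
  have := Subgroup.eq_of_le_of_card_ge (Fpf3.center_le_lineOf ρ y) hcon
  exact hy (this ▸ Fpf3.mem_lineOf_self ρ y)

theorem card_center (S : Setup ρ) : Nat.card (center T) = 4 := by
  haveI := S.finite
  haveI : Fact (Nat.Prime 2) := ⟨Nat.prime_two⟩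
  have hp : IsPGroup 2 T := IsPGroup.of_card (n := 6) (by rw [S.card]; norm_num)
  haveI : Nontrivial T := by
    rw [← Finite.one_lt_card_iff_nontrivial, S.card]; norm_num
  haveI := hp.center_nontrivial
  have h1 : 1 < Nat.card (center T) := Finite.one_lt_card
  obtain ⟨y, hy⟩ := S.exists_not_mem_center
  have h2 := S.card_line_gt y hy
  have h3 := S.card_ne_of_comm _ (S.fp.lineOf_comm y)
  rcases S.fp.card_cases S.card (center T) (fun z hz => Fpf3.center_inv ρ z hz) with h | h | h | h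
  · omega
  · exact h
  · rcases S.fp.card_cases S.card _ (S.fp.lineOf_inv y) with h' | h' | h' | h' <;> omega
  · exfalso
    exact S.card_ne_of_comm _ (fun a ha b _ => center_comm a ha b) h

theorem card_line (S : Setup ρ) (y : T) (hy : y ∉ center T) :
    Nat.card (Fpf3.lineOf ρ y) = 16 := by
  haveI := S.finite
  have h2 := S.card_line_gt y hy
  have h3 := S.card_ne_of_comm _ (S.fp.lineOf_comm y)
  rw [S.card_center] at h2
  rcases S.fp.card_cases S.card _ (S.fp.lineOf_inv y) with h' | h' | h' | h' <;> omega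

/-- squares are central -/
theorem sq_mem_center (S : Setup ρ) (y : T) : y * y ∈ center T := by
  haveI := S.finite
  by_cases hy : y ∈ center T
  · exact mul_mem hy hy
  have hL := S.fp.lineOf_comm y
  -- the subgroup of elements of the line with central square
  let Sq : Subgroup T :=
    { carrier := {n | n ∈ Fpf3.lineOf ρ y ∧ n * n ∈ center T}
      mul_mem' := by
        rintro a b ⟨ha, ha2⟩ ⟨hb, hb2⟩
        refine ⟨mul_mem ha hb, ?_⟩
        have : a * b * (a * b) = (a * a) * (b * b) := by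
          calc a * b * (a * b) = a * (b * a) * b := by group
            _ = a * (a * b) * b := by rw [hL b hb a ha]
            _ = (a * a) * (b * b) := by group
        rw [this]
        exact mul_mem ha2 hb2
      one_mem' := ⟨one_mem _, by rw [mul_one]; exact one_mem _⟩
      inv_mem' := by
        rintro a ⟨ha, ha2⟩
        refine ⟨inv_mem ha, ?_⟩
        have : a⁻¹ * a⁻¹ = (a * a)⁻¹ := by group
        rw [this]
        exact inv_mem ha2 }
  have hSq_mem : ∀ n, n ∈ Sq ↔ n ∈ Fpf3.lineOf ρ y ∧ n * n ∈ center T := fun n => Iff.rfl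
  have hSq_inv : ∀ m ∈ Sq, ρ m ∈ Sq := by
    intro m hm
    rw [hSq_mem] at hm ⊢
    refine ⟨S.fp.lineOf_inv y m hm.1, ?_⟩
    rw [← map_mul]
    exact Fpf3.center_inv ρ _ hm.2
  have hZSq : center T ≤ Sq := by
    intro z hz
    rw [hSq_mem]
    exact ⟨Fpf3.center_le_lineOf ρ y hz, mul_mem hz hz⟩
  have hSqL : Sq ≤ Fpf3.lineOf ρ y := fun n hn => ((hSq_mem n).mp hn).1
  -- an element of `Sq` outside the centre
  have h64 : y ^ (2 ^ 6) ∈ center T := by
    have : y ^ (2 ^ 6) = 1 := by
      have := pow_card_eq_one' (G := T) (x := y)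
      rw [S.card] at this
      exact this
    rw [this]; exact one_mem _
  obtain ⟨j, hj1, hj2⟩ := exists_sq_mem (center T) y 6 hy h64
  have hmSq : y ^ (2 ^ j) ∈ Sq := by
    rw [hSq_mem]
    exact ⟨pow_mem (Fpf3.mem_lineOf_self ρ y) _, hj2⟩
  have hgt : Nat.card (center T) < Nat.card Sq := by
    by_contra hcon
    push Not at hcon
    have := Subgroup.eq_of_le_of_card_ge hZSq hcon
    exact hj1 (this ▸ hmSq)
  rw [S.card_center] at hgt
  have hle : Nat.card Sq ≤ 16 := by
    rw [← S.card_line y hy]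
    exact Subgroup.card_le_of_le hSqL
  have h16 : Nat.card Sq = 16 := by
    rcases S.fp.card_cases S.card Sq hSq_inv with h' | h' | h' | h' <;> omega
  have heq : Sq = Fpf3.lineOf ρ y :=
    Subgroup.eq_of_le_of_card_ge hSqL (by rw [h16, S.card_line y hy])
  have : y ∈ Sq := heq ▸ Fpf3.mem_lineOf_self ρ y
  exact ((hSq_mem y).mp this).2

/-- the centre has exponent two -/
theorem center_sq (S : Setup ρ) (z : T) (hz : z ∈ center T) : z * z = 1 := by
  haveI := S.finite
  by_contra hne
  -- the subgroup of involutions of the centre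
  let Om : Subgroup T :=
    { carrier := {n | n ∈ center T ∧ n * n = 1}
      mul_mem' := by
        rintro a b ⟨ha, ha2⟩ ⟨hb, hb2⟩
        refine ⟨mul_mem ha hb, ?_⟩
        calc a * b * (a * b) = a * (b * a) * b := by group
          _ = a * (a * b) * b := by rw [center_comm b hb a]
          _ = (a * a) * (b * b) := by group
          _ = 1 := by rw [ha2, hb2, one_mul]
      one_mem' := ⟨one_mem _, by rw [mul_one]⟩
      inv_mem' := by
        rintro a ⟨ha, ha2⟩
        refine ⟨inv_mem ha, ?_⟩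
        have : a⁻¹ * a⁻¹ = (a * a)⁻¹ := by group
        rw [this, ha2, inv_one] }
  have hOm_mem : ∀ n, n ∈ Om ↔ n ∈ center T ∧ n * n = 1 := fun n => Iff.rfl
  have hOm_inv : ∀ m ∈ Om, ρ m ∈ Om := by
    intro m hm
    rw [hOm_mem] at hm ⊢
    refine ⟨Fpf3.center_inv ρ m hm.1, ?_⟩
    rw [← map_mul, hm.2, map_one]
  have hOmZ : Om ≤ center T := fun n hn => ((hOm_mem n).mp hn).1
  have hz1 : z ∉ (⊥ : Subgroup T) := by
    rw [mem_bot]
    intro h
    apply hne
    rw [h, mul_one]
  have h4 : z ^ (2 ^ 2) ∈ (⊥ : Subgroup T) := by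
    rw [mem_bot]
    have h := pow_card_eq_one' (G := center T) (x := ⟨z, hz⟩)
    rw [S.card_center] at h
    have := congrArg Subtype.val h
    simpa using this
  obtain ⟨j, hj1, hj2⟩ := exists_sq_mem (⊥ : Subgroup T) z 2 hz1 h4
  rw [mem_bot] at hj1 hj2
  have hmOm : z ^ (2 ^ j) ∈ Om := by
    rw [hOm_mem]
    exact ⟨pow_mem hz _, hj2⟩
  have hgt : 1 < Nat.card Om := by
    by_contra hcon
    push Not at hcon
    have hle : Nat.card Om ≤ Nat.card (⊥ : Subgroup T) := by
      rw [Subgroup.card_bot]; exact hcon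
    have := Subgroup.eq_of_le_of_card_ge (bot_le : (⊥ : Subgroup T) ≤ Om) hle
    have h1 : z ^ (2 ^ j) ∈ (⊥ : Subgroup T) := this ▸ hmOm
    exact hj1 (mem_bot.mp h1)
  have hle : Nat.card Om ≤ 4 := by
    rw [← S.card_center]
    exact Subgroup.card_le_of_le hOmZ
  have h4' : Nat.card Om = 4 := by
    rcases S.fp.card_cases S.card Om hOm_inv with h' | h' | h' | h' <;> omega
  have heq : Om = center T :=
    Subgroup.eq_of_le_of_card_ge hOmZ (by rw [h4', S.card_center])
  have : z ∈ Om := heq ▸ hz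
  exact hne ((hOm_mem z).mp this).2

theorem center_inv_eq (S : Setup ρ) (z : T) (hz : z ∈ center T) : z⁻¹ = z :=
  inv_eq_of_mul_eq_one_left (S.center_sq z hz)

/-- commutators are central -/
theorem comm_mem_center (S : Setup ρ) (u v : T) : u * v * u⁻¹ * v⁻¹ ∈ center T := by
  have h0 := S.sq_mem_center (u * v)
  have h1 := S.sq_mem_center u
  have h2 := S.sq_mem_center v
  have e1 : u * v * u⁻¹ * v⁻¹ = (u * v * (u * v)) * (u * u)⁻¹ * (v * v)⁻¹ := by
    have c1 : (u * u)⁻¹ * v = v * (u * u)⁻¹ := center_comm _ (inv_mem h1) v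
    calc u * v * u⁻¹ * v⁻¹ = u * v * u * ((u * u)⁻¹ * v) * (v * v)⁻¹ := by group
      _ = u * v * u * (v * (u * u)⁻¹) * (v * v)⁻¹ := by rw [c1]
      _ = (u * v * (u * v)) * (u * u)⁻¹ * (v * v)⁻¹ := by group
  rw [e1]
  exact mul_mem (mul_mem h0 (inv_mem h1)) (inv_mem h2)

end Setup

/-- the commutator `u v u⁻¹ v⁻¹` -/
def cm (u v : T) : T := u * v * u⁻¹ * v⁻¹

theorem cm_map (ρ : MulAut T) (u v : T) : ρ (cm u v) = cm (ρ u) (ρ v) := by
  unfold cm
  simp only [map_mul, map_inv]

theorem cm_one_left (v : T) : cm 1 v = 1 := by unfold cm; group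

theorem cm_one_right (u : T) : cm u 1 = 1 := by unfold cm; group

theorem cm_self (u : T) : cm u u = 1 := by unfold cm; group

theorem cm_eq_one_iff (u v : T) : cm u v = 1 ↔ u * v = v * u := by
  unfold cm
  constructor
  · intro h
    calc u * v = (u * v * u⁻¹ * v⁻¹) * (v * u) := by group
      _ = v * u := by rw [h, one_mul]
  · intro h
    calc u * v * u⁻¹ * v⁻¹ = (u * v) * u⁻¹ * v⁻¹ := by group
      _ = (v * u) * u⁻¹ * v⁻¹ := by rw [h]
      _ = 1 := by group

theorem mul_eq_cm_mul (u v : T) : u * v = cm u v * (v * u) := by unfold cm; group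

theorem cm_inv (u v : T) : (cm u v)⁻¹ = cm v u := by unfold cm; group

namespace Setup

variable {ρ : MulAut T}

theorem cm_mem (S : Setup ρ) (u v : T) : cm u v ∈ center T := S.comm_mem_center u v

theorem cm_comm (S : Setup ρ) (u v g : T) : cm u v * g = g * cm u v :=
  center_comm _ (S.cm_mem u v) g

theorem cm_sq (S : Setup ρ) (u v : T) : cm u v * cm u v = 1 := S.center_sq _ (S.cm_mem u v)

theorem cm_swap (S : Setup ρ) (u v : T) : cm v u = cm u v := by
  rw [← cm_inv]
  exact S.center_inv_eq _ (S.cm_mem u v)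

theorem cm_mul_left (S : Setup ρ) (u u' v : T) : cm (u * u') v = cm u v * cm u' v := by
  calc cm (u * u') v = u * cm u' v * u⁻¹ * cm u v := by unfold cm; group
    _ = cm u' v * u * u⁻¹ * cm u v := by rw [S.cm_comm u' v u]
    _ = cm u' v * cm u v := by group
    _ = cm u v * cm u' v := S.cm_comm u' v _

theorem cm_mul_right (S : Setup ρ) (u v v' : T) : cm u (v * v') = cm u v * cm u v' := by
  rw [← S.cm_swap, S.cm_mul_left, S.cm_swap, S.cm_swap u v']

/-- the key semilinearity of the commutator pairing -/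
theorem cm_map_left (S : Setup ρ) (u v : T) :
    cm (ρ u) v = ρ (ρ (cm u v)) ∧ cm u (ρ v) = ρ (ρ (cm u v)) := by
  haveI := S.finite
  set e := cm u v with he
  set c := cm (ρ u) v with hc
  set d := cm u (ρ v) with hd
  have hcZ : c ∈ center T := S.cm_mem _ _
  have hdZ : d ∈ center T := S.cm_mem _ _
  have heZ : e ∈ center T := S.cm_mem _ _
  have hrc : ρ c ∈ center T := Fpf3.center_inv ρ _ hcZ
  have hrrc : ρ (ρ c) ∈ center T := Fpf3.center_inv ρ _ hrc
  have hrd : ρ d ∈ center T := Fpf3.center_inv ρ _ hdZ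
  have hrrd : ρ (ρ d) ∈ center T := Fpf3.center_inv ρ _ hrd
  -- first relation
  have hE1 : e * c * ρ (ρ d) = 1 := by
    have h1 : cm (u * ρ u * ρ (ρ u)) v = 1 := by rw [S.fp.tri u, cm_one_left]
    rw [S.cm_mul_left, S.cm_mul_left] at h1
    have h2 : cm (ρ (ρ u)) v = ρ (ρ d) := by
      rw [hd, cm_map, cm_map, S.fp.cube]
    rw [h2] at h1
    exact h1
  have hE2 : e * d * ρ (ρ c) = 1 := by
    have h1 : cm u (v * ρ v * ρ (ρ v)) = 1 := by rw [S.fp.tri v, cm_one_right]
    rw [S.cm_mul_right, S.cm_mul_right] at h1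
    have h2 : cm u (ρ (ρ v)) = ρ (ρ c) := by
      rw [hc, cm_map, cm_map, S.fp.cube]
    rw [h2] at h1
    exact h1
  -- solve
  have hrrd_eq : ρ (ρ d) = c * e := by
    have h1 : ρ (ρ d) = (e * c)⁻¹ := eq_inv_of_mul_eq_one_right hE1
    rw [h1, mul_inv_rev, S.center_inv_eq c hcZ, S.center_inv_eq e heZ]
  have hrrc_eq : ρ (ρ c) = d * e := by
    have h1 : ρ (ρ c) = (e * d)⁻¹ := eq_inv_of_mul_eq_one_right hE2
    rw [h1, mul_inv_rev, S.center_inv_eq d hdZ, S.center_inv_eq e heZ]
  have h3 : c * ρ (ρ c) = d * ρ (ρ d) := by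
    rw [hrrc_eq, hrrd_eq, ← mul_assoc, ← mul_assoc, center_comm c hcZ d]
  have hrc_eq : ρ c = (c * ρ (ρ c))⁻¹ := by
    apply eq_inv_of_mul_eq_one_left
    have := S.fp.tri c
    calc ρ c * (c * ρ (ρ c)) = (ρ c * c) * ρ (ρ c) := by group
      _ = (c * ρ c) * ρ (ρ c) := by rw [center_comm (ρ c) hrc c]
      _ = 1 := this
  have hrd_eq : ρ d = (d * ρ (ρ d))⁻¹ := by
    apply eq_inv_of_mul_eq_one_left
    have := S.fp.tri d
    calc ρ d * (d * ρ (ρ d)) = (ρ d * d) * ρ (ρ d) := by group
      _ = (d * ρ d) * ρ (ρ d) := by rw [center_comm (ρ d) hrd d]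
      _ = 1 := this
  have hcd : c = d := by
    apply ρ.injective
    rw [hrc_eq, hrd_eq, h3]
  have hec : e = ρ c := by
    have h1 : e = (c * ρ (ρ d))⁻¹ := by
      apply eq_inv_of_mul_eq_one_left
      rw [← mul_assoc]; exact hE1
    rw [h1, ← hcd, ← hrc_eq]
  have hfin : c = ρ (ρ e) := by rw [hec, S.fp.cube]
  exact ⟨hfin, hcd ▸ hfin⟩

theorem cm_rho_left (S : Setup ρ) (u v : T) : cm (ρ u) v = ρ (ρ (cm u v)) := (S.cm_map_left u v).1

theorem cm_rho_right (S : Setup ρ) (u v : T) : cm u (ρ v) = ρ (ρ (cm u v)) := (S.cm_map_left u v).2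

/-- the centraliser of a non-central element is its line -/
theorem mem_line_of_commute (S : Setup ρ) (u t : T) (hu : u ∉ center T) (h : u * t = t * u) :
    t ∈ Fpf3.lineOf ρ u := by
  haveI := S.finite
  by_contra ht
  let Cn : Subgroup T := centralizer (Fpf3.lineOf ρ u : Set T)
  have hCn_mem : ∀ g, g ∈ Cn ↔ ∀ n ∈ Fpf3.lineOf ρ u, n * g = g * n := fun g =>
    mem_centralizer_iff
  have hCn_inv : ∀ g ∈ Cn, ρ g ∈ Cn := by
    intro g hg
    rw [hCn_mem] at hg ⊢
    intro n hn
    have hn' : ρ (ρ n) ∈ Fpf3.lineOf ρ u := S.fp.lineOf_inv u _ (S.fp.lineOf_inv u _ hn)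
    have h1 := hg _ hn'
    have h2 := congrArg ρ h1
    rw [map_mul, map_mul, S.fp.cube] at h2
    exact h2
  have hLCn : Fpf3.lineOf ρ u ≤ Cn := by
    intro n hn
    rw [hCn_mem]
    intro m hm
    exact S.fp.lineOf_comm u m hm n hn
  have htCn : t ∈ Cn := by
    rw [hCn_mem]
    have h1 : cm u t = 1 := (cm_eq_one_iff u t).mpr h
    have h2 : cm (ρ u) t = 1 := by rw [S.cm_rho_left, h1, map_one, map_one]
    have h3 : cm (ρ (ρ u)) t = 1 := by rw [S.cm_rho_left, h2, map_one, map_one]
    have hle : Fpf3.lineOf ρ u ≤ centralizer ({t} : Set T) := by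
      unfold Fpf3.lineOf
      rw [closure_le]
      intro a ha
      rw [SetLike.mem_coe, mem_centralizer_iff]
      intro b hb
      rw [Set.mem_singleton_iff] at hb
      subst hb
      rcases ha with ha | ha
      · exact (mem_center_iff.mp ha) b
      · simp only [Set.mem_insert_iff, Set.mem_singleton_iff] at ha
        rcases ha with rfl | rfl | rfl
        · exact h.symm
        · exact ((cm_eq_one_iff _ _).mp h2).symm
        · exact ((cm_eq_one_iff _ _).mp h3).symm
    intro n hn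
    have := mem_centralizer_iff.mp (hle hn) t (Set.mem_singleton t)
    exact this.symm
  have hgt : Nat.card (Fpf3.lineOf ρ u) < Nat.card Cn := by
    by_contra hcon
    push Not at hcon
    have := Subgroup.eq_of_le_of_card_ge hLCn hcon
    exact ht (this ▸ htCn)
  rw [S.card_line u hu] at hgt
  have h64 : Nat.card Cn = 64 := by
    rcases S.fp.card_cases S.card Cn hCn_inv with h' | h' | h' | h' <;> omega
  have htop : Cn = ⊤ := Subgroup.eq_top_of_card_eq Cn (by rw [h64, S.card])
  apply hu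
  rw [mem_center_iff]
  intro g
  have hg : g ∈ Cn := htop ▸ mem_top g
  exact ((hCn_mem g).mp hg u (Fpf3.mem_lineOf_self ρ u)).symm

/-- the centre is `{1, z, ρ z, ρ² z}` for each nontrivial central `z` -/
theorem center_cases (S : Setup ρ) (z : T) (hz : z ∈ center T) (hz1 : z ≠ 1) (w : T)
    (hw : w ∈ center T) : w = 1 ∨ w = z ∨ w = ρ z ∨ w = ρ (ρ z) := by
  haveI := S.finite
  by_contra hcon
  push Not at hcon
  obtain ⟨hw1, hwz, hwr, hwrr⟩ := hcon
  have hrz : ρ z ∈ center T := Fpf3.center_inv ρ _ hz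
  have hrrz : ρ (ρ z) ∈ center T := Fpf3.center_inv ρ _ hrz
  have hr1 : ρ z ≠ 1 := S.fp.ne_one hz1
  have hrr1 : ρ (ρ z) ≠ 1 := S.fp.ne_one hr1
  have hzr : z ≠ ρ z := fun h => hz1 (S.fp.fpf z h.symm)
  have hrrr : ρ z ≠ ρ (ρ z) := fun h => hzr (ρ.injective h)
  have hzrr : z ≠ ρ (ρ z) := by
    intro h
    apply hzr
    have := congrArg ρ h
    rw [S.fp.cube] at this
    exact this.symm
  let f : Fin 5 → center T := ![⟨1, one_mem _⟩, ⟨z, hz⟩, ⟨ρ z, hrz⟩, ⟨ρ (ρ z), hrrz⟩, ⟨w, hw⟩]
  have hf : Function.Injective f := by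
    intro i j hij
    have hij' : (f i).1 = (f j).1 := congrArg Subtype.val hij
    fin_cases i <;> fin_cases j <;> simp [f] at hij' ⊢ <;> first
      | exact absurd hij' hz1 | exact absurd hij'.symm hz1
      | exact absurd hij' hr1 | exact absurd hij'.symm hr1
      | exact absurd hij' hrr1 | exact absurd hij'.symm hrr1
      | exact absurd hij' hw1 | exact absurd hij'.symm hw1
      | exact absurd hij' hzr | exact absurd hij'.symm hzr
      | exact absurd hij' hzrr | exact absurd hij'.symm hzrr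
      | exact absurd hij' hrrr | exact absurd hij'.symm hrrr
      | exact absurd hij' hwz | exact absurd hij'.symm hwz
      | exact absurd hij' hwr | exact absurd hij'.symm hwr
      | exact absurd hij' hwrr | exact absurd hij'.symm hwrr
  have := Nat.card_le_card_of_injective f hf
  rw [S.card_center, Nat.card_eq_fintype_card, Fintype.card_fin] at this
  omega

end Setup

end Cfsg.Agent.Lib.Helper20.Ord64
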