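import Cfsg.Agent.Lib.Helper20.HKKH2

set_option autoImplicit false

/-!
# Higman–Kreknin–Kostrikin, piece G: a graded family over `ZMod p` with trivial zero component
is nilpotent of class at most `hkk p`
-/

namespace Cfsg.Agent.Lib.Helper20.HKK

variable {L : Type*} [LieRing L] {p : ℕ} [Fact p.Prime] {M : ZMod p → AddSubgroup L}

theorem gam_hkk_eq_bot (hM : IsGraded M) (d : ZMod p) : gam M (hkk p) d = ⊥ := by
  have h1 := kk_class hM (2 ^ (p - 1) - 1) d
  have : NeZero p := ⟨(Fact.out : p.Prime).ne_zero⟩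
  rw [kreknin hM d] at h1
  exact le_bot_iff.mp h1

theorem lie_mem_iSup_gam {w : ℕ} {a x : L} (ha : a ∈ ⨆ d, gam M w d) (hx : x ∈ ⨆ i, M i) :
    ⁅a, x⁆ ∈ ⨆ d, gam M (w + 1) d := by
  refine AddSubgroup.iSup_induction (fun d => gam M w d)
    (C := fun a => ⁅a, x⁆ ∈ ⨆ d, gam M (w + 1) d) ha ?_ ?_ ?_
  · intro c a ha
    refine AddSubgroup.iSup_induction M
      (C := fun x => ⁅a, x⁆ ∈ ⨆ d, gam M (w + 1) d) hx ?_ ?_ ?_
    · intro c' x hx
      have : ⁅a, x⁆ ∈ gam M (w + 1) (c + c') := mem_brk ha hx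
      exact AddSubgroup.mem_iSup_of_mem (c + c') this
    · simp
    · intro x y ihx ihy
      rw [lie_add]; exact add_mem ihx ihy
  · simp
  · intro a b iha ihb
    rw [add_lie]; exact add_mem iha ihb

theorem lprod_mem_iSup_gam {w : ℕ} {a : L} (l : List L) (ha : a ∈ ⨆ d, gam M w d)
    (hl : ∀ x ∈ l, x ∈ ⨆ i, M i) : lprod a l ∈ ⨆ d, gam M (w + l.length) d := by
  induction l generalizing w a with
  | nil => simpa using ha
  | cons x l ih =>
    have h1 := lie_mem_iSup_gam ha (hl x (List.mem_cons_self))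
    have h2 := ih h1 (fun y hy => hl y (List.mem_cons_of_mem _ hy))
    rw [lprod_cons, List.length_cons]
    have e : w + (l.length + 1) = w + 1 + l.length := by ring
    rw [e]; exact h2

theorem lprod_eq_zero_of_graded (hM : IsGraded M) (a : L) (l : List L) (ha : a ∈ ⨆ i, M i)
    (hl : ∀ x ∈ l, x ∈ ⨆ i, M i) (hlen : l.length = hkk p) : lprod a l = 0 := by
  have h := lprod_mem_iSup_gam (M := M) (w := 0) l ha hl
  rw [zero_add, hlen] at h
  have : (⨆ d, gam M (hkk p) d) = ⊥ := by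
    simp only [gam_hkk_eq_bot hM]
    exact iSup_bot
  rw [this, AddSubgroup.mem_bot] at h
  exact h

end Cfsg.Agent.Lib.Helper20.HKK
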