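import Mathlib
import Cfsg.Prelude
import Cfsg.Agent.Lib.Helper1.Cores

/-!
The upper `p`-series and `p`-length of a finite group: ambient characterization of the terms of
the series, comparison with arbitrary normal chains, behaviour under subgroups, quotients and
extensions.
-/

set_option autoImplicit false

namespace Cfsg.Agent.Lib.Helper20.PLen

open Cfsg

section basic

variable {G : Type*} [Group G]

/-- The `n`-th term of the upper `p`-series, as a subgroup. -/
def U (p : ℕ) (G : Type*) [Group G] (n : ℕ) : Subgroup G := (upperPSeries p G n).1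

instance U_normal (p : ℕ) (n : ℕ) : (U p G n).Normal := (upperPSeries p G n).2

theorem U_zero (p : ℕ) : U p G 0 = ⊥ := rfl

theorem U_succ_even (p : ℕ) (n : ℕ) (hn : Even n) :
    U p G (n + 1) = (pPrimeCore p (G ⧸ U p G n)).comap (QuotientGroup.mk' (U p G n)) := by
  unfold U
  rw [upperPSeries]
  simp only [hn, if_true]

theorem U_succ_odd (p : ℕ) (n : ℕ) (hn : ¬ Even n) :
    U p G (n + 1) = (pCore p (G ⧸ U p G n)).comap (QuotientGroup.mk' (U p G n)) := by
  unfold U
  rw [upperPSeries]
  simp only [hn, if_false]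

theorem pLengthLE_iff (p k : ℕ) : PLengthLE p k G ↔ U p G (2 * k + 1) = ⊤ := Iff.rfl

theorem U_le_succ (p : ℕ) (n : ℕ) : U p G n ≤ U p G (n + 1) := by
  by_cases hn : Even n
  · rw [U_succ_even p n hn]
    intro x hx
    rw [Subgroup.mem_comap]
    have : QuotientGroup.mk' (U p G n) x = 1 := (QuotientGroup.eq_one_iff x).mpr hx
    rw [this]; exact Subgroup.one_mem _
  · rw [U_succ_odd p n hn]
    intro x hx
    rw [Subgroup.mem_comap]
    have : QuotientGroup.mk' (U p G n) x = 1 := (QuotientGroup.eq_one_iff x).mpr hx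
    rw [this]; exact Subgroup.one_mem _

theorem U_mono (p : ℕ) : Monotone (U p G) := monotone_nat_of_le_succ (U_le_succ p)

theorem relIndex_eq_card_map (N : Subgroup G) [N.Normal] (K : Subgroup G) :
    N.relIndex K = Nat.card (K.map (QuotientGroup.mk' N)) := by
  have := Subgroup.relIndex_ker (K := K) (QuotientGroup.mk' N)
  rwa [QuotientGroup.ker_mk'] at this

variable [Finite G] {p : ℕ} [Fact p.Prime]

theorem relIndex_U_even (n : ℕ) (hn : Even n) : ((U p G n).relIndex (U p G (n + 1))).Coprime p := by
  rw [relIndex_eq_card_map, U_succ_even p n hn,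
    Subgroup.map_comap_eq_self_of_surjective (QuotientGroup.mk'_surjective _)]
  exact Cfsg.Agent.Lib.Helper1.pPrimeCore_coprime p

theorem relIndex_U_odd (n : ℕ) (hn : ¬ Even n) : ∃ m : ℕ, (U p G n).relIndex (U p G (n + 1)) = p ^ m := by
  rw [relIndex_eq_card_map, U_succ_odd p n hn,
    Subgroup.map_comap_eq_self_of_surjective (QuotientGroup.mk'_surjective _)]
  exact (IsPGroup.iff_card).mp (Cfsg.Agent.Lib.Helper1.pCore_isPGroup p)

theorem le_U_succ_even (n : ℕ) (hn : Even n) {N : Subgroup G} (hN : N.Normal)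
    (hc : ((U p G n).relIndex N).Coprime p) : N ≤ U p G (n + 1) := by
  rw [U_succ_even p n hn, ← Subgroup.map_le_iff_le_comap]
  apply Cfsg.Agent.Lib.Helper1.le_pPrimeCore
  · exact Subgroup.Normal.map hN _ (QuotientGroup.mk'_surjective _)
  · rw [← relIndex_eq_card_map]; exact hc

theorem le_U_succ_odd (n : ℕ) (hn : ¬ Even n) {N : Subgroup G} (hN : N.Normal)
    (hc : ∃ m : ℕ, (U p G n).relIndex N = p ^ m) : N ≤ U p G (n + 1) := by
  rw [U_succ_odd p n hn, ← Subgroup.map_le_iff_le_comap]
  apply Cfsg.Agent.Lib.Helper1.le_pCore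
  · exact Subgroup.Normal.map hN _ (QuotientGroup.mk'_surjective _)
  · obtain ⟨m, hm⟩ := hc
    rw [relIndex_eq_card_map] at hm
    exact IsPGroup.of_card hm

/-- A chain of normal subgroups of the right type. -/
structure IsPChain (p : ℕ) (V : ℕ → Subgroup G) : Prop where
  zero : V 0 = ⊥
  normal : ∀ n, (V n).Normal
  le_succ : ∀ n, V n ≤ V (n + 1)
  even : ∀ n, Even n → ((V n).relIndex (V (n + 1))).Coprime p
  odd : ∀ n, ¬ Even n → ∃ m : ℕ, (V n).relIndex (V (n + 1)) = p ^ m

theorem isPChain_U : IsPChain p (U p G) :=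
  ⟨U_zero p, fun n => inferInstance, U_le_succ p, relIndex_U_even, relIndex_U_odd⟩

/-- Every chain of the right type lies below the upper `p`-series. -/
theorem IsPChain.le_U {V : ℕ → Subgroup G} (hV : IsPChain p V) : ∀ n, V n ≤ U p G n := by
  intro n
  induction n with
  | zero => rw [hV.zero]; exact bot_le
  | succ n ih =>
    haveI := hV.normal (n + 1)
    have hN : (V (n + 1) ⊔ U p G n).Normal := inferInstance
    have hdvd : (U p G n).relIndex (V (n + 1) ⊔ U p G n) ∣ (V n).relIndex (V (n + 1)) := by
      rw [Subgroup.relIndex_sup_right]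
      exact Subgroup.relIndex_dvd_of_le_left _ ih
    refine le_trans (le_sup_left : V (n + 1) ≤ V (n + 1) ⊔ U p G n) ?_
    by_cases hn : Even n
    · exact le_U_succ_even n hn hN (Nat.Coprime.coprime_dvd_left hdvd (hV.even n hn))
    · apply le_U_succ_odd n hn hN
      obtain ⟨m, hm⟩ := hV.odd n hn
      rw [hm] at hdvd
      obtain ⟨j, _, hj⟩ := (Nat.dvd_prime_pow (Fact.out : p.Prime)).mp hdvd
      exact ⟨j, hj⟩

theorem IsPChain.pLengthLE {V : ℕ → Subgroup G} (hV : IsPChain p V) {k : ℕ}
    (h : V (2 * k + 1) = ⊤) : PLengthLE p k G := by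
  rw [pLengthLE_iff, eq_top_iff, ← h]
  exact hV.le_U _

theorem pLengthLE_mono {k k' : ℕ} (hk : k ≤ k') (h : PLengthLE p k G) : PLengthLE p k' G := by
  rw [pLengthLE_iff] at h ⊢
  rw [eq_top_iff, ← h]
  exact U_mono p (by omega)

end basic

section transfer

variable {G : Type*} [Group G]

theorem relIndex_map_dvd {H : Type*} [Group H] (f : G →* H) {A B : Subgroup G} [A.Normal]
    (hAB : A ≤ B) : (A.map f).relIndex (B.map f) ∣ A.relIndex B := by
  rw [Subgroup.relIndex_map_map]
  have h1 : B ⊔ f.ker = B ⊔ (A ⊔ f.ker) := by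
    rw [← sup_assoc, sup_eq_left.mpr hAB]
  rw [h1, Subgroup.relIndex_sup_right]
  exact Subgroup.relIndex_dvd_of_le_left _ le_sup_left

theorem relIndex_dvd_of_le_right_of_normal {A : Subgroup G} [A.Normal] {X Y : Subgroup G}
    (h : X ≤ Y) [Finite G] : A.relIndex X ∣ A.relIndex Y := by
  rw [relIndex_eq_card_map, relIndex_eq_card_map]
  exact Subgroup.card_dvd_of_le (Subgroup.map_mono h)

variable [Finite G] {p : ℕ} [Fact p.Prime]

theorem isPChain_map {H : Type*} [Group H] (f : G →* H) (hf : Function.Surjective f) :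
    IsPChain p (fun n => (U p G n).map f) where
  zero := by simp [U_zero]
  normal n := Subgroup.Normal.map inferInstance f hf
  le_succ n := Subgroup.map_mono (U_le_succ p n)
  even n hn := Nat.Coprime.coprime_dvd_left (relIndex_map_dvd f (U_le_succ p n)) (relIndex_U_even n hn)
  odd n hn := by
    obtain ⟨m, hm⟩ := relIndex_U_odd (G := G) (p := p) n hn
    have hdvd := relIndex_map_dvd f (U_le_succ (G := G) p n)
    rw [hm] at hdvd
    obtain ⟨j, _, hj⟩ := (Nat.dvd_prime_pow (Fact.out : p.Prime)).mp hdvd
    exact ⟨j, hj⟩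

/-- `p`-length passes to quotients. -/
theorem pLengthLE_of_surjective {H : Type*} [Group H] [Finite H] (f : G →* H)
    (hf : Function.Surjective f) {k : ℕ} (h : PLengthLE p k G) : PLengthLE p k H := by
  apply (isPChain_map (p := p) f hf).pLengthLE
  rw [pLengthLE_iff] at h
  show (U p G (2 * k + 1)).map f = ⊤
  rw [h]
  exact Subgroup.map_top_of_surjective f hf

theorem pLengthLE_quotient (N : Subgroup G) [N.Normal] {k : ℕ} (h : PLengthLE p k G) :
    PLengthLE p k (G ⧸ N) :=
  pLengthLE_of_surjective (QuotientGroup.mk' N) (QuotientGroup.mk'_surjective N) h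

theorem pLengthLE_of_mulEquiv {H : Type*} [Group H] [Finite H] (e : G ≃* H) {k : ℕ}
    (h : PLengthLE p k G) : PLengthLE p k H :=
  pLengthLE_of_surjective e.toMonoidHom e.surjective h

theorem isPChain_subgroupOf (H : Subgroup G) :
    IsPChain p (fun n => (U p G n).subgroupOf H) where
  zero := by simp [U_zero]
  normal n := Subgroup.Normal.subgroupOf inferInstance H
  le_succ n := Subgroup.comap_mono (U_le_succ p n)
  even n hn := by
    have h1 : ((U p G n).subgroupOf H).relIndex ((U p G (n + 1)).subgroupOf H) =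
        (U p G n).relIndex (U p G (n + 1) ⊓ H) := by
      rw [Subgroup.subgroupOf, Subgroup.relIndex_comap, Subgroup.subgroupOf_map_subtype]
    rw [h1]
    exact Nat.Coprime.coprime_dvd_left
      (relIndex_dvd_of_le_right_of_normal inf_le_left) (relIndex_U_even n hn)
  odd n hn := by
    have h1 : ((U p G n).subgroupOf H).relIndex ((U p G (n + 1)).subgroupOf H) =
        (U p G n).relIndex (U p G (n + 1) ⊓ H) := by
      rw [Subgroup.subgroupOf, Subgroup.relIndex_comap, Subgroup.subgroupOf_map_subtype]
    rw [h1]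
    obtain ⟨m, hm⟩ := relIndex_U_odd (G := G) (p := p) n hn
    have hdvd : (U p G n).relIndex (U p G (n + 1) ⊓ H) ∣ (U p G n).relIndex (U p G (n + 1)) :=
      relIndex_dvd_of_le_right_of_normal inf_le_left
    rw [hm] at hdvd
    obtain ⟨j, _, hj⟩ := (Nat.dvd_prime_pow (Fact.out : p.Prime)).mp hdvd
    exact ⟨j, hj⟩

/-- `p`-length passes to subgroups. -/
theorem pLengthLE_subgroup (H : Subgroup G) {k : ℕ} (h : PLengthLE p k G) : PLengthLE p k ↥H := by
  apply (isPChain_subgroupOf (p := p) H).pLengthLE
  rw [pLengthLE_iff] at h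
  show (U p G (2 * k + 1)).subgroupOf H = ⊤
  rw [h]
  exact Subgroup.top_subgroupOf H

theorem U_characteristic (n : ℕ) : (U p G n).Characteristic := by
  induction n with
  | zero => rw [U_zero]; exact Subgroup.botCharacteristic
  | succ n ih =>
    rw [Subgroup.characteristic_iff_map_le]
    intro φ
    have h1 : (U p G n).map φ.toMonoidHom = U p G n := Subgroup.characteristic_iff_map_eq.mp ih φ
    have hN : ((U p G (n + 1)).map φ.toMonoidHom).Normal :=
      Subgroup.Normal.map inferInstance _ φ.surjective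
    have h2 : (U p G n).relIndex ((U p G (n + 1)).map φ.toMonoidHom) =
        (U p G n).relIndex (U p G (n + 1)) := by
      conv_lhs => rw [← h1]
      exact Subgroup.relIndex_map_map_of_injective _ _ φ.injective
    by_cases hn : Even n
    · apply le_U_succ_even n hn hN
      rw [h2]; exact relIndex_U_even n hn
    · apply le_U_succ_odd n hn hN
      rw [h2]; exact relIndex_U_odd n hn

theorem pLengthLE_zero_iff : PLengthLE p 0 G ↔ (Nat.card G).Coprime p := by
  rw [pLengthLE_iff]
  constructor
  · intro h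
    have h1 := relIndex_U_even (G := G) (p := p) 0 (by decide)
    rw [show 2 * 0 + 1 = 0 + 1 from rfl] at h
    rw [h, U_zero, Subgroup.relIndex_bot_left, Subgroup.card_top] at h1
    exact h1
  · intro h
    rw [eq_top_iff]
    apply le_U_succ_even 0 (by decide) (inferInstance : (⊤ : Subgroup G).Normal)
    rw [U_zero, Subgroup.relIndex_bot_left, Subgroup.card_top]
    exact h

theorem pLengthLE_one_of_isPGroup (hG : IsPGroup p G) : PLengthLE p 1 G := by
  rw [pLengthLE_iff, eq_top_iff]
  have h2 : (⊤ : Subgroup G) ≤ U p G 2 := by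
    apply le_U_succ_odd 1 (by decide) (inferInstance : (⊤ : Subgroup G).Normal)
    obtain ⟨m, hm⟩ := (IsPGroup.iff_card).mp hG
    have hdvd : (U p G 1).relIndex ⊤ ∣ p ^ m := by
      rw [← hm, Subgroup.relIndex_top_right]
      exact Subgroup.index_dvd_card _
    obtain ⟨j, _, hj⟩ := (Nat.dvd_prime_pow (Fact.out : p.Prime)).mp hdvd
    exact ⟨j, hj⟩
  exact h2.trans (U_le_succ p 2)

/-- Passing to the quotient by `O_{p',p}(G)` lowers the `p`-length by one. -/
theorem pLengthLE_quotient_U_two {k : ℕ} (h : PLengthLE p (k + 1) G) :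
    PLengthLE p k (G ⧸ U p G 2) := by
  have hker : (QuotientGroup.mk' (U p G 2)).ker = U p G 2 := QuotientGroup.ker_mk' _
  have hrel : ∀ n, ((U p G (n + 2)).map (QuotientGroup.mk' (U p G 2))).relIndex
      ((U p G (n + 2 + 1)).map (QuotientGroup.mk' (U p G 2))) =
        (U p G (n + 2)).relIndex (U p G (n + 2 + 1)) := by
    intro n
    rw [Subgroup.relIndex_map_map, hker,
      sup_eq_left.mpr (U_mono p (by omega : 2 ≤ n + 2)),
      sup_eq_left.mpr (U_mono p (by omega : 2 ≤ n + 2 + 1))]
  have hchain : IsPChain p (fun n => (U p G (n + 2)).map (QuotientGroup.mk' (U p G 2))) := by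
    refine ⟨?_, fun n => Subgroup.Normal.map inferInstance _ (QuotientGroup.mk'_surjective _),
      fun n => Subgroup.map_mono (U_le_succ p (n + 2)), ?_, ?_⟩
    · show (U p G (0 + 2)).map (QuotientGroup.mk' (U p G 2)) = ⊥
      rw [zero_add]
      exact (Subgroup.map_eq_bot_iff _).mpr hker.ge
    · intro n hn
      show (((U p G (n + 2)).map (QuotientGroup.mk' (U p G 2))).relIndex
        ((U p G (n + 1 + 2)).map (QuotientGroup.mk' (U p G 2)))).Coprime p
      rw [show n + 1 + 2 = n + 2 + 1 from by ring, hrel n]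
      exact relIndex_U_even (n + 2) (by rw [Nat.even_add]; simp [hn])
    · intro n hn
      show ∃ m : ℕ, ((U p G (n + 2)).map (QuotientGroup.mk' (U p G 2))).relIndex
        ((U p G (n + 1 + 2)).map (QuotientGroup.mk' (U p G 2))) = p ^ m
      rw [show n + 1 + 2 = n + 2 + 1 from by ring, hrel n]
      exact relIndex_U_odd (n + 2) (by rw [Nat.even_add]; simp [hn])
  apply hchain.pLengthLE
  rw [pLengthLE_iff] at h
  show (U p G (2 * k + 1 + 2)).map (QuotientGroup.mk' (U p G 2)) = ⊤
  rw [show 2 * k + 1 + 2 = 2 * (k + 1) + 1 from by ring, h]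
  exact Subgroup.map_top_of_surjective _ (QuotientGroup.mk'_surjective _)

theorem card_U_one_coprime : (Nat.card (U p G 1)).Coprime p := by
  have h1 := relIndex_U_even (G := G) (p := p) 0 (by decide)
  rwa [U_zero, Subgroup.relIndex_bot_left] at h1

theorem U_two_isPGroup (h : U p G 1 = ⊥) : IsPGroup p (U p G 2) := by
  obtain ⟨m, hm⟩ := relIndex_U_odd (G := G) (p := p) 1 (by decide)
  rw [h, Subgroup.relIndex_bot_left] at hm
  exact IsPGroup.of_card hm

end transfer

section extension

variable {G : Type*} [Group G] [Finite G] {p : ℕ} [Fact p.Prime]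

/-- `p`-length is subadditive over extensions. -/
theorem pLengthLE_of_extension (N : Subgroup G) [N.Normal] {a b : ℕ}
    (ha : PLengthLE p a ↥N) (hb : PLengthLE p b (G ⧸ N)) : PLengthLE p (a + b) G := by
  classical
  let V : ℕ → Subgroup G := fun n =>
    if n ≤ 2 * a then (U p ↥N n).map N.subtype
    else (U p (G ⧸ N) (n - 2 * a)).comap (QuotientGroup.mk' N)
  have hVlo : ∀ n, n ≤ 2 * a → V n = (U p ↥N n).map N.subtype := fun n hn => if_pos hn
  have hVhi : ∀ n, ¬ n ≤ 2 * a →
      V n = (U p (G ⧸ N) (n - 2 * a)).comap (QuotientGroup.mk' N) := fun n hn => if_neg hn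
  have hloN : ∀ n, (U p ↥N n).map N.subtype ≤ N := fun n => Subgroup.map_subtype_le _
  have hNhi : ∀ X : Subgroup (G ⧸ N), N ≤ X.comap (QuotientGroup.mk' N) := by
    intro X x hx
    rw [Subgroup.mem_comap]
    have : QuotientGroup.mk' N x = 1 := (QuotientGroup.eq_one_iff x).mpr hx
    rw [this]; exact X.one_mem
  have hrelhi : ∀ X Y : Subgroup (G ⧸ N), (X.comap (QuotientGroup.mk' N)).relIndex
      (Y.comap (QuotientGroup.mk' N)) = X.relIndex Y := by
    intro X Y
    rw [Subgroup.relIndex_comap,
      Subgroup.map_comap_eq_self_of_surjective (QuotientGroup.mk'_surjective N)]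
  have hrello : ∀ X Y : Subgroup ↥N, (X.map N.subtype).relIndex (Y.map N.subtype) =
      X.relIndex Y :=
    fun X Y => Subgroup.relIndex_map_map_of_injective X Y N.subtype_injective
  have hchain : IsPChain p V := by
    refine ⟨?_, ?_, ?_, ?_, ?_⟩
    · rw [hVlo 0 (by omega), U_zero, Subgroup.map_bot]
    · intro n
      by_cases hn : n ≤ 2 * a
      · rw [hVlo n hn]
        haveI := U_characteristic (G := ↥N) (p := p) n
        exact ConjAct.normal_of_characteristic_of_normal
      · rw [hVhi n hn]
        exact Subgroup.Normal.comap inferInstance _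
    · intro n
      by_cases hn : n + 1 ≤ 2 * a
      · rw [hVlo n (by omega), hVlo (n + 1) hn]
        exact Subgroup.map_mono (U_le_succ p n)
      · by_cases hn' : n ≤ 2 * a
        · rw [hVlo n hn', hVhi (n + 1) hn]
          exact (hloN n).trans (hNhi _)
        · rw [hVhi n hn', hVhi (n + 1) hn, show n + 1 - 2 * a = (n - 2 * a) + 1 by omega]
          exact Subgroup.comap_mono (U_le_succ p _)
    · intro n hne
      by_cases hn : n + 1 ≤ 2 * a
      · rw [hVlo n (by omega), hVlo (n + 1) hn, hrello]
        exact relIndex_U_even n hne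
      · by_cases hn' : n ≤ 2 * a
        · have hn2 : n = 2 * a := by omega
          rw [hVlo n hn', hVhi (n + 1) hn,
            ← Subgroup.relIndex_mul_relIndex _ N _ (hloN n) (hNhi _)]
          have e1 : ((U p ↥N n).map N.subtype).relIndex N =
              (U p ↥N n).relIndex (U p ↥N (n + 1)) := by
            have h0 : U p ↥N (n + 1) = ⊤ := by rw [hn2]; exact (pLengthLE_iff p a).mp ha
            rw [h0, ← hrello, ← MonoidHom.range_eq_map, Subgroup.range_subtype]
          have e2 : N.relIndex ((U p (G ⧸ N) (n + 1 - 2 * a)).comap (QuotientGroup.mk' N)) =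
              Nat.card (U p (G ⧸ N) 1) := by
            rw [show n + 1 - 2 * a = 1 by omega, relIndex_eq_card_map,
              Subgroup.map_comap_eq_self_of_surjective (QuotientGroup.mk'_surjective N)]
          rw [e1, e2]
          exact Nat.Coprime.mul_left (relIndex_U_even n hne) card_U_one_coprime
        · rw [hVhi n hn', hVhi (n + 1) hn, show n + 1 - 2 * a = (n - 2 * a) + 1 by omega, hrelhi]
          apply relIndex_U_even
          rw [Nat.even_sub (by omega)]
          simp [hne]
    · intro n hno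
      by_cases hn : n + 1 ≤ 2 * a
      · rw [hVlo n (by omega), hVlo (n + 1) hn, hrello]
        exact relIndex_U_odd n hno
      · by_cases hn' : n ≤ 2 * a
        · exfalso
          have hn2 : n = 2 * a := by omega
          exact hno (by rw [hn2]; exact even_two_mul a)
        · rw [hVhi n hn', hVhi (n + 1) hn, show n + 1 - 2 * a = (n - 2 * a) + 1 by omega, hrelhi]
          apply relIndex_U_odd
          rw [Nat.even_sub (by omega)]
          simp [hno]
  apply hchain.pLengthLE
  show V (2 * (a + b) + 1) = ⊤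
  rw [hVhi _ (by omega), show 2 * (a + b) + 1 - 2 * a = 2 * b + 1 by omega,
    (pLengthLE_iff p b).mp hb, Subgroup.comap_top]

end extension

end Cfsg.Agent.Lib.Helper20.PLen
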