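import Mathlib
import Cfsg.Agent.Lib.Helper14.NilSplit
import Cfsg.Agent.Lib.Helper14.JType2
import Cfsg.Agent.Lib.Helper13.AltRank

/-!
# Orthogonal unipotent engine, part 1: abstract linear algebra

* `gram_isometry`: a family of vectors with the Gram matrix of the standard basis of a
  nondegenerate standard form gives a linear isometry (odd characteristic).
* `exists_hyperbolic_vectors`: completing a totally singular subspace `U` to hyperbolic pairs,
  orthogonal to a given subspace `A` with `U ⟂ A`, `U ∩ A = 0`.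
* `even_sub_kd_of_isometry`: for a unipotent isometry of a nondegenerate symmetric form in odd
  characteristic, `dim V - dim ker (L-1)^k` is even for odd `k`.
-/

set_option autoImplicit false

namespace Cfsg.Agent.Lib.Helper20.OU

open Module QuadraticMap Cfsg.Agent.Lib.Helper14

universe u
variable {F : Type u} [Field F]

theorem two_smul_cancel (h2 : (2 : F) ≠ 0) {a b : F} (h : 2 • a = 2 • b) : a = b := by
  rw [two_nsmul, two_nsmul, ← two_mul, ← two_mul] at h
  exact mul_left_cancel₀ h2 h

/-- A family with the right Gram matrix gives an isometry from the standard space. -/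
theorem gram_isometry {I : Type} [Fintype I] [DecidableEq I] (h2 : (2 : F) ≠ 0)
    (Qs : QuadraticForm F (I → F)) (hnd : ∀ x, (∀ y, polar Qs x y = 0) → x = 0)
    {V : Type*} [AddCommGroup V] [Module F V] [FiniteDimensional F V] (Q : QuadraticForm F V)
    (hdim : finrank F V = Fintype.card I) (v : I → V)
    (hgram : ∀ i j, polar Q (v i) (v j) = polar Qs (Pi.single i 1) (Pi.single j 1)) :
    ∃ φ : (I → F) ≃ₗ[F] V, ∀ t, Q (φ t) = Qs t := by
  classical
  let φ₀ : (I → F) →ₗ[F] V := Fintype.linearCombination F v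
  have hφ₀ : ∀ i, φ₀ (Pi.single i 1) = v i := fun i => by
    show Fintype.linearCombination F v (Pi.single i 1) = v i
    rw [Fintype.linearCombination_apply_single, one_smul]
  have hpol : ∀ s t, polar Q (φ₀ s) (φ₀ t) = polar Qs s t := by
    have h1 : (polarBilin Q).compl₁₂ φ₀ φ₀ = polarBilin Qs := by
      apply LinearMap.BilinForm.ext_basis (Pi.basisFun F I)
      intro i j
      simp only [LinearMap.compl₁₂_apply, Pi.basisFun_apply, polarBilin_apply_apply, hφ₀]
      exact hgram i j
    intro s t
    have h3 := LinearMap.congr_fun₂ h1 s t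
    simpa only [LinearMap.compl₁₂_apply, polarBilin_apply_apply] using h3
  have hQ : ∀ t, Q (φ₀ t) = Qs t := by
    intro t
    have h1 := hpol t t
    rw [polar_self, polar_self] at h1
    exact two_smul_cancel h2 h1
  have hinj : Function.Injective φ₀ := by
    rw [← LinearMap.ker_eq_bot, LinearMap.ker_eq_bot']
    intro t ht
    apply hnd
    intro s
    rw [← hpol, ht]
    exact polar_zero_left _ _
  have hdim' : finrank F (I → F) = finrank F V := by
    rw [hdim, Module.finrank_fintype_fun_eq_card]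
  refine ⟨LinearMap.linearEquivOfInjective φ₀ hinj hdim', ?_⟩
  intro t
  rw [LinearMap.linearEquivOfInjective_apply]
  exact hQ t

/-- Hyperbolic partners for a basis of a totally singular subspace. -/
theorem exists_hyperbolic_vectors {V : Type*} [AddCommGroup V] [Module F V]
    [FiniteDimensional F V] (h2 : (2 : F) ≠ 0) (Q : QuadraticForm F V)
    (hnd : (polarBilin Q).Nondegenerate)
    (U A : Submodule F V) (hU : ∀ u ∈ U, Q u = 0)
    (hUA : ∀ u ∈ U, ∀ α ∈ A, polar Q u α = 0) (hdisj : Disjoint U A)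
    (a : ℕ) (ha : finrank F U = a) :
    ∃ e f : Fin a → V, (∀ i, e i ∈ U) ∧ (∀ i j, polar Q (e i) (e j) = 0) ∧
      (∀ i j, polar Q (f i) (f j) = 0) ∧
      (∀ i j, polar Q (e i) (f j) = if i = j then 1 else 0) ∧
      (∀ i, ∀ α ∈ A, polar Q (f i) α = 0) := by
  classical
  let B : LinearMap.BilinForm F V := polarBilin Q
  have hBp : ∀ x y, B x y = polar Q x y := fun x y => rfl
  have hsym : ∀ x y, B x y = B y x := fun x y => polar_comm Q x y
  have hUU : ∀ u ∈ U, ∀ u' ∈ U, B u u' = 0 := by
    intro u hu u' hu'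
    rw [hBp]
    unfold polar
    rw [hU _ (U.add_mem hu hu'), hU u hu, hU u' hu']
    simp
  let b : Basis (Fin a) F U := Module.finBasisOfFinrankEq F U ha
  let ι : (U × A) →ₗ[F] V := U.subtype.coprod A.subtype
  have hι : ∀ x : U × A, ι x = (x.1 : V) + (x.2 : V) := fun x => by
    simp [ι, LinearMap.coprod_apply]
  have hker : LinearMap.ker ι = ⊥ := by
    rw [LinearMap.ker_eq_bot']
    intro x hx
    rw [hι] at hx
    have h1 : (x.1 : V) = -(x.2 : V) := eq_neg_of_add_eq_zero_left hx
    have h2 : (x.1 : V) ∈ U ⊓ A := ⟨x.1.2, by rw [h1]; exact A.neg_mem x.2.2⟩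
    rw [hdisj.eq_bot, Submodule.mem_bot] at h2
    have h3 : (x.2 : V) = 0 := by
      rw [h2, zero_add] at hx
      exact hx
    apply Prod.ext
    · exact Subtype.ext h2
    · exact Subtype.ext h3
  obtain ⟨π, hπ⟩ := ι.exists_leftInverse_of_injective hker
  have hπU : ∀ u : U, π (u : V) = (u, 0) := by
    intro u
    have h1 := LinearMap.congr_fun hπ (u, 0)
    rw [LinearMap.comp_apply, hι] at h1
    simpa using h1
  have hπA : ∀ α : A, π (α : V) = (0, α) := by
    intro α
    have h1 := LinearMap.congr_fun hπ (0, α)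
    rw [LinearMap.comp_apply, hι] at h1
    simpa using h1
  let ℓ : Fin a → Module.Dual F V := fun i => (b.coord i).comp ((LinearMap.fst F U A).comp π)
  have hℓU : ∀ i (u : U), ℓ i (u : V) = b.coord i u := by
    intro i u
    show b.coord i ((LinearMap.fst F U A) (π (u : V))) = _
    rw [hπU]
    rfl
  have hℓA : ∀ i, ∀ α ∈ A, ℓ i α = 0 := by
    intro i α hα
    show b.coord i ((LinearMap.fst F U A) (π α)) = _
    have := hπA ⟨α, hα⟩
    rw [show ((⟨α, hα⟩ : A) : V) = α from rfl] at this
    rw [this]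
    simp
  obtain ⟨c, hc⟩ : ∃ c : Fin a → V, ∀ i w, B (c i) w = ℓ i w :=
    ⟨fun i => (LinearMap.BilinForm.toDual B hnd).symm (ℓ i), fun i w =>
      LinearMap.BilinForm.apply_toDual_symm_apply (hB := hnd) (ℓ i) w⟩
  obtain ⟨e, heb⟩ : ∃ e : Fin a → V, ∀ i, e i = ((b i : U) : V) := ⟨fun i => (b i : V), fun _ => rfl⟩
  have heU : ∀ i, e i ∈ U := fun i => by rw [heb]; exact (b i).2
  have hce : ∀ i j, B (c i) (e j) = if j = i then 1 else 0 := by
    intro i j
    rw [hc, heb, hℓU, Basis.coord_apply, Basis.repr_self, Finsupp.single_apply]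
  obtain ⟨f, hf⟩ : ∃ f : Fin a → V, ∀ i, f i = c i - ∑ k, ((2 : F)⁻¹ * B (c i) (c k)) • e k :=
    ⟨fun i => c i - ∑ k, ((2 : F)⁻¹ * B (c i) (c k)) • e k, fun _ => rfl⟩
  have hee : ∀ i k, B (e i) (e k) = 0 := fun i k => hUU _ (heU i) _ (heU k)
  have hef : ∀ i j, B (e i) (f j) = if i = j then 1 else 0 := by
    intro i j
    rw [hf, map_sub, map_sum, hsym, hce]
    have : ∑ k, B (e i) (((2 : F)⁻¹ * B (c j) (c k)) • e k) = 0 := by
      apply Finset.sum_eq_zero
      intro k _
      rw [map_smul, hee, smul_zero]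
    rw [this, sub_zero]
  have heA : ∀ k, ∀ α ∈ A, B (e k) α = 0 := fun k α hα => by
    rw [hBp]
    exact hUA _ (heU k) α hα
  have hfA : ∀ i, ∀ α ∈ A, B (f i) α = 0 := by
    intro i α hα
    rw [hf, map_sub, LinearMap.sub_apply, hc, hℓA i α hα, map_sum, LinearMap.sum_apply]
    have : ∑ k, B (((2 : F)⁻¹ * B (c i) (c k)) • e k) α = 0 := by
      apply Finset.sum_eq_zero
      intro k _
      rw [map_smul, LinearMap.smul_apply, heA k α hα, smul_zero]
    rw [this, sub_zero]
  refine ⟨e, f, heU, hee, ?_, hef, hfA⟩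
  intro i j
  show B (f i) (f j) = 0
  have h1 : B (f i) (f j) = B (c i) (f j) - ∑ k, ((2 : F)⁻¹ * B (c i) (c k)) * B (e k) (f j) := by
    rw [hf i, map_sub, LinearMap.sub_apply, map_sum, LinearMap.sum_apply]
    congr 1
    apply Finset.sum_congr rfl
    intro k _
    rw [map_smul, LinearMap.smul_apply, smul_eq_mul]
  have h3 : B (c i) (f j) = B (c i) (c j) - ∑ k, ((2 : F)⁻¹ * B (c j) (c k)) * B (c i) (e k) := by
    rw [hf j, map_sub, map_sum]
    congr 1
    apply Finset.sum_congr rfl
    intro k _
    rw [map_smul, smul_eq_mul]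
  rw [h1, h3]
  simp only [hef, hce, mul_ite, mul_one, mul_zero, Finset.sum_ite_eq',
    Finset.mem_univ, if_true]
  rw [hsym (c j) (c i)]
  field_simp
  ring

/-- kernels of powers agree for `U * N` with `U` injective commuting with `N` -/
theorem kd_mul_of_injective {V : Type*} [AddCommGroup V] [Module F V] (U N : V →ₗ[F] V)
    (hU : Function.Injective U) (hc : Commute U N) (j : ℕ) : kd (U * N) j = kd N j := by
  have h1 : (U * N) ^ j = U ^ j * N ^ j := hc.mul_pow j
  have hUj : Function.Injective (U ^ j) := by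
    rw [Module.End.coe_pow]
    exact hU.iterate j
  have hker : LinearMap.ker ((U * N) ^ j) = LinearMap.ker (N ^ j) := by
    ext v
    rw [LinearMap.mem_ker, LinearMap.mem_ker, h1, Module.End.mul_apply]
    constructor
    · intro h
      apply hUj
      rw [h, map_zero]
    · intro h
      rw [h, map_zero]
  unfold kd
  rw [hker]

/-- For a unipotent isometry `L` of a nondegenerate symmetric bilinear form in odd
characteristic, `dim V - dim ker (L-1)^k` is even for odd `k`. -/
theorem even_sub_kd_of_isometry {V : Type*} [AddCommGroup V] [Module F V]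
    [FiniteDimensional F V] (h2 : (2 : F) ≠ 0) (B : V →ₗ[F] V →ₗ[F] F)
    (hsym : ∀ x y, B x y = B y x) (hnd : ∀ x, (∀ y, B y x = 0) → x = 0)
    (L : V →ₗ[F] V) (hL : ∀ x y, B (L x) (L y) = B x y) (hnil : IsNilpotent (L - 1))
    (k : ℕ) (hk : Odd k) : Even (finrank F V - kd (L - 1) k) := by
  have hinj : Function.Injective L := by
    rw [← LinearMap.ker_eq_bot, LinearMap.ker_eq_bot']
    intro x hx
    apply hnd
    intro y
    rw [← hL, hx, map_zero]
  let Le : V ≃ₗ[F] V := LinearEquiv.ofInjectiveEndo L hinj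
  have hLe : ∀ x, Le x = L x := fun x => rfl
  obtain ⟨Li, hLi⟩ : ∃ Li : V →ₗ[F] V, ∀ x, Li x = Le.symm x := ⟨Le.symm.toLinearMap, fun _ => rfl⟩
  have hLLi : ∀ x, L (Li x) = x := fun x => by rw [hLi, ← hLe, LinearEquiv.apply_symm_apply]
  have hLiL : ∀ x, Li (L x) = x := fun x => by rw [hLi, ← hLe, LinearEquiv.symm_apply_apply]
  have h1 : L * Li = 1 := LinearMap.ext hLLi
  have h1' : Li * L = 1 := LinearMap.ext hLiL
  obtain ⟨M, hM⟩ : ∃ M : V →ₗ[F] V, M = L - Li := ⟨_, rfl⟩
  have hMskew : ∀ x y, B (M x) y = -B x (M y) := by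
    intro x y
    rw [hM, LinearMap.sub_apply, LinearMap.sub_apply, map_sub, LinearMap.sub_apply, map_sub]
    have e1 : B (L x) y = B x (Li y) := by
      conv_lhs => rw [← hLLi y]
      exact hL _ _
    have e2 : B (Li x) y = B x (L y) := by
      conv_rhs => rw [← hLLi x]
      exact (hL _ _).symm
    rw [e1, e2]
    ring
  have hMk : ∀ j x y, B ((M ^ j) x) y = (-1) ^ j * B x ((M ^ j) y) := by
    intro j
    induction j with
    | zero => intro x y; simp
    | succ j ih =>
      intro x y
      have e : M ^ (j + 1) = M * M ^ j := pow_succ' M j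
      have e' : M ^ (j + 1) = M ^ j * M := pow_succ M j
      calc B ((M ^ (j + 1)) x) y = B ((M ^ j) (M x)) y := by rw [e', Module.End.mul_apply]
        _ = (-1) ^ j * B (M x) ((M ^ j) y) := ih _ _
        _ = (-1) ^ j * -B x (M ((M ^ j) y)) := by rw [hMskew]
        _ = (-1) ^ (j + 1) * B x ((M ^ (j + 1)) y) := by
          rw [e, Module.End.mul_apply, pow_succ]
          ring
  let β : V →ₗ[F] V →ₗ[F] F := B.compl₂ (M ^ k)
  have hβ : ∀ x y, β x y = B x ((M ^ k) y) := fun x y => rfl
  have halt : ∀ x, β x x = 0 := by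
    intro x
    have h3 : B x ((M ^ k) x) = -B x ((M ^ k) x) := by
      conv_lhs => rw [hsym, hMk, hk.neg_one_pow]
      ring
    have h4 : (2 : F) * B x ((M ^ k) x) = 0 := by
      rw [two_mul]
      nth_rewrite 1 [h3]
      exact neg_add_cancel _
    rw [hβ]
    rcases mul_eq_zero.1 h4 with h5 | h5
    · exact absurd h5 h2
    · exact h5
  have hK : ∀ x, x ∈ LinearMap.ker (M ^ k) ↔ ∀ y, β y x = 0 := by
    intro x
    rw [LinearMap.mem_ker]
    constructor
    · intro hx y
      rw [hβ, hx, map_zero]
    · intro hx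
      apply hnd
      intro y
      exact hx y
  have hev := Cfsg.Agent.Lib.Helper13.even_finrank_sub_radical β halt _ hK
  -- `M = U * (L - 1)` with `U = Li * (L + 1)` injective
  have hcLiL : Commute Li L := by
    show Li * L = L * Li
    rw [h1, h1']
  have hMfac : M = (Li * (L + 1)) * (L - 1) := by
    rw [hM]
    have : (L + 1) * (L - 1) = L * L - 1 := by noncomm_ring
    rw [mul_assoc, this, mul_sub, ← mul_assoc, h1', one_mul, mul_one]
  have hcomm : Commute (Li * (L + 1)) (L - 1) := by
    apply Commute.mul_left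
    · exact (hcLiL.sub_right (Commute.one_right _))
    · exact ((Commute.refl L).add_left (Commute.one_left L)).sub_right (Commute.one_right _)
  have hinjU : Function.Injective ((Li * (L + 1) : V →ₗ[F] V) : V → V) := by
    rw [← LinearMap.ker_eq_bot, LinearMap.ker_eq_bot']
    intro v hv
    rw [Module.End.mul_apply] at hv
    have hv1 : (L + 1) v = 0 := by
      have := congrArg L hv
      rwa [hLLi, map_zero] at this
    have hv2 : (L - 1) v = (-2 : F) • v := by
      have : L v = -v := by
        rw [LinearMap.add_apply, Module.End.one_apply] at hv1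
        exact eq_neg_of_add_eq_zero_left hv1
      rw [LinearMap.sub_apply, Module.End.one_apply, this, neg_smul, two_smul]
      abel
    obtain ⟨m, hm⟩ := hnil
    have hv3 : ∀ j : ℕ, ((L - 1) ^ j) v = ((-2 : F) ^ j) • v := by
      intro j
      induction j with
      | zero => simp
      | succ j ih =>
        rw [pow_succ', Module.End.mul_apply, ih, map_smul, hv2, smul_smul, pow_succ]
    have hv4 := hv3 m
    rw [hm, LinearMap.zero_apply] at hv4
    rcases smul_eq_zero.1 hv4.symm with h5 | h5
    · exact absurd h5 (pow_ne_zero _ (neg_ne_zero.2 h2))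
    · exact h5
  have hkd : kd M k = kd (L - 1) k := by
    rw [hMfac]
    exact kd_mul_of_injective _ _ hinjU hcomm k
  rw [← hkd]
  exact hev

end Cfsg.Agent.Lib.Helper20.OU
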