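import Mathlib
import Cfsg.Agent.Lib.Helper20.OUBasic
import Cfsg.Agent.Lib.Helper14.JType3

/-!
# Orthogonal unipotent engine, part 2: data `(Q, N, g, U, A)` and their orthogonal sums

`Good Q N g U A μ`: `Q` is a nondegenerate quadratic form, `N` a skew-adjoint nilpotent of Jordan
type `μ`, `g` an isometric involution anticommuting with `N`, `U` a totally singular subspace,
`A` a subspace orthogonal to and disjoint from `U`, with `dim V = 2 dim U + dim A`.
-/

set_option autoImplicit false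

namespace Cfsg.Agent.Lib.Helper20.OU

open Module QuadraticMap Cfsg.Agent.Lib.Helper14 Cfsg.Agent.Lib.Helper14.JType

universe u
variable {F : Type u} [Field F]

structure Good {V : Type u} [AddCommGroup V] [Module F V] (Q : QuadraticForm F V)
    (N g : V →ₗ[F] V) (U A : Submodule F V) (μ : Multiset ℕ) : Prop where
  nd : ∀ x, (∀ y, polar Q x y = 0) → x = 0
  skew : ∀ a b, polar Q (N a) b = -polar Q a (N b)
  gQ : ∀ a, Q (g a) = Q a
  gg : ∀ a, g (g a) = a
  gN : ∀ a, g (N a) = -N (g a)
  kdN : ∀ k, kd N k = kappa μ k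
  dimμ : finrank F V = μ.sum
  ts : ∀ u ∈ U, Q u = 0
  perp : ∀ u ∈ U, ∀ α ∈ A, polar Q u α = 0
  disj : Disjoint U A
  dim : finrank F V = 2 * finrank F U + finrank F A

theorem kappa_add (μ₁ μ₂ : Multiset ℕ) (k : ℕ) :
    kappa (μ₁ + μ₂) k = kappa μ₁ k + kappa μ₂ k := by
  unfold kappa
  rw [Multiset.map_add, Multiset.sum_add]

section prod
variable {V₁ V₂ : Type u} [AddCommGroup V₁] [Module F V₁] [FiniteDimensional F V₁]
  [AddCommGroup V₂] [Module F V₂] [FiniteDimensional F V₂]

theorem finrank_prod_sub (p : Submodule F V₁) (q : Submodule F V₂) :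
    finrank F ↥(p.prod q) = finrank F p + finrank F q := by
  rw [(prodSubEquiv p q).finrank_eq, Module.finrank_prod]

theorem Good.prod {Q₁ : QuadraticForm F V₁} {N₁ g₁ : V₁ →ₗ[F] V₁} {U₁ A₁ : Submodule F V₁}
    {μ₁ : Multiset ℕ} {Q₂ : QuadraticForm F V₂} {N₂ g₂ : V₂ →ₗ[F] V₂} {U₂ A₂ : Submodule F V₂}
    {μ₂ : Multiset ℕ} (h₁ : Good Q₁ N₁ g₁ U₁ A₁ μ₁) (h₂ : Good Q₂ N₂ g₂ U₂ A₂ μ₂) :
    Good (Q₁.prod Q₂) (N₁.prodMap N₂) (g₁.prodMap g₂) (U₁.prod U₂) (A₁.prod A₂) (μ₁ + μ₂) where
  nd := by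
    intro x hx
    apply Prod.ext
    · apply h₁.nd
      intro y
      have := hx (y, 0)
      rw [polar_prod] at this
      simpa using this
    · apply h₂.nd
      intro y
      have := hx (0, y)
      rw [polar_prod] at this
      simpa using this
  skew := by
    intro a b
    rw [polar_prod, polar_prod]
    simp only [LinearMap.prodMap_apply]
    rw [h₁.skew, h₂.skew]
    ring
  gQ := by
    intro a
    rw [QuadraticMap.prod_apply, QuadraticMap.prod_apply]
    simp only [LinearMap.prodMap_apply]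
    rw [h₁.gQ, h₂.gQ]
  gg := by
    intro a
    simp only [LinearMap.prodMap_apply]
    rw [h₁.gg, h₂.gg]
  gN := by
    intro a
    simp only [LinearMap.prodMap_apply]
    rw [h₁.gN, h₂.gN]
    rfl
  kdN := by
    intro k
    rw [kd_prodMap, h₁.kdN, h₂.kdN, kappa_add]
  dimμ := by
    rw [Module.finrank_prod, h₁.dimμ, h₂.dimμ, Multiset.sum_add]
  ts := by
    intro u hu
    rw [Submodule.mem_prod] at hu
    rw [QuadraticMap.prod_apply, h₁.ts _ hu.1, h₂.ts _ hu.2, add_zero]
  perp := by
    intro u hu α hα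
    rw [Submodule.mem_prod] at hu hα
    rw [polar_prod, h₁.perp _ hu.1 _ hα.1, h₂.perp _ hu.2 _ hα.2, add_zero]
  disj := by
    rw [Submodule.disjoint_def]
    intro x hxU hxA
    rw [Submodule.mem_prod] at hxU hxA
    apply Prod.ext
    · exact (Submodule.disjoint_def.1 h₁.disj) _ hxU.1 hxA.1
    · exact (Submodule.disjoint_def.1 h₂.disj) _ hxU.2 hxA.2
  dim := by
    rw [Module.finrank_prod, finrank_prod_sub, finrank_prod_sub, h₁.dim, h₂.dim]
    ring

end prod

/-- absorb a singular vector of a two-dimensional `A` into `U` -/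
theorem Good.absorb {V : Type u} [AddCommGroup V] [Module F V] [FiniteDimensional F V]
    {Q : QuadraticForm F V} {N g : V →ₗ[F] V} {U A : Submodule F V} {μ : Multiset ℕ}
    (h : Good Q N g U A μ) (hA : finrank F A = 2) (z : V) (hzA : z ∈ A) (hz : Q z = 0)
    (hz0 : z ≠ 0) : Good Q N g (U ⊔ Submodule.span F {z}) ⊥ μ where
  nd := h.nd
  skew := h.skew
  gQ := h.gQ
  gg := h.gg
  gN := h.gN
  kdN := h.kdN
  dimμ := h.dimμ
  ts := by
    intro u hu
    obtain ⟨u₁, hu₁, w, hw, rfl⟩ := Submodule.mem_sup.1 hu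
    obtain ⟨t, rfl⟩ := Submodule.mem_span_singleton.1 hw
    have h1 : Q (u₁ + t • z) = Q u₁ + Q (t • z) + polar Q u₁ (t • z) := by
      unfold polar
      ring
    rw [h1, h.ts _ hu₁, QuadraticMap.map_smul, hz, polar_smul_right, h.perp _ hu₁ _ hzA]
    simp
  perp := by
    intro u _ α hα
    rw [Submodule.mem_bot] at hα
    rw [hα]
    exact polar_zero_right _ _
  disj := disjoint_bot_right
  dim := by
    have hdisj : Disjoint U (Submodule.span F {z}) := by
      apply h.disj.mono_right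
      rw [Submodule.span_singleton_le_iff_mem]
      exact hzA
    have h1 := Submodule.finrank_sup_add_finrank_inf_eq U (Submodule.span F {z})
    rw [hdisj.eq_bot, finrank_bot, add_zero, finrank_span_singleton hz0] at h1
    rw [h.dim, hA, h1, finrank_bot]
    ring

end Cfsg.Agent.Lib.Helper20.OU
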