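import Mathlib
import Cfsg.Agent.Lib.Helper20.OUDatum

/-!
# Orthogonal unipotent engine, part 3: the basic blocks

The pair block (two Jordan blocks of the same size on a hyperbolic space) and the single odd
block (one Jordan block of odd size with a prescribed value of `Q` on the middle vector).
-/

set_option autoImplicit false

namespace Cfsg.Agent.Lib.Helper20.OU

open Module QuadraticMap Cfsg.Agent.Lib.Helper14 Cfsg.Agent.Lib.Helper14.JType

universe u
variable {F : Type u} [Field F]

section beta
variable (F) (k : ℕ)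

/-- the form `Σ (-1)^i a_i b_{k-i}` -/
def betaF : (Fin (k + 1) → F) →ₗ[F] (Fin (k + 1) → F) →ₗ[F] F :=
  (flipForm F k).comp (sgn F k)

variable {F} {k}

theorem betaF_apply (a b : Fin (k + 1) → F) : betaF F k a b = flipForm F k (sgn F k a) b := rfl

theorem sgn_sgn (a : Fin (k + 1) → F) : sgn F k (sgn F k a) = a := by
  funext i
  rw [sgn_apply, sgn_apply, ← mul_assoc, ← mul_pow]
  simp

theorem flip_sgn_gen (a b : Fin (k + 1) → F) :
    flipForm F k (sgn F k a) b = (-1) ^ k * flipForm F k a (sgn F k b) := by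
  rw [flip_apply, flip_apply, Finset.mul_sum]
  apply Finset.sum_congr rfl
  intro i _
  rw [sgn_apply, sgn_apply, Fin.val_rev]
  have h1 : (-1 : F) ^ k * (-1 : F) ^ (k + 1 - (i.val + 1)) = (-1 : F) ^ i.val := by
    rw [← pow_add, neg_one_pow_eq_pow_mod_two, neg_one_pow_eq_pow_mod_two (n := i.val)]
    congr 1
    have := i.isLt
    omega
  rw [← h1]
  ring

theorem betaF_sh (a b : Fin (k + 1) → F) : betaF F k (sh F k a) b = -betaF F k a (sh F k b) := by
  rw [betaF_apply, betaF_apply, sgn_sh, map_neg, LinearMap.neg_apply, flip_sh]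

theorem betaF_swap (a b : Fin (k + 1) → F) : betaF F k b a = (-1) ^ k * betaF F k a b := by
  rw [betaF_apply, betaF_apply, flip_symm, flip_sgn_gen a b, ← mul_assoc, ← mul_pow]
  simp

theorem betaF_sgn (a b : Fin (k + 1) → F) :
    betaF F k (sgn F k a) (sgn F k b) = (-1) ^ k * betaF F k a b := by
  rw [betaF_apply, betaF_apply, sgn_sgn, flip_sgn_gen a b, ← mul_assoc, ← mul_pow]
  simp

theorem betaF_nd_left (a : Fin (k + 1) → F) (h : ∀ b, betaF F k a b = 0) : a = 0 := by
  have h1 : sgn F k a = 0 := flip_nondeg _ (fun b => by rw [← betaF_apply]; exact h b)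
  rw [← sgn_sgn a, h1, map_zero]

theorem betaF_nd_right (b : Fin (k + 1) → F) (h : ∀ a, betaF F k a b = 0) : b = 0 := by
  apply betaF_nd_left
  intro a
  rw [betaF_swap, h, mul_zero]

theorem betaF_sh_pow (j : ℕ) (a b : Fin (k + 1) → F) :
    betaF F k ((sh F k ^ j) a) b = (-1) ^ j * betaF F k a ((sh F k ^ j) b) := by
  induction j generalizing a b with
  | zero => simp
  | succ j ih =>
    have e : sh F k ^ (j + 1) = sh F k * sh F k ^ j := pow_succ' _ j
    have e' : sh F k ^ (j + 1) = sh F k ^ j * sh F k := pow_succ _ j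
    calc betaF F k ((sh F k ^ (j + 1)) a) b = betaF F k ((sh F k ^ j) (sh F k a)) b := by
          rw [e', Module.End.mul_apply]
      _ = (-1) ^ j * betaF F k (sh F k a) ((sh F k ^ j) b) := ih _ _
      _ = (-1) ^ j * -betaF F k a (sh F k ((sh F k ^ j) b)) := by rw [betaF_sh]
      _ = (-1) ^ (j + 1) * betaF F k a ((sh F k ^ (j + 1)) b) := by
          rw [e, Module.End.mul_apply, pow_succ]
          ring

theorem betaF_single (a : Fin (k + 1) → F) (i : Fin (k + 1)) :
    betaF F k a (Pi.single i 1) = (-1) ^ (Fin.rev i).val * a (Fin.rev i) := by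
  rw [betaF_apply, flip_apply, Finset.sum_eq_single (Fin.rev i)]
  · rw [Fin.rev_rev, Pi.single_eq_same, mul_one, sgn_apply]
  · intro j _ hj
    rw [Pi.single_eq_of_ne, mul_zero]
    intro h
    apply hj
    rw [← h, Fin.rev_rev]
  · intro h
    exact absurd (Finset.mem_univ _) h

end beta

/-! ### the pair block -/

section pair
variable (F) (k : ℕ)

/-- the quadratic form `(a, b) ↦ β(a, b)` on two copies of `F^(k+1)` -/
noncomputable def Qpair : QuadraticForm F ((Fin (k + 1) → F) × (Fin (k + 1) → F)) :=
  LinearMap.BilinMap.toQuadraticMap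
    ((betaF F k).compl₁₂ (LinearMap.fst F _ _) (LinearMap.snd F _ _))

variable {F} {k}

theorem Qpair_apply (x : (Fin (k + 1) → F) × (Fin (k + 1) → F)) :
    Qpair F k x = betaF F k x.1 x.2 := rfl

theorem polar_Qpair (x y : (Fin (k + 1) → F) × (Fin (k + 1) → F)) :
    polar (Qpair F k) x y = betaF F k x.1 y.2 + betaF F k y.1 x.2 := by
  unfold Qpair
  rw [LinearMap.BilinMap.polar_toQuadraticMap]
  rfl

theorem good_pair (k : ℕ) :
    Good (Qpair F k) ((sh F k).prodMap (sh F k))
      ((sgn F k).prodMap (((-1 : F) ^ k) • sgn F k))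
      ((⊤ : Submodule F (Fin (k + 1) → F)).prod ⊥) ⊥ ({k + 1, k + 1} : Multiset ℕ) where
  nd := by
    intro x hx
    apply Prod.ext
    · apply betaF_nd_left
      intro b
      have := hx (0, b)
      rw [polar_Qpair] at this
      simpa using this
    · apply betaF_nd_right
      intro a
      have := hx (a, 0)
      rw [polar_Qpair] at this
      simpa using this
  skew := by
    intro a b
    rw [polar_Qpair, polar_Qpair]
    simp only [LinearMap.prodMap_apply]
    rw [betaF_sh, betaF_sh]
    ring
  gQ := by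
    intro a
    rw [Qpair_apply, Qpair_apply]
    simp only [LinearMap.prodMap_apply, LinearMap.smul_apply]
    rw [map_smul, betaF_sgn, smul_eq_mul, ← mul_assoc, ← mul_pow]
    simp
  gg := by
    intro a
    simp only [LinearMap.prodMap_apply, LinearMap.smul_apply]
    rw [sgn_sgn, map_smul, sgn_sgn, smul_smul, ← mul_pow]
    simp
  gN := by
    intro a
    simp only [LinearMap.prodMap_apply, LinearMap.smul_apply]
    rw [sgn_sh, sgn_sh, smul_neg, map_smul]
    rfl
  kdN := by
    intro j
    rw [kd_prodMap, kd_sh]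
    show _ = kappa ((k + 1) ::ₘ (k + 1) ::ₘ 0) j
    rw [kappa_cons, kappa_cons, kappa_zero, add_zero]
  dimμ := by
    rw [Module.finrank_prod, Module.finrank_fin_fun]
    show _ = ((k + 1) ::ₘ (k + 1) ::ₘ (0 : Multiset ℕ)).sum
    simp
  ts := by
    intro u hu
    rw [Submodule.mem_prod] at hu
    have h2 : u.2 = 0 := (Submodule.mem_bot F).1 hu.2
    rw [Qpair_apply, h2, map_zero]
  perp := by
    intro u _ α hα
    rw [Submodule.mem_bot] at hα
    rw [hα]
    exact polar_zero_right _ _
  disj := disjoint_bot_right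
  dim := by
    rw [Module.finrank_prod, finrank_prod_sub, finrank_top, finrank_bot, finrank_bot,
      Module.finrank_fin_fun]
    ring

end pair

/-! ### the single odd block -/

section single
variable (F) (r : ℕ) (c : F)

/-- the quadratic form `a ↦ c (-1)^r β(a, a)` on `F^(2r+1)`: its value on the middle basis vector
is `c` -/
noncomputable def Qsing : QuadraticForm F (Fin (2 * r + 1) → F) :=
  LinearMap.BilinMap.toQuadraticMap ((c * (-1) ^ r) • betaF F (2 * r))

/-- the middle basis vector -/
def midVec : Fin (2 * r + 1) → F := Pi.single ⟨r, by omega⟩ 1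

variable {F} {r} {c}

theorem Qsing_apply (a : Fin (2 * r + 1) → F) :
    Qsing F r c a = c * (-1) ^ r * betaF F (2 * r) a a := rfl

theorem polar_Qsing (a b : Fin (2 * r + 1) → F) :
    polar (Qsing F r c) a b = 2 * (c * (-1) ^ r) * betaF F (2 * r) a b := by
  unfold Qsing
  rw [LinearMap.BilinMap.polar_toQuadraticMap, LinearMap.smul_apply, LinearMap.smul_apply,
    LinearMap.smul_apply, LinearMap.smul_apply, betaF_swap b a, smul_eq_mul, smul_eq_mul]
  have : (-1 : F) ^ (2 * r) = 1 := by rw [pow_mul]; simp
  rw [this]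
  ring

theorem rev_mid : Fin.rev (⟨r, by omega⟩ : Fin (2 * r + 1)) = ⟨r, by omega⟩ := by
  apply Fin.ext
  rw [Fin.val_rev]
  simp only
  omega

theorem betaF_midVec (a : Fin (2 * r + 1) → F) :
    betaF F (2 * r) a (midVec F r) = (-1) ^ r * a ⟨r, by omega⟩ := by
  unfold midVec
  rw [betaF_single, rev_mid]

theorem Qsing_midVec : Qsing F r c (midVec F r) = c := by
  rw [Qsing_apply, betaF_midVec]
  unfold midVec
  rw [Pi.single_eq_same, mul_one, mul_assoc, ← mul_pow]
  simp

theorem midVec_ne_zero : midVec F r ≠ 0 := by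
  intro h
  have := congrFun h ⟨r, by omega⟩
  unfold midVec at this
  rw [Pi.single_eq_same] at this
  exact one_ne_zero this

theorem good_single (h2 : (2 : F) ≠ 0) (r : ℕ) (c : F) (hc : c ≠ 0) :
    Good (Qsing F r c) (sh F (2 * r)) (sgn F (2 * r))
      (LinearMap.range (sh F (2 * r) ^ (r + 1))) (Submodule.span F {midVec F r})
      ({2 * r + 1} : Multiset ℕ) where
  nd := by
    intro x hx
    apply betaF_nd_left
    intro b
    have := hx b
    rw [polar_Qsing] at this
    rcases mul_eq_zero.1 this with h | h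
    · exfalso
      rcases mul_eq_zero.1 h with h' | h'
      · exact h2 h'
      · rcases mul_eq_zero.1 h' with h'' | h''
        · exact hc h''
        · exact absurd h'' (pow_ne_zero _ (neg_ne_zero.2 one_ne_zero))
    · exact h
  skew := by
    intro a b
    rw [polar_Qsing, polar_Qsing, betaF_sh]
    ring
  gQ := by
    intro a
    rw [Qsing_apply, Qsing_apply, betaF_sgn]
    have : (-1 : F) ^ (2 * r) = 1 := by rw [pow_mul]; simp
    rw [this, one_mul]
  gg := fun a => sgn_sgn a
  gN := fun a => sgn_sh a
  kdN := by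
    intro j
    rw [kd_sh]
    show _ = kappa ((2 * r + 1) ::ₘ 0) j
    rw [kappa_cons, kappa_zero, add_zero]
  dimμ := by
    rw [Module.finrank_fin_fun]
    simp
  ts := by
    intro u hu
    obtain ⟨a, rfl⟩ := LinearMap.mem_range.1 hu
    rw [Qsing_apply, betaF_sh_pow, ← Module.End.mul_apply, ← pow_add]
    have : sh F (2 * r) ^ (r + 1 + (r + 1)) = 0 := by
      have e : r + 1 + (r + 1) = (2 * r + 1) + 1 := by ring
      rw [e, pow_succ, sh_pow_eq_zero, zero_mul]
    rw [this, LinearMap.zero_apply, map_zero]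
    ring
  perp := by
    intro u hu α hα
    obtain ⟨a, rfl⟩ := LinearMap.mem_range.1 hu
    obtain ⟨t, rfl⟩ := Submodule.mem_span_singleton.1 hα
    rw [polar_smul_right, polar_Qsing, betaF_midVec,
      sh_pow_apply_of_lt (r + 1) a ⟨r, by omega⟩ (by simp)]
    simp
  disj := by
    rw [Submodule.disjoint_def]
    intro x hxU hxA
    obtain ⟨t, rfl⟩ := Submodule.mem_span_singleton.1 hxA
    obtain ⟨a, ha⟩ := LinearMap.mem_range.1 hxU
    have h1 : Qsing F r c (t • midVec F r) = 0 := by
      rw [← ha, Qsing_apply, betaF_sh_pow, ← Module.End.mul_apply, ← pow_add]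
      have : sh F (2 * r) ^ (r + 1 + (r + 1)) = 0 := by
        have e : r + 1 + (r + 1) = (2 * r + 1) + 1 := by ring
        rw [e, pow_succ, sh_pow_eq_zero, zero_mul]
      rw [this, LinearMap.zero_apply, map_zero]
      ring
    rw [QuadraticMap.map_smul, Qsing_midVec, smul_eq_mul] at h1
    rcases mul_eq_zero.1 h1 with h | h
    · have : t = 0 := by
        rcases mul_eq_zero.1 h with h' | h' <;> exact h'
      rw [this, zero_smul]
    · exact absurd h hc
  dim := by
    have h1 := LinearMap.finrank_range_add_finrank_ker (sh F (2 * r) ^ (r + 1))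
    have h3 : finrank F (LinearMap.ker (sh F (2 * r) ^ (r + 1))) = r + 1 := by
      have := kd_sh (F := F) (k := 2 * r) (r + 1)
      unfold kd at this
      rw [this]
      omega
    rw [Module.finrank_fin_fun] at h1 ⊢
    rw [finrank_span_singleton midVec_ne_zero]
    omega

end single

end Cfsg.Agent.Lib.Helper20.OU
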