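import Mathlib
import Cfsg.Agent.Lib.Helper20.OUBlocks

/-!
# Orthogonal unipotent engine, part 4: realising Jordan types on hyperbolic spaces
-/

set_option autoImplicit false

namespace Cfsg.Agent.Lib.Helper20.OU

open Module QuadraticMap Cfsg.Agent.Lib.Helper14 Cfsg.Agent.Lib.Helper14.JType

universe u
variable (F : Type u) [Field F]

/-- `μ` is realised on a space with a totally singular subspace of half the dimension -/
def RealPlus (μ : Multiset ℕ) : Prop :=
  ∃ (V : Type u) (_ : AddCommGroup V) (_ : Module F V) (_ : FiniteDimensional F V)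
    (Q : QuadraticForm F V) (N g : V →ₗ[F] V) (U : Submodule F V), Good Q N g U ⊥ μ

variable {F}

theorem realPlus_zero : RealPlus F 0 := by
  refine ⟨PUnit.{u + 1}, inferInstance, inferInstance, inferInstance, 0, 0, LinearMap.id, ⊥, ?_⟩
  refine ⟨?_, ?_, ?_, ?_, ?_, ?_, ?_, ?_, ?_, ?_, ?_⟩
  · intro x _
    exact Subsingleton.elim _ _
  · intro a b
    simp [polar]
  · intro a
    rfl
  · intro a
    rfl
  · intro a
    exact Subsingleton.elim _ _
  · intro k
    rw [kappa_zero]
    unfold kd
    exact Module.finrank_zero_of_subsingleton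
  · rw [Multiset.sum_zero]
    exact Module.finrank_zero_of_subsingleton
  · intro u _
    rfl
  · intro u _ α _
    simp [polar]
  · exact disjoint_bot_right
  · rw [finrank_bot]
    simp only [mul_zero, add_zero]
    exact Module.finrank_zero_of_subsingleton

theorem RealPlus.add {μ₁ μ₂ : Multiset ℕ} (h₁ : RealPlus F μ₁) (h₂ : RealPlus F μ₂) :
    RealPlus F (μ₁ + μ₂) := by
  obtain ⟨V₁, i1, i2, i3, Q₁, N₁, g₁, U₁, hg₁⟩ := h₁
  obtain ⟨V₂, j1, j2, j3, Q₂, N₂, g₂, U₂, hg₂⟩ := h₂
  have h := hg₁.prod hg₂
  rw [Submodule.prod_bot] at h
  exact ⟨V₁ × V₂, inferInstance, inferInstance, inferInstance, _, _, _, _, h⟩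

theorem realPlus_pair (b : ℕ) (hb : 0 < b) : RealPlus F (b ::ₘ b ::ₘ 0) := by
  obtain ⟨k, rfl⟩ : ∃ k, b = k + 1 := ⟨b - 1, by omega⟩
  exact ⟨_, inferInstance, inferInstance, inferInstance, _, _, _, _, good_pair (F := F) k⟩

theorem realPlus_oddPair (h2 : (2 : F) ≠ 0) (b b' : ℕ) (hb : Odd b) (hb' : Odd b') :
    RealPlus F (b ::ₘ b' ::ₘ 0) := by
  obtain ⟨r, rfl⟩ := hb
  obtain ⟨r', rfl⟩ := hb'
  have h1 := good_single h2 r (1 : F) one_ne_zero
  have h1' := good_single h2 r' (-1 : F) (neg_ne_zero.2 one_ne_zero)
  have h := h1.prod h1'
  have hA : finrank F ↥((Submodule.span F {midVec F r}).prod (Submodule.span F {midVec F r'})) = 2 := by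
    rw [finrank_prod_sub, finrank_span_singleton midVec_ne_zero,
      finrank_span_singleton midVec_ne_zero]
  have hz := h.absorb hA (midVec F r, midVec F r')
    (Submodule.mem_prod.2 ⟨Submodule.mem_span_singleton_self _, Submodule.mem_span_singleton_self _⟩)
    (by rw [QuadraticMap.prod_apply, Qsing_midVec, Qsing_midVec]; ring)
    (by
      intro h0
      exact midVec_ne_zero (congrArg Prod.fst h0))
  exact ⟨_, inferInstance, inferInstance, inferInstance, _, _, _, _, hz⟩

/-- every orthogonal Jordan type of even total size is realised with a maximal totally singular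
subspace -/
theorem realPlus_of (h2 : (2 : F) ≠ 0) : ∀ (n : ℕ) (μ : Multiset ℕ), Multiset.card μ = n →
    (∀ e ∈ μ, 0 < e) → (∀ e, Even e → Even (μ.count e)) → Even μ.sum → RealPlus F μ := by
  intro n
  induction n using Nat.strong_induction_on with
  | _ n ih =>
    intro μ hcard hpos hev hsum
    by_cases hE : ∃ e ∈ μ, Even e
    · obtain ⟨e, heμ, hee⟩ := hE
      obtain ⟨μ', rfl⟩ := Multiset.exists_cons_of_mem heμ
      have hc := hev e hee
      rw [Multiset.count_cons_self] at hc
      have hpos' : 0 < μ'.count e := by
        rcases Nat.eq_zero_or_pos (μ'.count e) with h0 | h0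
        · rw [h0] at hc
          exact absurd hc (by decide)
        · exact h0
      obtain ⟨μ'', rfl⟩ := Multiset.exists_cons_of_mem (Multiset.count_pos.1 hpos')
      have hcard' : Multiset.card μ'' < n := by
        rw [← hcard, Multiset.card_cons, Multiset.card_cons]
        omega
      have h1 := ih _ hcard' μ'' rfl
        (fun x hx => hpos x (Multiset.mem_cons_of_mem (Multiset.mem_cons_of_mem hx)))
        (by
          intro j hj
          have := hev j hj
          by_cases hje : j = e
          · subst hje
            rw [Multiset.count_cons_self, Multiset.count_cons_self] at this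
            rcases this with ⟨t, ht⟩
            exact ⟨t - 1, by omega⟩
          · rwa [Multiset.count_cons_of_ne hje, Multiset.count_cons_of_ne hje] at this)
        (by
          rw [Multiset.sum_cons, Multiset.sum_cons] at hsum
          rcases hsum with ⟨t, ht⟩
          exact ⟨t - e, by omega⟩)
      have h3 := (realPlus_pair (F := F) e (hpos e heμ)).add h1
      rwa [Multiset.cons_add, Multiset.cons_add, zero_add] at h3
    · push Not at hE
      rcases Multiset.empty_or_exists_mem μ with rfl | ⟨b, hb⟩
      · exact realPlus_zero
      · obtain ⟨μ', rfl⟩ := Multiset.exists_cons_of_mem hb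
        have hbodd : Odd b := Nat.not_even_iff_odd.1 (hE b hb)
        rcases Multiset.empty_or_exists_mem μ' with rfl | ⟨b', hb'⟩
        · exfalso
          rw [Multiset.sum_cons, Multiset.sum_zero, add_zero] at hsum
          exact (Nat.not_even_iff_odd.2 hbodd) hsum
        · obtain ⟨μ'', rfl⟩ := Multiset.exists_cons_of_mem hb'
          have hb'odd : Odd b' :=
            Nat.not_even_iff_odd.1 (hE b' (Multiset.mem_cons_of_mem hb'))
          have hcard' : Multiset.card μ'' < n := by
            rw [← hcard, Multiset.card_cons, Multiset.card_cons]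
            omega
          have h1 := ih _ hcard' μ'' rfl
            (fun x hx => hpos x (Multiset.mem_cons_of_mem (Multiset.mem_cons_of_mem hx)))
            (by
              intro j hj
              have : μ''.count j = 0 := by
                rw [Multiset.count_eq_zero]
                intro hmem
                exact hE j (Multiset.mem_cons_of_mem (Multiset.mem_cons_of_mem hmem)) hj
              rw [this]
              exact Even.zero)
            (by
              rw [Multiset.sum_cons, Multiset.sum_cons] at hsum
              rcases hsum with ⟨t, ht⟩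
              rcases hbodd with ⟨s, hs⟩
              rcases hb'odd with ⟨s', hs'⟩
              exact ⟨t - s - s' - 1, by omega⟩)
          have h3 := (realPlus_oddPair h2 b b' hbodd hb'odd).add h1
          rwa [Multiset.cons_add, Multiset.cons_add, zero_add] at h3

end Cfsg.Agent.Lib.Helper20.OU
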