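import Mathlib
import Cfsg.Agent.Lib.Helper20.OUReal
import Cfsg.Agent.Lib.Helper13.OrthMax
import Cfsg.Agent.Lib.Helper13.DicksonGen

/-!
# Orthogonal unipotent engine, part 5: Cayley transform and membership in `Ω`

From a `Good` datum and a linear isometry to a standard space we get an element of `omegaGL` whose
unipotent part has the Jordan type of the datum: with `x` the Cayley transform of `N` and `g` the
reversing involution, `⁅x, g⁆ = x²`.
-/

set_option autoImplicit false

namespace Cfsg.Agent.Lib.Helper20.OU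

open Module QuadraticMap Cfsg.Agent.Lib.Helper14 Cfsg.Agent.Lib.Helper14.JType
open Cfsg.Agent.Lib.Helper13
open scoped commutatorElement

universe u
variable {F : Type u} [Field F]

section cayley
variable {V : Type*} [AddCommGroup V] [Module F V]

/-- the inverse of `1 - N` -/
def cayM (N : V →ₗ[F] V) (m : ℕ) : V →ₗ[F] V := ∑ i ∈ Finset.range m, N ^ i
/-- the inverse of `1 + N` -/
def cayP (N : V →ₗ[F] V) (m : ℕ) : V →ₗ[F] V := ∑ i ∈ Finset.range m, (-N) ^ i
/-- the Cayley transform -/
def cayX (N : V →ₗ[F] V) (m : ℕ) : V →ₗ[F] V := (1 + N) * cayM N m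
/-- the inverse of the Cayley transform -/
def cayXi (N : V →ₗ[F] V) (m : ℕ) : V →ₗ[F] V := (1 - N) * cayP N m

variable {N : V →ₗ[F] V} {m : ℕ}

theorem one_sub_mul_cayM (hN : N ^ m = 0) : (1 - N) * cayM N m = 1 := by
  have := mul_neg_geom_sum N m
  rwa [hN, sub_zero] at this

theorem cayM_mul_one_sub (hN : N ^ m = 0) : cayM N m * (1 - N) = 1 := by
  have := geom_sum_mul_neg N m
  rwa [hN, sub_zero] at this

theorem neg_pow_eq_zero (hN : N ^ m = 0) : (-N) ^ m = 0 := by
  rw [neg_pow, hN, mul_zero]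

theorem one_add_mul_cayP (hN : N ^ m = 0) : (1 + N) * cayP N m = 1 := by
  have := mul_neg_geom_sum (-N) m
  rwa [neg_pow_eq_zero hN, sub_zero, sub_neg_eq_add] at this

theorem cayP_mul_one_add (hN : N ^ m = 0) : cayP N m * (1 + N) = 1 := by
  have := geom_sum_mul_neg (-N) m
  rwa [neg_pow_eq_zero hN, sub_zero, sub_neg_eq_add] at this

theorem commute_cayM (N : V →ₗ[F] V) (m : ℕ) : Commute (cayM N m) N := by
  apply Commute.sum_left
  intro i _
  exact (Commute.refl N).pow_left i

theorem cayX_mul_cayXi (hN : N ^ m = 0) : cayX N m * cayXi N m = 1 := by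
  unfold cayX cayXi
  calc (1 + N) * cayM N m * ((1 - N) * cayP N m)
      = (1 + N) * (cayM N m * (1 - N)) * cayP N m := by simp only [mul_assoc]
    _ = 1 := by rw [cayM_mul_one_sub hN, mul_one, one_add_mul_cayP hN]

theorem cayXi_mul_cayX (hN : N ^ m = 0) : cayXi N m * cayX N m = 1 := by
  unfold cayX cayXi
  calc (1 - N) * cayP N m * ((1 + N) * cayM N m)
      = (1 - N) * (cayP N m * (1 + N)) * cayM N m := by simp only [mul_assoc]
    _ = 1 := by rw [cayP_mul_one_add hN, mul_one, one_sub_mul_cayM hN]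

theorem cayX_sq_sub_one (hN : N ^ m = 0) :
    cayX N m * cayX N m - 1 = ((4 : F) • (cayM N m * cayM N m)) * N := by
  have hc := commute_cayM N m
  have h1 : cayX N m - 1 = (2 : F) • (N * cayM N m) := by
    unfold cayX
    nth_rewrite 2 [← one_sub_mul_cayM hN]
    rw [← sub_mul, two_smul]
    have : (1 + N : V →ₗ[F] V) - (1 - N) = N + N := by abel
    rw [this, add_mul]
  have h3 : cayX N m + 1 = (2 : F) • cayM N m := by
    unfold cayX
    nth_rewrite 2 [← one_sub_mul_cayM hN]
    rw [← add_mul, two_smul]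
    have : (1 + N : V →ₗ[F] V) + (1 - N) = 1 + 1 := by abel
    rw [this, add_mul, one_mul]
  have h4 : cayX N m * cayX N m - 1 = (cayX N m - 1) * (cayX N m + 1) := by noncomm_ring
  rw [h4, h1, h3, smul_mul_smul_comm, mul_assoc, ← (hc.mul_left hc).eq, smul_mul_assoc]
  congr 1
  norm_num

theorem cayX_leftInv (h2 : (2 : F) ≠ 0) (hN : N ^ m = 0) :
    ((4 : F)⁻¹ • ((1 - N) * (1 - N))) * ((4 : F) • (cayM N m * cayM N m)) = 1 := by
  have h4 : (4 : F) ≠ 0 := by
    have : (4 : F) = 2 * 2 := by norm_num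
    rw [this]
    exact mul_ne_zero h2 h2
  rw [smul_mul_smul_comm, inv_mul_cancel₀ h4, one_smul]
  calc (1 - N) * (1 - N) * (cayM N m * cayM N m)
      = (1 - N) * ((1 - N) * cayM N m) * cayM N m := by simp only [mul_assoc]
    _ = 1 := by rw [one_sub_mul_cayM hN, mul_one, one_sub_mul_cayM hN]

theorem kd_cayX_sq (h2 : (2 : F) ≠ 0) (hN : N ^ m = 0) (k : ℕ) :
    kd (cayX N m * cayX N m - 1) k = kd N k := by
  rw [cayX_sq_sub_one hN]
  apply kd_mul_of_leftInv _ _ N (cayX_leftInv h2 hN)
  exact (((commute_cayM N m).mul_left (commute_cayM N m)).smul_left _)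

theorem cay_isometry (B : V →ₗ[F] V →ₗ[F] F) (hskew : ∀ a b, B (N a) b = -B a (N b))
    (hN : N ^ m = 0) (x y : V) : B (cayX N m x) (cayX N m y) = B x y := by
  have hadj1 : ∀ a b, B ((1 + N) a) b = B a ((1 - N) b) := by
    intro a b
    simp only [LinearMap.add_apply, LinearMap.sub_apply, Module.End.one_apply, map_add, map_sub]
    rw [hskew]
    ring
  have hadj2 : ∀ a b, B ((1 - N) a) b = B a ((1 + N) b) := by
    intro a b
    simp only [LinearMap.add_apply, LinearMap.sub_apply, Module.End.one_apply, map_add, map_sub]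
    rw [hskew]
    ring
  have hcc : ∀ z, (1 - N) ((1 + N) z) = (1 + N) ((1 - N) z) := by
    intro z
    rw [← Module.End.mul_apply, ← Module.End.mul_apply]
    congr 1
    noncomm_ring
  have hci : ∀ z, (1 - N) (cayM N m z) = z := by
    intro z
    rw [← Module.End.mul_apply, one_sub_mul_cayM hN, Module.End.one_apply]
  calc B (cayX N m x) (cayX N m y)
      = B ((1 + N) (cayM N m x)) ((1 + N) (cayM N m y)) := rfl
    _ = B (cayM N m x) ((1 - N) ((1 + N) (cayM N m y))) := hadj1 _ _
    _ = B (cayM N m x) ((1 + N) ((1 - N) (cayM N m y))) := by rw [hcc]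
    _ = B ((1 - N) (cayM N m x)) ((1 - N) (cayM N m y)) := (hadj2 _ _).symm
    _ = B x y := by rw [hci, hci]

theorem cay_conj (g : V →ₗ[F] V) (hgN : ∀ a, g (N a) = -N (g a)) (v : V) :
    g (cayX N m v) = cayXi N m (g v) := by
  have hpow : ∀ i v, g ((N ^ i) v) = ((-N) ^ i) (g v) := by
    intro i
    induction i with
    | zero => intro v; simp
    | succ i ih =>
      intro v
      rw [pow_succ', pow_succ', Module.End.mul_apply, Module.End.mul_apply, hgN, ih,
        LinearMap.neg_apply]
  have hM : ∀ v, g (cayM N m v) = cayP N m (g v) := by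
    intro v
    unfold cayM cayP
    rw [LinearMap.sum_apply, LinearMap.sum_apply, map_sum]
    apply Finset.sum_congr rfl
    intro i _
    exact hpow i v
  unfold cayX cayXi
  rw [Module.End.mul_apply, Module.End.mul_apply, LinearMap.add_apply, LinearMap.sub_apply,
    Module.End.one_apply, Module.End.one_apply, map_add, hgN, hM, sub_eq_add_neg]

end cayley

/-- `N ^ k = 0` as soon as `k` bounds all parts of the Jordan type -/
theorem pow_eq_zero_of_kd {V : Type*} [AddCommGroup V] [Module F V] [FiniteDimensional F V]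
    (N : V →ₗ[F] V) (μ : Multiset ℕ) (hdim : finrank F V = μ.sum)
    (hkd : ∀ k, kd N k = kappa μ k) (k : ℕ) (hk : ∀ b ∈ μ, b ≤ k) : N ^ k = 0 := by
  have h1 : kappa μ k = μ.sum := by
    unfold kappa
    congr 1
    conv_rhs => rw [← Multiset.map_id μ]
    apply Multiset.map_congr rfl
    intro b hb
    exact min_eq_left (hk b hb)
  have h3 : finrank F (LinearMap.ker (N ^ k)) = finrank F V := by
    have := hkd k
    unfold kd at this
    rw [this, h1, hdim]
  exact LinearMap.ker_eq_top.1 (Submodule.eq_top_of_finrank_eq h3)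

section omega
variable {V : Type u} [AddCommGroup V] [Module F V] [FiniteDimensional F V]

/-- The main transfer: a `Good` datum and an isometry to a standard space give an element of
`Ω` of the standard form with the Jordan type of the datum. -/
theorem exists_omega_of_good (h2 : (2 : F) ≠ 0) {Q : QuadraticForm F V} {N g : V →ₗ[F] V}
    {U A : Submodule F V} {μ : Multiset ℕ} (h : Good Q N g U A μ)
    {I : Type} [Fintype I] [DecidableEq I] (Qs : QuadraticForm F (I → F))
    (T : V ≃ₗ[F] (I → F)) (hT : ∀ v, Qs (T v) = Q v) :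
    ∃ y : Matrix.GeneralLinearGroup I F, y ∈ Cfsg.Geo.omegaGL ⇑Qs ∧
      ∀ k, kd (Matrix.toLin' (y : Matrix I I F) - 1) k = kappa μ k := by
  classical
  set m := μ.sum with hm
  have hN : N ^ m = 0 := pow_eq_zero_of_kd N μ h.dimμ h.kdN m
    (fun b hb => Multiset.single_le_sum (fun _ _ => Nat.zero_le _) b hb)
  set X := cayX N m with hX
  set Xi := cayXi N m with hXi
  have hXXi : X * Xi = 1 := cayX_mul_cayXi hN
  have hXiX : Xi * X = 1 := cayXi_mul_cayX hN
  have hXpol : ∀ a b, polar Q (X a) (X b) = polar Q a b := fun a b =>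
    cay_isometry (polarBilin Q) h.skew hN a b
  have hXQ : ∀ a, Q (X a) = Q a := by
    intro a
    have := hXpol a a
    rw [polar_self, polar_self] at this
    exact two_smul_cancel h2 this
  have hgX : ∀ v, g (X v) = Xi (g v) := cay_conj g h.gN
  let XE : V ≃ₗ[F] V := LinearEquiv.ofLinearMap X Xi hXXi hXiX
  let gE : V ≃ₗ[F] V := LinearEquiv.ofLinearMap g g (LinearMap.ext h.gg) (LinearMap.ext h.gg)
  let xI : isoGroup Q := ⟨XE, hXQ⟩
  let gI : isoGroup Q := ⟨gE, h.gQ⟩
  let c : isoGroup Q := ⁅xI, gI⁆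
  have hc : ∀ v, c.1 v = X (X v) := by
    intro v
    show (xI * gI * xI⁻¹ * gI⁻¹).1 v = _
    show X (g (Xi (g v))) = X (X v)
    congr 1
    have h1 : Xi (g v) = g (X (g (g v))) := by
      rw [hgX, h.gg]
    rw [h1, h.gg, h.gg]
  have hcmem : c ∈ commutator (isoGroup Q) := by
    rw [commutator_def]
    exact Subgroup.commutator_mem_commutator (Subgroup.mem_top _) (Subgroup.mem_top _)
  let φ := isoGroupMap Q Qs T hT
  let y' : isoGroup Qs := φ c
  have hy' : y' ∈ commutator (isoGroup Qs) := by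
    have h1 : y' = ⁅φ xI, φ gI⁆ := map_commutatorElement φ xI gI
    rw [h1, commutator_def]
    exact Subgroup.commutator_mem_commutator (Subgroup.mem_top _) (Subgroup.mem_top _)
  let E := isoEquiv (⇑Qs) Qs (fun _ => rfl)
  let yM : Cfsg.isometryGroup F ⇑Qs := E.symm y'
  have hyM : yM ∈ Cfsg.Omega F ⇑Qs := by
    show yM ∈ commutator _
    rw [mem_commutator_iff_of_equiv E, MulEquiv.apply_symm_apply]
    exact hy'
  refine ⟨(yM : Matrix.GeneralLinearGroup I F), (mem_omegaGL_iff Qs _).2 ⟨yM, hyM, rfl⟩, ?_⟩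
  intro k
  have hact : ∀ w, Matrix.toLin' ((yM : Matrix.GeneralLinearGroup I F) : Matrix I I F) w
      = T (X (X (T.symm w))) := by
    intro w
    rw [Matrix.toLin'_apply]
    show (((E.symm y' : Cfsg.isometryGroup F ⇑Qs) : Matrix.GeneralLinearGroup I F) :
      Matrix I I F).mulVec w = _
    rw [isoEquiv_symm_mulVec]
    show (isoGroupMap Q Qs T hT c).1 w = _
    rw [isoGroupMap_apply, hc]
  rw [← h.kdN k, ← kd_cayX_sq h2 hN k]
  apply kd_eq_of_equiv (cayX N m * cayX N m - 1) _ T
  intro v
  rw [LinearMap.sub_apply, LinearMap.sub_apply, hact, LinearEquiv.symm_apply_apply,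
    Module.End.mul_apply, Module.End.one_apply, Module.End.one_apply, map_sub]

end omega

end Cfsg.Agent.Lib.Helper20.OU
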