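import Mathlib
import Cfsg.Agent.Lib.Helper20.OUFinal

/-!
# Orthogonal unipotent engine, part 8: order `p` and non-scalarity
-/

set_option autoImplicit false

namespace Cfsg.Agent.Lib.Helper20.OU

open Module Cfsg.Agent.Lib.Helper14 Cfsg.Agent.Lib.Helper14.JType

universe u
variable {F : Type u} [Field F]

theorem two_ne_zero_of_odd_card [Fintype F] (h : Odd (Fintype.card F)) : (2 : F) ≠ 0 := by
  apply Ring.two_ne_zero
  intro h2
  have := FiniteField.even_card_of_char_two h2
  rcases h with ⟨t, ht⟩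
  omega

variable {I : Type} [Fintype I] [DecidableEq I]

/-- a unipotent matrix with `(y-1)^p = 0` has `y^p = 1` in characteristic `p` -/
theorem pow_char_eq_one (p : ℕ) [Fact p.Prime] [CharP F p] [Nonempty I]
    (y : Matrix.GeneralLinearGroup I F)
    (h : (Matrix.toLin' (y : Matrix I I F) - 1) ^ p = 0) : y ^ p = 1 := by
  have : CharP (Matrix I I F) p := Matrix.charP p
  have h1 : ((y : Matrix I I F) - 1) ^ p = 0 := by
    apply Matrix.toLin'.injective
    rw [Matrix.toLin'_pow, map_sub, Matrix.toLin'_one, map_zero]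
    exact h
  rw [sub_pow_char_of_commute p (Commute.one_right _), one_pow, sub_eq_zero] at h1
  apply Units.ext
  rw [Units.val_pow_eq_pow_val, h1, Units.val_one]

/-- a unipotent matrix whose Jordan type has a part `> 1` is not scalar -/
theorem not_scalar_of_kd (y : Matrix.GeneralLinearGroup I F) (μ : Multiset ℕ)
    (hk : ∀ k, kd (Matrix.toLin' (y : Matrix I I F) - 1) k = kappa μ k)
    (hnil : IsNilpotent (Matrix.toLin' (y : Matrix I I F) - 1))
    (hb : ∃ b ∈ μ, 1 < b) (z : F) : (y : Matrix I I F) ≠ z • (1 : Matrix I I F) := by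
  intro hz
  set Nn := Matrix.toLin' (y : Matrix I I F) - 1 with hNn
  have hN : Nn = (z - 1) • (1 : (I → F) →ₗ[F] (I → F)) := by
    rw [hNn, hz, map_smul, Matrix.toLin'_one]
    apply LinearMap.ext
    intro v
    simp [sub_smul]
  obtain ⟨m, hm⟩ := hnil
  have hnu : 0 < nu Nn 1 := by
    rw [nu_eq_nuOf Nn μ hk]
    unfold nuOf
    obtain ⟨b, hbμ, hb1⟩ := hb
    exact Multiset.card_pos_iff_exists_mem.2 ⟨b, Multiset.mem_filter.2 ⟨hbμ, hb1⟩⟩
  by_cases hz1 : z - 1 = 0
  · -- `Nn = 0`
    have hN0 : Nn = 0 := by rw [hN, hz1, zero_smul]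
    unfold nu kd at hnu
    rw [hN0, pow_one, zero_pow two_ne_zero] at hnu
    omega
  · -- `Nn` invertible and nilpotent: the space is zero
    have hpow : Nn ^ m = ((z - 1) ^ m) • (1 : (I → F) →ₗ[F] (I → F)) := by
      rw [hN, smul_pow, one_pow]
    rw [hpow] at hm
    have hone : (1 : (I → F) →ₗ[F] (I → F)) = 0 := by
      rcases smul_eq_zero.1 hm with h | h
      · exact absurd h (pow_ne_zero _ hz1)
      · exact h
    have hsub : ∀ v : I → F, v = 0 := by
      intro v
      have := LinearMap.congr_fun hone v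
      simpa using this
    have hN0 : Nn = 0 := LinearMap.ext (fun v => by rw [hsub (Nn v)]; rfl)
    unfold nu kd at hnu
    rw [hN0, pow_one, zero_pow two_ne_zero] at hnu
    omega

end Cfsg.Agent.Lib.Helper20.OU
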