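import Mathlib
import Cfsg.Agent.Lib.Helper20.OUFinal

/-!
# Orthogonal unipotent engine, part 11: invariant subspaces, with the rank of `y - 1` on `W`
-/

set_option autoImplicit false

namespace Cfsg.Agent.Lib.Helper20.OU

open Module QuadraticMap Cfsg.Agent.Lib.Helper14 Cfsg.Agent.Lib.Helper14.JType

universe u
variable {F : Type u} [Field F]

/-- for an isometry `L` with `(L - 1)² = 0`, the image of `L - 1` is totally singular -/
theorem Q_sub_one_eq_zero {V : Type*} [AddCommGroup V] [Module F V] (h2 : (2 : F) ≠ 0)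
    (Q : QuadraticForm F V) (L : V →ₗ[F] V) (hL : ∀ v, Q (L v) = Q v)
    (hsq : (L - 1) ^ 2 = 0) (v : V) : Q ((L - 1) v) = 0 := by
  have hfix : L ((L - 1) v) = (L - 1) v := by
    have h1 : (L - 1) ((L - 1) v) = 0 := by
      rw [← Module.End.mul_apply, ← pow_two, hsq]
      rfl
    rw [LinearMap.sub_apply, Module.End.one_apply] at h1
    exact sub_eq_zero.1 h1
  have hpol : ∀ a b, polar Q (L a) (L b) = polar Q a b := by
    intro a b
    unfold polar
    rw [← map_add, hL, hL, hL]
  have h3 := hpol v ((L - 1) v)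
  rw [hfix] at h3
  have h4 : L v = v + (L - 1) v := by
    rw [LinearMap.sub_apply, Module.End.one_apply]
    abel
  rw [h4, polar_add_left] at h3
  have h5 : polar Q ((L - 1) v) ((L - 1) v) = 0 := by
    have := h3
    linear_combination this
  rw [polar_self] at h5
  have h6 : (2 : F) * Q ((L - 1) v) = 0 := by
    rw [two_mul]
    rw [two_nsmul] at h5
    exact h5
  rcases mul_eq_zero.1 h6 with h | h
  · exact absurd h h2
  · exact h

section main
variable {I : Type} [Fintype I] [DecidableEq I]

theorem exists_sub_partition_rank (h2 : (2 : F) ≠ 0) (Qs : QuadraticForm F (I → F))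
    (y : Matrix.GeneralLinearGroup I F) (hy : y ∈ Cfsg.isometryGroup F ⇑Qs)
    (μ : Multiset ℕ) (hμ0 : 0 ∉ μ) (hsum : μ.sum = Fintype.card I)
    (hk : ∀ k, kd (Matrix.toLin' (y : Matrix I I F) - 1) k = kappa μ k)
    (W : Submodule F (I → F))
    (hWnd : Cfsg.Geo.IsNondegenerateOn (QuadraticMap.polar ⇑Qs) W)
    (hWinv : W.map (Matrix.toLin' (y : Matrix I I F)) ≤ W) :
    ∃ ν : Multiset ℕ, ν ≤ μ ∧ ν.sum = finrank F W ∧ (∀ e : ℕ, Even e → Even (ν.count e)) ∧
      finrank F ↥(W.map (Matrix.toLin' (y : Matrix I I F) - 1)) + Multiset.card ν =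
        finrank F W := by
  classical
  set L : (I → F) →ₗ[F] (I → F) := Matrix.toLin' (y : Matrix I I F) with hL
  set Nn : (I → F) →ₗ[F] (I → F) := L - 1 with hNn
  have hfin : finrank F (I → F) = μ.sum := by
    rw [hsum, Module.finrank_fintype_fun_eq_card]
  have hnil : IsNilpotent Nn :=
    ⟨μ.sum, pow_eq_zero_of_kd Nn μ hfin hk _
      (fun b hb => Multiset.single_le_sum (fun _ _ => Nat.zero_le _) b hb)⟩
  -- `L` is an isometry
  have hLQ : ∀ v, Qs (L v) = Qs v := by
    intro v
    rw [hL, Matrix.toLin'_apply]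
    exact hy v v
  have hLpol : ∀ a b, polar Qs (L a) (L b) = polar Qs a b := by
    intro a b
    unfold polar
    rw [← map_add, hLQ, hLQ, hLQ]
  -- `L` is injective
  let Li : (I → F) →ₗ[F] (I → F) := Matrix.toLin' ((y⁻¹ : Matrix.GeneralLinearGroup I F) : Matrix I I F)
  have hLiL : ∀ v, Li (L v) = v := by
    intro v
    show Matrix.toLin' _ (Matrix.toLin' _ v) = v
    rw [← LinearMap.comp_apply, ← Matrix.toLin'_mul, ← Units.val_mul, inv_mul_cancel,
      Units.val_one, Matrix.toLin'_one, LinearMap.id_apply]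
  have hLinj : Function.Injective L := Function.LeftInverse.injective hLiL
  have hmapeq : W.map L = W := by
    apply Submodule.eq_of_le_of_finrank_eq hWinv
    exact (Submodule.equivMapOfInjective L hLinj W).symm.finrank_eq
  have hLW : ∀ x ∈ W, L x ∈ W := fun x hx => hWinv (Submodule.mem_map_of_mem hx)
  -- the orthogonal complement
  let B : LinearMap.BilinForm F (I → F) := polarBilin Qs
  have hBp : ∀ a b, B a b = polar Qs a b := fun a b => rfl
  have hBsymm : B.IsSymm := ⟨fun a b => polar_comm Qs a b⟩
  have hres : (B.restrict W).Nondegenerate := by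
    constructor
    · intro x hx
      by_contra hne
      have hne' : (x : I → F) ≠ 0 := fun h0 => hne (Subtype.ext h0)
      obtain ⟨-, ⟨z, hzW, hz⟩⟩ := hWnd x x.2 hne'
      exact hz (hx ⟨z, hzW⟩)
    · intro x hx
      by_contra hne
      have hne' : (x : I → F) ≠ 0 := fun h0 => hne (Subtype.ext h0)
      obtain ⟨⟨z, hzW, hz⟩, -⟩ := hWnd x x.2 hne'
      exact hz (hx ⟨z, hzW⟩)
  have hcompl : IsCompl W (B.orthogonal W) :=
    LinearMap.BilinForm.isCompl_orthogonal_of_restrict_nondegenerate hBsymm.isRefl hres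
  have hLWp : ∀ x ∈ B.orthogonal W, L x ∈ B.orthogonal W := by
    intro x hx
    rw [LinearMap.BilinForm.mem_orthogonal_iff] at hx ⊢
    intro w hw
    rw [← hmapeq] at hw
    obtain ⟨w', hw', rfl⟩ := Submodule.mem_map.1 hw
    show B (L w') (L x) = 0
    rw [hBp, hLpol]
    exact hx w' hw'
  have hU : ∀ x ∈ W, Nn x ∈ W := by
    intro x hx
    rw [hNn, LinearMap.sub_apply, Module.End.one_apply]
    exact W.sub_mem (hLW x hx) hx
  have hW' : ∀ x ∈ B.orthogonal W, Nn x ∈ B.orthogonal W := by
    intro x hx
    rw [hNn, LinearMap.sub_apply, Module.End.one_apply]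
    exact Submodule.sub_mem _ (hLWp x hx) hx
  obtain ⟨ν, hν⟩ := exists_partition_of_isNilpotent (Nn.restrict hU)
    (isNilpotent_restrict _ hU hnil)
  obtain ⟨ρ, hρ⟩ := exists_partition_of_isNilpotent (Nn.restrict hW')
    (isNilpotent_restrict _ hW' hnil)
  have hμeq : μ = ν.parts + ρ.parts := by
    apply eq_of_nuOf_eq
    · exact hμ0
    · intro h0
      rw [Multiset.mem_add] at h0
      rcases h0 with h0 | h0
      · exact absurd (ν.parts_pos h0) (lt_irrefl 0)
      · exact absurd (ρ.parts_pos h0) (lt_irrefl 0)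
    · intro k
      rw [nuOf_add, hν, hρ, ← nu_of_isCompl Nn hcompl hU hW', nu_eq_nuOf Nn μ hk]
  refine ⟨ν.parts, ?_, ν.parts_sum, ?_, ?_⟩
  · rw [hμeq]
    exact Multiset.le_add_right _ _
  rotate_left
  · -- the rank of `Nn` on `W`
    have h1 := LinearMap.finrank_range_add_finrank_ker (Nn.restrict hU)
    have h3 : finrank F (LinearMap.ker (Nn.restrict hU)) = Multiset.card ν.parts := by
      have h4 : nu (Nn.restrict hU) 0 = Multiset.card ν.parts := by
        rw [← hν 0]
        unfold nuOf
        congr 1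
        apply Multiset.filter_eq_self.2
        intro a ha
        exact ν.parts_pos ha
      unfold nu kd at h4
      rw [pow_zero, zero_add, pow_one] at h4
      have h5 : finrank F (LinearMap.ker (1 : W →ₗ[F] W)) = 0 := by
        have : LinearMap.ker (1 : W →ₗ[F] W) = ⊥ := by
          rw [LinearMap.ker_eq_bot']
          intro v hv
          simpa using hv
        rw [this, finrank_bot]
      rw [h5, Nat.sub_zero] at h4
      exact h4
    have h6 : (LinearMap.range (Nn.restrict hU)).map W.subtype = W.map Nn := by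
      ext x
      constructor
      · rintro ⟨z, ⟨w, rfl⟩, rfl⟩
        exact ⟨w, w.2, rfl⟩
      · rintro ⟨w, hw, rfl⟩
        exact ⟨Nn.restrict hU ⟨w, hw⟩, ⟨⟨w, hw⟩, rfl⟩, rfl⟩
    have h7 : finrank F ↥(W.map Nn) = finrank F (LinearMap.range (Nn.restrict hU)) := by
      rw [← h6]
      exact Submodule.finrank_map_subtype_eq W _
    rw [h7, ← h3]
    exact h1
  · intro e he
    rcases Nat.eq_zero_or_pos e with rfl | hepos
    · rw [Multiset.count_eq_zero_of_notMem (fun h0 => absurd (ν.parts_pos h0) (lt_irrefl 0))]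
      exact Even.zero
    · have he2 : 2 ≤ e := by
        rcases he with ⟨t, ht⟩
        omega
      -- parity of the kernel dimensions on `W`
      set L' : W →ₗ[F] W := L.restrict hLW with hL'
      have hL'1 : L' - 1 = Nn.restrict hU := by
        apply LinearMap.ext
        intro w
        apply Subtype.ext
        rfl
      have hpar : ∀ k, Odd k → Even (finrank F W - kd (Nn.restrict hU) k) := by
        intro k hkodd
        rw [← hL'1]
        apply even_sub_kd_of_isometry h2 (B.restrict W)
        · intro a b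
          exact hBsymm.eq _ _
        · intro x hx
          exact hres.2 x hx
        · intro a b
          exact hLpol _ _
        · rw [hL'1]
          exact isNilpotent_restrict _ hU hnil
        · exact hkodd
      have hodd1 : Odd (e - 1) := by
        rcases he with ⟨t, ht⟩
        exact ⟨t - 1, by omega⟩
      have hodd2 : Odd (e + 1) := he.add_one
      obtain ⟨s, hs⟩ := hpar (e - 1) hodd1
      obtain ⟨t, ht⟩ := hpar (e + 1) hodd2
      have hc := nuOf_pred ν.parts e hepos
      rw [hν, hν] at hc
      unfold nu at hc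
      have e1 : e - 1 + 1 = e := by omega
      rw [e1] at hc
      have m1 := kd_le_succ (Nn.restrict hU) (e - 1)
      rw [e1] at m1
      have m2 := kd_le_succ (Nn.restrict hU) e
      have m3 := kd_le_finrank (Nn.restrict hU) (e + 1)
      exact ⟨kd (Nn.restrict hU) e + s + t - finrank F W, by omega⟩

end main

end Cfsg.Agent.Lib.Helper20.OU
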