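import Mathlib
import Cfsg.Agent.Lib.Helper20.OUOmega
import Cfsg.Agent.Lib.Helper15.OPlus1

/-!
# Orthogonal unipotent engine, part 6: the standard plus-type form

Every orthogonal Jordan type of total size `2d` occurs in `Ω⁺_{2d}` of the standard form
`Σ x_i y_i` (odd characteristic).
-/

set_option autoImplicit false

namespace Cfsg.Agent.Lib.Helper20.OU

open Module QuadraticMap Cfsg.Agent.Lib.Helper14 Cfsg.Agent.Lib.Helper14.JType
open Cfsg.Agent.Lib.Helper15 (plusQF plusQF_apply coe_plusQF)

universe u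
variable {F : Type u} [Field F]

theorem nondeg_of_nd {V : Type*} [AddCommGroup V] [Module F V] (Q : QuadraticForm F V)
    (h : ∀ x, (∀ y, polar Q x y = 0) → x = 0) : (polarBilin Q).Nondegenerate :=
  ⟨fun x hx => h x hx, fun y hy => h y (fun x => by rw [polar_comm]; exact hy x)⟩

theorem polar_plusQF (d : ℕ) (x y : Fin d ⊕ Fin d → F) :
    polar (plusQF d F) x y =
      ∑ i : Fin d, (x (Sum.inl i) * y (Sum.inr i) + y (Sum.inl i) * x (Sum.inr i)) := by
  unfold polar
  rw [plusQF_apply, plusQF_apply, plusQF_apply, ← Finset.sum_sub_distrib,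
    ← Finset.sum_sub_distrib]
  apply Finset.sum_congr rfl
  intro i _
  simp only [Pi.add_apply]
  ring

theorem plusQF_nd (d : ℕ) (x : Fin d ⊕ Fin d → F)
    (hx : ∀ y, polar (plusQF d F) x y = 0) : x = 0 := by
  classical
  funext j
  rcases j with i | i
  · have := hx (Pi.single (Sum.inr i) 1)
    rw [polar_plusQF] at this
    simpa [Pi.single_apply] using this
  · have := hx (Pi.single (Sum.inl i) 1)
    rw [polar_plusQF] at this
    simpa [Pi.single_apply] using this

theorem gram_plusQF (d : ℕ) (i j : Fin d ⊕ Fin d) :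
    polar (plusQF d F) (Pi.single i 1) (Pi.single j 1) =
      match i, j with
      | Sum.inl _, Sum.inl _ => 0
      | Sum.inl a, Sum.inr b => if a = b then 1 else 0
      | Sum.inr a, Sum.inl b => if a = b then 1 else 0
      | Sum.inr _, Sum.inr _ => 0 := by
  classical
  rw [polar_plusQF]
  rcases i with a | a <;> rcases j with b | b
  · simp [Pi.single_apply]
  · simp [Pi.single_apply, eq_comm]
  · simp [Pi.single_apply]
  · simp [Pi.single_apply]

/-- a space with a totally singular subspace of half the dimension is isometric to the standard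
plus-type space -/
theorem exists_isometry_plus {V : Type u} [AddCommGroup V] [Module F V] [FiniteDimensional F V]
    (h2 : (2 : F) ≠ 0) {Q : QuadraticForm F V} {N g : V →ₗ[F] V} {U : Submodule F V}
    {μ : Multiset ℕ} (h : Good Q N g U ⊥ μ) (d : ℕ) (hd : finrank F V = 2 * d) :
    ∃ T : V ≃ₗ[F] (Fin d ⊕ Fin d → F), ∀ v, plusQF d F (T v) = Q v := by
  classical
  have hU : finrank F U = d := by
    have := h.dim
    rw [finrank_bot, add_zero, hd] at this
    omega
  obtain ⟨e, f, -, hee, hff, hef, -⟩ := exists_hyperbolic_vectors h2 Q (nondeg_of_nd Q h.nd) U ⊥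
    h.ts h.perp h.disj d hU
  have hcard : finrank F V = Fintype.card (Fin d ⊕ Fin d) := by
    rw [hd, Fintype.card_sum, Fintype.card_fin]
    ring
  obtain ⟨φ, hφ⟩ := gram_isometry h2 (plusQF d F) (plusQF_nd d) Q hcard (Sum.elim e f) (by
    intro i j
    rw [gram_plusQF]
    rcases i with a | a <;> rcases j with b | b
    · exact hee a b
    · exact hef a b
    · show polar Q (f a) (e b) = _
      rw [polar_comm, hef]
      simp [eq_comm]
    · exact hff a b)
  refine ⟨φ.symm, ?_⟩
  intro v
  rw [← hφ, LinearEquiv.apply_symm_apply]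

/-- Every orthogonal Jordan type of size `2d` occurs in `Ω` of the standard plus form. -/
theorem exists_unipotent_plus (h2 : (2 : F) ≠ 0) (d : ℕ) (μ : Multiset ℕ)
    (hpos : ∀ e ∈ μ, 0 < e) (hev : ∀ e, Even e → Even (μ.count e)) (hsum : μ.sum = 2 * d) :
    ∃ y : Matrix.GeneralLinearGroup (Fin d ⊕ Fin d) F,
      y ∈ Cfsg.Geo.omegaGL (Cfsg.quadFormPlus d F) ∧
      ∀ k, kd (Matrix.toLin' (y : Matrix (Fin d ⊕ Fin d) (Fin d ⊕ Fin d) F) - 1) k =
        kappa μ k := by
  obtain ⟨V, i1, i2, i3, Q, N, g, U, hg⟩ := realPlus_of (F := F) h2 _ μ rfl hpos hev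
    (by rw [hsum]; exact even_two_mul d)
  have hd : finrank F V = 2 * d := by rw [hg.dimμ, hsum]
  obtain ⟨T, hT⟩ := exists_isometry_plus h2 hg d hd
  obtain ⟨y, hy, hk⟩ := exists_omega_of_good h2 hg (plusQF d F) T hT
  rw [coe_plusQF] at hy
  exact ⟨y, hy, hk⟩

end Cfsg.Agent.Lib.Helper20.OU
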