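import Mathlib
import Cfsg.Agent.Lib.Helper20.OUPlus

/-!
# Orthogonal unipotent engine, part 9: the standard odd-dimensional form

Every orthogonal Jordan type of total size `2d+1` occurs in `Ω_{2d+1}` of the standard form
`x₀² + Σ x_i y_i` (odd characteristic).
-/

set_option autoImplicit false

namespace Cfsg.Agent.Lib.Helper20.OU

open Module QuadraticMap Cfsg.Agent.Lib.Helper14 Cfsg.Agent.Lib.Helper14.JType

universe u
variable {F : Type u} [Field F]

/-- the standard odd-dimensional form as a quadratic form -/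
noncomputable def oddQF (d : ℕ) (F : Type u) [Field F] :
    QuadraticForm F (Unit ⊕ (Fin d ⊕ Fin d) → F) :=
  QuadraticMap.proj (R := F) (A := F) (Sum.inl ()) (Sum.inl ()) +
    ∑ i : Fin d, QuadraticMap.proj (R := F) (A := F) (Sum.inr (Sum.inl i)) (Sum.inr (Sum.inr i))

theorem oddQF_apply (d : ℕ) (v : Unit ⊕ (Fin d ⊕ Fin d) → F) :
    oddQF d F v = v (Sum.inl ()) * v (Sum.inl ()) +
      ∑ i : Fin d, v (Sum.inr (Sum.inl i)) * v (Sum.inr (Sum.inr i)) := by
  unfold oddQF
  rw [_root_.add_apply, _root_.sum_apply]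
  rfl

theorem coe_oddQF (d : ℕ) : ⇑(oddQF d F) = Cfsg.quadFormOdd d F := by
  funext v
  rw [oddQF_apply]
  unfold Cfsg.quadFormOdd
  rw [pow_two]

theorem polar_oddQF (d : ℕ) (x y : Unit ⊕ (Fin d ⊕ Fin d) → F) :
    polar (oddQF d F) x y = 2 * (x (Sum.inl ()) * y (Sum.inl ())) +
      ∑ i : Fin d, (x (Sum.inr (Sum.inl i)) * y (Sum.inr (Sum.inr i)) +
        y (Sum.inr (Sum.inl i)) * x (Sum.inr (Sum.inr i))) := by
  unfold polar
  rw [oddQF_apply, oddQF_apply, oddQF_apply]
  have h1 : ∀ (A B C a b c : F), A + a - (B + b) - (C + c) = (A - B - C) + (a - b - c) := by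
    intro A B C a b c
    ring
  rw [h1, ← Finset.sum_sub_distrib, ← Finset.sum_sub_distrib]
  congr 1
  · simp only [Pi.add_apply]
    ring
  · apply Finset.sum_congr rfl
    intro i _
    simp only [Pi.add_apply]
    ring

theorem oddQF_nd (h2 : (2 : F) ≠ 0) (d : ℕ) (x : Unit ⊕ (Fin d ⊕ Fin d) → F)
    (hx : ∀ y, polar (oddQF d F) x y = 0) : x = 0 := by
  classical
  funext j
  rcases j with ⟨⟩ | i | i
  · have := hx (Pi.single (Sum.inl ()) 1)
    rw [polar_oddQF] at this
    simp only [Pi.single_apply, reduceCtorEq, if_false, mul_zero, zero_mul, add_zero,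
      Finset.sum_const_zero, if_true, mul_one] at this
    rcases mul_eq_zero.1 this with h | h
    · exact absurd h h2
    · exact h
  · have := hx (Pi.single (Sum.inr (Sum.inr i)) 1)
    rw [polar_oddQF] at this
    simpa [Pi.single_apply] using this
  · have := hx (Pi.single (Sum.inr (Sum.inl i)) 1)
    rw [polar_oddQF] at this
    simpa [Pi.single_apply] using this

theorem gram_oddQF (d : ℕ) (i j : Unit ⊕ (Fin d ⊕ Fin d)) :
    polar (oddQF d F) (Pi.single i 1) (Pi.single j 1) =
      match i, j with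
      | Sum.inl _, Sum.inl _ => 2
      | Sum.inl _, Sum.inr _ => 0
      | Sum.inr _, Sum.inl _ => 0
      | Sum.inr (Sum.inl _), Sum.inr (Sum.inl _) => 0
      | Sum.inr (Sum.inl a), Sum.inr (Sum.inr b) => if a = b then 1 else 0
      | Sum.inr (Sum.inr a), Sum.inr (Sum.inl b) => if a = b then 1 else 0
      | Sum.inr (Sum.inr _), Sum.inr (Sum.inr _) => 0 := by
  classical
  rw [polar_oddQF]
  rcases i with ⟨⟩ | a | a <;> rcases j with ⟨⟩ | b | b
  · simp [Pi.single_apply]
  · simp [Pi.single_apply]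
  · simp [Pi.single_apply]
  · simp [Pi.single_apply]
  · simp [Pi.single_apply]
  · simp [Pi.single_apply, eq_comm]
  · simp [Pi.single_apply]
  · simp [Pi.single_apply]
  · simp [Pi.single_apply]

/-- a space `H^d ⟂ ⟨1⟩` is isometric to the standard odd-dimensional space -/
theorem exists_isometry_odd {V : Type u} [AddCommGroup V] [Module F V] [FiniteDimensional F V]
    (h2 : (2 : F) ≠ 0) {Q : QuadraticForm F V} {N g : V →ₗ[F] V} {U A : Submodule F V}
    {μ : Multiset ℕ} (h : Good Q N g U A μ) (w : V) (hwA : w ∈ A) (hw : Q w = 1)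
    (hA : finrank F A = 1) (d : ℕ) (hd : finrank F V = 2 * d + 1) :
    ∃ T : V ≃ₗ[F] (Unit ⊕ (Fin d ⊕ Fin d) → F), ∀ v, oddQF d F (T v) = Q v := by
  classical
  have hU : finrank F U = d := by
    have := h.dim
    rw [hA, hd] at this
    omega
  obtain ⟨e, f, heU, hee, hff, hef, hfA⟩ := exists_hyperbolic_vectors h2 Q
    (nondeg_of_nd Q h.nd) U A h.ts h.perp h.disj d hU
  have hcard : finrank F V = Fintype.card (Unit ⊕ (Fin d ⊕ Fin d)) := by
    rw [hd, Fintype.card_sum, Fintype.card_sum, Fintype.card_fin, Fintype.card_unit]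
    ring
  have hww : polar Q w w = 2 := by
    rw [polar_self, hw]
    simp
  obtain ⟨φ, hφ⟩ := gram_isometry h2 (oddQF d F) (oddQF_nd h2 d) Q hcard
    (Sum.elim (fun _ => w) (Sum.elim e f)) (by
    intro i j
    rw [gram_oddQF]
    rcases i with ⟨⟩ | a | a <;> rcases j with ⟨⟩ | b | b
    · exact hww
    · show polar Q w (e b) = 0
      rw [polar_comm]
      exact h.perp _ (heU b) w hwA
    · show polar Q w (f b) = 0
      rw [polar_comm]
      exact hfA b w hwA
    · exact h.perp _ (heU a) w hwA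
    · exact hee a b
    · exact hef a b
    · exact hfA a w hwA
    · show polar Q (f a) (e b) = _
      rw [polar_comm, hef]
      simp [eq_comm]
    · exact hff a b)
  refine ⟨φ.symm, ?_⟩
  intro v
  rw [← hφ, LinearEquiv.apply_symm_apply]

/-- `μ` is realised on a space `H^a ⟂ ⟨1⟩` -/
def RealOdd (F : Type u) [Field F] (μ : Multiset ℕ) : Prop :=
  ∃ (V : Type u) (_ : AddCommGroup V) (_ : Module F V) (_ : FiniteDimensional F V)
    (Q : QuadraticForm F V) (N g : V →ₗ[F] V) (U A : Submodule F V), Good Q N g U A μ ∧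
      finrank F A = 1 ∧ ∃ w ∈ A, Q w = 1

theorem even_sum_of_forall_even (s : Multiset ℕ) (h : ∀ b ∈ s, Even b) : Even s.sum := by
  induction s using Multiset.induction_on with
  | empty => simp
  | cons a s ih =>
    rw [Multiset.sum_cons]
    exact (h a (Multiset.mem_cons_self a s)).add
      (ih (fun b hb => h b (Multiset.mem_cons_of_mem hb)))

theorem realOdd_of (h2 : (2 : F) ≠ 0) (μ : Multiset ℕ) (hpos : ∀ e ∈ μ, 0 < e)
    (hev : ∀ e, Even e → Even (μ.count e)) (hsum : Odd μ.sum) : RealOdd F μ := by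
  -- there is an odd part
  have hodd : ∃ b ∈ μ, Odd b := by
    by_contra hno
    push Not at hno
    have : Even μ.sum :=
      even_sum_of_forall_even μ (fun b hb => Nat.not_odd_iff_even.1 (hno b hb))
    exact (Nat.not_even_iff_odd.2 hsum) this
  obtain ⟨b, hbμ, hbodd⟩ := hodd
  obtain ⟨μ', rfl⟩ := Multiset.exists_cons_of_mem hbμ
  obtain ⟨r, rfl⟩ := hbodd
  have hplus : RealPlus F μ' := by
    apply realPlus_of h2 _ μ' rfl
    · intro e he
      exact hpos e (Multiset.mem_cons_of_mem he)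
    · intro e he
      have := hev e he
      have hne : e ≠ 2 * r + 1 := by
        rintro rfl
        rcases he with ⟨t, ht⟩
        omega
      rwa [Multiset.count_cons_of_ne hne] at this
    · rw [Multiset.sum_cons] at hsum
      rcases hsum with ⟨t, ht⟩
      exact ⟨t - r, by omega⟩
  obtain ⟨V₂, j1, j2, j3, Q₂, N₂, g₂, U₂, hg₂⟩ := hplus
  have h1 := good_single h2 r (1 : F) one_ne_zero
  have h := h1.prod hg₂
  refine ⟨(Fin (2 * r + 1) → F) × V₂, inferInstance, inferInstance, inferInstance,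
    (Qsing F r 1).prod Q₂, (sh F (2 * r)).prodMap N₂, (sgn F (2 * r)).prodMap g₂,
    (LinearMap.range (sh F (2 * r) ^ (r + 1))).prod U₂,
    (Submodule.span F {midVec F r}).prod ⊥, ?_, ?_, ?_⟩
  · have e : ({2 * r + 1} : Multiset ℕ) + μ' = (2 * r + 1) ::ₘ μ' := Multiset.singleton_add _ _
    rw [← e]
    exact h
  · rw [finrank_prod_sub, finrank_bot, add_zero, finrank_span_singleton midVec_ne_zero]
  · refine ⟨(midVec F r, 0), ?_, ?_⟩
    · exact Submodule.mem_prod.2 ⟨Submodule.mem_span_singleton_self _, Submodule.zero_mem _⟩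
    · rw [QuadraticMap.prod_apply, Qsing_midVec, map_zero, add_zero]

/-- Every orthogonal Jordan type of size `2d+1` occurs in `Ω` of the standard odd form. -/
theorem exists_unipotent_odd (h2 : (2 : F) ≠ 0) (d : ℕ) (μ : Multiset ℕ)
    (hpos : ∀ e ∈ μ, 0 < e) (hev : ∀ e, Even e → Even (μ.count e)) (hsum : μ.sum = 2 * d + 1) :
    ∃ y : Matrix.GeneralLinearGroup (Unit ⊕ (Fin d ⊕ Fin d)) F,
      y ∈ Cfsg.Geo.omegaGL (Cfsg.quadFormOdd d F) ∧
      ∀ k, kd (Matrix.toLin'
        (y : Matrix (Unit ⊕ (Fin d ⊕ Fin d)) (Unit ⊕ (Fin d ⊕ Fin d)) F) - 1) k = kappa μ k := by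
  obtain ⟨V, i1, i2, i3, Q, N, g, U, A, hg, hA, w, hwA, hw⟩ := realOdd_of (F := F) h2 μ hpos hev
    (by rw [hsum]; exact ⟨d, rfl⟩)
  have hd : finrank F V = 2 * d + 1 := by rw [hg.dimμ, hsum]
  obtain ⟨T, hT⟩ := exists_isometry_odd h2 hg w hwA hw hA d hd
  obtain ⟨y, hy, hk⟩ := exists_omega_of_good h2 hg (oddQF d F) T hT
  rw [coe_oddQF] at hy
  exact ⟨y, hy, hk⟩

end Cfsg.Agent.Lib.Helper20.OU
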