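import Mathlib
import Cfsg.Agent.Lib.Helper20.OUOdd
import Cfsg.Agent.Lib.Helper16.UnitaryOrth

/-!
# Orthogonal unipotent engine, part 10: the standard minus-type form

Every orthogonal Jordan type of total size `2k+2` having an odd part occurs in `Ω⁻_{2k+2}` of the
standard form `Σ x_i y_i + z₁² + a z₁ z₂ + b z₂²` (odd characteristic).
-/

set_option autoImplicit false

namespace Cfsg.Agent.Lib.Helper20.OU

open Module QuadraticMap Cfsg.Agent.Lib.Helper14 Cfsg.Agent.Lib.Helper14.JType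

universe u
variable {F : Type u} [Field F]

/-- the standard minus-type form as a quadratic form -/
noncomputable def minusQF (k : ℕ) (F : Type u) [Field F] (a b : F) :
    QuadraticForm F ((Fin k ⊕ Fin k) ⊕ Fin 2 → F) :=
  (∑ i : Fin k, QuadraticMap.proj (R := F) (A := F) (Sum.inl (Sum.inl i)) (Sum.inl (Sum.inr i))) +
    (QuadraticMap.proj (R := F) (A := F) (Sum.inr 0) (Sum.inr 0) +
      a • QuadraticMap.proj (R := F) (A := F) (Sum.inr 0) (Sum.inr 1) +
      b • QuadraticMap.proj (R := F) (A := F) (Sum.inr 1) (Sum.inr 1))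

theorem minusQF_apply (k : ℕ) (a b : F) (v : (Fin k ⊕ Fin k) ⊕ Fin 2 → F) :
    minusQF k F a b v = (∑ i : Fin k, v (Sum.inl (Sum.inl i)) * v (Sum.inl (Sum.inr i))) +
      (v (Sum.inr 0) * v (Sum.inr 0) + a * (v (Sum.inr 0) * v (Sum.inr 1)) +
        b * (v (Sum.inr 1) * v (Sum.inr 1))) := by
  unfold minusQF
  rw [_root_.add_apply, _root_.sum_apply, _root_.add_apply, _root_.add_apply]
  rfl

theorem coe_minusQF (k : ℕ) (a b : F) : ⇑(minusQF k F a b) = Cfsg.quadFormMinus k F a b := by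
  funext v
  rw [minusQF_apply]
  unfold Cfsg.quadFormMinus
  ring

theorem polar_minusQF (k : ℕ) (a b : F) (x y : (Fin k ⊕ Fin k) ⊕ Fin 2 → F) :
    polar (minusQF k F a b) x y =
      (∑ i : Fin k, (x (Sum.inl (Sum.inl i)) * y (Sum.inl (Sum.inr i)) +
        y (Sum.inl (Sum.inl i)) * x (Sum.inl (Sum.inr i)))) +
      (2 * (x (Sum.inr 0) * y (Sum.inr 0)) +
        a * (x (Sum.inr 0) * y (Sum.inr 1) + y (Sum.inr 0) * x (Sum.inr 1)) +
        2 * b * (x (Sum.inr 1) * y (Sum.inr 1))) := by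
  unfold polar
  rw [minusQF_apply, minusQF_apply, minusQF_apply]
  have h1 : ∀ (A B C a b c : F), A + a - (B + b) - (C + c) = (A - B - C) + (a - b - c) := by
    intro A B C a b c
    ring
  rw [h1, ← Finset.sum_sub_distrib, ← Finset.sum_sub_distrib]
  congr 1
  · apply Finset.sum_congr rfl
    intro i _
    simp only [Pi.add_apply]
    ring
  · simp only [Pi.add_apply]
    ring

theorem minusQF_nd (h2 : (2 : F) ≠ 0) (k : ℕ) (a b : F)
    (hab : ∀ z₁ z₂ : F, z₁ ^ 2 + a * z₁ * z₂ + b * z₂ ^ 2 = 0 → z₁ = 0 ∧ z₂ = 0)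
    (x : (Fin k ⊕ Fin k) ⊕ Fin 2 → F)
    (hx : ∀ y, polar (minusQF k F a b) x y = 0) : x = 0 := by
  apply Cfsg.Agent.Lib.Helper16.quadFormMinus_nondeg k a b hab x
  intro y
  rw [← coe_minusQF]
  have h1 := hx y
  have h3 := hx x
  rw [polar_self] at h3
  have h4 : minusQF k F a b x = 0 := by
    have : (2 : F) * minusQF k F a b x = 0 := by
      rw [two_mul]
      rw [two_nsmul] at h3
      exact h3
    rcases mul_eq_zero.1 this with h | h
    · exact absurd h h2
    · exact h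
  unfold polar at h1
  rw [h4] at h1
  linear_combination h1

/-- the Gram matrix of the binary part -/
def gramBin (a b : F) (j j' : Fin 2) : F :=
  if j = 0 then (if j' = 0 then 2 else a) else (if j' = 0 then a else 2 * b)

theorem gram_minusQF (k : ℕ) (a b : F) (i j : (Fin k ⊕ Fin k) ⊕ Fin 2) :
    polar (minusQF k F a b) (Pi.single i 1) (Pi.single j 1) =
      match i, j with
      | Sum.inl (Sum.inl _), Sum.inl (Sum.inl _) => 0
      | Sum.inl (Sum.inl c), Sum.inl (Sum.inr c') => if c = c' then 1 else 0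
      | Sum.inl (Sum.inr c), Sum.inl (Sum.inl c') => if c = c' then 1 else 0
      | Sum.inl (Sum.inr _), Sum.inl (Sum.inr _) => 0
      | Sum.inl _, Sum.inr _ => 0
      | Sum.inr _, Sum.inl _ => 0
      | Sum.inr t, Sum.inr t' => gramBin a b t t' := by
  classical
  rw [polar_minusQF]
  rcases i with (c | c) | t <;> rcases j with (c' | c') | t'
  · simp [Pi.single_apply]
  · simp [Pi.single_apply, eq_comm]
  · simp [Pi.single_apply]
  · simp [Pi.single_apply]
  · simp [Pi.single_apply]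
  · simp [Pi.single_apply]
  · simp [Pi.single_apply]
  · simp [Pi.single_apply]
  · fin_cases t <;> fin_cases t' <;> simp [Pi.single_apply, gramBin]

/-- a space `H^k ⟂ ⟨1⟩ ⟂ ⟨b - a²/4⟩` is isometric to the standard minus-type space -/
theorem exists_isometry_minus {V : Type u} [AddCommGroup V] [Module F V] [FiniteDimensional F V]
    (h2 : (2 : F) ≠ 0) (a b : F)
    (hab : ∀ z₁ z₂ : F, z₁ ^ 2 + a * z₁ * z₂ + b * z₂ ^ 2 = 0 → z₁ = 0 ∧ z₂ = 0)
    {Q : QuadraticForm F V} {N g : V →ₗ[F] V} {U A : Submodule F V}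
    {μ : Multiset ℕ} (h : Good Q N g U A μ) (w₁ w₂ : V) (hw₁A : w₁ ∈ A) (hw₂A : w₂ ∈ A)
    (hw₁ : Q w₁ = 1) (hw₂ : Q w₂ = b - a ^ 2 / 4) (hw₁₂ : polar Q w₁ w₂ = 0)
    (hA : finrank F A = 2) (k : ℕ) (hd : finrank F V = 2 * k + 2) :
    ∃ T : V ≃ₗ[F] ((Fin k ⊕ Fin k) ⊕ Fin 2 → F), ∀ v, minusQF k F a b (T v) = Q v := by
  classical
  have hU : finrank F U = k := by
    have := h.dim
    rw [hA, hd] at this
    omega
  obtain ⟨e, f, heU, hee, hff, hef, hfA⟩ := exists_hyperbolic_vectors h2 Q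
    (nondeg_of_nd Q h.nd) U A h.ts h.perp h.disj k hU
  have hcard : finrank F V = Fintype.card ((Fin k ⊕ Fin k) ⊕ Fin 2) := by
    rw [hd, Fintype.card_sum, Fintype.card_sum, Fintype.card_fin, Fintype.card_fin]
    ring
  have h4 : (4 : F) ≠ 0 := by
    have : (4 : F) = 2 * 2 := by norm_num
    rw [this]
    exact mul_ne_zero h2 h2
  obtain ⟨c, hc⟩ : ∃ c : F, a = 2 * c := ⟨a / 2, (mul_div_cancel₀ a h2).symm⟩
  have hγc : b - a ^ 2 / 4 = b - c ^ 2 := by
    congr 1
    rw [hc, div_eq_iff h4]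
    ring
  rw [hγc] at hw₂
  obtain ⟨wf, hwf⟩ : ∃ wf : Fin 2 → V, ∀ j, wf j = if j = 0 then w₁ else c • w₁ + w₂ :=
    ⟨_, fun _ => rfl⟩
  have hwfA : ∀ j, wf j ∈ A := by
    intro j
    rw [hwf]
    split_ifs
    · exact hw₁A
    · exact A.add_mem (A.smul_mem _ hw₁A) hw₂A
  have hw11 : polar Q w₁ w₁ = 2 := by
    rw [polar_self, hw₁]
    simp
  have hw22 : polar Q w₂ w₂ = 2 * (b - c ^ 2) := by
    rw [polar_self, hw₂]
    simp [two_mul]
  have hgramw : ∀ j j', polar Q (wf j) (wf j') = gramBin a b j j' := by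
    intro j j'
    rw [hwf, hwf]
    unfold gramBin
    have hw21 : polar Q w₂ w₁ = 0 := by rw [polar_comm]; exact hw₁₂
    fin_cases j <;> fin_cases j'
    · simp only [Fin.zero_eta, if_true]
      exact hw11
    · simp only [Fin.zero_eta, Fin.mk_one, if_true, one_ne_zero, if_false]
      rw [polar_add_right, polar_smul_right, hw11, hw₁₂, hc, smul_eq_mul]
      ring
    · simp only [Fin.zero_eta, Fin.mk_one, if_true, one_ne_zero, if_false]
      rw [polar_add_left, polar_smul_left, hw11, hw21, hc, smul_eq_mul]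
      ring
    · simp only [Fin.mk_one, one_ne_zero, if_false]
      rw [polar_add_left, polar_add_right, polar_add_right, polar_smul_left, polar_smul_left,
        polar_smul_right, polar_smul_right, hw11, hw22, hw₁₂, hw21]
      simp only [smul_eq_mul]
      ring
  obtain ⟨φ, hφ⟩ := gram_isometry h2 (minusQF k F a b) (minusQF_nd h2 k a b hab) Q hcard
    (Sum.elim (Sum.elim e f) wf) (by
    intro i j
    rw [gram_minusQF]
    rcases i with (c | c) | t <;> rcases j with (c' | c') | t'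
    · exact hee c c'
    · exact hef c c'
    · exact h.perp _ (heU c) _ (hwfA t')
    · show polar Q (f c) (e c') = _
      rw [polar_comm, hef]
      simp [eq_comm]
    · exact hff c c'
    · exact hfA c _ (hwfA t')
    · show polar Q (wf t) (e c') = 0
      rw [polar_comm]
      exact h.perp _ (heU c') _ (hwfA t)
    · show polar Q (wf t) (f c') = 0
      rw [polar_comm]
      exact hfA c' _ (hwfA t)
    · exact hgramw t t')
  refine ⟨φ.symm, ?_⟩
  intro v
  rw [← hφ, LinearEquiv.apply_symm_apply]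

/-- `μ` is realised on a space `H^a ⟂ ⟨1⟩ ⟂ ⟨γ⟩` -/
def RealMinus (F : Type u) [Field F] (γ : F) (μ : Multiset ℕ) : Prop :=
  ∃ (V : Type u) (_ : AddCommGroup V) (_ : Module F V) (_ : FiniteDimensional F V)
    (Q : QuadraticForm F V) (N g : V →ₗ[F] V) (U A : Submodule F V), Good Q N g U A μ ∧
      finrank F A = 2 ∧ ∃ w₁ ∈ A, ∃ w₂ ∈ A, Q w₁ = 1 ∧ Q w₂ = γ ∧ polar Q w₁ w₂ = 0

theorem realMinus_of (h2 : (2 : F) ≠ 0) (γ : F) (hγ : γ ≠ 0) (μ : Multiset ℕ)
    (hpos : ∀ e ∈ μ, 0 < e) (hev : ∀ e, Even e → Even (μ.count e)) (hsum : Even μ.sum)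
    (hodd : ∃ b ∈ μ, Odd b) : RealMinus F γ μ := by
  obtain ⟨b, hbμ, hbodd⟩ := hodd
  obtain ⟨μ', rfl⟩ := Multiset.exists_cons_of_mem hbμ
  have hsum' : Odd μ'.sum := by
    rw [Multiset.sum_cons] at hsum
    rcases hsum with ⟨t, ht⟩
    rcases hbodd with ⟨s, hs⟩
    exact ⟨t - s - 1, by omega⟩
  have hodd' : ∃ b' ∈ μ', Odd b' := by
    by_contra hno
    push Not at hno
    have : Even μ'.sum :=
      even_sum_of_forall_even μ' (fun b hb => Nat.not_odd_iff_even.1 (hno b hb))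
    exact (Nat.not_even_iff_odd.2 hsum') this
  obtain ⟨b', hb'μ, hb'odd⟩ := hodd'
  obtain ⟨μ'', rfl⟩ := Multiset.exists_cons_of_mem hb'μ
  obtain ⟨r, rfl⟩ := hbodd
  obtain ⟨r', rfl⟩ := hb'odd
  have hplus : RealPlus F μ'' := by
    apply realPlus_of h2 _ μ'' rfl
    · intro e he
      exact hpos e (Multiset.mem_cons_of_mem (Multiset.mem_cons_of_mem he))
    · intro e he
      have := hev e he
      have hne : e ≠ 2 * r + 1 := by
        rintro rfl
        rcases he with ⟨t, ht⟩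
        omega
      have hne' : e ≠ 2 * r' + 1 := by
        rintro rfl
        rcases he with ⟨t, ht⟩
        omega
      rwa [Multiset.count_cons_of_ne hne, Multiset.count_cons_of_ne hne'] at this
    · rw [Multiset.sum_cons] at hsum'
      rcases hsum' with ⟨t, ht⟩
      exact ⟨t - r', by omega⟩
  obtain ⟨V₂, j1, j2, j3, Q₂, N₂, g₂, U₂, hg₂⟩ := hplus
  have h1 := good_single h2 r (1 : F) one_ne_zero
  have h1' := good_single h2 r' γ hγ
  have h := h1.prod (h1'.prod hg₂)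
  refine ⟨(Fin (2 * r + 1) → F) × ((Fin (2 * r' + 1) → F) × V₂), inferInstance, inferInstance,
    inferInstance, (Qsing F r 1).prod ((Qsing F r' γ).prod Q₂),
    (sh F (2 * r)).prodMap ((sh F (2 * r')).prodMap N₂),
    (sgn F (2 * r)).prodMap ((sgn F (2 * r')).prodMap g₂),
    (LinearMap.range (sh F (2 * r) ^ (r + 1))).prod
      ((LinearMap.range (sh F (2 * r') ^ (r' + 1))).prod U₂),
    (Submodule.span F {midVec F r}).prod ((Submodule.span F {midVec F r'}).prod ⊥), ?_, ?_, ?_⟩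
  · have e : ({2 * r + 1} : Multiset ℕ) + (({2 * r' + 1} : Multiset ℕ) + μ'') =
        (2 * r + 1) ::ₘ (2 * r' + 1) ::ₘ μ'' := by
      rw [Multiset.singleton_add, Multiset.singleton_add]
    rw [← e]
    exact h
  · rw [finrank_prod_sub, finrank_prod_sub, finrank_bot, add_zero,
      finrank_span_singleton midVec_ne_zero, finrank_span_singleton midVec_ne_zero]
  · refine ⟨(midVec F r, 0), ?_, (0, (midVec F r', 0)), ?_, ?_, ?_, ?_⟩
    · exact Submodule.mem_prod.2 ⟨Submodule.mem_span_singleton_self _, Submodule.zero_mem _⟩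
    · exact Submodule.mem_prod.2 ⟨Submodule.zero_mem _,
        Submodule.mem_prod.2 ⟨Submodule.mem_span_singleton_self _, Submodule.zero_mem _⟩⟩
    · rw [QuadraticMap.prod_apply, Qsing_midVec, map_zero, add_zero]
    · rw [QuadraticMap.prod_apply, QuadraticMap.prod_apply, Qsing_midVec, map_zero, map_zero,
        add_zero, zero_add]
    · rw [polar_prod]
      simp [polar]

/-- Every orthogonal Jordan type of size `2k+2` with an odd part occurs in `Ω` of the standard
minus form. -/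
theorem exists_unipotent_minus (h2 : (2 : F) ≠ 0) (a b : F)
    (hab : ∀ z₁ z₂ : F, z₁ ^ 2 + a * z₁ * z₂ + b * z₂ ^ 2 = 0 → z₁ = 0 ∧ z₂ = 0)
    (k : ℕ) (μ : Multiset ℕ)
    (hpos : ∀ e ∈ μ, 0 < e) (hev : ∀ e, Even e → Even (μ.count e)) (hsum : μ.sum = 2 * k + 2)
    (hodd : ∃ b ∈ μ, Odd b) :
    ∃ y : Matrix.GeneralLinearGroup ((Fin k ⊕ Fin k) ⊕ Fin 2) F,
      y ∈ Cfsg.Geo.omegaGL (Cfsg.quadFormMinus k F a b) ∧
      ∀ j, kd (Matrix.toLin'
        (y : Matrix ((Fin k ⊕ Fin k) ⊕ Fin 2) ((Fin k ⊕ Fin k) ⊕ Fin 2) F) - 1) j = kappa μ j := by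
  have h4 : (4 : F) ≠ 0 := by
    have : (4 : F) = 2 * 2 := by norm_num
    rw [this]
    exact mul_ne_zero h2 h2
  have hγ : b - a ^ 2 / 4 ≠ 0 := by
    intro h0
    have := hab (-(a / 2)) 1 (by
      have : b = a ^ 2 / 4 := sub_eq_zero.1 h0
      rw [this]
      field_simp
      ring)
    exact one_ne_zero this.2
  obtain ⟨V, i1, i2, i3, Q, N, g, U, A, hg, hA, w₁, hw₁A, w₂, hw₂A, hw₁, hw₂, hw₁₂⟩ :=
    realMinus_of (F := F) h2 (b - a ^ 2 / 4) hγ μ hpos hev
      (by rw [hsum]; exact ⟨k + 1, by ring⟩) hodd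
  have hd : finrank F V = 2 * k + 2 := by rw [hg.dimμ, hsum]
  obtain ⟨T, hT⟩ := exists_isometry_minus h2 a b hab hg w₁ w₂ hw₁A hw₂A hw₁ hw₂ hw₁₂ hA k hd
  obtain ⟨y, hy, hk⟩ := exists_omega_of_good h2 hg (minusQF k F a b) T hT
  rw [coe_minusQF] at hy
  exact ⟨y, hy, hk⟩

end Cfsg.Agent.Lib.Helper20.OU
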