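import Mathlib
import Cfsg.Agent.Lib.Helper20.OUPlus
import Cfsg.Agent.Lib.Helper20.OUChar

/-!
# Unipotent elements of `Ω⁺_{2d}(q)`, `q` odd, fixing no nondegenerate subspace of a given odd
dimension
-/

set_option autoImplicit false
set_option linter.unusedSectionVars false
set_option linter.style.haveILetI false

namespace Cfsg.Agent.Lib.Helper20.OddC

open Module

universe u

variable {F : Type u} [Field F] [Fintype F]

/-- A unipotent element of `Ω⁺_{2d}(q)` of prescribed Jordan type `μ`, together with the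
restriction on its invariant nondegenerate subspaces. -/
theorem exists_unip_plus (h2 : (2 : F) ≠ 0) (p : ℕ) [Fact p.Prime] [CharP F p] (d : ℕ)
    (hd : 1 ≤ d)
    (μ : Multiset ℕ) (hμ : ∀ e ∈ μ, 0 < e ∧ e ≤ p) (hμev : ∀ e : ℕ, Even e → Even (μ.count e))
    (hsum : μ.sum = 2 * d) (hbig : ∃ b ∈ μ, 1 < b) :
    ∃ y : Matrix.GeneralLinearGroup (Fin d ⊕ Fin d) F,
      y ∈ Cfsg.Geo.omegaGL (Cfsg.quadFormPlus d F) ∧ y ^ p = 1 ∧
      (∀ z : F, (y : Matrix (Fin d ⊕ Fin d) (Fin d ⊕ Fin d) F) ≠
        z • (1 : Matrix (Fin d ⊕ Fin d) (Fin d ⊕ Fin d) F)) ∧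
      ∀ W : Submodule F (Fin d ⊕ Fin d → F),
        Cfsg.Geo.IsNondegenerateOn (QuadraticMap.polar (Cfsg.quadFormPlus d F)) W →
        W.map (Matrix.toLin' (y : Matrix (Fin d ⊕ Fin d) (Fin d ⊕ Fin d) F)) ≤ W →
        ∃ ν : Multiset ℕ, ν ≤ μ ∧ ν.sum = finrank F W ∧ ∀ e : ℕ, Even e → Even (ν.count e) := by
  classical
  obtain ⟨b₀, hb₀, hb₀1⟩ := hbig
  obtain ⟨y, hyΩ, hk⟩ := Cfsg.Agent.Lib.Helper20.OU.exists_unipotent_plus h2 d μ
    (fun e he => (hμ e he).1) hμev hsum
  have hne : Nonempty (Fin d ⊕ Fin d) := ⟨Sum.inl ⟨0, by omega⟩⟩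
  have hfin : Module.finrank F (Fin d ⊕ Fin d → F) = μ.sum := by
    rw [hsum, Module.finrank_fintype_fun_eq_card, Fintype.card_sum, Fintype.card_fin]
    ring
  have hNp : (Matrix.toLin' (y : Matrix (Fin d ⊕ Fin d) (Fin d ⊕ Fin d) F) - 1) ^ p = 0 :=
    Cfsg.Agent.Lib.Helper20.OU.pow_eq_zero_of_kd _ μ hfin hk p (fun b hb => (hμ b hb).2)
  have hyp : y ^ p = 1 := Cfsg.Agent.Lib.Helper20.OU.pow_char_eq_one p y hNp
  have hns := Cfsg.Agent.Lib.Helper20.OU.not_scalar_of_kd y μ hk ⟨p, hNp⟩ ⟨b₀, hb₀, hb₀1⟩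
  refine ⟨y, hyΩ, hyp, hns, ?_⟩
  intro W hWnd hWinv
  have hyiso : y ∈ Cfsg.isometryGroup F ⇑(Cfsg.Agent.Lib.Helper15.plusQF d F) := by
    rw [Cfsg.Agent.Lib.Helper15.coe_plusQF]
    obtain ⟨x, -, rfl⟩ := Subgroup.mem_map.1 hyΩ
    exact x.2
  have hcard : μ.sum = Fintype.card (Fin d ⊕ Fin d) := by
    rw [hsum, Fintype.card_sum, Fintype.card_fin]
    ring
  have hμ0 : (0 : ℕ) ∉ μ := fun h0 => absurd (hμ 0 h0).1 (lt_irrefl 0)
  exact Cfsg.Agent.Lib.Helper20.OU.exists_sub_partition h2
    (Cfsg.Agent.Lib.Helper15.plusQF d F) y hyiso μ hμ0 hcard hk W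
    (by rw [Cfsg.Agent.Lib.Helper15.coe_plusQF]; exact hWnd) hWinv

/-- the sum of a multiset with entries in `{1, 2, 3}` -/
theorem sum_eq_of_mem_123 (ν : Multiset ℕ) (h : ∀ e ∈ ν, e = 1 ∨ e = 2 ∨ e = 3) :
    ν.sum = ν.count 1 + 2 * ν.count 2 + 3 * ν.count 3 := by
  induction ν using Multiset.induction_on with
  | empty => simp
  | cons a s ih =>
    have h' : ∀ e ∈ s, e = 1 ∨ e = 2 ∨ e = 3 := fun e he => h e (Multiset.mem_cons_of_mem he)
    rw [Multiset.sum_cons, ih h']
    rcases h a (Multiset.mem_cons_self a s) with rfl | rfl | rfl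
    · simp only [Multiset.count_cons_self]
      rw [Multiset.count_cons_of_ne (by norm_num), Multiset.count_cons_of_ne (by norm_num)]
      ring
    · simp only [Multiset.count_cons_self]
      rw [Multiset.count_cons_of_ne (by norm_num), Multiset.count_cons_of_ne (by norm_num)]
      ring
    · simp only [Multiset.count_cons_self]
      rw [Multiset.count_cons_of_ne (by norm_num), Multiset.count_cons_of_ne (by norm_num)]
      ring

/-- **`r = p` odd, odd `m`**: an element of order `p` of `Ω⁺_{2d}(q)` fixing no nondegenerate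
`m`-space. -/
theorem exists_derangement_p_odd (h2 : (2 : F) ≠ 0) (p : ℕ) [hp : Fact p.Prime] [CharP F p]
    (d : ℕ) (hd : 4 ≤ d) (m : ℕ) (hm : Odd m) :
    ∃ y : Matrix.GeneralLinearGroup (Fin d ⊕ Fin d) F,
      y ∈ Cfsg.Geo.omegaGL (Cfsg.quadFormPlus d F) ∧ y ^ p = 1 ∧
      (∀ z : F, (y : Matrix (Fin d ⊕ Fin d) (Fin d ⊕ Fin d) F) ≠
        z • (1 : Matrix (Fin d ⊕ Fin d) (Fin d ⊕ Fin d) F)) ∧
      ∀ W : Submodule F (Fin d ⊕ Fin d → F), finrank F W = m →
        Cfsg.Geo.IsNondegenerateOn (QuadraticMap.polar (Cfsg.quadFormPlus d F)) W →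
        ¬ W.map (Matrix.toLin' (y : Matrix (Fin d ⊕ Fin d) (Fin d ⊕ Fin d) F)) ≤ W := by
  classical
  have hp3 : 3 ≤ p := by
    have h2le := hp.out.two_le
    rcases Nat.lt_or_ge 2 p with h | h
    · exact h
    · exfalso
      have hp2 : p = 2 := by omega
      apply h2
      have h1 : ((2 : ℕ) : F) = 0 := by
        rw [CharP.cast_eq_zero_iff F p 2, hp2]
      rw [Nat.cast_ofNat] at h1
      exact h1
  -- the three Jordan types
  have key : ∀ μ : Multiset ℕ, (∀ e ∈ μ, e = 1 ∨ e = 2 ∨ e = 3) →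
      (∀ e : ℕ, Even e → Even (μ.count e)) → μ.sum = 2 * d → (∃ b ∈ μ, 1 < b) →
      (∀ ν : Multiset ℕ, ν ≤ μ → (∀ e : ℕ, Even e → Even (ν.count e)) → ν.sum ≠ m) →
      ∃ y : Matrix.GeneralLinearGroup (Fin d ⊕ Fin d) F,
      y ∈ Cfsg.Geo.omegaGL (Cfsg.quadFormPlus d F) ∧ y ^ p = 1 ∧
      (∀ z : F, (y : Matrix (Fin d ⊕ Fin d) (Fin d ⊕ Fin d) F) ≠
        z • (1 : Matrix (Fin d ⊕ Fin d) (Fin d ⊕ Fin d) F)) ∧
      ∀ W : Submodule F (Fin d ⊕ Fin d → F), finrank F W = m →
        Cfsg.Geo.IsNondegenerateOn (QuadraticMap.polar (Cfsg.quadFormPlus d F)) W →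
        ¬ W.map (Matrix.toLin' (y : Matrix (Fin d ⊕ Fin d) (Fin d ⊕ Fin d) F)) ≤ W := by
    intro μ hμ hμev hsum hbig hno
    obtain ⟨y, hyΩ, hyp, hns, hsub⟩ := exists_unip_plus h2 p d (by omega) μ
      (fun e he => by rcases hμ e he with rfl | rfl | rfl <;> omega) hμev hsum hbig
    refine ⟨y, hyΩ, hyp, hns, ?_⟩
    intro W hWf hWn hWinv
    obtain ⟨ν, hνμ, hνsum, hνev⟩ := hsub W hWn hWinv
    exact hno ν hνμ hνev (by rw [hνsum, hWf])
  obtain ⟨a, ha⟩ := hm
  rcases Nat.even_or_odd d with hde | hdo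
  · -- `d` even: Jordan type `(2^d)`
    refine key (Multiset.replicate d 2) ?_ ?_ ?_ ?_ ?_
    · intro e he
      rw [Multiset.eq_of_mem_replicate he]
      exact Or.inr (Or.inl rfl)
    · intro e _
      rw [Multiset.count_replicate]
      split_ifs
      · exact hde
      · exact Even.zero
    · rw [Multiset.sum_replicate, smul_eq_mul, mul_comm]
    · exact ⟨2, Multiset.mem_replicate.mpr ⟨by omega, rfl⟩, by norm_num⟩
    · intro ν hν _ hsumν
      obtain ⟨k, -, rfl⟩ := Multiset.le_replicate_iff.mp hν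
      rw [Multiset.sum_replicate, smul_eq_mul] at hsumν
      omega
  · obtain ⟨d', hd'⟩ := hdo
    rcases Nat.even_or_odd a with hae | hao
    · -- `m ≡ 1 (mod 4)`: Jordan type `(3, 3, 2^(d-3))`
      refine key (Multiset.replicate (d - 3) 2 + Multiset.replicate 2 3) ?_ ?_ ?_ ?_ ?_
      · intro e he
        rcases Multiset.mem_add.mp he with h | h
        · rw [Multiset.eq_of_mem_replicate h]
          exact Or.inr (Or.inl rfl)
        · rw [Multiset.eq_of_mem_replicate h]
          exact Or.inr (Or.inr rfl)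
      · intro e he
        rw [Multiset.count_add, Multiset.count_replicate, Multiset.count_replicate]
        have he3 : (3 : ℕ) ≠ e := by
          rintro rfl
          exact absurd he (by decide)
        rw [if_neg he3, add_zero]
        split_ifs
        · exact ⟨d' - 1, by omega⟩
        · exact Even.zero
      · rw [Multiset.sum_add, Multiset.sum_replicate, Multiset.sum_replicate, smul_eq_mul,
          smul_eq_mul]
        omega
      · exact ⟨3, Multiset.mem_add.mpr (Or.inr (Multiset.mem_replicate.mpr ⟨by norm_num, rfl⟩)),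
          by norm_num⟩
      · intro ν hν hνev hsumν
        have hmem : ∀ e ∈ ν, e = 1 ∨ e = 2 ∨ e = 3 := by
          intro e he
          rcases Multiset.mem_add.mp (Multiset.mem_of_le hν he) with h | h
          · rw [Multiset.eq_of_mem_replicate h]
            exact Or.inr (Or.inl rfl)
          · rw [Multiset.eq_of_mem_replicate h]
            exact Or.inr (Or.inr rfl)
        have hs := sum_eq_of_mem_123 ν hmem
        have h1 : ν.count 1 = 0 := by
          have := Multiset.count_le_of_le 1 hν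
          rw [Multiset.count_add, Multiset.count_replicate, Multiset.count_replicate,
            if_neg (by norm_num), if_neg (by norm_num)] at this
          omega
        have h3 : ν.count 3 ≤ 2 := by
          have := Multiset.count_le_of_le 3 hν
          rw [Multiset.count_add, Multiset.count_replicate, Multiset.count_replicate,
            if_neg (by norm_num), if_pos rfl] at this
          omega
        obtain ⟨k, hk⟩ := hνev 2 even_two
        obtain ⟨a', ha'⟩ := hae
        omega
    · -- `m ≡ 3 (mod 4)`: Jordan type `(2^(d-1), 1, 1)`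
      refine key (Multiset.replicate (d - 1) 2 + Multiset.replicate 2 1) ?_ ?_ ?_ ?_ ?_
      · intro e he
        rcases Multiset.mem_add.mp he with h | h
        · rw [Multiset.eq_of_mem_replicate h]
          exact Or.inr (Or.inl rfl)
        · rw [Multiset.eq_of_mem_replicate h]
          exact Or.inl rfl
      · intro e he
        rw [Multiset.count_add, Multiset.count_replicate, Multiset.count_replicate]
        have he1 : (1 : ℕ) ≠ e := by
          rintro rfl
          exact absurd he (by decide)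
        rw [if_neg he1, add_zero]
        split_ifs
        · exact ⟨d', by omega⟩
        · exact Even.zero
      · rw [Multiset.sum_add, Multiset.sum_replicate, Multiset.sum_replicate, smul_eq_mul,
          smul_eq_mul]
        omega
      · exact ⟨2, Multiset.mem_add.mpr (Or.inl (Multiset.mem_replicate.mpr ⟨by omega, rfl⟩)),
          by norm_num⟩
      · intro ν hν hνev hsumν
        have hmem : ∀ e ∈ ν, e = 1 ∨ e = 2 ∨ e = 3 := by
          intro e he
          rcases Multiset.mem_add.mp (Multiset.mem_of_le hν he) with h | h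
          · rw [Multiset.eq_of_mem_replicate h]
            exact Or.inr (Or.inl rfl)
          · rw [Multiset.eq_of_mem_replicate h]
            exact Or.inl rfl
        have hs := sum_eq_of_mem_123 ν hmem
        have h3 : ν.count 3 = 0 := by
          have := Multiset.count_le_of_le 3 hν
          rw [Multiset.count_add, Multiset.count_replicate, Multiset.count_replicate,
            if_neg (by norm_num), if_neg (by norm_num)] at this
          omega
        have h1 : ν.count 1 ≤ 2 := by
          have := Multiset.count_le_of_le 1 hν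
          rw [Multiset.count_add, Multiset.count_replicate, Multiset.count_replicate,
            if_neg (by norm_num), if_pos rfl] at this
          omega
        obtain ⟨k, hk⟩ := hνev 2 even_two
        obtain ⟨a', ha'⟩ := hao
        omega

end Cfsg.Agent.Lib.Helper20.OddC
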