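import Mathlib
import Cfsg.Agent.Lib.Helper14.OrthEven1

/-!
# Value distributions of odd-dimensional quadratic spaces over a finite field of odd order

`HasOdd Q a η` : the number of points with `Q = c` is `q^(2a) + η·χ(c)·q^a`, `χ` the quadratic
character.  This is the value distribution of a nondegenerate form of dimension `2a+1`; `η = ±1`
records its isometry class.
-/

set_option autoImplicit false

namespace Cfsg.Agent.Lib.Helper20.OddC

open Cfsg.Agent.Lib.Helper14.OrthEven

universe v

section basic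

variable {F : Type v} [Field F] [Fintype F]

open scoped Classical in
/-- the quadratic character, with classical decidability -/
noncomputable def chi (c : F) : ℤ := quadraticChar F c

open scoped Classical in
/-- the value distribution of a nondegenerate form of dimension `2a+1` and class `η` -/
def HasOdd {V : Type*} (Q : V → F) (a : ℕ) (η : ℤ) : Prop :=
  ∀ c : F, cnt Q c = (Fintype.card F : ℤ) ^ (2 * a) + η * chi c * (Fintype.card F : ℤ) ^ a

theorem chi_zero : chi (0 : F) = 0 := by
  classical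
  unfold chi
  exact quadraticChar_zero

theorem chi_one : chi (1 : F) = 1 := by
  classical
  unfold chi
  exact map_one _

theorem chi_mul (a b : F) : chi (a * b) = chi a * chi b := by
  classical
  unfold chi
  exact map_mul _ a b

theorem chi_sq_mul (u c : F) (hu : u ≠ 0) : chi (u * u * c) = chi c := by
  classical
  rw [chi_mul, chi_mul]
  have h := quadraticChar_dichotomy (F := F) hu
  unfold chi
  rcases h with h | h <;> rw [h] <;> ring

theorem chi_cases {c : F} (hc : c ≠ 0) : chi c = 1 ∨ chi c = -1 := by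
  classical
  unfold chi
  exact quadraticChar_dichotomy hc

theorem chi_mul_self {c : F} (hc : c ≠ 0) : chi c * chi c = 1 := by
  rcases chi_cases hc with h | h <;> rw [h] <;> ring

theorem chi_inv {c : F} (hc : c ≠ 0) : chi c⁻¹ = chi c := by
  have h1 : chi (c⁻¹ * c) = 1 := by rw [inv_mul_cancel₀ hc, chi_one]
  rw [chi_mul] at h1
  have h2 := chi_mul_self hc
  calc chi c⁻¹ = chi c⁻¹ * (chi c * chi c) := by rw [h2, mul_one]
    _ = (chi c⁻¹ * chi c) * chi c := by ring
    _ = chi c := by rw [h1, one_mul]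

theorem chi_eq_one_iff {c : F} (hc : c ≠ 0) : chi c = 1 ↔ IsSquare c := by
  classical
  unfold chi
  exact quadraticChar_one_iff_isSquare hc

theorem chi_sum (h2 : (2 : F) ≠ 0) : ∑ c : F, chi c = 0 := by
  classical
  unfold chi
  apply quadraticChar_sum_zero
  intro h
  apply h2
  have : ((2 : ℕ) : F) = 0 := by
    rw [← h]
    exact ringChar.Nat.cast_ringChar
  exact_mod_cast this

theorem exists_chi_eq (h2 : (2 : F) ≠ 0) (η : ℤ) (hη : η = 1 ∨ η = -1) :
    ∃ c : F, c ≠ 0 ∧ chi c = η := by
  classical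
  rcases hη with rfl | rfl
  · exact ⟨1, one_ne_zero, chi_one⟩
  · have hF : ringChar F ≠ 2 := by
      intro h
      apply h2
      have : ((2 : ℕ) : F) = 0 := by
        rw [← h]
        exact ringChar.Nat.cast_ringChar
      exact_mod_cast this
    obtain ⟨a, ha⟩ := quadraticChar_exists_neg_one (F := F) hF
    refine ⟨a, ?_, ha⟩
    rintro rfl
    rw [quadraticChar_zero] at ha
    omega

theorem HasOdd.of_equiv {V V' : Type*} (e : V ≃ V') (Q : V → F) (Q' : V' → F)
    (h : ∀ v, Q' (e v) = Q v) {a : ℕ} {η : ℤ} (hs : HasOdd Q a η) : HasOdd Q' a η := by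
  intro c
  rw [cnt_congr e Q Q' h]
  exact hs c

theorem HasOdd.unique {V : Type*} {Q : V → F} {a : ℕ} {η η' : ℤ} (h : HasOdd Q a η)
    (h' : HasOdd Q a η') : η = η' := by
  have h1 := h 1
  have h2 := h' 1
  rw [chi_one] at h1 h2
  have hq : (Fintype.card F : ℤ) ^ a ≠ 0 := pow_ne_zero _ (card_pos_int (F := F)).ne'
  have h3 : η * (Fintype.card F : ℤ) ^ a = η' * (Fintype.card F : ℤ) ^ a := by
    linear_combination h2 - h1
  exact mul_right_cancel₀ hq h3

/-- scaling the form by a nonzero constant multiplies the class by `χ` of the constant -/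
theorem HasOdd.scale {V : Type*} {Q Q' : V → F} {a : ℕ} {η : ℤ} (h : HasOdd Q a η) (l : F)
    (hl : l ≠ 0) (hQ : ∀ v, Q' v = l * Q v) : HasOdd Q' a (η * chi l) := by
  intro c
  have h1 : cnt Q' c = cnt Q (l⁻¹ * c) := by
    unfold cnt
    congr 1
    apply Nat.card_congr
    apply Equiv.subtypeEquivRight
    intro v
    rw [hQ]
    constructor
    · intro hv
      rw [← hv, ← mul_assoc, inv_mul_cancel₀ hl, one_mul]
    · intro hv
      rw [hv, ← mul_assoc, mul_inv_cancel₀ hl, one_mul]
  rw [h1, h (l⁻¹ * c), chi_mul, chi_inv hl]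
  ring

/-- odd ⊥ even is odd, with multiplicative classes -/
theorem HasOdd.prod_sign (h2 : (2 : F) ≠ 0) {V₁ V₂ : Type*} [Finite V₁] [Finite V₂]
    {Q₁ : V₁ → F} {Q₂ : V₂ → F} {a n : ℕ} {η ε : ℤ} (h₁ : HasOdd Q₁ a η)
    (h₂ : HasSign Q₂ n ε) :
    HasOdd (fun p : V₁ × V₂ => Q₁ p.1 + Q₂ p.2) (a + n) (η * ε) := by
  classical
  intro c
  set q : ℤ := (Fintype.card F : ℤ) with hq
  have hq0 : q ≠ 0 := (card_pos_int (F := F)).ne'
  have hcardq : ((Finset.univ : Finset F).card : ℤ) = q := by rw [Finset.card_univ]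
  have s2 : ∀ g : F → ℤ, ∑ d : F, g d * (if c - d = 0 then (1 : ℤ) else 0) = g c := by
    intro g
    have : ∀ d : F, (c - d = 0) ↔ d = c := fun d => by rw [sub_eq_zero, eq_comm]
    simp only [this]
    rw [Finset.sum_eq_single c]
    · simp
    · intro b _ hb
      rw [if_neg hb, mul_zero]
    · intro h
      exact absurd (Finset.mem_univ _) h
  have key : q * cnt (fun p : V₁ × V₂ => Q₁ p.1 + Q₂ p.2) c =
      q * (q ^ (2 * (a + n)) + η * ε * chi c * q ^ (a + n)) := by
    rw [cnt_prod, Finset.mul_sum]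
    have hterm : ∀ d : F, q * (cnt Q₁ d * cnt Q₂ (c - d)) =
        q ^ (2 * a) * (q ^ (2 * n) - ε * q ^ n) + (η * q ^ a * (q ^ (2 * n) - ε * q ^ n)) * chi d +
          (q ^ (2 * a) + η * chi d * q ^ a) * (ε * q ^ n * q) *
            (if c - d = 0 then (1 : ℤ) else 0) := by
      intro d
      have e1 : q * (cnt Q₁ d * cnt Q₂ (c - d)) = cnt Q₁ d * (q * cnt Q₂ (c - d)) := by ring
      rw [e1, h₁ d, h₂ (c - d)]
      ring
    rw [Finset.sum_congr rfl (fun d _ => hterm d), Finset.sum_add_distrib, Finset.sum_add_distrib,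
      Finset.sum_const, ← Finset.mul_sum, chi_sum h2, nsmul_eq_mul, hcardq,
      s2 (fun d => (q ^ (2 * a) + η * chi d * q ^ a) * (ε * q ^ n * q))]
    ring
  exact mul_left_cancel₀ hq0 key

/-- the one-dimensional form `c·x²` -/
theorem hasOdd_line (h2 : (2 : F) ≠ 0) (c : F) (hc : c ≠ 0) :
    HasOdd (fun x : F => c * (x * x)) 0 (chi c) := by
  classical
  intro t
  have hF : ringChar F ≠ 2 := by
    intro h
    apply h2
    have : ((2 : ℕ) : F) = 0 := by
      rw [← h]
      exact ringChar.Nat.cast_ringChar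
    exact_mod_cast this
  have h1 := quadraticChar_card_sqrts hF (c⁻¹ * t)
  have h3 : cnt (fun x : F => c * (x * x)) t = ({x : F | x ^ 2 = c⁻¹ * t}.toFinset.card : ℤ) := by
    unfold cnt
    congr 1
    rw [Set.toFinset_card, ← Nat.card_eq_fintype_card]
    apply Nat.card_congr
    refine Equiv.subtypeEquivRight (q := fun x => x ∈ {x : F | x ^ 2 = c⁻¹ * t}) ?_
    intro x
    rw [Set.mem_ofPred_eq]
    constructor
    · intro hx
      rw [← hx, ← mul_assoc, inv_mul_cancel₀ hc, one_mul, sq]
    · intro hx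
      show c * (x * x) = t
      rw [← sq, hx, ← mul_assoc, mul_inv_cancel₀ hc, one_mul]
  rw [h3, h1]
  have h4 : quadraticChar F (c⁻¹ * t) = chi c * chi t := by
    have := chi_mul c⁻¹ t
    rw [chi_inv hc] at this
    exact this
  rw [h4]
  ring

end basic

end Cfsg.Agent.Lib.Helper20.OddC
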