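import Mathlib
import Cfsg.Agent.Lib.Helper6.OrtS8
import Cfsg.Agent.Lib.Helper20.OddC1

/-!
# The class of an odd-dimensional nondegenerate subspace of a quadratic space (odd characteristic)
-/

set_option autoImplicit false
set_option linter.unusedSectionVars false

namespace Cfsg.Agent.Lib.Helper20.OddC

open Module Submodule QuadraticMap Cfsg.Agent.Lib.Helper15.PSpI Cfsg.Agent.Lib.Helper14.OrthEven
  Cfsg.Agent.Lib.Helper6.OrtS

section odd

variable {F V : Type*} [Field F] [Fintype F] [AddCommGroup V] [Module F V] [FiniteDimensional F V]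
variable (Q : QuadraticForm F V)

/-- the class of an odd-dimensional subspace -/
def OddOn (W : Submodule F V) (η : ℤ) : Prop :=
  HasOdd (fun w : W => Q (w : V)) (finrank F W / 2) η

theorem OddOn.unique {W : Submodule F V} {η η' : ℤ} (h : OddOn Q W η) (h' : OddOn Q W η') :
    η = η' := HasOdd.unique h h'

/-- transport of the class along a `Q`-compatible linear equivalence -/
theorem oddOn_of_equiv {X : Type*} [AddCommGroup X] [Module F X] (QX : X → F)
    {W : Submodule F V} (e : X ≃ₗ[F] W) (he : ∀ x, Q (e x : V) = QX x) {a : ℕ} {η : ℤ}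
    (hn : finrank F W / 2 = a) (hs : HasOdd QX a η) : OddOn Q W η := by
  unfold OddOn
  rw [hn]
  exact hs.of_equiv e.toEquiv _ _ (fun x => he x)

theorem OddOn.to_hasOdd {X : Type*} [AddCommGroup X] [Module F X] (QX : X → F)
    {W : Submodule F V} (e : X ≃ₗ[F] W) (he : ∀ x, Q (e x : V) = QX x) {η : ℤ}
    (hs : OddOn Q W η) : HasOdd QX (finrank F W / 2) η :=
  hs.of_equiv e.symm.toEquiv _ _ (fun w => by
    show QX (e.symm w) = Q (w : V)
    rw [← he, LinearEquiv.apply_symm_apply])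

/-- isometric subspaces have the same class -/
theorem oddOn_of_isometric {W W' : Submodule F V} (φ : W ≃ₗ[F] W')
    (hφ : ∀ w : W, Q (φ w : V) = Q (w : V)) {η : ℤ} (h : OddOn Q W η) : OddOn Q W' η :=
  oddOn_of_equiv Q (fun w : W => Q (w : V)) φ hφ (by rw [← φ.finrank_eq]) h

/-- odd ⊥ even : the class is multiplicative -/
theorem oddOn_sup (h2 : (2 : F) ≠ 0) {W₁ W₂ : Submodule F V} (ho : Orth (polarBilin Q) W₁ W₂)
    (hd : Disjoint W₁ W₂) (h₁ : Odd (finrank F W₁)) (h₂ : Even (finrank F W₂)) {η ε : ℤ}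
    (hs₁ : OddOn Q W₁ η) (hs₂ : SgnOn Q W₂ ε) : OddOn Q (W₁ ⊔ W₂) (η * ε) := by
  have hfr : finrank F ↥(W₁ ⊔ W₂) = finrank F W₁ + finrank F W₂ := by
    have h1 := Submodule.finrank_sup_add_finrank_inf_eq W₁ W₂
    rw [hd.eq_bot, finrank_bot, add_zero] at h1
    exact h1
  have hfin : Finite V := Module.finite_of_finite F
  have hP := HasOdd.prod_sign h2 hs₁ hs₂
  have hn : finrank F ↥(W₁ ⊔ W₂) / 2 = finrank F W₁ / 2 + finrank F W₂ / 2 := by
    rw [hfr]
    obtain ⟨a, ha⟩ := h₁
    obtain ⟨b, hb⟩ := h₂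
    omega
  refine oddOn_of_equiv Q _ (supEquiv W₁ W₂ hd) (fun p => ?_) hn hP
  rw [supEquiv_apply]
  exact Q_add_of_orth Q (ho _ p.1.2 _ p.2.2)

/-- even ⊥ odd -/
theorem oddOn_sup' (h2 : (2 : F) ≠ 0) {W₁ W₂ : Submodule F V} (ho : Orth (polarBilin Q) W₁ W₂)
    (hd : Disjoint W₁ W₂) (h₁ : Even (finrank F W₁)) (h₂ : Odd (finrank F W₂)) {η ε : ℤ}
    (hs₁ : SgnOn Q W₁ ε) (hs₂ : OddOn Q W₂ η) : OddOn Q (W₁ ⊔ W₂) (η * ε) := by
  rw [sup_comm]
  exact oddOn_sup Q h2 (orth_symm (pB_symm Q) ho) hd.symm h₂ h₁ hs₂ hs₁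

/-- a nonsingular line -/
theorem oddOn_span (h2 : (2 : F) ≠ 0) (w : V) (hw : Q w ≠ 0) :
    OddOn Q (span F {w}) (chi (Q w)) := by
  have hw0 : w ≠ 0 := by
    rintro rfl
    exact hw (map_zero Q)
  have hfr : finrank F (span F {w}) = 1 := finrank_span_singleton hw0
  refine oddOn_of_equiv Q (fun x : F => Q w * (x * x)) (LinearEquiv.toSpanNonzeroSingleton F V w hw0)
    (fun x => ?_) (by rw [hfr]) (hasOdd_line h2 (Q w) hw)
  rw [LinearEquiv.toSpanNonzeroSingleton_apply]
  show Q (x • w) = _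
  rw [QuadraticMap.map_smul, smul_eq_mul]
  ring

/-- a nonsingular line is nondegenerate -/
theorem nondegOn_span (h2 : (2 : F) ≠ 0) (w : V) (hw : Q w ≠ 0) :
    NondegOn (polarBilin Q) (span F {w}) := by
  intro u hu h0
  obtain ⟨a, rfl⟩ := mem_span_singleton.mp hu
  have h1 := h0 w (mem_span_singleton_self w)
  rw [pB_apply, polar_smul_left, polar_self, smul_eq_mul, nsmul_eq_mul, Nat.cast_ofNat] at h1
  have h3 : a = 0 := by
    rcases mul_eq_zero.mp h1 with h | h
    · exact h
    · exfalso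
      rcases mul_eq_zero.mp h with h | h
      · exact h2 h
      · exact hw h
  rw [h3, zero_smul]

/-- a nonzero nondegenerate subspace contains a nonsingular vector -/
theorem exists_nonsingular (_h2 : (2 : F) ≠ 0) {W : Submodule F V}
    (hW : NondegOn (polarBilin Q) W) (hpos : 0 < finrank F W) : ∃ w ∈ W, Q w ≠ 0 := by
  by_contra hcon
  push Not at hcon
  obtain ⟨⟨u, huW⟩, hu⟩ := Module.finrank_pos_iff_exists_ne_zero.mp hpos
  apply hu
  apply Subtype.ext
  apply hW u huW
  intro v hv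
  rw [pB_apply]
  unfold polar
  rw [hcon _ (W.add_mem huW hv), hcon u huW, hcon v hv]
  ring

/-- every odd-dimensional nondegenerate subspace has a class `±1` -/
theorem oddOn_cases (h2 : (2 : F) ≠ 0) {W : Submodule F V} (hW : NondegOn (polarBilin Q) W)
    (hodd : Odd (finrank F W)) : OddOn Q W 1 ∨ OddOn Q W (-1) := by
  have hS := pB_symm Q
  obtain ⟨a, ha⟩ := hodd
  obtain ⟨w, hwW, hw⟩ := exists_nonsingular Q h2 hW (by omega)
  have hw0 : w ≠ 0 := by
    rintro rfl
    exact hw (map_zero Q)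
  have hL : span F {w} ≤ W := by
    rw [span_le, Set.singleton_subset_iff]
    exact hwW
  have hLn := nondegOn_span Q h2 w hw
  have hLf : finrank F (span F {w}) = 1 := finrank_span_singleton hw0
  have hZn := nondegOn_perpIn' hS hL hLn hW
  have hZf := finrank_perpIn' hS hL hLn
  rw [hLf, ha] at hZf
  have hZf' : finrank F (perpIn (polarBilin Q) W (span F {w})) = 2 * a := by omega
  have hsup := sup_perpIn' hS hL hLn
  have ho : Orth (polarBilin Q) (span F {w}) (perpIn (polarBilin Q) W (span F {w})) := by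
    intro u hu v hv
    exact (mem_perpIn.mp hv).2 u hu
  have hd := orth_disjoint hS ho hLn
  have hLo := oddOn_span Q h2 w hw
  have hc := chi_cases hw
  rcases sgnOn_cases Q hZn a hZf' with h | h
  · have h1 := oddOn_sup Q h2 ho hd (by rw [hLf]; exact odd_one) ⟨a, by rw [hZf']; ring⟩ hLo h
    rw [hsup] at h1
    rcases hc with hc | hc <;> rw [hc] at h1
    · left; simpa using h1
    · right; simpa using h1
  · have h1 := oddOn_sup Q h2 ho hd (by rw [hLf]; exact odd_one) ⟨a, by rw [hZf']; ring⟩ hLo h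
    rw [hsup] at h1
    rcases hc with hc | hc <;> rw [hc] at h1
    · right; simpa using h1
    · left; simpa using h1

end odd

end Cfsg.Agent.Lib.Helper20.OddC
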