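import Mathlib
import Cfsg.Agent.Lib.Helper14.OrthOrd1
import Cfsg.Agent.Lib.Helper20.OddC2

/-!
# Classification of odd-dimensional quadratic spaces by class; subspaces of prescribed class
-/

set_option autoImplicit false
set_option linter.unusedSectionVars false

namespace Cfsg.Agent.Lib.Helper20.OddC

open Module Submodule QuadraticMap Cfsg.Agent.Lib.Helper15.PSpI Cfsg.Agent.Lib.Helper14.OrthEven
  Cfsg.Agent.Lib.Helper6.OrtS

universe u

section classify

variable {F : Type u} [Field F] [Fintype F]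

/-- two nondegenerate quadratic spaces of the same odd dimension and class are isometric -/
theorem exists_iso_of_class (h2 : (2 : F) ≠ 0) {X Y : Type*} [AddCommGroup X] [Module F X]
    [FiniteDimensional F X] [AddCommGroup Y] [Module F Y] [FiniteDimensional F Y]
    (QX : QuadraticForm F X) (QY : QuadraticForm F Y) (hX : (polarBilin QX).Nondegenerate)
    (hY : (polarBilin QY).Nondegenerate) (a : ℕ) (hXd : finrank F X = 2 * a + 1)
    (hYd : finrank F Y = 2 * a + 1) {η : ℤ} (hη : η = 1 ∨ η = -1)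
    (hsX : HasOdd (⇑QX) a η) (hsY : HasOdd (⇑QY) a η) :
    ∃ φ : X ≃ₗ[F] Y, ∀ x, QY (φ x) = QX x := by
  obtain ⟨c, hc, Ψ, hΨ⟩ := Cfsg.Agent.Lib.Helper14.OrthOrd.classify_odd h2 QX hX a hXd
  obtain ⟨c', hc', Ψ', hΨ'⟩ := Cfsg.Agent.Lib.Helper14.OrthOrd.classify_odd h2 QY hY a hYd
  let Φ : X ≃ₗ[F] Y := Ψ.symm.trans Ψ'
  have hΦ : ∀ x, QY (Φ x) = (c' * c⁻¹) * QX x := by
    intro x
    show QY (Ψ' (Ψ.symm x)) = _
    rw [hΨ']
    have h1 : QX x = c * Cfsg.quadFormOdd a F (Ψ.symm x) := by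
      rw [← hΨ, LinearEquiv.apply_symm_apply]
    rw [h1]
    field_simp
  have hl : c' * c⁻¹ ≠ 0 := mul_ne_zero hc' (inv_ne_zero hc)
  have h1 : HasOdd (fun x => (c' * c⁻¹) * QX x) a (η * chi (c' * c⁻¹)) :=
    hsX.scale (c' * c⁻¹) hl (fun _ => rfl)
  have h3 : HasOdd (⇑QY) a (η * chi (c' * c⁻¹)) :=
    h1.of_equiv Φ.toEquiv _ _ (fun x => hΦ x)
  have h4 := HasOdd.unique hsY h3
  have h5 : chi (c' * c⁻¹) = 1 := by
    rcases chi_cases hl with h | h
    · exact h
    · exfalso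
      rw [h] at h4
      rcases hη with rfl | rfl <;> omega
  obtain ⟨w, hw⟩ := (chi_eq_one_iff hl).mp h5
  have hw0 : w ≠ 0 := by
    rintro rfl
    rw [mul_zero] at hw
    exact hl hw
  refine ⟨Φ.trans (LinearEquiv.smulOfNeZero F Y w⁻¹ (inv_ne_zero hw0)), fun x => ?_⟩
  show QY (w⁻¹ • Φ x) = QX x
  rw [QuadraticMap.map_smul, hΦ, hw, smul_eq_mul]
  field_simp

end classify

section sub

variable {F : Type u} {V : Type*} [Field F] [Fintype F] [AddCommGroup V] [Module F V]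
  [FiniteDimensional F V]
variable (Q : QuadraticForm F V)

/-- two nondegenerate subspaces of the same odd dimension and class are isometric -/
theorem exists_iso_of_oddOn (h2 : (2 : F) ≠ 0) {W W' : Submodule F V}
    (hW : NondegOn (polarBilin Q) W) (hW' : NondegOn (polarBilin Q) W') (m : ℕ) (hm : Odd m)
    (hWf : finrank F W = m) (hW'f : finrank F W' = m) {η : ℤ} (hη : η = 1 ∨ η = -1)
    (hs : OddOn Q W η) (hs' : OddOn Q W' η) :
    ∃ φ : W ≃ₗ[F] W', ∀ w : W, Q (φ w : V) = Q (w : V) := by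
  obtain ⟨a, ha⟩ := hm
  have hsW : HasOdd (⇑(Qr Q W)) a η := by
    have h1 : finrank F W / 2 = a := by omega
    have := hs
    unfold OddOn at this
    rwa [h1] at this
  have hsW' : HasOdd (⇑(Qr Q W')) a η := by
    have h1 : finrank F W' / 2 = a := by omega
    have := hs'
    unfold OddOn at this
    rwa [h1] at this
  obtain ⟨φ, hφ⟩ := exists_iso_of_class h2 (Qr Q W) (Qr Q W') (nondegenerate_Qr Q hW)
    (nondegenerate_Qr Q hW') a (by omega) (by omega) hη hsW hsW'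
  exact ⟨φ, fun w => hφ w⟩

/-- a nondegenerate subspace of positive even dimension represents every nonzero value -/
theorem exists_value {C : Submodule F V} (hC : NondegOn (polarBilin Q) C) (b : ℕ) (hb : 1 ≤ b)
    (hCf : finrank F C = 2 * b) (c : F) (hc : c ≠ 0) : ∃ w ∈ C, Q w = c := by
  classical
  have hq1 : (1 : ℤ) < (Fintype.card F : ℤ) := by exact_mod_cast Fintype.one_lt_card
  have hs : ∃ ε : ℤ, (ε = 1 ∨ ε = -1) ∧ HasSign (fun w : C => Q (w : V)) b ε := by
    have h1 : finrank F C / 2 = b := by omega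
    rcases sgnOn_cases Q hC b hCf with h | h
    · refine ⟨1, Or.inl rfl, ?_⟩
      unfold SgnOn at h
      rwa [h1] at h
    · refine ⟨-1, Or.inr rfl, ?_⟩
      unfold SgnOn at h
      rwa [h1] at h
  obtain ⟨ε, hε, hs⟩ := hs
  have h1 := hs c
  rw [if_neg hc] at h1
  have hpos : 0 < cnt (fun w : C => Q (w : V)) c := by
    have hqb : (1 : ℤ) < (Fintype.card F : ℤ) ^ b := one_lt_pow₀ hq1 (by omega)
    have h3 : (Fintype.card F : ℤ) * cnt (fun w : C => Q (w : V)) c =
        (Fintype.card F : ℤ) ^ b * ((Fintype.card F : ℤ) ^ b - ε) := by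
      rw [h1]; ring
    have h4 : 0 < (Fintype.card F : ℤ) ^ b * ((Fintype.card F : ℤ) ^ b - ε) := by
      apply mul_pos (by omega)
      rcases hε with rfl | rfl <;> omega
    rw [← h3] at h4
    exact (mul_pos_iff_of_pos_left (by omega : (0 : ℤ) < (Fintype.card F : ℤ))).mp h4
  unfold cnt at hpos
  have hne : Nat.card {w : C // Q (w : V) = c} ≠ 0 := by
    intro h
    rw [h] at hpos
    simp at hpos
  have hfin : Finite V := Module.finite_of_finite F
  obtain ⟨⟨w, hw⟩⟩ := (Nat.card_ne_zero.mp hne).1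
  exact ⟨w.1, w.2, hw⟩

/-- odd-dimensional nondegenerate subspaces of prescribed class inside a larger even-dimensional
nondegenerate subspace -/
theorem exists_sub_odd (h2 : (2 : F) ≠ 0) (C : Submodule F V) (hC : NondegOn (polarBilin Q) C)
    (e : ℕ) (hCe : finrank F C = e) (he : Even e) (j : ℕ) (hj : Odd j) (hje : j < e) (η : ℤ)
    (hη : η = 1 ∨ η = -1) :
    ∃ W : Submodule F V, W ≤ C ∧ NondegOn (polarBilin Q) W ∧ finrank F W = j ∧ OddOn Q W η := by
  have hS := pB_symm Q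
  obtain ⟨a, ha⟩ := hj
  obtain ⟨e', he'⟩ := he
  have hκ : ∃ κ : ℤ, (κ = 1 ∨ κ = -1) ∧ SgnOn Q C κ := by
    rcases sgnOn_cases Q hC e' (by rw [hCe, he']; ring) with h | h
    · exact ⟨1, Or.inl rfl, h⟩
    · exact ⟨-1, Or.inr rfl, h⟩
  obtain ⟨κ, hκ1, hκ⟩ := hκ
  obtain ⟨Z, hZC, hZn, hZf, hZs⟩ := exists_sub Q C hC e hCe ⟨e', he'⟩ κ hκ1 hκ (2 * a)
    ⟨a, by ring⟩ 1 (Or.inl rfl) ⟨by omega, fun _ => rfl, fun h => by omega⟩
  have hPn := nondegOn_perpIn' hS hZC hZn hC
  have hPf := finrank_perpIn' hS hZC hZn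
  rw [hZf, hCe] at hPf
  obtain ⟨c, hc0, hc⟩ := exists_chi_eq h2 η hη
  obtain ⟨w, hwP, hw⟩ := exists_value Q hPn (e' - a) (by omega) (by omega) c hc0
  have hwn : Q w ≠ 0 := by rw [hw]; exact hc0
  have hw0 : w ≠ 0 := by
    rintro rfl
    exact hwn (map_zero Q)
  have hLf : finrank F (span F {w}) = 1 := finrank_span_singleton hw0
  have ho : Orth (polarBilin Q) Z (span F {w}) := by
    intro u hu v hv
    obtain ⟨t, rfl⟩ := mem_span_singleton.mp hv
    rw [map_smul, (mem_perpIn.mp hwP).2 u hu, smul_zero]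
  have hd := orth_disjoint hS ho hZn
  refine ⟨Z ⊔ span F {w}, sup_le hZC ?_, nondegOn_sup' hS ho hZn (nondegOn_span Q h2 w hwn), ?_, ?_⟩
  · rw [span_le, Set.singleton_subset_iff]
    exact (mem_perpIn.mp hwP).1
  · rw [finrank_sup_of_orth' hS ho hZn, hZf, hLf, ha]
  · have h1 := oddOn_sup' Q h2 ho hd ⟨a, by rw [hZf]; ring⟩ (by rw [hLf]; exact odd_one) hZs
      (oddOn_span Q h2 w hwn)
    rw [hw, hc, mul_one] at h1
    exact h1

end sub

end Cfsg.Agent.Lib.Helper20.OddC
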