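import Mathlib
import Cfsg.Agent.Lib.Helper3.PP1C
import Cfsg.Agent.Lib.Helper3.PP1D
import Cfsg.Agent.Lib.Helper12.HallSymPrimAlt

/-!
# S4150, piece TWa (helper20, for helper1)

A subgroup of `Alt(Ω)`, `|Ω| = p + 2`, containing a `p`-cycle and a `(p+2)`-cycle (`p ≥ 5` prime,
`p + 1` not a power of `2`) is `3`-transitive and contains an element of prime order `r ∣ p - 1`
with exactly three fixed points.
-/

set_option autoImplicit false
set_option linter.style.haveILetI false
set_option linter.unusedSectionVars false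
set_option linter.unusedVariables false

open Equiv Equiv.Perm MulAction
open scoped Pointwise

namespace Cfsg.Agent.Lib.Helper1.S4150

namespace Helper20

theorem smul_eq_of_pow_smul_eq {G : Type*} [Group G] {Y : Type*} [MulAction G Y] {g : G} {p : ℕ}
    (hp : p.Prime) (hg : orderOf g = p) {y : Y} {k : ℕ} (hk0 : 0 < k) (hkp : k < p)
    (h : g ^ k • y = y) : g • y = y := by
  have hpow : ∀ m : ℕ, (g ^ k) ^ m • y = y := by
    intro m
    induction m with
    | zero => simp
    | succ m ih => rw [pow_succ, mul_smul, h, ih]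
  have hcop : Nat.Coprime k p :=
    Nat.Coprime.symm ((Nat.Prime.coprime_iff_not_dvd hp).mpr (Nat.not_dvd_of_pos_of_lt hk0 hkp))
  obtain ⟨m, -, hm⟩ := Nat.exists_mul_mod_eq_one_of_coprime hcop hp.one_lt
  have h1 : (g ^ k) ^ m = g := by
    rw [← pow_mul, ← pow_mod_orderOf, hg, hm, pow_one]
  have := hpow m
  rwa [h1] at this

/-- a transitive group containing a cycle of prime length `p > n / 2` is primitive -/
theorem isPreprimitive_of_prime_cycle {X : Type*} [Fintype X] [DecidableEq X] {p : ℕ}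
    (hp : p.Prime) (hX : Fintype.card X < 2 * p) (T : Subgroup (Perm X)) [IsPretransitive T X]
    (g : Perm X) (hg : g ∈ T) (hc : g.IsCycle) (hs : g.support.card = p) : IsPreprimitive T X := by
  classical
  have hne : g.support.Nonempty := by
    rw [← Finset.card_pos, hs]; exact hp.pos
  obtain ⟨a, ha⟩ := hne
  have hcardX : Nat.card X = Fintype.card X := Nat.card_eq_fintype_card
  set g' : T := ⟨g, hg⟩ with hg'
  have hord : orderOf g = p := by rw [hc.orderOf, hs]
  have hord' : orderOf g' = p := by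
    rw [← hord, ← Subgroup.orderOf_coe g']
  apply IsPreprimitive.of_isTrivialBlock_base a
  intro B haB hB
  by_cases hgB : g' • B = B
  · right
    apply hB.eq_univ_of_card_lt
    rw [hcardX]
    have hsub : (g.support : Set X) ⊆ B := by
      intro x hx
      have hx' : g x ≠ x := by simpa using hx
      have ha' : g a ≠ a := by simpa using ha
      obtain ⟨i, hi⟩ := hc.exists_zpow_eq ha' hx'
      have hst : g' ^ i • B = B := by
        have : g' ∈ stabilizer T B := hgB
        exact (stabilizer T B).zpow_mem this i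
      rw [← hst, ← hi]
      refine ⟨a, haB, ?_⟩
      simp [hg', Subgroup.smul_def]
    have hple : p ≤ B.ncard := by
      have := Set.ncard_le_ncard hsub (Set.toFinite B)
      rwa [Set.ncard_coe_finset, hs] at this
    omega
  · left
    apply hB.subsingleton_of_card_lt
    rw [hcardX]
    have hlt : ∀ i j : ℕ, i < j → j < p → g' ^ i • B = g' ^ j • B → False := by
      intro i j hij hjp h
      apply hgB
      apply smul_eq_of_pow_smul_eq hp hord' (k := j - i) (by omega) (by omega)
      have hj' : j = i + (j - i) := by omega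
      have h1 : g' ^ j • B = g' ^ i • (g' ^ (j - i) • B) := by
        conv_lhs => rw [hj', pow_add, mul_smul]
      have h2 : g' ^ i • B = g' ^ i • (g' ^ (j - i) • B) := by
        rw [← h1]; exact h
      exact (smul_left_cancel _ h2).symm
    have hinj : Set.InjOn (fun i : ℕ => g' ^ i • B) (Finset.range p : Set ℕ) := by
      intro i hi j hj hij
      simp only [Finset.coe_range, Set.mem_Iio] at hi hj
      by_contra hne
      rcases lt_or_gt_of_ne hne with h | h
      · exact hlt i j h hj hij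
      · exact hlt j i h hi hij.symm
    have hsub : (((Finset.range p).image (fun i : ℕ => g' ^ i • B) : Finset (Set X)) : Set (Set X))
        ⊆ orbit T B := by
      intro C hC
      simp only [Finset.coe_image, Finset.coe_range, Set.mem_image, Set.mem_Iio] at hC
      obtain ⟨i, _, rfl⟩ := hC
      exact ⟨g' ^ i, rfl⟩
    have hcard := Set.ncard_le_ncard hsub (Set.toFinite _)
    rw [Set.ncard_coe_finset, Finset.card_image_of_injOn hinj, Finset.card_range] at hcard
    omega

/-- a permutation of `p + 2` points with `h ^ p = 1` and three fixed points is trivial -/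
theorem eq_one_of_pow_prime_of_three_fixed {Ω : Type*} [Fintype Ω] [DecidableEq Ω] {p : ℕ}
    (hp : p.Prime) (hΩ : Fintype.card Ω = p + 2) (h : Perm Ω) (hh : h ^ p = 1) {x y z : Ω}
    (hxy : x ≠ y) (hxz : x ≠ z) (hyz : y ≠ z) (hx : h x = x) (hy : h y = y) (hz : h z = z) :
    h = 1 := by
  haveI := Fact.mk hp
  have hmod : h.supportᶜ.card ≡ Fintype.card Ω [MOD p] :=
    Equiv.Perm.card_compl_support_modEq (p := p) (n := 1) (σ := h) (by simpa using hh)
  have h3 : 3 ≤ h.supportᶜ.card := by
    have hsub : ({x, y, z} : Finset Ω) ⊆ h.supportᶜ := by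
      intro w hw
      simp only [Finset.mem_insert, Finset.mem_singleton] at hw
      rw [Finset.mem_compl, Equiv.Perm.mem_support, not_not]
      rcases hw with rfl | rfl | rfl <;> assumption
    have hc3 : ({x, y, z} : Finset Ω).card = 3 := by
      rw [Finset.card_insert_of_notMem, Finset.card_insert_of_notMem, Finset.card_singleton]
      · simpa using hyz
      · simp [hxy, hxz]
    calc 3 = ({x, y, z} : Finset Ω).card := hc3.symm
      _ ≤ _ := Finset.card_le_card hsub
  have hle : h.supportᶜ.card ≤ p + 2 := by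
    rw [← hΩ]; exact Finset.card_le_univ _
  rw [hΩ] at hmod
  have hdvd : p ∣ (p + 2) - h.supportᶜ.card := (Nat.modEq_iff_dvd' hle).mp hmod
  obtain ⟨t, ht⟩ := hdvd
  have ht0 : t = 0 := by
    by_contra hne
    have : 1 ≤ t := Nat.one_le_iff_ne_zero.mpr hne
    have : p ≤ p * t := Nat.le_mul_of_pos_right p (by omega)
    omega
  rw [ht0, mul_zero] at ht
  have hfull : h.supportᶜ.card = Fintype.card Ω := by rw [hΩ]; omega
  rw [Finset.card_compl] at hfull
  have hs0 : h.support.card = 0 := by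
    have := Finset.card_le_univ h.support
    omega
  rw [Finset.card_eq_zero, Equiv.Perm.support_eq_empty_iff] at hs0
  exact hs0

/-- a permutation commuting with a cycle and fixing all its fixed points is a power of it -/
theorem mem_zpowers_of_commute_of_fix {Ω : Type*} [Fintype Ω] [DecidableEq Ω] {a c : Perm Ω}
    (ha : a.IsCycle) (hcomm : Commute c a) (hfix : ∀ x, a x = x → c x = x) :
    c ∈ Subgroup.zpowers a := by
  obtain ⟨hc', hmem⟩ := ha.commute_iff.mp hcomm
  have heq : ofSubtype (subtypePerm c hc') = c := by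
    ext x
    by_cases hx : x ∈ a.support
    · rw [ofSubtype_apply_of_mem _ hx, subtypePerm_apply]
    · rw [ofSubtype_apply_of_not_mem _ hx]
      exact (hfix x (by simpa using hx)).symm
  rwa [heq] at hmem

/-- Burnside transfer: if the two-point stabiliser `K` is bigger than `⟨a⟩`, some element of `K`
normalises `⟨a⟩` without centralising it. -/
theorem exists_normalizing_of_card_ne {Ω : Type*} [Fintype Ω] [DecidableEq Ω] {p : ℕ}
    (hp : p.Prime) (hp3 : 3 ≤ p) (hΩ : Fintype.card Ω = p + 2) (K : Subgroup (Perm Ω))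
    (a : Perm Ω) (haK : a ∈ K) (hac : a.IsCycle) (hap : a.support.card = p) {α β : Ω}
    (hαβ : α ≠ β) (hα : ∀ k ∈ K, k α = α) (hβ : ∀ k ∈ K, k β = β)
    (hfixa : ∀ x, a x = x → x = α ∨ x = β) (hcard : Nat.card K ≠ p) :
    ∃ w ∈ K, w * a * w⁻¹ ∈ Subgroup.zpowers a ∧ w * a * w⁻¹ ≠ a := by
  classical
  by_contra hcon
  push Not at hcon
  haveI := Fact.mk hp
  set a' : K := ⟨a, haK⟩ with ha'
  have hord : orderOf a = p := by rw [hac.orderOf, hap]
  have hord' : orderOf a' = p := by rw [← hord, ← Subgroup.orderOf_coe a']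
  have hKdvd : Nat.card K ∣ (p + 2).factorial := by
    have := Subgroup.card_subgroup_dvd_card K
    rwa [Nat.card_eq_fintype_card (α := Perm Ω), Fintype.card_perm, hΩ] at this
  have hpdvd : p ∣ Nat.card K := by
    rw [← hord']; exact orderOf_dvd_natCard a'
  have hnsq : ¬ p * p ∣ Nat.card K := by
    intro h
    have h1 : p * p ∣ (p + 2).factorial := h.trans hKdvd
    rw [Nat.factorial_succ, Nat.factorial_succ] at h1
    have hnd1 : ¬ p ∣ p + 1 + 1 := by
      intro hd
      have h2 : p ∣ 2 := (Nat.dvd_add_right (dvd_refl p)).mp hd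
      have := Nat.le_of_dvd (by norm_num) h2
      omega
    have hnd2 : ¬ p ∣ p + 1 := by
      intro hd
      have h2 : p ∣ 1 := (Nat.dvd_add_right (dvd_refl p)).mp hd
      have := Nat.le_of_dvd (by norm_num) h2
      omega
    have hc1 : Nat.Coprime (p * p) (p + 1 + 1) :=
      Nat.Coprime.mul_left ((Nat.Prime.coprime_iff_not_dvd hp).mpr hnd1)
        ((Nat.Prime.coprime_iff_not_dvd hp).mpr hnd1)
    have hc2 : Nat.Coprime (p * p) (p + 1) :=
      Nat.Coprime.mul_left ((Nat.Prime.coprime_iff_not_dvd hp).mpr hnd2)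
        ((Nat.Prime.coprime_iff_not_dvd hp).mpr hnd2)
    have h3 : p * p ∣ (p + 1) * p.factorial := hc1.dvd_of_dvd_mul_left h1
    have h4 : p * p ∣ p.factorial := hc2.dvd_of_dvd_mul_left h3
    exact Cfsg.Agent.Lib.Helper12.HallSym.not_sq_dvd_factorial hp h4
  have hK0 : Nat.card K ≠ 0 := Nat.card_pos.ne'
  have hfac : (Nat.card K).factorization p = 1 := by
    have h1 : 1 ≤ (Nat.card K).factorization p :=
      (hp.pow_dvd_iff_le_factorization hK0).mp (by simpa using hpdvd)
    have h2 : ¬ 2 ≤ (Nat.card K).factorization p := by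
      intro h
      apply hnsq
      have := (hp.pow_dvd_iff_le_factorization hK0).mpr h
      rwa [pow_two] at this
    omega
  have hPc : Nat.card (Subgroup.zpowers a') = p ^ (Nat.card K).factorization p := by
    rw [Nat.card_zpowers, hord', hfac, pow_one]
  set P : Sylow p K := Sylow.ofCard (Subgroup.zpowers a') hPc with hPdef
  have hPcoe : (P : Subgroup K) = Subgroup.zpowers a' := rfl
  have hPcard : Nat.card (P : Subgroup K) = p := by
    rw [hPcoe, Nat.card_zpowers, hord']
  have hP : Subgroup.normalizer ((P : Subgroup K) : Set K) ≤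
      Subgroup.centralizer ((P : Subgroup K) : Set K) := by
    intro n hn
    have h1 : n * a' * n⁻¹ ∈ (P : Subgroup K) :=
      (Subgroup.mem_normalizer_iff.mp hn a').mp (Subgroup.mem_zpowers a')
    rw [hPcoe, Subgroup.mem_zpowers_iff] at h1
    obtain ⟨k, hk⟩ := h1
    have h2 : (n : Perm Ω) * a * (n : Perm Ω)⁻¹ ∈ Subgroup.zpowers a := by
      rw [Subgroup.mem_zpowers_iff]
      refine ⟨k, ?_⟩
      have := congrArg (fun z : K => (z : Perm Ω)) hk
      simpa [ha'] using this
    have h3 := hcon (n : Perm Ω) n.2 h2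
    have h4 : n * a' * n⁻¹ = a' := Subtype.ext (by simpa [ha'] using h3)
    have h5 : Commute n a' := by
      have := congrArg (· * n) h4
      show n * a' = a' * n
      simpa [mul_assoc] using this
    rw [Subgroup.mem_centralizer_iff]
    intro h hh
    rw [SetLike.mem_coe, hPcoe, Subgroup.mem_zpowers_iff] at hh
    obtain ⟨j, rfl⟩ := hh
    exact ((h5.zpow_right j).eq).symm
  have hcompl := MonoidHom.ker_transferSylow_isComplement' P hP
  have hNmem : ∀ g : K, ¬ p ∣ orderOf g → g ∈ (MonoidHom.transferSylow P hP).ker := by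
    intro g hg
    rw [MonoidHom.mem_ker]
    have h1 : orderOf (MonoidHom.transferSylow P hP g) ∣ orderOf g := orderOf_map_dvd _ g
    have h2 : orderOf (MonoidHom.transferSylow P hP g) ∣ p := by
      have := orderOf_dvd_natCard (MonoidHom.transferSylow P hP g)
      rwa [hPcard] at this
    have h3 : orderOf (MonoidHom.transferSylow P hP g) = 1 := by
      rcases (Nat.dvd_prime hp).mp h2 with h | h
      · exact h
      · exfalso; apply hg; rw [← h]; exact h1
    exact orderOf_eq_one_iff.mp h3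
  have haα : a α = α := hα a haK
  have haβ : a β = β := hβ a haK
  have hfixord : ∀ g : K, ∀ x, a x ≠ x → (g : Perm Ω) x = x → ¬ p ∣ orderOf g := by
    intro g x hx hgx hdvd
    rw [← Subgroup.orderOf_coe g] at hdvd
    obtain ⟨m, hm⟩ := hdvd
    have hm0 : 0 < orderOf (g : Perm Ω) := orderOf_pos _
    have hhp : ((g : Perm Ω) ^ m) ^ p = 1 := by
      rw [← pow_mul, mul_comm, ← hm, pow_orderOf_eq_one]
    have hxα : x ≠ α := fun h => hx (h ▸ haα)
    have hxβ : x ≠ β := fun h => hx (h ▸ haβ)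
    have h1 : (g : Perm Ω) ^ m = 1 :=
      eq_one_of_pow_prime_of_three_fixed hp hΩ _ hhp hxα hxβ hαβ
        (Equiv.Perm.pow_apply_eq_self_of_apply_eq_self hgx m)
        (Equiv.Perm.pow_apply_eq_self_of_apply_eq_self (hα _ g.2) m)
        (Equiv.Perm.pow_apply_eq_self_of_apply_eq_self (hβ _ g.2) m)
    have h2 : orderOf (g : Perm Ω) ∣ m := orderOf_dvd_of_pow_eq_one h1
    rw [hm] at h2 hm0
    have hmpos : 0 < m := Nat.pos_of_mul_pos_left hm0 |> fun _ => by
      rcases Nat.eq_zero_or_pos m with h | h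
      · rw [h] at hm0; simp at hm0
      · exact h
    have := Nat.le_of_dvd hmpos h2
    have h2p := hp.two_le
    nlinarith
  have hNbot : ∀ q ∈ (MonoidHom.transferSylow P hP).ker, q = 1 := by
    intro q hq
    apply Subtype.ext
    ext x
    show (q : Perm Ω) x = x
    by_cases hx : a x = x
    · rcases hfixa x hx with rfl | rfl
      · exact hα _ q.2
      · exact hβ _ q.2
    · have hqx : a ((q : Perm Ω) x) ≠ (q : Perm Ω) x := by
        intro h
        rcases hfixa _ h with h' | h'
        · have : x = α := (q : Perm Ω).injective (h'.trans (hα _ q.2).symm)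
          exact hx (this ▸ haα)
        · have : x = β := (q : Perm Ω).injective (h'.trans (hβ _ q.2).symm)
          exact hx (this ▸ haβ)
      obtain ⟨i, hi⟩ := hac.exists_zpow_eq hx hqx
      have hfix : ((a' ^ (-i) * q : K) : Perm Ω) x = x := by
        rw [Subgroup.coe_mul, Subgroup.coe_zpow, Perm.mul_apply, ← hi, ← Perm.mul_apply,
          ← zpow_add]
        simp
      have hmem : a' ^ (-i) * q ∈ (MonoidHom.transferSylow P hP).ker :=
        hNmem _ (hfixord _ x hx hfix)
      have hmem2 : a' ^ (-i) ∈ (MonoidHom.transferSylow P hP).ker := by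
        have := Subgroup.mul_mem _ hmem (Subgroup.inv_mem _ hq)
        simpa using this
      have hP2 : a' ^ (-i) ∈ (P : Subgroup K) := by
        rw [hPcoe]; exact Subgroup.zpow_mem _ (Subgroup.mem_zpowers a') _
      have h1 : a' ^ (-i) = 1 := Subgroup.disjoint_def.mp hcompl.disjoint hmem2 hP2
      have h2 : a ^ i = 1 := by
        have := congrArg (fun z : K => (z : Perm Ω)) h1
        simpa [ha'] using this
      rw [← hi, h2]; rfl
  have hNeq : (MonoidHom.transferSylow P hP).ker = ⊥ := (Subgroup.eq_bot_iff_forall _).mpr hNbot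
  rw [hNeq] at hcompl
  have hPtop : (P : Subgroup K) = ⊤ := Subgroup.isComplement'_bot_left.mp hcompl
  apply hcard
  have : Nat.card (P : Subgroup K) = Nat.card K := by rw [hPtop, Subgroup.card_top]
  rw [← this, hPcard]

/-- a `3`-transitive group of degree `p + 2` whose two-point stabiliser has order `p` forces
`p + 1` to be a power of `2` (helper3's `PP1` classification with `d = 1`). -/
theorem card_two_point_stabilizer_ne {Ω : Type*} [Fintype Ω] [DecidableEq Ω] {p : ℕ}
    (hp : p.Prime) (hp3 : 3 ≤ p) (hnot2 : ∀ k : ℕ, p + 1 ≠ 2 ^ k)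
    (hΩ : Fintype.card Ω = p + 2) (G : Subgroup (Perm Ω)) [IsPretransitive G Ω]
    (h3 : IsMultiplyPretransitive G Ω 3) {α β : Ω} (hαβ : α ≠ β) :
    Nat.card ↥(G ⊓ stabilizer (Perm Ω) α ⊓ stabilizer (Perm Ω) β) ≠ p := by
  classical
  intro hK
  have h2 : IsMultiplyPretransitive (stabilizer G α) (SubMulAction.ofStabilizer G α) 2 :=
    SubMulAction.ofStabilizer.isMultiplyPretransitive.mp h3
  haveI htr : IsPretransitive (stabilizer G α) (SubMulAction.ofStabilizer G α) :=
    isPretransitive_of_is_two_pretransitive (h2 := h2)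
  have hcΩ : Nat.card (SubMulAction.ofStabilizer G α) = p + 1 := by
    rw [SubMulAction.nat_card_ofStabilizer_eq, Nat.card_eq_fintype_card, hΩ]
    omega
  have hβmem : β ∈ SubMulAction.ofStabilizer G α :=
    (SubMulAction.mem_ofStabilizer_iff G α).mpr (Ne.symm hαβ)
  set β' : SubMulAction.ofStabilizer G α := ⟨β, hβmem⟩ with hβ'
  -- the stabiliser of `β'` is the two-point stabiliser
  let e : ↥(stabilizer (stabilizer G α) β') ≃
      ↥(G ⊓ stabilizer (Perm Ω) α ⊓ stabilizer (Perm Ω) β) :=
    { toFun := fun g => ⟨(((g : stabilizer G α) : G) : Perm Ω), by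
        refine Subgroup.mem_inf.mpr ⟨Subgroup.mem_inf.mpr ⟨(g : stabilizer G α).1.2, ?_⟩, ?_⟩
        · exact (g : stabilizer G α).2
        · have := g.2
          rw [mem_stabilizer_iff] at this ⊢
          exact congrArg Subtype.val this⟩
      invFun := fun k => ⟨⟨⟨k.1, (Subgroup.mem_inf.mp (Subgroup.mem_inf.mp k.2).1).1⟩,
          (Subgroup.mem_inf.mp (Subgroup.mem_inf.mp k.2).1).2⟩, by
        rw [mem_stabilizer_iff]
        apply Subtype.ext
        exact (Subgroup.mem_inf.mp k.2).2⟩
      left_inv := fun g => rfl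
      right_inv := fun k => rfl }
  have hcstab : Nat.card (stabilizer (stabilizer G α) β') = p := by
    rw [Nat.card_congr e, hK]
  have hcG : Nat.card (stabilizer G α) = (p + 1) * p * 1 := by
    have h1 := Subgroup.card_mul_index (stabilizer (stabilizer G α) β')
    rw [index_stabilizer_of_transitive, hcstab, hcΩ] at h1
    rw [← h1]; ring
  have H : Cfsg.Agent.Lib.Helper3.PP1.Hyp (stabilizer G α) (SubMulAction.ofStabilizer G α) p 1 :=
    { faith := by
        intro g hg
        apply Subtype.ext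
        apply Subtype.ext
        ext x
        show ((g : G) : Perm Ω) x = x
        by_cases hx : x = α
        · rw [hx]; exact g.2
        · have := hg ⟨x, (SubMulAction.mem_ofStabilizer_iff G α).mpr hx⟩
          exact congrArg Subtype.val this
      trans := fun x y => exists_smul_eq _ x y
      prime := hp
      cardΩ := hcΩ
      cardG := hcG
      lt := hp.one_lt }
  obtain ⟨R, hRn, hRt, hRs⟩ := Cfsg.Agent.Lib.Helper3.PP1.hasRegNormal_of_d_one H
  obtain ⟨q, -, hq, -⟩ :=
    Cfsg.Agent.Lib.Helper3.PP1.regular_case H (by omega) R hRn hRt hRs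
  exact hnot2 q hq

theorem conj_pow_nat {G : Type*} [Group G] {a c : G} {k : ℕ} (h : c * a * c⁻¹ = a ^ k) (n : ℕ) :
    c ^ n * a * (c ^ n)⁻¹ = a ^ (k ^ n) := by
  induction n with
  | zero => simp
  | succ n ih =>
    have h1 : c ^ (n + 1) * a * (c ^ (n + 1))⁻¹ = c ^ n * (c * a * c⁻¹) * (c ^ n)⁻¹ := by
      rw [pow_succ, _root_.mul_inv_rev]
      simp only [mul_assoc]
    rw [h1, h, ← conj_pow, ih, ← pow_mul, pow_succ]

theorem commute_of_commute_pow {G : Type*} [Group G] {a c : G} {p : ℕ} (hp : p.Prime)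
    (ha : orderOf a = p) {j : ℕ} (hj : a ^ j ≠ 1) (h : Commute c (a ^ j)) : Commute c a := by
  have hnd : ¬ p ∣ j := by
    intro hd
    apply hj
    rw [← ha] at hd
    exact orderOf_dvd_iff_pow_eq_one.mp hd
  have hcop : Nat.Coprime j p :=
    Nat.Coprime.symm ((Nat.Prime.coprime_iff_not_dvd hp).mpr hnd)
  obtain ⟨m, -, hm⟩ := Nat.exists_mul_mod_eq_one_of_coprime hcop hp.one_lt
  have h1 : (a ^ j) ^ m = a := by rw [← pow_mul, ← pow_mod_orderOf, ha, hm, pow_one]
  have := h.pow_right m
  rwa [h1] at this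

/-- an element normalising but not centralising `⟨a⟩` can be chosen of prime order -/
theorem exists_prime_order_normalizing {Ω : Type*} [Fintype Ω] [DecidableEq Ω] {p : ℕ}
    (hp : p.Prime) (K : Subgroup (Perm Ω)) (a : Perm Ω) (hac : a.IsCycle)
    (hap : a.support.card = p) (hfixK : ∀ k ∈ K, ∀ x, a x = x → k x = x)
    (hW : ∃ w ∈ K, w * a * w⁻¹ ∈ Subgroup.zpowers a ∧ w * a * w⁻¹ ≠ a) :
    ∃ c ∈ K, (orderOf c).Prime ∧ c * a * c⁻¹ ∈ Subgroup.zpowers a ∧ c * a * c⁻¹ ≠ a := by
  classical
  have hord : orderOf a = p := by rw [hac.orderOf, hap]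
  have hex : ∃ n, ∃ w ∈ K, w * a * w⁻¹ ∈ Subgroup.zpowers a ∧ w * a * w⁻¹ ≠ a ∧
      orderOf w = n := by
    obtain ⟨w, h1, h2, h3⟩ := hW
    exact ⟨orderOf w, w, h1, h2, h3, rfl⟩
  obtain ⟨c, hcK, hcn, hcne, hcord⟩ := Nat.find_spec hex
  have hmin : ∀ m, m < Nat.find hex → ¬ ∃ w ∈ K, w * a * w⁻¹ ∈ Subgroup.zpowers a ∧
      w * a * w⁻¹ ≠ a ∧ orderOf w = m := fun m hm => Nat.find_min hex hm
  obtain ⟨n, hn⟩ : ∃ n, n = Nat.find hex := ⟨_, rfl⟩
  rw [← hn] at hcord hmin
  have hc1 : c ≠ 1 := by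
    rintro rfl
    simp at hcne
  have hn1 : n ≠ 1 := by
    rw [← hcord]
    intro h
    exact hc1 (orderOf_eq_one_iff.mp h)
  have hn0 : 0 < n := by rw [← hcord]; exact orderOf_pos c
  obtain ⟨r, hr⟩ : ∃ r, r = n.minFac := ⟨_, rfl⟩
  have hrp : r.Prime := hr ▸ Nat.minFac_prime hn1
  have hrn : r ∣ n := hr ▸ Nat.minFac_dvd n
  obtain ⟨k, hk⟩ : ∃ k : ℕ, a ^ k = c * a * c⁻¹ :=
    (Submonoid.mem_powers_iff _ _).mp (mem_powers_iff_mem_zpowers.mpr hcn)
  have hd : c ^ r * a * (c ^ r)⁻¹ = a ^ (k ^ r) := conj_pow_nat hk.symm r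
  have hdord : orderOf (c ^ r) = n / r := by
    rw [← hcord]
    exact orderOf_pow_of_dvd hrp.ne_zero (hcord ▸ hrn)
  have hlt : n / r < n := Nat.div_lt_self hn0 hrp.one_lt
  have hdK : c ^ r ∈ K := K.pow_mem hcK r
  have hdcomm : c ^ r * a * (c ^ r)⁻¹ = a := by
    by_contra hne
    refine hmin (n / r) hlt ⟨c ^ r, hdK, ?_, hne, hdord⟩
    rw [hd]
    exact Subgroup.pow_mem _ (Subgroup.mem_zpowers a) _
  have hcomm : Commute (c ^ r) a := by
    show c ^ r * a = a * c ^ r
    have := congrArg (· * c ^ r) hdcomm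
    simpa [mul_assoc] using this
  have hdz : c ^ r ∈ Subgroup.zpowers a :=
    mem_zpowers_of_commute_of_fix hac hcomm (fun x hx => hfixK _ hdK x hx)
  have hd1 : c ^ r = 1 := by
    by_contra hne
    obtain ⟨j, hj⟩ : ∃ j : ℕ, a ^ j = c ^ r :=
      (Submonoid.mem_powers_iff _ _).mp (mem_powers_iff_mem_zpowers.mpr hdz)
    have h1 : Commute c (a ^ j) := by
      rw [hj]
      exact (Commute.refl c).pow_right r
    have h2 : Commute c a := commute_of_commute_pow hp hord (by rw [hj]; exact hne) h1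
    apply hcne
    rw [h2.eq, mul_inv_cancel_right]
  have hdvd : n ∣ r := by
    rw [← hcord]
    exact orderOf_dvd_of_pow_eq_one hd1
  have hnr : n = r := Nat.dvd_antisymm hdvd hrn
  refine ⟨c, hcK, ?_, hcn, hcne⟩
  rw [hcord, hnr]
  exact hrp

/-- an element of prime order `r` fixing `α, β`, normalising but not centralising the `p`-cycle `a`
has `r ∣ p - 1` and exactly three fixed points -/
theorem three_fixed_of_normalizing {Ω : Type*} [Fintype Ω] [DecidableEq Ω] {p : ℕ}
    (hp : p.Prime) (hΩ : Fintype.card Ω = p + 2) (a c : Perm Ω) (hac : a.IsCycle)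
    (hap : a.support.card = p) {α β : Ω} (hαβ : α ≠ β) (hcα : c α = α) (hcβ : c β = β)
    (hfixa : ∀ x, a x = x → x = α ∨ x = β) {r : ℕ} (hr : r.Prime) (hcr : orderOf c = r)
    (hcn : c * a * c⁻¹ ∈ Subgroup.zpowers a) (hcne : c * a * c⁻¹ ≠ a) :
    r ∣ p - 1 ∧ (Finset.univ.filter (fun ω => c ω = ω)).card = 3 := by
  classical
  have hord : orderOf a = p := by rw [hac.orderOf, hap]
  obtain ⟨k, hk⟩ : ∃ k : ℕ, a ^ k = c * a * c⁻¹ :=
    (Submonoid.mem_powers_iff _ _).mp (mem_powers_iff_mem_zpowers.mpr hcn)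
  have hkr : a ^ (k ^ r) = a := by
    rw [← conj_pow_nat hk.symm r, ← hcr, pow_orderOf_eq_one]
    simp
  have hmod1 : k ^ r ≡ 1 [MOD p] := by
    have h1 : a ^ (k ^ r) = a ^ 1 := by rw [hkr, pow_one]
    rw [pow_eq_pow_iff_modEq, hord] at h1
    exact h1
  have hmod2 : ¬ k ≡ 1 [MOD p] := by
    intro h
    apply hcne
    rw [← hk]
    have h1 : a ^ k = a ^ 1 := by
      rw [pow_eq_pow_iff_modEq, hord]
      exact h
    rw [h1, pow_one]
  haveI := Fact.mk hp
  have hz1 : ((k : ZMod p)) ^ r = 1 := by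
    have := (ZMod.natCast_eq_natCast_iff _ _ _).mpr hmod1
    simpa using this
  have hz2 : (k : ZMod p) ≠ 1 := by
    intro h
    apply hmod2
    have h1 : ((k : ℕ) : ZMod p) = ((1 : ℕ) : ZMod p) := by simpa using h
    exact (ZMod.natCast_eq_natCast_iff _ _ _).mp h1
  have hrdvd : r ∣ p - 1 := by
    obtain ⟨u, hu⟩ : ∃ u : (ZMod p)ˣ, (u : ZMod p) = (k : ZMod p) :=
      ⟨Units.ofPowEqOne (k : ZMod p) r hz1 hr.ne_zero, rfl⟩
    have hu1 : u ^ r = 1 := by
      apply Units.ext
      rw [Units.val_pow_eq_pow_val, hu, hz1, Units.val_one]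
    have hune : u ≠ 1 := by
      intro h
      apply hz2
      rw [← hu, h, Units.val_one]
    have hou : orderOf u = r := by
      have := orderOf_dvd_of_pow_eq_one hu1
      rcases (Nat.dvd_prime hr).mp this with h | h
      · exact absurd (orderOf_eq_one_iff.mp h) hune
      · exact h
    rw [← hou, ← ZMod.card_units p]
    exact orderOf_dvd_card
  have hclaim : ∀ x y, a x ≠ x → a y ≠ y → c x = x → c y = y → x = y := by
    intro x y hx hy hcx hcy
    by_contra hxy
    obtain ⟨i, hi⟩ := hac.exists_pow_eq hx hy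
    have h1 : c * a ^ i * c⁻¹ = (a ^ k) ^ i := by rw [hk, conj_pow]
    have hcinv : c⁻¹ x = x := by
      rw [Perm.inv_eq_iff_eq]
      exact hcx.symm
    have h2 : ((a ^ k) ^ i) x = (a ^ i) x := by
      rw [← h1, Perm.mul_apply, Perm.mul_apply, hcinv, hi, hcy]
    have h3 : a ^ (k * i) = a ^ i := by
      rw [hac.pow_eq_pow_iff]
      exact ⟨x, hx, by rw [pow_mul]; exact h2⟩
    have h4 : k * i ≡ i [MOD p] := by
      rw [pow_eq_pow_iff_modEq, hord] at h3
      exact h3
    have h5 : ¬ p ∣ i := by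
      intro hd
      apply hxy
      have h6 : a ^ i = 1 := by
        rw [← hord] at hd
        exact orderOf_dvd_iff_pow_eq_one.mp hd
      rw [← hi, h6]
      rfl
    have h6 : Nat.gcd p i = 1 := (Nat.Prime.coprime_iff_not_dvd hp).mpr h5
    have h7 : k ≡ 1 [MOD p] := by
      apply Nat.ModEq.cancel_right_of_coprime h6
      simpa using h4
    exact hmod2 h7
  obtain ⟨F, hF⟩ : ∃ F : Finset Ω, F = Finset.univ.filter (fun ω => c ω = ω) := ⟨_, rfl⟩
  have hmemF : ∀ ω, ω ∈ F ↔ c ω = ω := by
    intro ω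
    rw [hF]
    simp
  have hFeq : F = c.supportᶜ := by
    ext ω
    rw [hmemF, Finset.mem_compl, Equiv.Perm.mem_support, not_not]
  have hmodF : F.card ≡ p + 2 [MOD r] := by
    haveI := Fact.mk hr
    rw [hFeq, ← hΩ]
    exact Equiv.Perm.card_compl_support_modEq (p := r) (n := 1)
      (by rw [pow_one, ← hcr, pow_orderOf_eq_one])
  have hαF : α ∈ F := (hmemF α).mpr hcα
  have hβF : β ∈ F := (hmemF β).mpr hcβ
  have hge : 2 ≤ F.card := by
    have hsub : ({α, β} : Finset Ω) ⊆ F := by
      intro ω hω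
      simp only [Finset.mem_insert, Finset.mem_singleton] at hω
      rcases hω with rfl | rfl <;> assumption
    calc 2 = ({α, β} : Finset Ω).card := (Finset.card_pair hαβ).symm
      _ ≤ F.card := Finset.card_le_card hsub
  have hle : F.card ≤ 3 := by
    by_contra hgt
    push Not at hgt
    have h4 : 1 < ((F.erase α).erase β).card := by
      rw [Finset.card_erase_of_mem (Finset.mem_erase.mpr ⟨Ne.symm hαβ, hβF⟩),
        Finset.card_erase_of_mem hαF]
      omega
    obtain ⟨x, hx, y, hy, hxy⟩ := Finset.one_lt_card.mp h4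
    simp only [Finset.mem_erase] at hx hy
    apply hxy
    apply hclaim x y
    · intro h
      rcases hfixa x h with h | h
      · exact hx.2.1 h
      · exact hx.1 h
    · intro h
      rcases hfixa y h with h | h
      · exact hy.2.1 h
      · exact hy.1 h
    · exact (hmemF x).mp hx.2.2
    · exact (hmemF y).mp hy.2.2
  have h3mod : p + 2 ≡ 3 [MOD r] := by
    obtain ⟨t, ht⟩ := hrdvd
    have hp1 := hp.one_lt
    have h1 : p + 2 = 3 + r * t := by omega
    show (p + 2) % r = 3 % r
    rw [h1, Nat.add_mul_mod_self_left]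
  have hFmod : F.card ≡ 3 [MOD r] := hmodF.trans h3mod
  refine ⟨hrdvd, ?_⟩
  rw [← hF]
  by_contra hne
  have h2 : F.card = 2 := by omega
  rw [h2] at hFmod
  have h1 : r ∣ 3 - 2 := (Nat.modEq_iff_dvd' (by norm_num)).mp hFmod
  have := Nat.le_of_dvd (by norm_num) h1
  have := hr.two_le
  omega

end Helper20

open Helper20 in
theorem twin_exists_c {Ω : Type*} [Fintype Ω] [DecidableEq Ω] {p : ℕ} (hp : p.Prime) (hp5 : 5 ≤ p)
    (hnot2 : ∀ k : ℕ, p + 1 ≠ 2 ^ k)
    (hΩ : Fintype.card Ω = p + 2) (G : Subgroup (Perm Ω)) (hG : G ≤ alternatingGroup Ω)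
    (a b : Perm Ω) (ha : a ∈ G) (hb : b ∈ G) (hac : a.IsCycle) (hap : a.support.card = p)
    (hbc : b.IsCycle) (hbq : b.support.card = p + 2) :
    MulAction.IsMultiplyPretransitive G Ω 3 ∧
      ∃ c ∈ G, ∃ r : ℕ, r.Prime ∧ r ∣ p - 1 ∧ orderOf c = r ∧
        (Finset.univ.filter (fun ω => c ω = ω)).card = 3 := by
  classical
  -- transitivity from the full cycle
  have hbsupp : b.support = Finset.univ := by
    apply Finset.eq_univ_of_card
    rw [hbq, hΩ]
  haveI htrans : IsPretransitive G Ω := by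
    constructor
    intro x y
    have hx : b x ≠ x := by
      rw [← Equiv.Perm.mem_support, hbsupp]
      exact Finset.mem_univ _
    have hy : b y ≠ y := by
      rw [← Equiv.Perm.mem_support, hbsupp]
      exact Finset.mem_univ _
    obtain ⟨i, hi⟩ := hbc.exists_zpow_eq hx hy
    refine ⟨(⟨b, hb⟩ : G) ^ i, ?_⟩
    rw [Subgroup.smul_def, Subgroup.coe_zpow, Perm.smul_def]
    exact hi
  have hprim : IsPreprimitive G Ω :=
    isPreprimitive_of_prime_cycle hp (by rw [hΩ]; omega) G a ha hac hap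
  have h3 : IsMultiplyPretransitive G Ω 3 :=
    Cfsg.Agent.Lib.Helper12.HallSym.multiTrans' G hprim hp (m := 1) (by rw [hΩ]) hac hap ha
  refine ⟨h3, ?_⟩
  -- the two fixed points of `a`
  have hc2 : a.supportᶜ.card = 2 := by
    rw [Finset.card_compl, hΩ, hap]
    omega
  obtain ⟨α, β, hαβ, hαβeq⟩ := Finset.card_eq_two.mp hc2
  have hfixa : ∀ x, a x = x → x = α ∨ x = β := by
    intro x hx
    have : x ∈ a.supportᶜ := by
      rw [Finset.mem_compl, Equiv.Perm.mem_support, not_not]
      exact hx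
    rw [hαβeq] at this
    simpa using this
  obtain ⟨K, hK⟩ : ∃ K : Subgroup (Perm Ω),
      K = G ⊓ stabilizer (Perm Ω) α ⊓ stabilizer (Perm Ω) β := ⟨_, rfl⟩
  have hmemK : ∀ g, g ∈ K ↔ (g ∈ G ∧ g α = α) ∧ g β = β := by
    intro g
    rw [hK, Subgroup.mem_inf, Subgroup.mem_inf, mem_stabilizer_iff, mem_stabilizer_iff,
      Perm.smul_def, Perm.smul_def]
  have haα : a α = α := by
    have : α ∈ a.supportᶜ := by rw [hαβeq]; simp
    rwa [Finset.mem_compl, Equiv.Perm.mem_support, not_not] at this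
  have haβ : a β = β := by
    have : β ∈ a.supportᶜ := by rw [hαβeq]; simp
    rwa [Finset.mem_compl, Equiv.Perm.mem_support, not_not] at this
  have haK : a ∈ K := (hmemK a).mpr ⟨⟨ha, haα⟩, haβ⟩
  have hα : ∀ k ∈ K, k α = α := fun k hk => ((hmemK k).mp hk).1.2
  have hβ : ∀ k ∈ K, k β = β := fun k hk => ((hmemK k).mp hk).2
  have hcardK : Nat.card K ≠ p := by
    rw [hK]
    exact card_two_point_stabilizer_ne hp (by omega) hnot2 hΩ G h3 hαβ
  have hW := exists_normalizing_of_card_ne hp (by omega) hΩ K a haK hac hap hαβ hα hβ hfixa hcardK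
  have hfixK : ∀ k ∈ K, ∀ x, a x = x → k x = x := by
    intro k hk x hx
    rcases hfixa x hx with rfl | rfl
    · exact hα k hk
    · exact hβ k hk
  obtain ⟨c, hcK, hcp, hcn, hcne⟩ := exists_prime_order_normalizing hp K a hac hap hfixK hW
  obtain ⟨hrd, hcard⟩ := three_fixed_of_normalizing hp hΩ a c hac hap hαβ (hα c hcK) (hβ c hcK)
    hfixa hcp rfl hcn hcne
  exact ⟨c, ((hmemK c).mp hcK).1.1, orderOf c, hcp, hrd, rfl, hcard⟩

end Cfsg.Agent.Lib.Helper1.S4150
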