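import Mathlib
import Cfsg.Prelude.Def_GeometricClasses
import Cfsg.Agent.Lib.Helper16.TensDefs
import Cfsg.Agent.Lib.Helper10.TensFund
import Cfsg.Agent.Lib.Helper28.TensUDefs
import Cfsg.Agent.Lib.Helper3.SpTDefs
import Cfsg.Agent.Lib.Helper3.SpTL1a
import Cfsg.Agent.Lib.Helper3.SpTL1b

/-!
# Vocabulary for S5666: `(Sp_a ⊗ O_b) ∩ Sp_{ab}` is maximal in `Sp_{ab}(q)`, `q` odd  (helper20)

`V = (Fin a × Fin b → F) = U ⊗ W`, `U = F^a` with the non-degenerate ALTERNATING form `f₁ = bf J1`, `W = F^b` with the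
non-degenerate SYMMETRIC form `f₂ = bf J2`; `BB J1 J2 = bf (J1 ⊗ₖ J2) = f₁ ⊗ f₂` is alternating on `V`.
Everything else is taken from libraries on main:
* helper16 `TensDefs`: `pur u w = u ⊗ w`, `purL`, `purR`, `ctr ψ = 1 ⊗ ψ`, `hyp ψ = U ⊗ ker ψ`, `act g`, `img g S`, `rootGL k ψ h = 1 ⊗ (1 + k ψᵀ)`;
* helper10 `TensFund`: `pt k = U ⊗ k`;
* helper28 `TensUDefs`: `ctrL φ = φ ⊗ 1`, `hypL φ = ker φ ⊗ W`, `ptL u = u ⊗ W`, `rootGLL u φ h = (1 + u φᵀ) ⊗ 1`;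
* helper3 `SpTDefs`/`SpTL1a`/`SpTL1b`: `bf J x y = x ⬝ᵥ J *ᵥ y`, `SympG J`, `E J w w' : x ↦ f(x,w') w`, `adj`, `uni T h = 1 + T`,
  `bf_kron_pur`, `bf_kron_pur_right`, `eq_sum_pur`, `pur_induction`, `kron_E_mulVec`, `rootU`, `act_rootU`, `act_kronGL`, ...
New here:
* `SymG J2`   : `bf J2` symmetric and non-degenerate;
* `BB J1 J2`  : the tensor form (a `def`, with its own algebra lemmas `BB_add_left` ...; `BB_pur_pur`);
* `SpB J1 J2` : the isometry group of `BB` in `GL (Fin a × Fin b) F`;   `N0 = Cfsg.Geo.kroneckerSubgroup a b F`;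
* `tvB J1 J2 hBB x c` : the symplectic transvection `v ↦ v + (c * BB v x) • x`;
* `rM J1 h1 u c`      : the U-side root element `t_{u,c} ⊗ 1`, `t_{u,c} u' = u' + c f₁(u',u) u`;
                        `[V, rM] = ptL u = u ⊗ W`, `C_V(rM) = hypL (J1 *ᵥ u) = u^⊥ ⊗ W`;
* `Setup J1 J2`, `OverS J1 J2 M` (`N0 ⊓ SpB ≤ M ≤ SpB`), `HypAM M`, `HypAL J2 M`, `HypE1M J1 h1 M`.
-/

set_option autoImplicit false

namespace Cfsg.Agent.Lib.Helper20.SpO

open Matrix Module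
open scoped Kronecker
open Cfsg.Agent.Lib.Helper16.Tens Cfsg.Agent.Lib.Helper10.TensFund Cfsg.Agent.Lib.Helper28.TensU
open Cfsg.Agent.Lib.Helper3.SpT

variable {F : Type*} [Field F]

/-- a non-degenerate symmetric Gram matrix -/
structure SymG {κ : Type} [Fintype κ] (J : Matrix κ κ F) : Prop where
  symm : ∀ x y, bf J x y = bf J y x
  nondeg : ∀ x, (∀ y, bf J x y = 0) → x = 0

theorem SymG.nondeg_right {κ : Type} [Fintype κ] {J : Matrix κ κ F} (hJ : SymG J) (y : κ → F)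
    (h : ∀ x, bf J x y = 0) : y = 0 :=
  hJ.nondeg y (fun x => by rw [hJ.symm]; exact h x)

variable {a b : ℕ} (J1 : Matrix (Fin a) (Fin a) F) (J2 : Matrix (Fin b) (Fin b) F)

/-- the tensor form `f₁ ⊗ f₂` on `V = U ⊗ W` -/
def BB (x y : Fin a × Fin b → F) : F := bf (J1 ⊗ₖ J2) x y

theorem BB_def (x y : Fin a × Fin b → F) : BB J1 J2 x y = bf (J1 ⊗ₖ J2) x y := rfl

theorem BB_add_left (x x' y : Fin a × Fin b → F) : BB J1 J2 (x + x') y = BB J1 J2 x y + BB J1 J2 x' y :=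
  bf_add_left _ _ _ _
theorem BB_add_right (x y y' : Fin a × Fin b → F) : BB J1 J2 x (y + y') = BB J1 J2 x y + BB J1 J2 x y' :=
  bf_add_right _ _ _ _
theorem BB_sub_left (x x' y : Fin a × Fin b → F) : BB J1 J2 (x - x') y = BB J1 J2 x y - BB J1 J2 x' y :=
  bf_sub_left _ _ _ _
theorem BB_sub_right (x y y' : Fin a × Fin b → F) : BB J1 J2 x (y - y') = BB J1 J2 x y - BB J1 J2 x y' :=
  bf_sub_right _ _ _ _
theorem BB_smul_left (c : F) (x y : Fin a × Fin b → F) : BB J1 J2 (c • x) y = c * BB J1 J2 x y :=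
  bf_smul_left _ _ _ _
theorem BB_smul_right (c : F) (x y : Fin a × Fin b → F) : BB J1 J2 x (c • y) = c * BB J1 J2 x y :=
  bf_smul_right _ _ _ _
theorem BB_neg_left (x y : Fin a × Fin b → F) : BB J1 J2 (-x) y = - BB J1 J2 x y := bf_neg_left _ _ _
theorem BB_neg_right (x y : Fin a × Fin b → F) : BB J1 J2 x (-y) = - BB J1 J2 x y := bf_neg_right _ _ _
@[simp] theorem BB_zero_left (y : Fin a × Fin b → F) : BB J1 J2 0 y = 0 := bf_zero_left _ _
@[simp] theorem BB_zero_right (x : Fin a × Fin b → F) : BB J1 J2 x 0 = 0 := bf_zero_right _ _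

/-- `B(u ⊗ w, u' ⊗ w') = f₁(u,u') f₂(w,w')` -/
theorem BB_pur_pur (u u' : Fin a → F) (w w' : Fin b → F) :
    BB J1 J2 (pur u w) (pur u' w') = bf J1 u u' * bf J2 w w' := bf_kron_pur u u' w w'

/-- `B(v, u' ⊗ k) = f₁(c_k(v), u')`, `c_k = ctr (J2 *ᵥ k)` the contraction with `f₂(·, k)` -/
theorem BB_pur_right (v : Fin a × Fin b → F) (u' : Fin a → F) (k : Fin b → F) :
    BB J1 J2 v (pur u' k) = bf J1 (ctr (J2 *ᵥ k) v) u' := bf_kron_pur_right v u' k

/-- the isometry group of the tensor form -/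
def SpB : Subgroup (GL (Fin a × Fin b) F) where
  carrier := {g | ∀ x y, BB J1 J2 (act g x) (act g y) = BB J1 J2 x y}
  mul_mem' {g h} hg hh := by
    intro x y
    rw [act_mul, act_mul, hg, hh]
  one_mem' := by
    intro x y
    rw [act_one, act_one]
  inv_mem' {g} hg := by
    intro x y
    have h := hg (act g⁻¹ x) (act g⁻¹ y)
    rw [act_act_inv, act_act_inv] at h
    exact h.symm

theorem mem_SpB_iff (g : GL (Fin a × Fin b) F) :
    g ∈ SpB J1 J2 ↔ ∀ x y, BB J1 J2 (act g x) (act g y) = BB J1 J2 x y := Iff.rfl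

/-- the transvection matrix part squares to zero -/
theorem tv_sq (hBB : ∀ x, BB J1 J2 x x = 0) (x : Fin a × Fin b → F) (c : F) :
    (c • E (J1 ⊗ₖ J2) x x) * (c • E (J1 ⊗ₖ J2) x x) = 0 := by
  rw [Matrix.smul_mul, Matrix.mul_smul, E_mul_E]
  have h : bf (J1 ⊗ₖ J2) x x = 0 := hBB x
  rw [h, zero_smul, smul_zero, smul_zero]

/-- the symplectic transvection `v ↦ v + (c * B(v,x)) • x` -/
def tvB (hBB : ∀ x, BB J1 J2 x x = 0) (x : Fin a × Fin b → F) (c : F) : GL (Fin a × Fin b) F :=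
  uni (c • E (J1 ⊗ₖ J2) x x) (tv_sq J1 J2 hBB x c)

theorem tvB_val (hBB : ∀ x, BB J1 J2 x x = 0) (x : Fin a × Fin b → F) (c : F) :
    ((tvB J1 J2 hBB x c : GL (Fin a × Fin b) F) : Matrix (Fin a × Fin b) (Fin a × Fin b) F) =
      1 + c • E (J1 ⊗ₖ J2) x x := rfl

theorem act_tvB (hBB : ∀ x, BB J1 J2 x x = 0) (x : Fin a × Fin b → F) (c : F) (v : Fin a × Fin b → F) :
    act (tvB J1 J2 hBB x c) v = v + (c * BB J1 J2 v x) • x := by
  rw [act_apply, tvB_val, Matrix.add_mulVec, Matrix.one_mulVec, Matrix.smul_mulVec, E_mulVec, smul_smul]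
  rfl

theorem J_dot_smul (h1 : SympG J1) (u : Fin a → F) (c : F) : (J1 *ᵥ u) ⬝ᵥ (c • u) = 0 := by
  rw [dotProduct_smul, dotProduct_comm]
  have h : u ⬝ᵥ J1 *ᵥ u = 0 := h1.alt u
  rw [h, smul_zero]

/-- the U-side root element `t_{u,c} ⊗ 1`, `t_{u,c} u' = u' + c f₁(u',u) u` -/
def rM (h1 : SympG J1) (u : Fin a → F) (c : F) : GL (Fin a × Fin b) F :=
  rootGLL (c • u) (J1 *ᵥ u) (J_dot_smul J1 h1 u c)

theorem act_rM (h1 : SympG J1) (u : Fin a → F) (c : F) (v : Fin a × Fin b → F) :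
    act (rM (b := b) J1 h1 u c) v = v + c • pur u (ctrL (J1 *ᵥ u) v) := by
  unfold rM
  rw [act_rootGLL, pur_smul_left]

theorem ctrL_J_pur (u u' : Fin a → F) (w : Fin b → F) :
    ctrL (J1 *ᵥ u) (pur u' w) = bf J1 u' u • w := by
  rw [ctrL_pur]
  rfl

theorem act_rM_pur (h1 : SympG J1) (u : Fin a → F) (c : F) (u' : Fin a → F) (w : Fin b → F) :
    act (rM (b := b) J1 h1 u c) (pur u' w) = pur (u' + (c * bf J1 u' u) • u) w := by
  rw [act_rM, ctrL_J_pur, pur_smul_right, smul_smul, pur_add_left, pur_smul_left]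

theorem rM_mem_kron (h1 : SympG J1) (u : Fin a → F) (c : F) :
    rM (b := b) J1 h1 u c ∈ Cfsg.Geo.kroneckerSubgroup a b F := rootGLL_mem_kron _ _ _

/-- the standing hypotheses: `f₁` symplectic, `f₂` symmetric non-degenerate, odd characteristic -/
structure Setup : Prop where
  h1 : SympG J1
  h2 : SymG J2
  two_ne : (2 : F) ≠ 0

/-- `N0 ⊓ Sp ≤ M ≤ Sp` -/
structure OverS (M : Subgroup (GL (Fin a × Fin b) F)) : Prop where
  le_Sp : M ≤ SpB J1 J2
  kron_mem : ∀ g : GL (Fin a × Fin b) F, g ∈ Cfsg.Geo.kroneckerSubgroup a b F → g ∈ SpB J1 J2 → g ∈ M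

/-- (A_M): every element of `M` mapping a standard `u ⊗ W` onto a standard `u' ⊗ W` lies in `N0` -/
def HypAM (M : Subgroup (GL (Fin a × Fin b) F)) : Prop :=
  ∀ m ∈ M, ∀ u u' : Fin a → F, u ≠ 0 → img m (ptL (b := b) u) = ptL u' → m ∈ Cfsg.Geo.kroneckerSubgroup a b F

/-- (A_L): every element of `M` mapping a standard `U ⊗ k` onto a standard `U ⊗ k'` (`k`, `k'` singular) lies in `N0` -/
def HypAL (M : Subgroup (GL (Fin a × Fin b) F)) : Prop :=
  ∀ m ∈ M, ∀ k k' : Fin b → F, k ≠ 0 → bf J2 k k = 0 → k' ≠ 0 → bf J2 k' k' = 0 →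
    img m (pt (a := a) k) = pt k' → m ∈ Cfsg.Geo.kroneckerSubgroup a b F

/-- an `M`-conjugate of a U-side root element lies in `N0` only if the conjugating element does -/
def HypE1M (h1 : SympG J1) (M : Subgroup (GL (Fin a × Fin b) F)) : Prop :=
  ∀ g ∈ M, ∀ (u : Fin a → F) (c : F), u ≠ 0 → c ≠ 0 →
    g * rM J1 h1 u c * g⁻¹ ∈ Cfsg.Geo.kroneckerSubgroup a b F → g ∈ Cfsg.Geo.kroneckerSubgroup a b F

end Cfsg.Agent.Lib.Helper20.SpO
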