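import Mathlib
import Cfsg.Agent.Lib.Helper13.TensSODefs

/-!
# S5666, the exit for `a ≥ 4` (`A-T2T3` + `A-T3c` of `notes/S5666Skel_helper13.lean.txt`): vocabulary  (helper20)

On helper13's `TensSODefs`.  `u₀ ≠ 0` in `U`, `L0 = ptL u₀ = u₀ ⊗ W` (totally isotropic), `P0 = hypL (J1 *ᵥ u₀) = u₀^⊥ ⊗ W = L0^⊥`.
* `ctrE_mulVec` : `(E J1 u u' ⊗ₖ σ) *ᵥ v = pur u (σ *ᵥ ctrL (J1 *ᵥ u') v)`;
* `siegU J1 h u₀ x c hx = ρ_{u₀,x,c} ⊗ 1`, `ρ y = y + f₁(y,x) u₀ + f₁(y,u₀) x + c f₁(y,u₀) u₀` (`x ⟂ u₀`): the elements of `N0 ∩ Q`,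
  `Q` = the unipotent radical of the stabiliser of `L0`;  `siegU … 0 c = rU u₀ c`;
* `InRadL J1 u₀ g` : `g` is trivial on `L0` and on `P0 / L0`  ("`g ∈ Q`");
* `zU J1 h u₀ σ = 1 + E J1 u₀ u₀ ⊗ₖ σ : v ↦ v + pur u₀ (σ *ᵥ ctrL (J1 *ᵥ u₀) v)` : the elements trivial on `P0` ("`Q₀`"); an isometry iff `σ` is
  `f₂`-selfadjoint; `zU (c • 1) = rU u₀ c`; `zU (c • E J2 w w)` = the transvection with centre `pur u₀ w`;
* `Cls J1 J2 u₀ g D` : `g ∈ Q` is an isometry with "class" `D`: `g (y ⊗ w) = y ⊗ w + u₀ ⊗ D(y) w` for `y ⟂ u₀`;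
* `reflM J2 w = 1 - (2 / f₂(w,w)) E J2 w w`, `reflGL`, `reflK = 1 ⊗ r_w ∈ N0`.
-/

set_option autoImplicit false

namespace Cfsg.Agent.Lib.Helper20.S5666Exit

open Matrix Module
open Cfsg.Agent.Lib.Helper16.Tens Cfsg.Agent.Lib.Helper10.TensFund Cfsg.Agent.Lib.Helper13.TensSO
open Cfsg.Agent.Lib.Helper28.TensU (ctrL ctrL_apply ctrL_pur hypL mem_hypL_iff ptL mem_ptL_iff pur_mem_ptL rootGLL
  rootGLL_val act_rootGLL rootGLL_mem_SL rootGLL_mem_kron)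
open Cfsg.Agent.Lib.Helper3.SpT (bf SympG E E_mulVec E_mul_E uni uni_val uni_inv_val)
open Cfsg.Agent.Lib.Helper23.S5637T3b (kronGL kronGL_val kronGL_mem_kron)
open scoped Kronecker

variable {F : Type*} [Field F] {a b : ℕ}

/-- `(E J1 u u' ⊗ σ) v = u ⊗ σ (f₁(·,u') ⊗ 1) v` -/
theorem ctrE_mulVec (J1 : Matrix (Fin a) (Fin a) F) (u u' : Fin a → F) (σ : Matrix (Fin b) (Fin b) F)
    (v : Fin a × Fin b → F) :
    (E J1 u u' ⊗ₖ σ) *ᵥ v = pur u (σ *ᵥ ctrL (J1 *ᵥ u') v) := by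
  funext ⟨i, j⟩
  simp only [Matrix.mulVec, dotProduct, Matrix.kroneckerMap_apply, E, vecMulVec_apply, Fintype.sum_prod_type,
    pur_apply, ctrL_apply]
  rw [Finset.sum_comm, Finset.mul_sum]
  apply Finset.sum_congr rfl
  intro j' _
  rw [Finset.mul_sum, Finset.mul_sum]
  apply Finset.sum_congr rfl
  intro i' _
  ring

variable (J1 : Matrix (Fin a) (Fin a) F) (J2 : Matrix (Fin b) (Fin b) F)

theorem siegU_aux1 (u₀ x : Fin a → F) (hx : bf J1 x u₀ = 0) : (J1 *ᵥ u₀) ⬝ᵥ x = 0 := by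
  rw [dotProduct_comm]
  exact hx

theorem siegU_aux2 (hJ1 : SympG J1) (u₀ x : Fin a → F) (c : F) (hx : bf J1 x u₀ = 0) :
    (c • (J1 *ᵥ u₀) + J1 *ᵥ x) ⬝ᵥ u₀ = 0 := by
  rw [add_dotProduct, smul_dotProduct, dotProduct_comm, dotProduct_comm (J1 *ᵥ x)]
  have h1 : u₀ ⬝ᵥ J1 *ᵥ u₀ = 0 := hJ1.alt u₀
  have h2 : u₀ ⬝ᵥ J1 *ᵥ x = 0 := hJ1.eq_zero_comm hx
  rw [h1, h2, smul_zero, add_zero]

/-- `ρ_{u₀,x,c} ⊗ 1`, `ρ y = y + f₁(y,x) u₀ + f₁(y,u₀) x + c f₁(y,u₀) u₀`, for `x ⟂ u₀` -/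
def siegU (hJ1 : SympG J1) (u₀ x : Fin a → F) (c : F) (hx : bf J1 x u₀ = 0) : GL (Fin a × Fin b) F :=
  rootGLL x (J1 *ᵥ u₀) (siegU_aux1 J1 u₀ x hx) *
    rootGLL u₀ (c • (J1 *ᵥ u₀) + J1 *ᵥ x) (siegU_aux2 J1 hJ1 u₀ x c hx)

theorem siegU_mem_kron (hJ1 : SympG J1) (u₀ x : Fin a → F) (c : F) (hx : bf J1 x u₀ = 0) :
    siegU (b := b) J1 hJ1 u₀ x c hx ∈ Cfsg.Geo.kroneckerSubgroup a b F :=
  (Cfsg.Geo.kroneckerSubgroup a b F).mul_mem (rootGLL_mem_kron _ _ _) (rootGLL_mem_kron _ _ _)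

theorem ctrL_J_pur (u u' : Fin a → F) (w : Fin b → F) :
    ctrL (J1 *ᵥ u) (pur u' w) = bf J1 u' u • w := by
  rw [ctrL_pur]
  rfl

theorem act_siegU (hJ1 : SympG J1) (u₀ x : Fin a → F) (c : F) (hx : bf J1 x u₀ = 0) (v : Fin a × Fin b → F) :
    act (siegU (b := b) J1 hJ1 u₀ x c hx) v =
      v + pur u₀ (ctrL (c • (J1 *ᵥ u₀) + J1 *ᵥ x) v) + pur x (ctrL (J1 *ᵥ u₀) v) := by
  unfold siegU
  rw [act_mul, act_rootGLL, act_rootGLL, map_add, ctrL_J_pur, hJ1.alt, zero_smul, add_zero]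

/-- on pure tensors: `ρ y = y + (f₁(y,x) + c f₁(y,u₀)) u₀ + f₁(y,u₀) x` -/
theorem act_siegU_pur (hJ1 : SympG J1) (u₀ x : Fin a → F) (c : F) (hx : bf J1 x u₀ = 0) (y : Fin a → F)
    (w : Fin b → F) :
    act (siegU (b := b) J1 hJ1 u₀ x c hx) (pur y w) =
      pur (y + (c * bf J1 y u₀ + bf J1 y x) • u₀ + bf J1 y u₀ • x) w := by
  rw [act_siegU, ctrL_J_pur]
  have h : ctrL (c • (J1 *ᵥ u₀) + J1 *ᵥ x) (pur y w) = (c * bf J1 y u₀ + bf J1 y x) • w := by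
    rw [ctrL_pur, dotProduct_add, dotProduct_smul]
    rfl
  rw [h, pur_smul_right, pur_smul_right, pur_add_left, pur_add_left, pur_smul_left, pur_smul_left]

/-- "`g ∈ Q`": trivial on `u₀ ⊗ W` and on `(u₀^⊥ ⊗ W) / (u₀ ⊗ W)` -/
structure InRadL (u₀ : Fin a → F) (g : GL (Fin a × Fin b) F) : Prop where
  fixL : ∀ v ∈ ptL (b := b) u₀, act g v = v
  modL : ∀ v ∈ hypL (b := b) (J1 *ᵥ u₀), act g v - v ∈ ptL (b := b) u₀

theorem zU_sq (hJ1 : SympG J1) (u₀ : Fin a → F) (σ : Matrix (Fin b) (Fin b) F) :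
    (E J1 u₀ u₀ ⊗ₖ σ) * (E J1 u₀ u₀ ⊗ₖ σ) = 0 := by
  rw [← Matrix.mul_kronecker_mul, E_mul_E, hJ1.alt]
  simp

/-- `1 + E J1 u₀ u₀ ⊗ σ : v ↦ v + u₀ ⊗ σ (f₁(·,u₀) ⊗ 1) v`: trivial on `u₀^⊥ ⊗ W` -/
def zU (hJ1 : SympG J1) (u₀ : Fin a → F) (σ : Matrix (Fin b) (Fin b) F) : GL (Fin a × Fin b) F :=
  uni (E J1 u₀ u₀ ⊗ₖ σ) (zU_sq J1 hJ1 u₀ σ)

theorem zU_val (hJ1 : SympG J1) (u₀ : Fin a → F) (σ : Matrix (Fin b) (Fin b) F) :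
    ((zU J1 hJ1 u₀ σ : GL (Fin a × Fin b) F) : Matrix (Fin a × Fin b) (Fin a × Fin b) F) =
      1 + E J1 u₀ u₀ ⊗ₖ σ := rfl

theorem zU_inv_val (hJ1 : SympG J1) (u₀ : Fin a → F) (σ : Matrix (Fin b) (Fin b) F) :
    (((zU J1 hJ1 u₀ σ)⁻¹ : GL (Fin a × Fin b) F) : Matrix (Fin a × Fin b) (Fin a × Fin b) F) =
      1 - E J1 u₀ u₀ ⊗ₖ σ := rfl

theorem act_zU (hJ1 : SympG J1) (u₀ : Fin a → F) (σ : Matrix (Fin b) (Fin b) F) (v : Fin a × Fin b → F) :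
    act (zU J1 hJ1 u₀ σ) v = v + pur u₀ (σ *ᵥ ctrL (J1 *ᵥ u₀) v) := by
  rw [act_apply, zU_val, Matrix.add_mulVec, Matrix.one_mulVec, ctrE_mulVec]

/-- `g` is an isometry in `Q` with class `D`: `g (y ⊗ w) = y ⊗ w + u₀ ⊗ D(y) w` for all `y ⟂ u₀` -/
structure Cls (u₀ : Fin a → F) (g : GL (Fin a × Fin b) F)
    (D : (Fin a → F) → Matrix (Fin b) (Fin b) F) : Prop where
  iso : g ∈ IsoG (J1 ⊗ₖ J2)
  rad : InRadL J1 u₀ g
  eq : ∀ y : Fin a → F, bf J1 y u₀ = 0 → ∀ w : Fin b → F, act g (pur y w) = pur y w + pur u₀ (D y *ᵥ w)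

/-- the matrix of the reflection `r_w : x ↦ x - (2 f₂(x,w) / f₂(w,w)) w` -/
noncomputable def reflM (w : Fin b → F) : Matrix (Fin b) (Fin b) F :=
  1 - (2 / bf J2 w w) • E J2 w w

theorem reflM_mulVec (w x : Fin b → F) :
    reflM J2 w *ᵥ x = x - (2 / bf J2 w w * bf J2 x w) • w := by
  unfold reflM
  rw [Matrix.sub_mulVec, Matrix.one_mulVec, Matrix.smul_mulVec, E_mulVec, smul_smul]

theorem reflM_mul_self (w : Fin b → F) (hw : bf J2 w w ≠ 0) : reflM J2 w * reflM J2 w = 1 := by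
  unfold reflM
  rw [sub_mul, mul_sub, mul_sub, Matrix.one_mul, Matrix.mul_one, Matrix.one_mul, Matrix.smul_mul, Matrix.mul_smul,
    E_mul_E, smul_smul, smul_smul]
  have h : 2 / bf J2 w w * (2 / bf J2 w w) * bf J2 w w = 2 / bf J2 w w + 2 / bf J2 w w := by
    field_simp
    ring
  rw [h, add_smul]
  abel

/-- the reflection `r_w` in `GL (Fin b) F` (`w` non-singular) -/
noncomputable def reflGL (w : Fin b → F) (hw : bf J2 w w ≠ 0) : GL (Fin b) F where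
  val := reflM J2 w
  inv := reflM J2 w
  val_inv := reflM_mul_self J2 w hw
  inv_val := reflM_mul_self J2 w hw

theorem reflGL_val (w : Fin b → F) (hw : bf J2 w w ≠ 0) :
    ((reflGL J2 w hw : GL (Fin b) F) : Matrix (Fin b) (Fin b) F) = reflM J2 w := rfl

theorem reflGL_inv (w : Fin b → F) (hw : bf J2 w w ≠ 0) : (reflGL J2 w hw)⁻¹ = reflGL J2 w hw := by
  apply Units.ext
  rfl

/-- `1 ⊗ r_w` -/
noncomputable def reflK (w : Fin b → F) (hw : bf J2 w w ≠ 0) : GL (Fin a × Fin b) F :=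
  kronGL (1 : GL (Fin a) F) (reflGL J2 w hw)

theorem reflK_mem_kron (w : Fin b → F) (hw : bf J2 w w ≠ 0) :
    reflK (a := a) J2 w hw ∈ Cfsg.Geo.kroneckerSubgroup a b F := kronGL_mem_kron _ _

theorem act_reflK_pur (w : Fin b → F) (hw : bf J2 w w ≠ 0) (u : Fin a → F) (x : Fin b → F) :
    act (reflK (a := a) J2 w hw) (pur u x) = pur u (reflM J2 w *ᵥ x) := by
  unfold reflK
  rw [act_apply, kronGL_val, kron_mulVec_pur, Units.val_one, Matrix.one_mulVec, reflGL_val]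

end Cfsg.Agent.Lib.Helper20.S5666Exit
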