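import Mathlib
import Cfsg.Agent.Lib.Helper13.TensSODefs
import Cfsg.Agent.Lib.Helper13.S5666FOAPI
import Cfsg.Agent.Lib.Helper20.S5666ExitDefs

/-!
# S5666 EXIT, pieces E-S and E-P (helper20)

`siegU_mem_iso`, `inRadL_siegU`, `cls_siegU`, `siegU_zero`, `eq_on_hypL`, `exists_not_perp` of
`notes/S5666ExitASkel_helper20.lean.txt`, exact signatures.
-/

set_option autoImplicit false

namespace Cfsg.Agent.Lib.Helper20.S5666ES

open Matrix Module
open Cfsg.Agent.Lib.Helper16.Tens Cfsg.Agent.Lib.Helper10.TensFund Cfsg.Agent.Lib.Helper13.TensSO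
open Cfsg.Agent.Lib.Helper28.TensU (ctrL ctrL_apply ctrL_pur hypL mem_hypL_iff ptL mem_ptL_iff pur_mem_ptL rootGLL
  rootGLL_val act_rootGLL rootGLL_mem_SL rootGLL_mem_kron)
open Cfsg.Agent.Lib.Helper3.SpT (bf SympG E E_mulVec E_mul_E uni uni_val uni_inv_val bf_add_left bf_add_right
  bf_smul_left bf_smul_right bf_kron_pur)
open Cfsg.Agent.Lib.Helper20.S5666Exit
open scoped Kronecker

variable {F : Type*} [Field F] {a b : ℕ}
variable {J1 : Matrix (Fin a) (Fin a) F} {J2 : Matrix (Fin b) (Fin b) F}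

/-- E-S (a) -/
theorem siegU_mem_iso (hS : SetupSO J1 J2) (u₀ x : Fin a → F) (c : F) (hx : bf J1 x u₀ = 0) :
    siegU (b := b) J1 hS.h1 u₀ x c hx ∈ IsoG (J1 ⊗ₖ J2) := by
  apply Cfsg.Agent.Lib.Helper13.S5666T4.mem_IsoG_of_pur
  intro y y' w w'
  rw [act_siegU_pur, act_siegU_pur, bf_kron_pur, bf_kron_pur]
  congr 1
  have h1 := hS.h1
  have hx' : bf J1 u₀ x = 0 := h1.eq_zero_comm hx
  simp only [bf_add_left, bf_add_right, bf_smul_left, bf_smul_right, h1.alt u₀, h1.alt x, hx, hx']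
  rw [h1.skew u₀ y', h1.skew x y']
  ring

/-- E-S (b) -/
theorem inRadL_siegU (hJ1 : SympG J1) (u₀ x : Fin a → F) (c : F) (hx : bf J1 x u₀ = 0) :
    InRadL J1 u₀ (siegU (b := b) J1 hJ1 u₀ x c hx) := by
  have hx' : bf J1 u₀ x = 0 := hJ1.eq_zero_comm hx
  refine ⟨?_, ?_⟩
  · intro v hv
    obtain ⟨w, rfl⟩ := (mem_ptL_iff u₀ v).1 hv
    rw [act_siegU_pur, hJ1.alt u₀, hx']
    simp
  · intro v hv
    rw [mem_hypL_iff] at hv
    rw [act_siegU, hv, pur_zero_right, add_zero, add_sub_cancel_left]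
    exact pur_mem_ptL u₀ _

/-- E-S (c) -/
theorem cls_siegU (hS : SetupSO J1 J2) (u₀ x : Fin a → F) (c : F) (hx : bf J1 x u₀ = 0) :
    Cls J1 J2 u₀ (siegU (b := b) J1 hS.h1 u₀ x c hx) (fun y => bf J1 y x • (1 : Matrix (Fin b) (Fin b) F)) := by
  refine ⟨siegU_mem_iso hS u₀ x c hx, inRadL_siegU hS.h1 u₀ x c hx, ?_⟩
  intro y hy w
  rw [act_siegU_pur, hy, mul_zero, zero_add, zero_smul, add_zero, pur_add_left, pur_smul_left, Matrix.smul_mulVec,
    Matrix.one_mulVec, pur_smul_right]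

/-- E-S (d) -/
theorem siegU_zero (hJ1 : SympG J1) (u₀ : Fin a → F) (c : F) :
    siegU (b := b) J1 hJ1 u₀ 0 c (Cfsg.Agent.Lib.Helper3.SpT.bf_zero_left J1 u₀) = rU J1 hJ1 u₀ c := by
  apply Cfsg.Agent.Lib.Helper13.S5666T4.gl_ext
  intro v
  rw [act_siegU, act_rU, pur_zero_left, add_zero, Matrix.mulVec_zero, add_zero,
    Cfsg.Agent.Lib.Helper28.TensU.ctrL, LinearMap.coe_mk, AddHom.coe_mk]
  congr 1
  have : (fun j => ∑ i, v (i, j) * (c • J1 *ᵥ u₀) i) = c • ctrL (J1 *ᵥ u₀) v := by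
    funext j
    simp only [Pi.smul_apply, smul_eq_mul, ctrL_apply, Finset.mul_sum]
    apply Finset.sum_congr rfl
    intro i _
    ring
  rw [this, pur_smul_right]

/-- E-P (a): `u₀^⊥ ⊗ W` is spanned by the pure tensors `y ⊗ w`, `y ⟂ u₀` -/
theorem eq_on_hypL (u₀ : Fin a → F) (f g : (Fin a × Fin b → F) →ₗ[F] (Fin a × Fin b → F))
    (h : ∀ (y : Fin a → F) (w : Fin b → F), bf J1 y u₀ = 0 → f (pur y w) = g (pur y w)) :
    ∀ v ∈ hypL (b := b) (J1 *ᵥ u₀), f v = g v := by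
  intro v hv
  rw [mem_hypL_iff] at hv
  -- `v = Σ_j (column j) ⊗ e_j`
  have hsum : v = ∑ j : Fin b, pur (fun i => v (i, j)) (Pi.single j (1 : F)) := by
    funext ⟨i, j⟩
    rw [Finset.sum_apply]
    simp only [pur_apply]
    rw [Finset.sum_eq_single j]
    · simp
    · intro j' _ hj'
      rw [Pi.single_apply, if_neg (Ne.symm hj'), mul_zero]
    · intro hj
      exact absurd (Finset.mem_univ j) hj
  have hcol : ∀ j : Fin b, bf J1 (fun i => v (i, j)) u₀ = 0 := by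
    intro j
    have := congrFun hv j
    rw [ctrL_apply] at this
    exact this
  rw [hsum, map_sum, map_sum]
  apply Finset.sum_congr rfl
  intro j _
  exact h _ _ (hcol j)

/-- E-P (b): `(u₀^⊥)^⊥ = ⟨u₀⟩` -/
theorem exists_not_perp (hJ1 : SympG J1) (u₀ x : Fin a → F) (hx : bf J1 x u₀ = 0) (hxs : ∀ c : F, x ≠ c • u₀) :
    ∃ x'' : Fin a → F, bf J1 x'' u₀ = 0 ∧ bf J1 x x'' ≠ 0 := by
  by_contra hcon
  push Not at hcon
  -- `hcon : ∀ x'', f(x'',u₀) = 0 → f(x,x'') = 0`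
  by_cases hu0 : u₀ = 0
  · subst hu0
    have hx0 : x = 0 := hJ1.nondeg x (fun y => hcon y (by simp))
    exact hxs 0 (by rw [hx0, zero_smul])
  · obtain ⟨u', hu'⟩ := Cfsg.Agent.Lib.Helper13.S5666API.exists_bf_eq_one hJ1 u₀ hu0
    -- every `y` is `(y - f(y,u₀) u') + f(y,u₀) u'`
    have key : ∀ y, bf J1 x y = bf J1 y u₀ * bf J1 x u' := by
      intro y
      have h1 : bf J1 (y - bf J1 y u₀ • u') u₀ = 0 := by
        rw [Cfsg.Agent.Lib.Helper3.SpT.bf_sub_left, bf_smul_left, hu', mul_one, sub_self]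
      have h2 := hcon _ h1
      rw [Cfsg.Agent.Lib.Helper3.SpT.bf_sub_right, bf_smul_right, sub_eq_zero] at h2
      exact h2
    -- so `x + f(x,u') u₀` is in the radical
    apply hxs (- bf J1 x u')
    have hrad : x - (- bf J1 x u') • u₀ = 0 := by
      apply hJ1.nondeg
      intro y
      rw [Cfsg.Agent.Lib.Helper3.SpT.bf_sub_left, bf_smul_left, key y, hJ1.skew u₀ y]
      ring
    exact sub_eq_zero.mp hrad

end Cfsg.Agent.Lib.Helper20.S5666ES
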