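import Cfsg.Agent.Lib.Helper16.F4CC.Defs
import Cfsg.Agent.Lib.Helper27.StCCTab

set_option autoImplicit false

/-! S2103 farm (architect helper16), piece [FT1]: the Part A table of type `F₄`
(kernel-checked certificate). -/

namespace Cfsg.Agent.Lib.Helper16.F4CC

open Cfsg.Lie Cfsg.Agent.Lib.Helper8.Chev Cfsg.Agent.Lib.Helper14.StCC

namespace Helper20

/-- `CommData1` with explicit witnesses, as a Bool -/
def cd1B (D : ChevalleyDatum) (r a b : ℕ) (ε : ℤ) : Bool :=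
  decide (a < D.nroots) && decide (b < D.nroots) && !(b == a) && !(b == D.neg a) &&
  decide (D.commTerms a b = [(r, ε, 1, 1)]) && (ε == 1 || ε == -1) &&
  !(a == r) && !(a == D.neg r) && (D.commTerms r a).isEmpty &&
  !(b == r) && !(b == D.neg r) && (D.commTerms r b).isEmpty

theorem cd1B_spec {D : ChevalleyDatum} {r a b : ℕ} {ε : ℤ} (h : cd1B D r a b ε = true) :
    CommData1 D r := by
  simp only [cd1B, Bool.and_eq_true, Bool.or_eq_true, decide_eq_true_eq, Bool.not_eq_true',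
    beq_eq_false_iff_ne, beq_iff_eq, List.isEmpty_iff] at h
  obtain ⟨⟨⟨⟨⟨⟨⟨⟨⟨⟨⟨h1, h2⟩, h3⟩, h4⟩, h5⟩, h6⟩, h7⟩, h8⟩, h9⟩, h10⟩, h11⟩, h12⟩ := h
  exact ⟨a, b, ε, h1, h2, h3, h4, h5, h6, ⟨h7, h8, h9⟩, ⟨h10, h11, h12⟩⟩

/-- all roots have a checked certificate -/
def checkCD1 (D : ChevalleyDatum) (tab : List (ℕ × ℕ × ℤ)) : Bool :=
  (List.range D.nroots).all fun r =>
    cd1B D r (tab.getD r (0, 0, 0)).1 (tab.getD r (0, 0, 0)).2.1 (tab.getD r (0, 0, 0)).2.2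

theorem checkCD1_spec {D : ChevalleyDatum} {tab : List (ℕ × ℕ × ℤ)} (h : checkCD1 D tab = true)
    {r : ℕ} (hr : r < D.nroots) : CommData1 D r := by
  simp only [checkCD1, List.all_eq_true, List.mem_range] at h
  exact cd1B_spec (h r hr)

/-- the certificate `(a, b, ε)` per root of `F₄` -/
def tabF4 : List (ℕ × ℕ × ℤ) :=
  [(1, 23, 1), (0, 24, 1), (0, 26, 1), (7, 14, 1), (0, 31, -1), (0, 32, 1), (1, 32, 1),
   (3, 33, 1), (3, 34, 1), (3, 35, -1), (3, 36, 1), (3, 37, -1), (3, 38, 1),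
   (3, 39, -1), (3, 40, -1), (0, 42, -1), (0, 43, 1), (1, 43, 1), (7, 37, -1),
   (7, 38, 1), (7, 39, -1), (0, 45, -1), (1, 45, -1), (0, 46, -1), (1, 47, -1),
   (2, 46, -1), (2, 47, -1), (8, 40, -1), (9, 40, 1), (10, 40, -1), (4, 46, 1),
   (4, 47, 1), (5, 47, -1), (7, 44, -1), (8, 44, -1), (9, 44, 1), (10, 44, -1),
   (11, 44, 1), (12, 44, -1), (13, 44, 1), (14, 44, 1), (15, 46, 1), (15, 47, 1),
   (16, 47, -1), (33, 40, 1), (21, 47, 1), (23, 47, 1), (24, 46, 1)]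

set_option maxRecDepth 1000000 in
theorem check_F4 : checkCD1 chevF4 tabF4 = true := by decide +kernel

end Helper20

/-- [FT1] table for Part A, type `F₄` -/
theorem commData1_F4 {r : ℕ} (hr : r < chevF4.nroots) :
    (∃ m : ℕ → ℤ, wt chevF4 m r = 1) ∧ CommData1 chevF4 r := by
  refine ⟨?_, Helper20.checkCD1_spec Helper20.check_F4 hr⟩
  refine Cfsg.Agent.Lib.Helper14.StCC.A.Helper27.exists_wt_one (by simp) hr ?_
  intro h
  exact absurd (congrArg ChevalleyDatum.nroots h) (by decide)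

end Cfsg.Agent.Lib.Helper16.F4CC
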