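import Cfsg.Agent.Lib.Helper16.StCCB.Defs

/-!
# S2398 Part B, piece `[B0]` (helper20): the weight of the root of a term of the commutator formula
-/

set_option autoImplicit false
set_option linter.unusedVariables false

namespace Cfsg.Agent.Lib.Helper14.StCC.B

open Cfsg.Lie Cfsg.Agent.Lib.Helper8.Chev

variable {D : ChevalleyDatum}

namespace Helper20

/-- the exact weight of the `i`-th member of a chain -/
theorem chainRoot_wt_exact (V : Valid0 D) {a : ℕ → ℤ} (ha : IsWt D a) {r s i q : ℕ} (hi : 1 ≤ i)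
    (hr : r < D.nroots) (hs : s < D.nroots) (h : D.chainRoot r s i = some q) :
    q < D.nroots ∧ a q = (i : ℤ) * a r + a s := by
  obtain ⟨M, hM⟩ := chainRoot_spec h
  refine ⟨(chainEntry_tgt V hr hM).1, ?_⟩
  have hz : ((q, M), i - 1) ∈ (D.chainEntry r s).zipIdx := by
    rw [List.mem_zipIdx_iff_getElem?]
    exact hM
  have := ha.2 r hr s hs ((q, M), i - 1) hz
  simp only [] at this
  rw [this]
  push_cast [Nat.cast_sub hi]
  ring

theorem isWt_wt (hD : D ∈ [chevG2, chevB2, chevD4, chevF4, chevE6, chevE7, chevE8]) (m : ℕ → ℤ) :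
    IsWt D (wt D m) := by
  have J := validJ_of_mem hD
  have H := validH_of_mem hD
  exact isWt_sum m D.rank (fun i _ => isWt_aco J.V J.T H.hsz H.wt (D.simple i))

end Helper20

open Helper20 in
/-- [B0] the weight of the root `i r + j s` of a term of the commutator formula -/
theorem wt_commTerms (hD : D ∈ [chevG2, chevB2, chevD4, chevF4, chevE6, chevE7, chevE8])
    (m : ℕ → ℤ) {r s : ℕ} (hr : r < D.nroots) (hs : s < D.nroots) (h1 : s ≠ r) (h2 : s ≠ D.neg r)
    {c : ℕ × ℤ × ℕ × ℕ} (hc : c ∈ D.commTerms r s) :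
    c.1 < D.nroots ∧ wt D m c.1 = (c.2.2.1 : ℤ) * wt D m r + (c.2.2.2 : ℤ) * wt D m s := by
  have V := (validJ_of_mem hD).V
  have ha := isWt_wt hD m
  unfold ChevalleyDatum.commTerms at hc
  simp only [List.mem_filterMap, List.mem_cons, List.not_mem_nil, or_false] at hc
  obtain ⟨cand, hcand, hmap⟩ := hc
  cases hk : cand.1 with
  | none => rw [hk] at hmap; simp at hmap
  | some k =>
    rw [hk] at hmap
    simp only [Option.map_some, Option.some.injEq] at hmap
    subst hmap
    rcases hcand with rfl | rfl | rfl | rfl | rfl | rfl | rfl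
    · obtain ⟨h3, h4⟩ := chainRoot_wt_exact V ha (le_refl 1) hr hs hk
      refine ⟨h3, ?_⟩
      simp only []
      rw [h4]; push_cast; ring
    · obtain ⟨h3, h4⟩ := chainRoot_wt_exact V ha (by norm_num : 1 ≤ 2) hr hs hk
      refine ⟨h3, ?_⟩
      simp only []
      rw [h4]; push_cast; ring
    · obtain ⟨h3, h4⟩ := chainRoot_wt_exact V ha (by norm_num : 1 ≤ 2) hs hr hk
      refine ⟨h3, ?_⟩
      simp only []
      rw [h4]; push_cast; ring
    · obtain ⟨h3, h4⟩ := chainRoot_wt_exact V ha (by norm_num : 1 ≤ 3) hr hs hk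
      refine ⟨h3, ?_⟩
      simp only []
      rw [h4]; push_cast; ring
    · obtain ⟨h3, h4⟩ := chainRoot_wt_exact V ha (by norm_num : 1 ≤ 3) hs hr hk
      refine ⟨h3, ?_⟩
      simp only []
      rw [h4]; push_cast; ring
    · simp only [] at hk
      cases hk' : D.chainRoot r s 3 with
      | none => rw [hk'] at hk; simp at hk
      | some k' =>
        rw [hk'] at hk
        simp only [Option.bind_some] at hk
        obtain ⟨h3, h4⟩ := chainRoot_wt_exact V ha (by norm_num : 1 ≤ 3) hr hs hk'
        obtain ⟨h5, h6⟩ := chainRoot_wt_exact V ha (le_refl 1) h3 hs hk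
        refine ⟨h5, ?_⟩
        simp only []
        rw [h6, h4]; push_cast; ring
    · simp only [] at hk
      cases hk' : D.chainRoot s r 3 with
      | none => rw [hk'] at hk; simp at hk
      | some k' =>
        rw [hk'] at hk
        simp only [Option.bind_some] at hk
        obtain ⟨h3, h4⟩ := chainRoot_wt_exact V ha (by norm_num : 1 ≤ 3) hs hr hk'
        obtain ⟨h5, h6⟩ := chainRoot_wt_exact V ha (le_refl 1) h3 hr hk
        refine ⟨h5, ?_⟩
        simp only []
        rw [h6, h4]; push_cast; ring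

end Cfsg.Agent.Lib.Helper14.StCC.B
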