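import Cfsg.Agent.Lib.Helper16.F4CC.Defs
import Cfsg.Agent.Lib.Helper26.StCCGen

set_option autoImplicit false

/-! S2103 farm (architect helper16), piece [FA6]: lifts of `x_r(t)`, `x_r(u)` commute when `r` is
the single term of a commutator formula of two roots commuting with `r`. -/

namespace Cfsg.Agent.Lib.Helper16.F4CC

open Cfsg.Lie Cfsg.Agent.Lib.Helper8.Chev Cfsg.Agent.Lib.Helper14.StCC
open Cfsg.Agent.Lib.Helper26.StCC
open scoped commutatorElement

variable {D : ChevalleyDatum} {K : Type*} [Field K] {Γ : Type*} [Group Γ] {E : Type*} [Group E]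

/-- [FA6] lifts of `x_r(t)`, `x_r(u)` commute: one-term commutator trick (no hypothesis on `K`) -/
theorem lifts_commute_of_commData1 (S : StRep D K Γ)
    (ψ : E →* Γ) (hψ : Function.Surjective ψ) (hc : ψ.ker ≤ Subgroup.center E)
    {r : ℕ} (hr : r < D.nroots) (hd : CommData1 D r) :
    ∀ (A B : E) (t u : K), ψ A = S.x r t → ψ B = S.x r u → A * B = B * A := by
  obtain ⟨a, b, ε, ha, hb, hba, hbna, hT, hε, ⟨har, hanr, hTa⟩, ⟨hbr, hbnr, hTb⟩⟩ := hd
  -- commutation in `Γ`
  have comm0 : ∀ s, s < D.nroots → s ≠ r → s ≠ D.neg r → D.commTerms r s = [] →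
      ∀ t u : K, S.x s u * S.x r t = S.x r t * S.x s u := by
    intro s hs h1 h2 h3 t u
    have := S.comm r hr s hs h1 h2 t u
    rw [ChevalleyDatum.commWord, h3] at this
    simpa using this
  have hxa := comm0 a ha har hanr hTa
  have hxb := comm0 b hb hbr hbnr hTb
  -- the commutator formula
  have hform : ∀ s t : K, S.x r (-(ε : K) * s * t) = ⁅(S.x b t)⁻¹, (S.x a s)⁻¹⁆ := by
    intro s t
    have h1 := S.comm a ha b hb hba hbna s t
    rw [ChevalleyDatum.commWord, hT] at h1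
    simp only [List.map_cons, List.map_nil, wS_cons, wS_nil, mul_one, pow_one] at h1
    have e1 : (ε : K) * (-s) * t = -(ε : K) * s * t := by ring
    rw [e1] at h1
    rw [commutatorElement_def, inv_inv, inv_inv, mul_assoc ((S.x b t)⁻¹ * (S.x a s)⁻¹), h1]
    group
  have hε2 : (ε : K) * (ε : K) = 1 := by
    rcases hε with rfl | rfl
    · simp
    · simp
  intro A B t u hA hB
  have hP : ψ (Function.surjInv hψ (S.x b 1)⁻¹) = (S.x b 1)⁻¹ := Function.surjInv_eq hψ _
  have hQ : ψ (Function.surjInv hψ (S.x a (-(ε : K) * u))⁻¹) = (S.x a (-(ε : K) * u))⁻¹ :=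
    Function.surjInv_eq hψ _
  have hu : S.x r u = ⁅(S.x b 1)⁻¹, (S.x a (-(ε : K) * u))⁻¹⁆ := by
    rw [← hform]
    congr 1
    calc u = ((ε : K) * (ε : K)) * u := by rw [hε2, one_mul]
      _ = -(ε : K) * (-(ε : K) * u) * 1 := by ring
  have h1 : ⁅A, B⁆ = ⁅A, ⁅Function.surjInv hψ (S.x b 1)⁻¹,
      Function.surjInv hψ (S.x a (-(ε : K) * u))⁻¹⁆⁆ := by
    apply comm_eq_of_map_eq ψ hc rfl
    rw [hB, map_commutatorElement, hP, hQ, hu]
  have h4 : ⁅A, B⁆ = 1 := by
    rw [h1, commutatorElement_eq_one_iff_mul_comm]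
    apply commute_comm_of_commute ψ hc
    · rw [hA, hP, S.x_inv hb]
      exact (hxb t (-1)).symm
    · rw [hA, hQ, S.x_inv ha]
      exact (hxa t (-(-(ε : K) * u))).symm
  exact commutatorElement_eq_one_iff_mul_comm.mp h4

end Cfsg.Agent.Lib.Helper16.F4CC
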