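import Cfsg.Agent.Lib.Helper28.J3b
import Cfsg.Prelude.Def_KGroupFacts

/-!
# The triple cover `3·J₃` as a stem extension of `J₃`

The scalar `ω` is the commutator of two of the defining generators (`A_Z D_W = ω^⟨Z,W⟩ D_W A_Z`),
so the centre of `Cfsg.Spor.threeJ3 F ω` lies in its commutator subgroup and the central quotient
map is a stem extension with kernel of order `3`.  This is the lower half of "the Schur multiplier
of `J₃` is cyclic of order `3`"; the glue from a divisibility bound to the full statement is also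
here.
-/

set_option autoImplicit false
set_option linter.style.haveILetI false

namespace Cfsg.Agent.Lib.Helper20.J3Stem

open Cfsg Cfsg.Spor Cfsg.Agent.Lib.Helper28.F4 Cfsg.Agent.Lib.Helper28.J3Data
open Cfsg.Agent.Lib.Helper28.J3Cert Cfsg.Agent.Lib.Helper28.J3
open scoped MatrixGroups commutatorElement

universe u

section
variable {F : Type u} [Field F] {ω : F} [hd : Data F ω]

theorem om_cube : ω ^ 3 = 1 := by
  have h1 : ω ^ 2 = ω + 1 := om_sq
  have h2 : (2 : F) = 0 := hd.two
  calc ω ^ 3 = ω * ω ^ 2 := by ring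
    _ = ω * (ω + 1) := by rw [h1]
    _ = ω ^ 2 + ω := by ring
    _ = (ω + 1) + ω := by rw [h1]
    _ = 2 * ω + 1 := by ring
    _ = 1 := by rw [h2, zero_mul, zero_add]

theorem omegaPow_succ (n : ZMod 3) : omegaPow F ω (n + 1) = ω * omegaPow F ω n := by
  have hcases : ∀ n : ZMod 3, n = 0 ∨ n = 1 ∨ n = 2 := by decide
  rcases hcases n with rfl | rfl | rfl
  · show ω ^ ((0 : ZMod 3) + 1).val = ω * ω ^ (0 : ZMod 3).val
    have h1 : ((0 : ZMod 3) + 1).val = 1 := by decide
    have h0 : (0 : ZMod 3).val = 0 := by decide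
    rw [h1, h0]; ring
  · show ω ^ ((1 : ZMod 3) + 1).val = ω * ω ^ (1 : ZMod 3).val
    have h1 : ((1 : ZMod 3) + 1).val = 2 := by decide
    have h0 : (1 : ZMod 3).val = 1 := by decide
    rw [h1, h0]; ring
  · show ω ^ ((2 : ZMod 3) + 1).val = ω * ω ^ (2 : ZMod 3).val
    have h1 : ((2 : ZMod 3) + 1).val = 0 := by decide
    have h0 : (2 : ZMod 3).val = 2 := by decide
    rw [h1, h0, pow_zero]
    have := om_cube (ω := ω)
    calc (1 : F) = ω ^ 3 := this.symm
      _ = ω * ω ^ 2 := by ring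

/-- the Heisenberg relation between the diagonal matrix `A_(1,0)` and the translation `D_(1,0)` -/
theorem AD_comm : j3A F ω ((1 : ZMod 3), (0 : ZMod 3)) * j3D F ω ((1 : ZMod 3), (0 : ZMod 3)) =
    ω • (j3D F ω ((1 : ZMod 3), (0 : ZMod 3)) * j3A F ω ((1 : ZMod 3), (0 : ZMod 3))) := by
  ext w z
  unfold j3A j3D
  rw [Matrix.diagonal_mul, Matrix.smul_apply, Matrix.mul_diagonal]
  simp only [Matrix.of_apply]
  by_cases h : w = z + ((1 : ZMod 3), (0 : ZMod 3))
  · rw [if_pos h, h]
    have e1 : ((1 : ZMod 3), (0 : ZMod 3)).1 * (z + ((1 : ZMod 3), (0 : ZMod 3))).1 +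
        ((1 : ZMod 3), (0 : ZMod 3)).2 * (z + ((1 : ZMod 3), (0 : ZMod 3))).2 =
        (((1 : ZMod 3), (0 : ZMod 3)).1 * z.1 + ((1 : ZMod 3), (0 : ZMod 3)).2 * z.2) + 1 := by
      simp only [Prod.fst_add, Prod.snd_add]
      ring
    rw [e1, omegaPow_succ, smul_eq_mul]
    ring
  · rw [if_neg h, mul_zero, zero_mul, smul_zero]

variable [Fintype F]

/-- the generator `A_(1,0)` as an element of the group -/
noncomputable def gA (F : Type u) [Field F] [Fintype F] (ω : F) [Data F ω] : threeJ3 F ω :=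
  ⟨glOf ω (codeA ((1 : ZMod 3), (0 : ZMod 3))), (memA _).2⟩

/-- the generator `D_(1,0)` as an element of the group -/
noncomputable def gD (F : Type u) [Field F] [Fintype F] (ω : F) [Data F ω] : threeJ3 F ω :=
  ⟨glOf ω (codeD ((1 : ZMod 3), (0 : ZMod 3))), (memD _).2⟩

theorem gA_mul_gD : gA F ω * gD F ω = sThree F ω * (gD F ω * gA F ω) := by
  apply Subtype.ext
  apply Units.ext
  show ((glOf ω (codeA ((1 : ZMod 3), (0 : ZMod 3))) : GL F9 F) : Matrix F9 F9 F) *
      ((glOf ω (codeD ((1 : ZMod 3), (0 : ZMod 3))) : GL F9 F) : Matrix F9 F9 F) =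
    ((glOf ω sc : GL F9 F) : Matrix F9 F9 F) *
      (((glOf ω (codeD ((1 : ZMod 3), (0 : ZMod 3))) : GL F9 F) : Matrix F9 F9 F) *
        ((glOf ω (codeA ((1 : ZMod 3), (0 : ZMod 3))) : GL F9 F) : Matrix F9 F9 F))
  rw [valA, valD, valS, smul_mul_assoc, one_mul]
  exact AD_comm

theorem sThree_eq_comm : sThree F ω = ⁅gA F ω, gD F ω⁆ := by
  rw [commutatorElement_def, gA_mul_gD]
  group

theorem sThree_mem_commutator : sThree F ω ∈ commutator (threeJ3 F ω) := by
  rw [sThree_eq_comm, commutator_def]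
  exact Subgroup.commutator_mem_commutator (Subgroup.mem_top _) (Subgroup.mem_top _)

theorem center_le_commutator (hF : Fintype.card F = 4) :
    Subgroup.center (threeJ3 F ω) ≤ commutator (threeJ3 F ω) := by
  intro z hz
  obtain ⟨k, rfl⟩ := central_zpow hF z hz
  exact Subgroup.zpow_mem _ sThree_mem_commutator k

end

section main
variable {F : Type u} [Field F] [Fintype F]

/-- `3·J₃ → J₃` is a stem extension -/
theorem stem_threeJ3 (hF : Fintype.card F = 4) (ω : F) (hω : ω ^ 2 + ω + 1 = 0) :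
    IsStemExtension (QuotientGroup.mk' (Subgroup.center (threeJ3 F ω))) := by
  haveI := data_of_card F hF ω hω
  refine ⟨QuotientGroup.mk'_surjective _, ?_, ?_⟩
  · rw [QuotientGroup.ker_mk']
  · rw [QuotientGroup.ker_mk']
    exact center_le_commutator hF

theorem card_ker_mk (hF : Fintype.card F = 4) (ω : F) (hω : ω ^ 2 + ω + 1 = 0) :
    Nat.card (QuotientGroup.mk' (Subgroup.center (threeJ3 F ω))).ker = 3 := by
  haveI := data_of_card F hF ω hω
  rw [QuotientGroup.ker_mk']
  exact center_card hF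

/-- the lower half: a finite stem extension of `J₃` with kernel cyclic of order `3` -/
theorem lower (hF : Fintype.card F = 4) (ω : F) (hω : ω ^ 2 + ω + 1 = 0) :
    ∃ (Γ : Type u) (_ : Group Γ) (_ : Finite Γ) (σ : Γ →* J3 F ω),
      IsStemExtension σ ∧ Nonempty (σ.ker ≃* Multiplicative (ZMod 3)) := by
  haveI : Fact (Nat.Prime 3) := ⟨Nat.prime_three⟩
  have hZ : Nat.card (Multiplicative (ZMod 3)) = 3 := by
    rw [Nat.card_eq_fintype_card]; rfl
  refine ⟨threeJ3 F ω, inferInstance, inferInstance,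
    QuotientGroup.mk' (Subgroup.center (threeJ3 F ω)), stem_threeJ3 hF ω hω, ?_⟩
  exact ⟨mulEquivOfPrimeCardEq (card_ker_mk hF ω hω) hZ⟩

/-- the glue: if the kernel of every finite stem extension of `J₃` has order dividing `3`, the
Schur multiplier of `J₃` is cyclic of order `3` -/
theorem multiplier_of_dvd (hF : Fintype.card F = 4) (ω : F) (hω : ω ^ 2 + ω + 1 = 0)
    (h : ∀ (Γ : Type u) [Group Γ] [Finite Γ] (σ : Γ →* J3 F ω), IsStemExtension σ →
      Nat.card σ.ker ∣ 3) :
    HasCyclicSchurMultiplier (J3 F ω) 3 := by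
  haveI : Fact (Nat.Prime 3) := ⟨Nat.prime_three⟩
  have hZ : Nat.card (Multiplicative (ZMod 3)) = 3 := by
    rw [Nat.card_eq_fintype_card]; rfl
  refine ⟨lower hF ω hω, ?_⟩
  intro Γ _ _ σ hσ
  have hd := h Γ σ hσ
  rcases (Nat.dvd_prime Nat.prime_three).mp hd with h1 | h3
  · refine ⟨1, fun x => ⟨1, ?_⟩⟩
    have hsub : Subsingleton σ.ker := (Nat.card_eq_one_iff_unique.mp h1).1
    exact Subsingleton.elim _ _
  · have e : Multiplicative (ZMod 3) ≃* σ.ker := mulEquivOfPrimeCardEq hZ h3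
    exact ⟨e.toMonoidHom, e.surjective⟩

end main

end Cfsg.Agent.Lib.Helper20.J3Stem
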