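import Mathlib
import Cfsg.Prelude.Def_KGroupFacts
import Cfsg.Agent.H5.StemTC

/-!
# S2041, pieces L7 and L8 (helper20, for helper10)
-/

set_option autoImplicit false
set_option linter.style.haveILetI false
set_option linter.unusedSectionVars false
set_option linter.unusedVariables false

namespace Cfsg.Agent.Lib.Helper10.Weak

open Cfsg Cfsg.H5.TCk

universe u v

/-- [L7] if the subgroup generated by the lifts is not larger than its image, every relation of the images
holds for the lifts -/
theorem ev_eq_one_of_card_le {Γ : Type u} {G : Type v} [Group Γ] [Finite Γ] [Group G] (σ : Γ →* G)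
    (γh : ℕ → Γ) (t : ℕ)
    (hcard : Nat.card (Subgroup.closure (Set.range fun i : Fin t => γh i.val)) ≤
      Nat.card (Subgroup.closure (Set.range fun i : Fin t => σ (γh i.val))))
    (w : List ℕ) (hw : w.all (fun l => decide (l < 2 * t)) = true)
    (h : ev (fun k => σ (γh k)) w = 1) : ev γh w = 1 := by
  classical
  obtain ⟨M, hM⟩ : ∃ M : Subgroup Γ, M = Subgroup.closure (Set.range fun i : Fin t => γh i.val) :=
    ⟨_, rfl⟩
  obtain ⟨N, hN⟩ : ∃ N : Subgroup G,
      N = Subgroup.closure (Set.range fun i : Fin t => σ (γh i.val)) := ⟨_, rfl⟩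
  rw [← hM, ← hN] at hcard
  -- the image of `M` is `N`
  have hmap : M.map σ = N := by
    rw [hM, hN, MonoidHom.map_closure]
    congr 1
    ext x
    constructor
    · rintro ⟨_, ⟨i, rfl⟩, rfl⟩
      exact ⟨i, rfl⟩
    · rintro ⟨i, rfl⟩
      exact ⟨_, ⟨i, rfl⟩, rfl⟩
  -- the restriction `M → N` is a surjection between finite sets with `|M| ≤ |N|`, so injective
  let f : M → N := fun m => ⟨σ m.1, by rw [← hmap]; exact Subgroup.mem_map_of_mem σ m.2⟩
  have hfs : Function.Surjective f := by
    rintro ⟨y, hy⟩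
    rw [← hmap] at hy
    obtain ⟨m, hm, rfl⟩ := hy
    exact ⟨⟨m, hm⟩, rfl⟩
  haveI : Finite N := Finite.of_surjective f hfs
  have hfi : Function.Injective f := by
    have hb : Function.Bijective f :=
      (Function.Surjective.bijective_of_nat_card_le hfs hcard)
    exact hb.1
  -- the word lies in `M`
  have hmem : ev γh w ∈ M := by
    apply Cfsg.H5.StemTC.ev_mem γh M t _ w hw
    intro i hi
    rw [hM]
    exact Subgroup.subset_closure ⟨⟨i, hi⟩, rfl⟩
  have h1 : σ (ev γh w) = 1 := by
    rw [Cfsg.H5.StemTC.map_ev]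
    exact h
  have h2 : f ⟨ev γh w, hmem⟩ = f ⟨1, M.one_mem⟩ := by
    apply Subtype.ext
    show σ (ev γh w) = σ 1
    rw [h1, map_one]
  have h3 := hfi h2
  exact congrArg Subtype.val h3

/-- [L8] arithmetic glue -/
theorem dvd_three_of (k : ℕ) (hk : k ≠ 0) (h2 : k.factorization 2 = 0)
    (h3 : 3 ^ k.factorization 3 ≤ 3) (hr : ∀ r : ℕ, r.Prime → r ≠ 2 → r ≠ 3 → ¬ r ∣ k) : k ∣ 3 := by
  have h3' : k.factorization 3 ≤ 1 := by
    by_contra hlt
    push Not at hlt
    have : 3 ^ 2 ≤ 3 ^ k.factorization 3 := Nat.pow_le_pow_right (by norm_num) hlt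
    omega
  rw [← Nat.factorization_le_iff_dvd hk (by norm_num)]
  intro r
  by_cases hrp : r.Prime
  · by_cases hr2 : r = 2
    · rw [hr2, h2]; exact Nat.zero_le _
    · by_cases hr3 : r = 3
      · rw [hr3]
        have : (3 : ℕ).factorization 3 = 1 := by
          rw [Nat.Prime.factorization_self Nat.prime_three]
        rw [this]; exact h3'
      · have hnd := hr r hrp hr2 hr3
        rw [Nat.factorization_eq_zero_of_not_dvd hnd]
        exact Nat.zero_le _
  · rw [Nat.factorization_eq_zero_of_not_prime k hrp]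
    exact Nat.zero_le _

end Cfsg.Agent.Lib.Helper10.Weak
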