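import Mathlib
import Cfsg.Agent.Lib.Helper16.PSL42
import Cfsg.Agent.Lib.Helper6.FFour
import Cfsg.Agent.Lib.Helper20.Ord64A

/-!
# Helper20 library: the Heisenberg group over the field with four elements

`Heis` is the group of upper unitriangular `3 × 3` matrices over the computable field `K4` with four
elements, presented on triples.  It embeds in `PSL₃(K4)` as a Sylow `2`-subgroup, and a special
group of order `64` as in `Ord64A` containing two non-commuting involutions is isomorphic to it.
-/

set_option autoImplicit false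
set_option linter.style.haveILetI false
set_option linter.unusedSimpArgs false
set_option linter.unusedSectionVars false
set_option linter.unusedVariables false

namespace Cfsg.Agent.Lib.Helper20.Ord64

open Subgroup Cfsg.Agent.Lib.Helper6.FFour

/-- triples `(a, b, c)` standing for the unitriangular matrix with entries `a, b, c` -/
@[ext] structure Heis where
  a : K4
  b : K4
  c : K4
deriving DecidableEq

namespace Heis

/-- `Heis` is in bijection with triples -/
def equivProd : Heis ≃ K4 × K4 × K4 where
  toFun h := (h.a, h.b, h.c)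
  invFun p := ⟨p.1, p.2.1, p.2.2⟩
  left_inv _ := rfl
  right_inv _ := rfl

instance : Fintype Heis := Fintype.ofEquiv _ equivProd.symm

theorem card_eq : Nat.card Heis = 64 := by
  rw [Nat.card_congr equivProd, Nat.card_prod, Nat.card_prod, Nat.card_eq_fintype_card]
  have : Fintype.card K4 = 4 := by decide
  rw [this]

instance : Mul Heis := ⟨fun x y => ⟨x.a + y.a, x.b + y.b, x.c + y.c + x.a * y.b⟩⟩
instance : One Heis := ⟨⟨0, 0, 0⟩⟩
instance : Inv Heis := ⟨fun x => ⟨x.a, x.b, x.c + x.a * x.b⟩⟩

theorem mul_a (x y : Heis) : (x * y).a = x.a + y.a := rfl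
theorem mul_b (x y : Heis) : (x * y).b = x.b + y.b := rfl
theorem mul_c (x y : Heis) : (x * y).c = x.c + y.c + x.a * y.b := rfl
theorem one_a : (1 : Heis).a = 0 := rfl
theorem one_b : (1 : Heis).b = 0 := rfl
theorem one_c : (1 : Heis).c = 0 := rfl
theorem inv_a (x : Heis) : (x⁻¹).a = x.a := rfl
theorem inv_b (x : Heis) : (x⁻¹).b = x.b := rfl
theorem inv_c (x : Heis) : (x⁻¹).c = x.c + x.a * x.b := rfl

theorem k4_add_self : ∀ x : K4, x + x = 0 := by decide

instance : Group Heis := Group.ofLeftAxioms
  (by
    intro x y z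
    ext
    · simp only [mul_a]; ring
    · simp only [mul_b]; ring
    · simp only [mul_c, mul_a, mul_b]; ring)
  (by
    intro x
    ext
    · simp only [mul_a, one_a, zero_add]
    · simp only [mul_b, one_b, zero_add]
    · simp only [mul_c, one_c, one_a, zero_add, zero_mul, add_zero])
  (by
    intro x
    ext
    · simp only [mul_a, inv_a, one_a]; exact k4_add_self _
    · simp only [mul_b, inv_b, one_b]; exact k4_add_self _
    · simp only [mul_c, inv_c, inv_a, one_c]
      have h1 := k4_add_self x.c
      have h2 := k4_add_self (x.a * x.b)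
      calc x.c + x.a * x.b + x.c + x.a * x.b = (x.c + x.c) + (x.a * x.b + x.a * x.b) := by ring
        _ = 0 := by rw [h1, h2, add_zero])

/-- the unitriangular matrix attached to a triple -/
def mat (h : Heis) : Matrix (Fin 3) (Fin 3) K4 := !![1, h.a, h.c; 0, 1, h.b; 0, 0, 1]

theorem mat_det (h : Heis) : (mat h).det = 1 := by
  simp [mat, Matrix.det_fin_three]

theorem mat_mul (x y : Heis) : mat (x * y) = mat x * mat y := by
  ext i j
  fin_cases i <;> fin_cases j <;>
    simp [mat, Matrix.mul_apply, Fin.sum_univ_three, mul_a, mul_b, mul_c] <;> ring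

/-- the element of `SL₃` attached to a triple -/
def sl (h : Heis) : Matrix.SpecialLinearGroup (Fin 3) K4 := ⟨mat h, mat_det h⟩

theorem sl_coe (h : Heis) : (sl h : Matrix (Fin 3) (Fin 3) K4) = mat h := rfl

/-- the embedding into `SL₃` -/
def toSL : Heis →* Matrix.SpecialLinearGroup (Fin 3) K4 :=
  MonoidHom.mk' sl (by
    intro x y
    apply Subtype.ext
    rw [Matrix.SpecialLinearGroup.coe_mul, sl_coe, sl_coe, sl_coe]
    exact mat_mul x y)

theorem toSL_coe (h : Heis) : (toSL h : Matrix (Fin 3) (Fin 3) K4) = mat h := rfl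

/-- the embedding into `PSL₃` -/
def toPSL : Heis →* Matrix.ProjectiveSpecialLinearGroup (Fin 3) K4 :=
  (QuotientGroup.mk' (Subgroup.center (Matrix.SpecialLinearGroup (Fin 3) K4))).comp toSL

theorem toPSL_injective : Function.Injective toPSL := by
  rw [injective_iff_map_eq_one]
  intro h hh
  have h1 : toSL h ∈ (QuotientGroup.mk' (Subgroup.center (Matrix.SpecialLinearGroup (Fin 3) K4))).ker := by
    rw [MonoidHom.mem_ker]
    exact hh
  rw [QuotientGroup.ker_mk', Matrix.SpecialLinearGroup.mem_center_iff] at h1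
  obtain ⟨r, -, hr⟩ := h1
  rw [toSL_coe] at hr
  have e01 := congrFun (congrFun hr 0) 1
  have e12 := congrFun (congrFun hr 1) 2
  have e02 := congrFun (congrFun hr 0) 2
  simp [mat, Matrix.scalar_apply, Matrix.diagonal_apply] at e01 e12 e02
  ext
  · exact e01.symm
  · exact e12.symm
  · exact e02.symm

/-- the image of `Heis` is a Sylow `2`-subgroup of `PSL₃(K4)` -/
theorem exists_sylow : ∃ S : Sylow 2 (Matrix.ProjectiveSpecialLinearGroup (Fin 3) K4),
    (S : Subgroup (Matrix.ProjectiveSpecialLinearGroup (Fin 3) K4)) = toPSL.range := by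
  haveI : Fact (Nat.Prime 2) := ⟨Nat.prime_two⟩
  have hcardG : Nat.card (Matrix.ProjectiveSpecialLinearGroup (Fin 3) K4) = 20160 :=
    Cfsg.Agent.Lib.Helper16.card_PSL34 (by decide)
  haveI : Finite (Matrix.ProjectiveSpecialLinearGroup (Fin 3) K4) :=
    Nat.finite_of_card_ne_zero (by rw [hcardG]; norm_num)
  have hcardP : Nat.card toPSL.range = 64 := by
    rw [← Nat.card_congr (MonoidHom.ofInjective toPSL_injective).toEquiv, card_eq]
  have hP : IsPGroup 2 toPSL.range := IsPGroup.of_card (n := 6) (by rw [hcardP]; norm_num)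
  obtain ⟨S, hS⟩ := hP.exists_le_sylow
  refine ⟨S, ?_⟩
  obtain ⟨k, hk⟩ := (IsPGroup.iff_card).1 S.isPGroup'
  have hdvd : Nat.card (S : Subgroup (Matrix.ProjectiveSpecialLinearGroup (Fin 3) K4)) ∣ 20160 := by
    rw [← hcardG]; exact Subgroup.card_subgroup_dvd_card _
  have hk6 : k ≤ 6 := by
    by_contra hcon
    push Not at hcon
    have h128 : 2 ^ 7 ∣ 2 ^ k := pow_dvd_pow 2 hcon
    rw [← hk] at h128
    have := dvd_trans h128 hdvd
    omega
  have hle : Nat.card (S : Subgroup (Matrix.ProjectiveSpecialLinearGroup (Fin 3) K4)) ≤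
      Nat.card toPSL.range := by
    rw [hcardP, hk]
    calc 2 ^ k ≤ 2 ^ 6 := Nat.pow_le_pow_right (by norm_num) hk6
      _ = 64 := by norm_num
  exact (Subgroup.eq_of_le_of_card_ge hS hle).symm

end Heis

end Cfsg.Agent.Lib.Helper20.Ord64
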