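import Mathlib
import Cfsg.Agent.Lib.Helper20.Ord64B

/-!
# Helper20 library: recognising the Heisenberg group over the field with four elements

A special group of order `64` as in `Ord64A` that contains two non-commuting involutions is
isomorphic to `Heis`, hence to a Sylow `2`-subgroup of `PSL₃(4)`.
-/

set_option autoImplicit false
set_option linter.style.haveILetI false
set_option linter.unusedSimpArgs false
set_option linter.unusedSectionVars false
set_option linter.unusedVariables false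

namespace Cfsg.Agent.Lib.Helper20.Ord64

open Subgroup Cfsg.Agent.Lib.Helper6.FFour

variable {T : Type*} [Group T]

/-- the map from `K4` attached to two commuting involutions -/
def k4hom (p q : T) : K4 → T
  | K4.o => 1
  | K4.i => p
  | K4.w => q
  | K4.v => p * q

theorem k4hom_zero (p q : T) : k4hom p q 0 = 1 := rfl
theorem k4hom_one (p q : T) : k4hom p q 1 = p := rfl

theorem k4hom_add (p q : T) (hp : p * p = 1) (hq : q * q = 1) (hpq : p * q = q * p) :
    ∀ a b : K4, k4hom p q (a + b) = k4hom p q a * k4hom p q b := by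
  intro a b
  cases a <;> cases b
  · show (1 : T) = 1 * 1
    rw [one_mul]
  · show p = 1 * p
    rw [one_mul]
  · show q = 1 * q
    rw [one_mul]
  · show p * q = 1 * (p * q)
    rw [one_mul]
  · show p = p * 1
    rw [mul_one]
  · show (1 : T) = p * p
    rw [hp]
  · show p * q = p * q
    rfl
  · show q = p * (p * q)
    rw [← mul_assoc, hp, one_mul]
  · show q = q * 1
    rw [mul_one]
  · show p * q = q * p
    exact hpq
  · show (1 : T) = q * q
    rw [hq]
  · show p = q * (p * q)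
    rw [hpq, ← mul_assoc, hq, one_mul]
  · show p * q = p * q * 1
    rw [mul_one]
  · show q = p * q * p
    rw [hpq, mul_assoc, hp, mul_one]
  · show p = p * q * q
    rw [mul_assoc, hq, mul_one]
  · show (1 : T) = p * q * (p * q)
    calc (1 : T) = (p * p) * (q * q) := by rw [hp, hq, one_mul]
      _ = p * (p * q) * q := by group
      _ = p * (q * p) * q := by rw [hpq]
      _ = p * q * (p * q) := by group

theorem k4hom_eq_one (p q : T) (hp1 : p ≠ 1) (hq1 : q ≠ 1) (hpq1 : p * q ≠ 1) :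
    ∀ a : K4, k4hom p q a = 1 → a = 0 := by
  intro a ha
  cases a
  · rfl
  · exact absurd ha hp1
  · exact absurd ha hq1
  · exact absurd ha hpq1

theorem k4hom_central (p q : T) (hp : ∀ g : T, p * g = g * p) (hq : ∀ g : T, q * g = g * q) :
    ∀ (a : K4) (g : T), k4hom p q a * g = g * k4hom p q a := by
  intro a g
  cases a
  · show 1 * g = g * 1
    rw [one_mul, mul_one]
  · exact hp g
  · exact hq g
  · show p * q * g = g * (p * q)
    rw [mul_assoc, hq g, ← mul_assoc, hp g, mul_assoc]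

theorem k4_v_eq : K4.v = K4.i + K4.w := rfl
theorem k4_o_eq : K4.o = 0 := rfl
theorem k4_i_eq : K4.i = 1 := rfl

namespace Setup

variable {ρ : MulAut T}

/-- a special group of order `64` with two non-commuting involutions is the Heisenberg group -/
theorem nonempty_heis_mulEquiv (S : Setup ρ) (s₁ s₂ : T) (h1 : s₁ * s₁ = 1) (h2 : s₂ * s₂ = 1)
    (hne : cm s₁ s₂ ≠ 1) : Nonempty (Heis ≃* T) := by
  haveI := S.finite
  set e := cm s₁ s₂ with he
  have heZ : e ∈ center T := S.cm_mem _ _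
  have hreZ : ρ e ∈ center T := Fpf3.center_inv ρ _ heZ
  have hrreZ : ρ (ρ e) ∈ center T := Fpf3.center_inv ρ _ hreZ
  have he2 : e * e = 1 := S.center_sq _ heZ
  have hrre2 : ρ (ρ e) * ρ (ρ e) = 1 := S.center_sq _ hrreZ
  have hr1 : ρ s₁ * ρ s₁ = 1 := by rw [← map_mul, h1, map_one]
  have hr2 : ρ s₂ * ρ s₂ = 1 := by rw [← map_mul, h2, map_one]
  have hre1 : ρ e ≠ 1 := S.fp.ne_one hne
  have hrre1 : ρ (ρ e) ≠ 1 := S.fp.ne_one hre1
  -- `ρ e = e * ρ² e`
  have hre_eq : ρ e = e * ρ (ρ e) := by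
    have h := S.fp.tri e
    have h' : ρ e * (e * ρ (ρ e)) = 1 := by
      calc ρ e * (e * ρ (ρ e)) = (ρ e * e) * ρ (ρ e) := by group
        _ = (e * ρ e) * ρ (ρ e) := by rw [center_comm (ρ e) hreZ e]
        _ = 1 := h
    have h3 : ρ e = (e * ρ (ρ e))⁻¹ := eq_inv_of_mul_eq_one_left h'
    calc ρ e = (e * ρ (ρ e))⁻¹ := h3
      _ = e * ρ (ρ e) := by
        rw [mul_inv_rev, S.center_inv_eq e heZ, S.center_inv_eq _ hrreZ, center_comm _ hrreZ e]
  have herre1 : e * ρ (ρ e) ≠ 1 := by rw [← hre_eq]; exact hre1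
  -- the three coordinate maps
  set α : K4 → T := k4hom s₁ (ρ s₁) with hα
  set β : K4 → T := k4hom s₂ (ρ s₂) with hβ
  set ζ : K4 → T := k4hom e (ρ (ρ e)) with hζ
  have α_add : ∀ a b, α (a + b) = α a * α b := k4hom_add _ _ h1 hr1 (S.fp.comm1 s₁)
  have β_add : ∀ a b, β (a + b) = β a * β b := k4hom_add _ _ h2 hr2 (S.fp.comm1 s₂)
  have ζ_add : ∀ a b, ζ (a + b) = ζ a * ζ b :=
    k4hom_add _ _ he2 hrre2 (center_comm e heZ _)
  have ζ_cen : ∀ (a : K4) (g : T), ζ a * g = g * ζ a :=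
    k4hom_central _ _ (center_comm e heZ) (center_comm _ hrreZ)
  have ζ_inj : ∀ a, ζ a = 1 → a = 0 := k4hom_eq_one _ _ hne hrre1 herre1
  have α_comm : ∀ a b, α a * α b = α b * α a := by
    intro a b
    rw [← α_add, ← α_add, add_comm]
  -- the commutator relation
  have hii : cm (α K4.i) (β K4.i) = ζ (K4.i * K4.i) := rfl
  have hwi : cm (α K4.w) (β K4.i) = ζ (K4.w * K4.i) := by
    show cm (ρ s₁) s₂ = ρ (ρ e)
    exact S.cm_rho_left s₁ s₂
  have hiw : cm (α K4.i) (β K4.w) = ζ (K4.i * K4.w) := by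
    show cm s₁ (ρ s₂) = ρ (ρ e)
    exact S.cm_rho_right s₁ s₂
  have hww : cm (α K4.w) (β K4.w) = ζ (K4.w * K4.w) := by
    show cm (ρ s₁) (ρ s₂) = e * ρ (ρ e)
    rw [← cm_map, ← hre_eq]
  have hright : ∀ a, cm (α a) (β K4.i) = ζ (a * K4.i) → cm (α a) (β K4.w) = ζ (a * K4.w) →
      ∀ b, cm (α a) (β b) = ζ (a * b) := by
    intro a hi hw b
    cases b
    · rw [k4_o_eq, mul_zero]
      exact cm_one_right _
    · exact hi
    · exact hw
    · rw [k4_v_eq, β_add, S.cm_mul_right, hi, hw, mul_add, ζ_add]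
  have hkey : ∀ a b, cm (α a) (β b) = ζ (a * b) := by
    intro a b
    have hi := hright K4.i hii hiw
    have hw := hright K4.w hwi hww
    cases a
    · rw [k4_o_eq, zero_mul]
      exact cm_one_left _
    · exact hi b
    · exact hw b
    · rw [k4_v_eq, α_add, S.cm_mul_left, hi, hw, add_mul, ζ_add]
  -- the homomorphism
  let Ψ : Heis → T := fun h => β h.b * α h.a * ζ h.c
  have Ψ_mul : ∀ x y : Heis, Ψ (x * y) = Ψ x * Ψ y := by
    intro x y
    show β (x.b + y.b) * α (x.a + y.a) * ζ (x.c + y.c + x.a * y.b) =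
      β x.b * α x.a * ζ x.c * (β y.b * α y.a * ζ y.c)
    rw [β_add, α_add, ζ_add, ζ_add]
    have hD : α x.a * β y.b = ζ (x.a * y.b) * (β y.b * α x.a) := by
      rw [← hkey]; exact mul_eq_cm_mul _ _
    have e1 : β x.b * α x.a * ζ x.c * (β y.b * α y.a * ζ y.c) =
        β x.b * (α x.a * β y.b) * α y.a * (ζ x.c * ζ y.c) := by
      calc β x.b * α x.a * ζ x.c * (β y.b * α y.a * ζ y.c)
          = β x.b * α x.a * (ζ x.c * (β y.b * α y.a)) * ζ y.c := by group
        _ = β x.b * α x.a * ((β y.b * α y.a) * ζ x.c) * ζ y.c := by rw [ζ_cen x.c]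
        _ = β x.b * (α x.a * β y.b) * α y.a * (ζ x.c * ζ y.c) := by group
    rw [e1, hD]
    calc β x.b * β y.b * (α x.a * α y.a) * (ζ x.c * ζ y.c * ζ (x.a * y.b))
        = β x.b * ((β y.b * α x.a * α y.a * (ζ x.c * ζ y.c)) * ζ (x.a * y.b)) := by group
      _ = β x.b * (ζ (x.a * y.b) * (β y.b * α x.a * α y.a * (ζ x.c * ζ y.c))) := by
          rw [ζ_cen (x.a * y.b)]
      _ = β x.b * (ζ (x.a * y.b) * (β y.b * α x.a)) * α y.a * (ζ x.c * ζ y.c) := by group
  let Ψh : Heis →* T := MonoidHom.mk' Ψ Ψ_mul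
  have Ψ_inj : Function.Injective Ψh := by
    rw [injective_iff_map_eq_one]
    intro h hh
    have hh' : β h.b * α h.a * ζ h.c = 1 := hh
    -- `h.b = 0`
    have hb : h.b = 0 := by
      by_contra hb
      have hB : β h.b = (α h.a * ζ h.c)⁻¹ := by
        apply eq_inv_of_mul_eq_one_left
        rw [← mul_assoc]; exact hh'
      have hcomm : α K4.i * β h.b = β h.b * α K4.i := by
        rw [hB]
        have c1 : α K4.i * (α h.a * ζ h.c) = (α h.a * ζ h.c) * α K4.i := by
          calc α K4.i * (α h.a * ζ h.c) = (α K4.i * α h.a) * ζ h.c := by group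
            _ = (α h.a * α K4.i) * ζ h.c := by rw [α_comm]
            _ = α h.a * (α K4.i * ζ h.c) := by group
            _ = α h.a * (ζ h.c * α K4.i) := by rw [ζ_cen h.c]
            _ = (α h.a * ζ h.c) * α K4.i := by group
        calc α K4.i * (α h.a * ζ h.c)⁻¹
            = (α h.a * ζ h.c)⁻¹ * ((α h.a * ζ h.c) * α K4.i) * (α h.a * ζ h.c)⁻¹ := by group
          _ = (α h.a * ζ h.c)⁻¹ * (α K4.i * (α h.a * ζ h.c)) * (α h.a * ζ h.c)⁻¹ := by rw [c1]
          _ = (α h.a * ζ h.c)⁻¹ * α K4.i := by group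
      have h3 := (cm_eq_one_iff _ _).mpr hcomm
      rw [hkey, k4_i_eq, one_mul] at h3
      exact hb (ζ_inj _ h3)
    have hB1 : β h.b = 1 := by rw [hb]; rfl
    rw [hB1, one_mul] at hh'
    -- `h.a = 0`
    have ha : h.a = 0 := by
      by_contra ha
      have hA : α h.a = (ζ h.c)⁻¹ := eq_inv_of_mul_eq_one_left hh'
      have hcomm : α h.a * β K4.i = β K4.i * α h.a := by
        rw [hA]
        have c1 := ζ_cen h.c (β K4.i)
        calc (ζ h.c)⁻¹ * β K4.i = (ζ h.c)⁻¹ * (β K4.i * ζ h.c) * (ζ h.c)⁻¹ := by group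
          _ = (ζ h.c)⁻¹ * (ζ h.c * β K4.i) * (ζ h.c)⁻¹ := by rw [c1]
          _ = β K4.i * (ζ h.c)⁻¹ := by group
      have h3 := (cm_eq_one_iff _ _).mpr hcomm
      rw [hkey, k4_i_eq, mul_one] at h3
      exact ha (ζ_inj _ h3)
    have hA1 : α h.a = 1 := by rw [ha]; rfl
    rw [hA1, one_mul] at hh'
    have hc : h.c = 0 := ζ_inj _ hh'
    ext
    · exact ha
    · exact hb
    · exact hc
  have Ψ_bij : Function.Bijective Ψh :=
    Function.Injective.bijective_of_nat_card_le Ψ_inj (by rw [S.card, Heis.card_eq])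
  exact ⟨MulEquiv.ofBijective Ψh Ψ_bij⟩

/-- hence such a group is a Sylow `2`-subgroup of `PSL₃(4)` -/
theorem nonempty_sylow_mulEquiv (S : Setup ρ) (s₁ s₂ : T) (h1 : s₁ * s₁ = 1) (h2 : s₂ * s₂ = 1)
    (hne : cm s₁ s₂ ≠ 1) :
    ∃ P : Sylow 2 (Matrix.ProjectiveSpecialLinearGroup (Fin 3) K4),
      Nonempty (T ≃* ↥(P : Subgroup (Matrix.ProjectiveSpecialLinearGroup (Fin 3) K4))) := by
  obtain ⟨e⟩ := S.nonempty_heis_mulEquiv s₁ s₂ h1 h2 hne
  obtain ⟨P, hP⟩ := Heis.exists_sylow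
  refine ⟨P, ⟨?_⟩⟩
  exact (e.symm.trans (MonoidHom.ofInjective Heis.toPSL_injective)).trans
    (MulEquiv.subgroupCongr hP.symm)

end Setup

end Cfsg.Agent.Lib.Helper20.Ord64
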