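import Mathlib
import Cfsg.Agent.Lib.Helper1.FrobConj2

/-!
# Helper20 library: elementary facts on a Frobenius group with given kernel subgroup

* `frobData_of_ker`: `Helper1.FrobData H F` from `frobeniusKernel H = F` (`F` a subgroup).
* `pow_card_eq_one_of_not_mem`, `eq_one_of_commute_of_not_mem`: elements outside the kernel have
  order dividing `|H|` and commute with no nonidentity element of the kernel.
* `dvd_of_pow_mem`: if `y ≡ h` modulo the kernel with `h` a generator of the cyclic complement `H`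
  then `y ^ i ∈ F → |H| ∣ i`.
* `dvd_of_forall_prime_pow`, `eq_of_forall_sylow_card_dvd`: a subgroup whose order is divisible by
  the full power of every prime is everything.
-/

set_option autoImplicit false

namespace Cfsg.Agent.Lib.Helper20.FrobQuot

open Pointwise
open Cfsg.Agent.Lib.Helper1

variable {Q : Type*} [Group Q]

theorem frobData_of_ker [Finite Q] (F H : Subgroup Q) (hH : Cfsg.IsFrobeniusComplement H)
    (hker : Cfsg.frobeniusKernel H = (F : Set Q)) : FrobData H F := by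
  obtain ⟨N, hN⟩ := FrobData.exists_of_isFrobeniusComplement hH
  have h1 : N = F := SetLike.coe_injective (hN.ker.trans hker)
  rwa [h1] at hN

theorem pow_card_eq_one_of_not_mem [Finite Q] {F H : Subgroup Q} (h : FrobData H F) {x : Q}
    (hx : x ∉ F) : x ^ Nat.card H = 1 := by
  obtain ⟨_, g, hg⟩ := h.not_mem_iff.mp hx
  rw [mem_conj_smul] at hg
  have h1 : (⟨g⁻¹ * x * g, hg⟩ : H) ^ Nat.card H = 1 := pow_card_eq_one'
  have h2 : (g⁻¹ * x * g) ^ Nat.card H = 1 := by
    have h0 := congrArg Subtype.val h1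
    rw [Subgroup.coe_pow] at h0
    exact h0
  have h3 : x = g * (g⁻¹ * x * g) * g⁻¹ := by group
  rw [h3, conj_pow, h2]
  group

theorem eq_one_of_commute_of_not_mem {F H : Subgroup Q} (h : FrobData H F) {x : Q}
    (hx : x ∉ F) {n : Q} (hn : n ∈ F) (hc : x * n = n * x) : n = 1 := by
  obtain ⟨hx1, g, hg⟩ := h.not_mem_iff.mp hx
  rw [mem_conj_smul] at hg
  have hne : g⁻¹ * x * g ≠ 1 := by
    intro h1
    apply hx1
    have h3 : x = g * (g⁻¹ * x * g) * g⁻¹ := by group
    rw [h3, h1]; group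
  have hn' : g⁻¹ * n * g ∈ F := by
    have := h.normal.conj_mem n hn g⁻¹
    rwa [inv_inv] at this
  have hc' : g⁻¹ * x * g * (g⁻¹ * n * g) = g⁻¹ * n * g * (g⁻¹ * x * g) := by
    have h1 : g⁻¹ * x * g * (g⁻¹ * n * g) = g⁻¹ * (x * n) * g := by group
    have h2 : g⁻¹ * n * g * (g⁻¹ * x * g) = g⁻¹ * (n * x) * g := by group
    rw [h1, h2, hc]
  have h4 := h.fpf hg hne hn' hc'
  have h5 : n = g * (g⁻¹ * n * g) * g⁻¹ := by group
  rw [h5, h4]; group

theorem dvd_of_pow_mem {F H : Subgroup Q} (h : FrobData H F) (hb : Q) (hbH : hb ∈ H)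
    (hgen : ∀ x ∈ H, x ∈ Subgroup.zpowers hb) (y : Q) (hy : hb⁻¹ * y ∈ F) (i : ℕ)
    (hi : y ^ i ∈ F) : Nat.card H ∣ i := by
  haveI := h.normal
  have h1 : (QuotientGroup.mk' F) hb = (QuotientGroup.mk' F) y := QuotientGroup.eq.mpr hy
  have h2 : (QuotientGroup.mk' F) (hb ^ i) = (QuotientGroup.mk' F) (y ^ i) := by
    rw [map_pow, map_pow, h1]
  have h3 : (QuotientGroup.mk' F) (y ^ i) = 1 := (QuotientGroup.eq_one_iff _).mpr hi
  rw [h3] at h2
  have h4 : hb ^ i ∈ F := (QuotientGroup.eq_one_iff _).mp h2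
  have h5 : hb ^ i ∈ F ⊓ H := Subgroup.mem_inf.mpr ⟨h4, pow_mem hbH i⟩
  rw [h.inf_eq_bot, Subgroup.mem_bot] at h5
  have h6 : Subgroup.zpowers hb = H :=
    le_antisymm ((Subgroup.zpowers_le).mpr hbH) hgen
  have h7 : Nat.card H = orderOf hb := by rw [← h6, Nat.card_zpowers]
  rw [h7]
  exact orderOf_dvd_of_pow_eq_one h5

theorem dvd_of_forall_prime_pow {a b : ℕ} (ha : a ≠ 0) (hb : b ≠ 0)
    (h : ∀ p, p.Prime → p ^ a.factorization p ∣ b) : a ∣ b := by
  rw [← Nat.factorization_prime_le_iff_dvd ha hb]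
  intro p hp
  exact (hp.pow_dvd_iff_le_factorization hb).mp (h p hp)

/-- A subgroup `D ≤ K` whose order is divisible by the full `p`-part of `|K|` for all `p`
equals `K`. -/
theorem eq_of_forall_prime_pow_dvd [Finite Q] {D K : Subgroup Q} (hDK : D ≤ K)
    (h : ∀ p, p.Prime → p ^ (Nat.card K).factorization p ∣ Nat.card D) : D = K :=
  Subgroup.eq_of_le_of_card_ge hDK
    (Nat.le_of_dvd Nat.card_pos
      (dvd_of_forall_prime_pow Nat.card_pos.ne' Nat.card_pos.ne' h))

end Cfsg.Agent.Lib.Helper20.FrobQuot
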