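import Cfsg.Agent.Lib.Helper1.MinDegTv

/-!
# S2140 front, piece F3b: cardinalities of `A v`, `A2 v w`, and conjugacy of the transvections
with a given centre under the stabiliser of the centre vector.
-/

set_option autoImplicit false
set_option linter.style.haveILetI false
set_option linter.unusedSectionVars false

namespace Cfsg.Agent.Lib.Helper11.MinDeg

open Matrix

section F3bAux
variable {F : Type*} [Field F] {n : ℕ}

/-- the functional `φ ↦ φ ⬝ᵥ v` on row vectors -/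
def dotL (v : Fin n → F) : (Fin n → F) →ₗ[F] F where
  toFun φ := φ ⬝ᵥ v
  map_add' φ ψ := by simp [add_dotProduct]
  map_smul' c φ := by simp [smul_dotProduct]

@[simp] theorem dotL_apply (v φ : Fin n → F) : dotL v φ = φ ⬝ᵥ v := rfl

theorem dotL_surjective {v : Fin n → F} (hv : v ≠ 0) : Function.Surjective (dotL v) := by
  obtain ⟨i, hi⟩ := Function.ne_iff.1 hv
  intro c
  refine ⟨Pi.single i (c / v i), ?_⟩
  rw [dotL_apply, single_dotProduct]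
  exact div_mul_cancel₀ c hi

theorem finrank_ker_dotL {v : Fin n → F} (hv : v ≠ 0) :
    Module.finrank F (LinearMap.ker (dotL v)) = n - 1 := by
  have h := LinearMap.finrank_range_add_finrank_ker (dotL v)
  rw [LinearMap.range_eq_top.2 (dotL_surjective hv), finrank_top, Module.finrank_self,
    Module.finrank_fin_fun] at h
  omega

/-- the pair of functionals `φ ↦ (φ ⬝ᵥ v, φ ⬝ᵥ w)` -/
def dotL2 (v w : Fin n → F) : (Fin n → F) →ₗ[F] F × F := (dotL v).prod (dotL w)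

theorem mem_ker_dotL2 (v w φ : Fin n → F) :
    φ ∈ LinearMap.ker (dotL2 v w) ↔ φ ⬝ᵥ v = 0 ∧ φ ⬝ᵥ w = 0 := by
  simp [dotL2, LinearMap.mem_ker]

/-- for `u ∉ F ∙ s` (and `s` arbitrary) there is `y` with `s ⬝ᵥ y = 0` and `u ⬝ᵥ y = 1` -/
theorem exists_dual_vec {s u : Fin n → F} (hu : u ∉ F ∙ s) :
    ∃ y : Fin n → F, s ⬝ᵥ y = 0 ∧ u ⬝ᵥ y = 1 := by
  obtain ⟨y, hy0, hy1⟩ := exists_dual hu
  refine ⟨y, ?_, ?_⟩
  · rw [dotProduct_comm]
    exact hy0 s (Submodule.mem_span_singleton_self s)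
  · rw [dotProduct_comm]
    exact hy1

theorem not_mem_span_symm {v w : Fin n → F} (hv : v ≠ 0) (hw : w ∉ F ∙ v) : v ∉ F ∙ w := by
  intro h
  obtain ⟨c, hc⟩ := Submodule.mem_span_singleton.1 h
  have hc0 : c ≠ 0 := by
    rintro rfl
    exact hv (by rw [← hc, zero_smul])
  apply hw
  rw [Submodule.mem_span_singleton]
  exact ⟨c⁻¹, by rw [← hc, smul_smul, inv_mul_cancel₀ hc0, one_smul]⟩

theorem dotL2_surjective {v w : Fin n → F} (hv : v ≠ 0) (hw : w ∉ F ∙ v) :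
    Function.Surjective (dotL2 v w) := by
  obtain ⟨ξ, hξv, hξw⟩ := exists_dual_vec hw
  obtain ⟨η, hηw, hηv⟩ := exists_dual_vec (not_mem_span_symm hv hw)
  rintro ⟨a, b⟩
  refine ⟨a • η + b • ξ, ?_⟩
  have h1 : ξ ⬝ᵥ v = 0 := by rw [dotProduct_comm]; exact hξv
  have h2 : ξ ⬝ᵥ w = 1 := by rw [dotProduct_comm]; exact hξw
  have h3 : η ⬝ᵥ w = 0 := by rw [dotProduct_comm]; exact hηw
  have h4 : η ⬝ᵥ v = 1 := by rw [dotProduct_comm]; exact hηv
  simp [dotL2, add_dotProduct, smul_dotProduct, h1, h2, h3, h4]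

theorem finrank_ker_dotL2 {v w : Fin n → F} (hv : v ≠ 0) (hw : w ∉ F ∙ v) :
    Module.finrank F (LinearMap.ker (dotL2 v w)) = n - 2 := by
  have h := LinearMap.finrank_range_add_finrank_ker (dotL2 v w)
  rw [LinearMap.range_eq_top.2 (dotL2_surjective hv hw), finrank_top, Module.finrank_prod,
    Module.finrank_self, Module.finrank_fin_fun] at h
  omega

/-- one conjugation step: if `y` has `φ ⬝ᵥ y = 1 = φ' ⬝ᵥ y`, the transvection `tv y (φ - φ')`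
fixes `v` and conjugates `tv v φ` to `tv v φ'`. -/
theorem conj_step {v φ φ' y : Fin n → F} (hφ : φ ⬝ᵥ v = 0) (hφ' : φ' ⬝ᵥ v = 0)
    (hy : φ ⬝ᵥ y = 1) (hy' : φ' ⬝ᵥ y = 1) :
    tv y (φ - φ') • v = v ∧ tv y (φ - φ') * tv v φ * (tv y (φ - φ'))⁻¹ = tv v φ' := by
  have hξy : (φ - φ') ⬝ᵥ y = 0 := by rw [sub_dotProduct, hy, hy', sub_self]
  have hξv : (φ - φ') ⬝ᵥ v = 0 := by rw [sub_dotProduct, hφ, hφ', sub_self]
  refine ⟨?_, ?_⟩
  · rw [tv_smul hξy, hξv, zero_smul, add_zero]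
  · rw [tv_conj_tv hξy hφ, hξv, zero_smul, add_zero, hy, one_smul, sub_sub_cancel]

/-- two functionals, neither a multiple of the other, take the value `1` at a common vector -/
theorem exists_common_one {φ ψ : Fin n → F} (hφ : φ ≠ 0) (hψ : ψ ∉ F ∙ φ) :
    ∃ y : Fin n → F, φ ⬝ᵥ y = 1 ∧ ψ ⬝ᵥ y = 1 := by
  obtain ⟨y₁, h1φ, h1ψ⟩ := exists_dual_vec hψ
  obtain ⟨y₂, h2ψ, h2φ⟩ := exists_dual_vec (not_mem_span_symm hφ hψ)
  refine ⟨y₁ + y₂, ?_, ?_⟩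
  · rw [dotProduct_add, h1φ, h2φ, zero_add]
  · rw [dotProduct_add, h1ψ, h2ψ, add_zero]

theorem exists_conj_step {v φ φ' : Fin n → F} (hφ : φ ⬝ᵥ v = 0) (hφ' : φ' ⬝ᵥ v = 0)
    (h0 : φ ≠ 0) (hind : φ' ∉ F ∙ φ) :
    ∃ g : SpecialLinearGroup (Fin n) F, g • v = v ∧ g * tv v φ * g⁻¹ = tv v φ' := by
  obtain ⟨y, hy, hy'⟩ := exists_common_one h0 hind
  exact ⟨tv y (φ - φ'), conj_step hφ hφ' hy hy'⟩

end F3bAux

section F3b
variable {F : Type*} [Field F] [Fintype F] {n : ℕ}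

theorem card_A {v : Fin n → F} (hv : v ≠ 0) {q : ℕ} (hq : Fintype.card F = q) :
    Nat.card (A v) = q ^ (n - 1) := by
  classical
  have e : LinearMap.ker (dotL v) ≃ A v := by
    refine Equiv.ofBijective
      (fun φ => ⟨tv v φ.1, tv_mem_A (LinearMap.mem_ker.1 φ.2)⟩) ⟨?_, ?_⟩
    · rintro ⟨φ, hφ⟩ ⟨ψ, hψ⟩ h
      have h' : tv v φ = tv v ψ := congrArg Subtype.val h
      exact Subtype.ext (tv_injective hv (LinearMap.mem_ker.1 hφ) (LinearMap.mem_ker.1 hψ) h')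
    · rintro ⟨g, hg⟩
      obtain ⟨φ, hφ, rfl⟩ := (mem_A_iff hv g).1 hg
      exact ⟨⟨φ, LinearMap.mem_ker.2 hφ⟩, rfl⟩
  rw [← Nat.card_congr e, Nat.card_eq_fintype_card, Module.card_eq_pow_finrank (K := F),
    finrank_ker_dotL hv, hq]

theorem card_A2 {v w : Fin n → F} (hv : v ≠ 0) (hw : w ∉ F ∙ v) {q : ℕ}
    (hq : Fintype.card F = q) : Nat.card (A2 v w) = q ^ (n - 2) := by
  classical
  have e : LinearMap.ker (dotL2 v w) ≃ A2 v w := by
    refine Equiv.ofBijective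
      (fun φ => ⟨tv v φ.1, (mem_A2_iff hv w _).2
        ⟨φ.1, ((mem_ker_dotL2 v w φ.1).1 φ.2).1, ((mem_ker_dotL2 v w φ.1).1 φ.2).2, rfl⟩⟩)
      ⟨?_, ?_⟩
    · rintro ⟨φ, hφ⟩ ⟨ψ, hψ⟩ h
      have h' : tv v φ = tv v ψ := congrArg Subtype.val h
      exact Subtype.ext (tv_injective hv ((mem_ker_dotL2 v w φ).1 hφ).1
        ((mem_ker_dotL2 v w ψ).1 hψ).1 h')
    · rintro ⟨g, hg⟩
      obtain ⟨φ, hφv, hφw, rfl⟩ := (mem_A2_iff hv w g).1 hg
      exact ⟨⟨φ, (mem_ker_dotL2 v w φ).2 ⟨hφv, hφw⟩⟩, rfl⟩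
  rw [← Nat.card_congr e, Nat.card_eq_fintype_card, Module.card_eq_pow_finrank (K := F),
    finrank_ker_dotL2 hv hw, hq]

/-- all non-identity elements of `A v` are conjugate under the stabiliser of `v` (`n ≥ 3`) -/
theorem exists_conj_tv (hn : 3 ≤ n) {v φ φ' : Fin n → F} (hv : v ≠ 0) (hφ : φ ⬝ᵥ v = 0)
    (hφ' : φ' ⬝ᵥ v = 0) (h0 : φ ≠ 0) (h0' : φ' ≠ 0) :
    ∃ g : SpecialLinearGroup (Fin n) F, g • v = v ∧ g * tv v φ * g⁻¹ = tv v φ' := by
  by_cases hind : φ' ∈ F ∙ φ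
  · -- an intermediate functional `ψ ∈ v^⊥` outside the line `F φ`
    have hex : ∃ ψ : Fin n → F, ψ ⬝ᵥ v = 0 ∧ ψ ∉ F ∙ φ := by
      by_contra hcon
      push Not at hcon
      have hle : LinearMap.ker (dotL v) ≤ F ∙ φ := fun ψ hψ => hcon ψ (LinearMap.mem_ker.1 hψ)
      have h1 := Submodule.finrank_mono hle
      rw [finrank_ker_dotL hv, finrank_span_singleton h0] at h1
      omega
    obtain ⟨ψ, hψv, hψ⟩ := hex
    have hψ0 : ψ ≠ 0 := by
      rintro rfl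
      exact hψ (Submodule.zero_mem _)
    have hφ'ψ : φ' ∉ F ∙ ψ := by
      intro h
      obtain ⟨c, hc⟩ := Submodule.mem_span_singleton.1 h
      obtain ⟨d, hd⟩ := Submodule.mem_span_singleton.1 hind
      have hc0 : c ≠ 0 := by
        rintro rfl
        exact h0' (by rw [← hc, zero_smul])
      apply hψ
      rw [Submodule.mem_span_singleton]
      exact ⟨c⁻¹ * d, by rw [mul_smul, hd, ← hc, smul_smul, inv_mul_cancel₀ hc0, one_smul]⟩
    obtain ⟨g₁, hg₁v, hg₁⟩ := exists_conj_step hφ hψv h0 hψ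
    obtain ⟨g₂, hg₂v, hg₂⟩ := exists_conj_step hψv hφ' hψ0 hφ'ψ
    refine ⟨g₂ * g₁, ?_, ?_⟩
    · rw [mul_smul, hg₁v, hg₂v]
    · rw [_root_.mul_inv_rev, ← hg₂, ← hg₁]
      group
  · exact exists_conj_step hφ hφ' h0 hind

end F3b

end Cfsg.Agent.Lib.Helper11.MinDeg
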