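import Mathlib

/-!
# S3282 FO-A1 (architect helper11): the normalizer of a self-centralizing TI Hall subgroup

`Q ≠ 1` with `C(y) = Q` for all `y ∈ Q ∖ 1` and `|Q|` coprime to `|G| / |Q|`:
`|N(Q)| = |Q| e`, `e ∣ |Q| - 1`, `|G| = |N(Q)| (1 + j |Q|)`.
-/

set_option autoImplicit false

namespace Cfsg.Agent.Lib.Helper20.S3282A1

open MulAction in
/-- a finite group acting with one fixed point and freely elsewhere -/
theorem card_eq_one_add_mul {Q X : Type*} [Group Q] [Finite Q] [MulAction Q X] [Finite X]
    (x0 : X) (hfix : ∀ y : Q, y • x0 = x0)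
    (hfree : ∀ x : X, x ≠ x0 → ∀ y : Q, y • x = x → y = 1) :
    ∃ j : ℕ, Nat.card X = 1 + j * Nat.card Q := by
  classical
  have : Fintype (Quotient (orbitRel Q X)) := Fintype.ofFinite _
  let e := selfEquivSigmaOrbitsQuotientStabilizer Q X
  have h1 : Nat.card X = ∑ ω : Quotient (orbitRel Q X), Nat.card (Q ⧸ stabilizer Q ω.out) := by
    rw [Nat.card_congr e, Nat.card_sigma]
  set ω0 : Quotient (orbitRel Q X) := Quotient.mk'' x0 with hω0
  have hout : ∀ ω : Quotient (orbitRel Q X), ω.out = x0 ↔ ω = ω0 := by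
    intro ω
    constructor
    · intro h
      rw [hω0, ← h]
      exact (Quotient.out_eq' ω).symm
    · intro h
      have h2 : (Quotient.mk'' (ω.out) : Quotient (orbitRel Q X)) = Quotient.mk'' x0 := by
        rw [Quotient.out_eq' ω, h]
      have h3 := Quotient.exact' h2
      change ω.out ∈ orbit Q x0 at h3
      obtain ⟨y, hy⟩ := h3
      rw [← hy]
      exact hfix y
  have hf : ∀ ω : Quotient (orbitRel Q X),
      Nat.card (Q ⧸ stabilizer Q ω.out) = if ω = ω0 then 1 else Nat.card Q := by
    intro ω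
    by_cases h : ω = ω0
    · rw [if_pos h]
      have h2 : stabilizer Q ω.out = ⊤ := by
        rw [eq_top_iff]
        intro y _
        rw [mem_stabilizer_iff, (hout ω).mpr h]
        exact hfix y
      rw [h2]
      have : Subsingleton (Q ⧸ (⊤ : Subgroup Q)) := QuotientGroup.subsingleton_quotient_top
      exact Nat.card_unique
    · rw [if_neg h]
      have h2 : stabilizer Q ω.out = ⊥ := by
        rw [eq_bot_iff]
        intro y hy
        rw [mem_stabilizer_iff] at hy
        rw [Subgroup.mem_bot]
        exact hfree _ (fun h' => h ((hout ω).mp h')) y hy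
      rw [h2]
      exact Nat.card_congr (QuotientGroup.quotientBot (G := Q)).toEquiv
  refine ⟨(Finset.univ.erase ω0).card, ?_⟩
  rw [h1, ← Finset.add_sum_erase Finset.univ _ (Finset.mem_univ ω0), hf ω0, if_pos rfl]
  congr 1
  rw [← smul_eq_mul, ← Finset.sum_const]
  apply Finset.sum_congr rfl
  intro ω hω
  rw [hf ω, if_neg (Finset.ne_of_mem_erase hω)]

open MulAction in
/-- a finite group acting with all stabilizers equal to a fixed subgroup -/
theorem index_dvd_card {A X : Type*} [Group A] [Finite A] [MulAction A X] [Finite X]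
    (S : Subgroup A) (hS : ∀ x : X, stabilizer A x = S) : S.index ∣ Nat.card X := by
  classical
  have : Fintype (Quotient (orbitRel A X)) := Fintype.ofFinite _
  let e := selfEquivSigmaOrbitsQuotientStabilizer A X
  have h1 : Nat.card X = ∑ ω : Quotient (orbitRel A X), Nat.card (A ⧸ stabilizer A ω.out) := by
    rw [Nat.card_congr e, Nat.card_sigma]
  rw [h1]
  apply Finset.dvd_sum
  intro ω _
  rw [hS ω.out, Subgroup.index_eq_card]

variable {G : Type*} [Group G] [Finite G]

/-- conjugation action of the normalizer on the non-identity elements -/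
@[reducible] def conjAct (Q : Subgroup G) :
    MulAction (Subgroup.normalizer (Q : Set G)) {y : G // y ∈ Q ∧ y ≠ 1} where
  smul n y := ⟨(n : G) * y.1 * (n : G)⁻¹, (Subgroup.mem_normalizer_iff.mp n.2 y.1).mp y.2.1, by
    intro h
    apply y.2.2
    have h2 : (n : G)⁻¹ * ((n : G) * y.1 * (n : G)⁻¹) * (n : G) = (n : G)⁻¹ * 1 * (n : G) := by rw [h]
    simpa [mul_assoc] using h2⟩
  one_smul y := by
    apply Subtype.ext
    change ((1 : Subgroup.normalizer (Q : Set G)) : G) * y.1 * ((1 : Subgroup.normalizer (Q : Set G)) : G)⁻¹ = y.1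
    simp
  mul_smul n m y := by
    apply Subtype.ext
    change ((n * m : Subgroup.normalizer (Q : Set G)) : G) * y.1 *
      ((n * m : Subgroup.normalizer (Q : Set G)) : G)⁻¹ = (n : G) * ((m : G) * y.1 * (m : G)⁻¹) * (n : G)⁻¹
    rw [Subgroup.coe_mul, mul_inv_rev]
    simp only [mul_assoc]

theorem A1_normalizer {Q : Subgroup G} (hQ1 : Q ≠ ⊥)
    (hC : ∀ y ∈ Q, y ≠ 1 → Subgroup.centralizer ({y} : Set G) = Q)
    (hcop : (Nat.card Q).Coprime (Nat.card G / Nat.card Q)) :
    ∃ e j : ℕ, Nat.card (Subgroup.normalizer (Q : Set G)) = Nat.card Q * e ∧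
      e ∣ Nat.card Q - 1 ∧
      Nat.card G = Nat.card (Subgroup.normalizer (Q : Set G)) * (1 + j * Nat.card Q) := by
  classical
  set N := Subgroup.normalizer (Q : Set G) with hN
  have hQN : Q ≤ N := Subgroup.le_normalizer
  set Q' : Subgroup N := Q.subgroupOf N with hQ'
  have hnorm : Q'.Normal := Subgroup.normal_in_normalizer
  set e := Q'.index with he
  have hcardQ' : Nat.card Q' = Nat.card Q :=
    Nat.card_congr (Subgroup.subgroupOfEquivOfLe hQN).toEquiv
  have hNcard : Nat.card N = Nat.card Q * e := by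
    rw [← hcardQ', he]
    exact (Subgroup.card_mul_index Q').symm
  have hGcard : Nat.card G = Nat.card N * N.index := (Subgroup.card_mul_index N).symm
  have hQpos : 0 < Nat.card Q := Nat.card_pos
  have hQ1' : 1 < Nat.card Q := (Subgroup.one_lt_card_iff_ne_bot Q).mpr hQ1
  -- `e` is coprime to `|Q|`
  have hediv : e ∣ Nat.card G / Nat.card Q := by
    rw [hGcard, hNcard, mul_assoc, Nat.mul_div_cancel_left _ hQpos]
    exact dvd_mul_right _ _
  have hecop : (Nat.card Q).Coprime e := Nat.Coprime.coprime_dvd_right hediv hcop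
  -- Hall: elements of `N` of order dividing `|Q|` lie in `Q`
  have hall : ∀ x ∈ N, x ^ Nat.card Q = 1 → x ∈ Q := by
    intro x hx hpow
    have h1 : (⟨x, hx⟩ : N) ^ e ∈ Q' := Subgroup.pow_index_mem Q' _
    have h1' : x ^ e ∈ Q := by
      have := h1
      rw [hQ', Subgroup.mem_subgroupOf] at this
      simpa using this
    obtain ⟨m, -, hm⟩ := Nat.exists_mul_mod_eq_one_of_coprime hecop.symm hQ1'
    have h2 : x ^ (e * m) = x := by
      rw [pow_eq_pow_mod (e * m) hpow, hm, pow_one]
    rw [← h2, pow_mul]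
    exact Q.pow_mem h1' m
  have hpowQ : ∀ y ∈ Q, y ^ Nat.card Q = 1 := by
    intro y hy
    have := pow_card_eq_one' (G := Q) (x := ⟨y, hy⟩)
    have h2 := congrArg (Subtype.val) this
    rw [Subgroup.coe_pow, Subgroup.coe_one] at h2
    exact h2
  -- the key: a conjugate of a non-identity element of `Q` in `N` forces the conjugator into `N`
  have key : ∀ (g y : G), y ∈ Q → y ≠ 1 → g⁻¹ * y * g ∈ N → g ∈ N := by
    intro g y hy hy1 hmem
    have hy'pow : (g⁻¹ * y * g) ^ Nat.card Q = 1 := by
      have := conj_pow (a := g⁻¹) (b := y) (i := Nat.card Q)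
      rw [inv_inv] at this
      rw [this, hpowQ y hy]
      group
    have hy'Q : g⁻¹ * y * g ∈ Q := hall _ hmem hy'pow
    have hy'1 : g⁻¹ * y * g ≠ 1 := by
      intro h
      apply hy1
      have h2 : g * (g⁻¹ * y * g) * g⁻¹ = g * 1 * g⁻¹ := by rw [h]
      simpa [mul_assoc] using h2
    have hC1 := hC y hy hy1
    have hC2 := hC _ hy'Q hy'1
    rw [hN, Subgroup.mem_normalizer_iff]
    intro h
    constructor
    · intro hh
      rw [← hC2, Subgroup.mem_centralizer_singleton_iff] at hh
      rw [← hC1, Subgroup.mem_centralizer_singleton_iff]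
      calc g * h * g⁻¹ * y = g * (h * (g⁻¹ * y * g)) * g⁻¹ := by group
        _ = g * ((g⁻¹ * y * g) * h) * g⁻¹ := by rw [hh]
        _ = y * (g * h * g⁻¹) := by group
    · intro hh
      rw [← hC1, Subgroup.mem_centralizer_singleton_iff] at hh
      rw [← hC2, Subgroup.mem_centralizer_singleton_iff]
      calc h * (g⁻¹ * y * g) = g⁻¹ * (g * h * g⁻¹ * y) * g := by group
        _ = g⁻¹ * (y * (g * h * g⁻¹)) * g := by rw [hh]
        _ = g⁻¹ * y * g * h := by group
  -- the count of conjugates
  obtain ⟨j, hj⟩ : ∃ j : ℕ, Nat.card (G ⧸ N) = 1 + j * Nat.card Q := by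
    apply card_eq_one_add_mul (Q := Q) (X := G ⧸ N) ((1 : G) : G ⧸ N)
    · intro y
      change (((y : G) * 1 : G) : G ⧸ N) = ((1 : G) : G ⧸ N)
      rw [QuotientGroup.eq, mul_one, mul_one]
      exact N.inv_mem (hQN y.2)
    · intro x
      induction x using QuotientGroup.induction_on with
      | H g =>
        intro hx y hyx
        by_contra hy1
        apply hx
        change (((y : G) * g : G) : G ⧸ N) = (g : G ⧸ N) at hyx
        rw [QuotientGroup.eq] at hyx
        have hyinv : (y : G)⁻¹ ∈ Q := Q.inv_mem y.2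
        have hyinv1 : (y : G)⁻¹ ≠ 1 := by
          intro h
          apply hy1
          apply Subtype.ext
          rw [Subgroup.coe_one]
          exact inv_eq_one.mp h
        have hmem : g⁻¹ * (y : G)⁻¹ * g ∈ N := by
          have : ((y : G) * g)⁻¹ * g = g⁻¹ * (y : G)⁻¹ * g := by group
          rw [← this]
          exact hyx
        have hgN := key g _ hyinv hyinv1 hmem
        rw [QuotientGroup.eq]
        exact N.mul_mem (N.inv_mem hgN) N.one_mem
  -- `e` divides `|Q| - 1`
  have hdiv : e ∣ Nat.card Q - 1 := by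
    let _ := conjAct Q
    have h1 := index_dvd_card (A := N) (X := {y : G // y ∈ Q ∧ y ≠ 1}) Q' (by
      intro y
      ext n
      have hCy := hC y.1 y.2.1 y.2.2
      rw [MulAction.mem_stabilizer_iff, hQ', Subgroup.mem_subgroupOf]
      constructor
      · intro h
        have h2 : (n : G) * y.1 * (n : G)⁻¹ = y.1 := congrArg Subtype.val h
        have h3 : (n : G) ∈ Subgroup.centralizer ({y.1} : Set G) := by
          rw [Subgroup.mem_centralizer_singleton_iff]
          calc (n : G) * y.1 = (n : G) * y.1 * (n : G)⁻¹ * (n : G) := by group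
            _ = y.1 * (n : G) := by rw [h2]
        rw [hCy] at h3
        exact h3
      · intro h
        have h3 : (n : G) ∈ Subgroup.centralizer ({y.1} : Set G) := by
          rw [hCy]
          exact h
        rw [Subgroup.mem_centralizer_singleton_iff] at h3
        apply Subtype.ext
        change (n : G) * y.1 * (n : G)⁻¹ = y.1
        rw [h3]
        group)
    have h2 : Nat.card {y : G // y ∈ Q ∧ y ≠ 1} = Nat.card Q - 1 := by
      have e1 : {y : G // y ∈ Q ∧ y ≠ 1} ≃ {y : Q // y ≠ 1} :=
        { toFun := fun y => ⟨⟨y.1, y.2.1⟩, fun h => y.2.2 (congrArg Subtype.val h)⟩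
          invFun := fun y => ⟨y.1.1, y.1.2, fun h => y.2 (Subtype.ext h)⟩
          left_inv := fun _ => rfl
          right_inv := fun _ => rfl }
      rw [Nat.card_congr e1]
      have : Fintype Q := Fintype.ofFinite _
      rw [Nat.card_eq_fintype_card, Fintype.card_subtype_compl, Fintype.card_subtype_eq,
        Nat.card_eq_fintype_card]
    rw [← h2]
    exact h1
  refine ⟨e, j, hNcard, hdiv, ?_⟩
  rw [hGcard, Subgroup.index_eq_card, hj]

end Cfsg.Agent.Lib.Helper20.S3282A1
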