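import Mathlib
import Cfsg.Prelude.Def_Characters
import Cfsg.Agent.Lib.Helper11.S3282Defs
import Cfsg.Agent.Lib.Helper7.ClassCount

/-!
# S3282 FO-B2b (architect helper11): the two classes of non-real elements in case B
-/

set_option autoImplicit false

namespace Cfsg.Agent.Lib.Helper20.S3282B2b

open Cfsg Cfsg.Agent.Lib.Helper11 Cfsg.Agent.Lib.Helper11.S3282

universe u

variable {G : Type u} [Group G] {t s : G} {K : Subgroup G}

theorem invol_mem (h : Hyp t s K) {z : G} (hz : orderOf z = 2) : z ∈ conjSet K := by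
  have hz1 : z ≠ 1 := by
    rintro rfl
    rw [orderOf_one] at hz
    omega
  obtain ⟨g, hg⟩ := isConj_iff.mp (h.hconj z t hz h.ht)
  exact ⟨hz1, g, by rw [hg]; exact h.htK⟩

theorem conjSet_conj {y : G} (hy : y ∉ conjSet K) (g : G) : g * y * g⁻¹ ∉ conjSet K := by
  intro hc
  apply hy
  obtain ⟨h1, a, ha⟩ := hc
  refine ⟨?_, a * g, ?_⟩
  · rintro rfl
    apply h1
    group
  · have : a * g * y * (a * g)⁻¹ = a * (g * y * g⁻¹) * a⁻¹ := by group
    rw [this]
    exact ha

theorem conjSet_inv {y : G} (hy : y ∉ conjSet K) : y⁻¹ ∉ conjSet K := by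
  intro hc
  apply hy
  obtain ⟨h1, a, ha⟩ := hc
  refine ⟨?_, a, ?_⟩
  · rintro rfl
    apply h1
    exact inv_one
  · have : a * y * a⁻¹ = (a * y⁻¹ * a⁻¹)⁻¹ := by group
    rw [this]
    exact K.inv_mem ha

theorem sreal_conj {y : G} (hy : ¬ SReal y) (g : G) : ¬ SReal (g * y * g⁻¹) := by
  rintro ⟨u, hu, hux⟩
  apply hy
  refine ⟨g⁻¹ * u * g, ?_, ?_⟩
  · have := MulEquiv.orderOf_eq (MulAut.conj g⁻¹) u
    rw [MulAut.conj_apply, inv_inv] at this
    rw [this, hu]
  · calc g⁻¹ * u * g * y * (g⁻¹ * u * g)⁻¹ = g⁻¹ * (u * (g * y * g⁻¹) * u⁻¹) * g := by group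
      _ = g⁻¹ * (g * y * g⁻¹)⁻¹ * g := by rw [hux]
      _ = y⁻¹ := by group

theorem sreal_inv {y : G} (hy : ¬ SReal y) : ¬ SReal y⁻¹ := by
  rintro ⟨u, hu, hux⟩
  apply hy
  refine ⟨u, hu, ?_⟩
  have : u * y * u⁻¹ = (u * y⁻¹ * u⁻¹)⁻¹ := by group
  rw [this, hux, inv_inv]

theorem NR_conj {y : G} (hy : y ∈ NR K) (g : G) : g * y * g⁻¹ ∈ NR K := by
  obtain ⟨h1, h2, h3⟩ := hy
  refine ⟨?_, conjSet_conj h2 g, sreal_conj h3 g⟩
  intro hc
  apply h1
  have : y = g⁻¹ * (g * y * g⁻¹) * g := by group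
  rw [this, hc]
  group

theorem NR_inv {y : G} (hy : y ∈ NR K) : y⁻¹ ∈ NR K := by
  obtain ⟨h1, h2, h3⟩ := hy
  exact ⟨fun hc => h1 (inv_eq_one.mp hc), conjSet_inv h2, sreal_inv h3⟩

theorem conj_odd_pow {g x : G} (hg : g * x * g⁻¹ = x⁻¹) (j : ℕ) :
    g ^ (2 * j + 1) * x * (g ^ (2 * j + 1))⁻¹ = x⁻¹ := by
  induction j with
  | zero => simpa using hg
  | succ j ih =>
    have e : g ^ (2 * (j + 1) + 1) = g * g * g ^ (2 * j + 1) := by
      rw [show 2 * (j + 1) + 1 = 1 + 1 + (2 * j + 1) by ring, pow_add, pow_add, pow_one]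
    rw [e]
    calc g * g * g ^ (2 * j + 1) * x * (g * g * g ^ (2 * j + 1))⁻¹
        = g * (g * (g ^ (2 * j + 1) * x * (g ^ (2 * j + 1))⁻¹) * g⁻¹) * g⁻¹ := by group
      _ = g * (g * x⁻¹ * g⁻¹) * g⁻¹ := by rw [ih]
      _ = g * (g * x * g⁻¹)⁻¹ * g⁻¹ := by group
      _ = g * (x⁻¹)⁻¹ * g⁻¹ := by rw [hg]
      _ = g * x * g⁻¹ := by rw [inv_inv]
      _ = x⁻¹ := hg

/-- an element with centralizer of odd order that is conjugate to its inverse is inverted by an
involution, or has order at most two -/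
theorem not_isConj_inv (h : Hyp t s K) {x : G} (hx : x ∈ NR K)
    (hodd : Odd (Nat.card (Subgroup.centralizer ({x} : Set G)))) : ¬ IsConj x x⁻¹ := by
  intro hc
  obtain ⟨g, hg⟩ := isConj_iff.mp hc
  obtain ⟨hx1, hxK, hxR⟩ := hx
  obtain ⟨j, hj⟩ := hodd
  set c := Nat.card (Subgroup.centralizer ({x} : Set G)) with hcdef
  have hg2 : g * g ∈ Subgroup.centralizer ({x} : Set G) := by
    rw [Subgroup.mem_centralizer_singleton_iff]
    calc g * g * x = g * (g * x * g⁻¹) * g := by group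
      _ = g * x⁻¹ * g := by rw [hg]
      _ = (g * x * g⁻¹)⁻¹ * (g * g) := by group
      _ = x * (g * g) := by rw [hg, inv_inv]
  have hpow : (g * g) ^ c = 1 := by
    have := pow_card_eq_one' (G := Subgroup.centralizer ({x} : Set G)) (x := ⟨g * g, hg2⟩)
    have h2 := congrArg Subtype.val this
    rw [Subgroup.coe_pow, Subgroup.coe_one] at h2
    exact h2
  set u := g ^ c with hu
  have hu2 : u * u = 1 := by
    rw [hu, ← pow_add, ← two_mul, pow_mul, pow_two]
    exact hpow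
  have hux : u * x * u⁻¹ = x⁻¹ := by
    rw [hu, hj]
    exact conj_odd_pow hg j
  by_cases hu1 : u = 1
  · rw [hu1] at hux
    have hxx : x * x = 1 := by
      have : x = x⁻¹ := by simpa using hux
      calc x * x = x * x⁻¹ := by rw [← this]
        _ = 1 := mul_inv_cancel x
    have ho : orderOf x = 2 := by
      apply orderOf_eq_prime
      · rw [pow_two]; exact hxx
      · exact hx1
    exact hxK (invol_mem h ho)
  · have ho : orderOf u = 2 := by
      apply orderOf_eq_prime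
      · rw [pow_two]; exact hu2
      · exact hu1
    exact hxR ⟨u, ho, hux⟩

variable [Finite G]

theorem B2_classes (h : Hyp t s K) (hk : 4 ≤ Nat.card K)
    (hG : Nat.card G = Nat.card K * (2 * Nat.card K - 1) * (2 * Nat.card K - 2))
    (hNR : Nat.card (NR K) = (2 * Nat.card K - 1) ^ 2 - 1)
    (hdvd : ∀ x ∈ NR K, Nat.card (Subgroup.centralizer ({x} : Set G)) ∣ 2 * Nat.card K - 1)
    {x : G} (hx : x ∈ NR K) :
    Nat.card (Subgroup.centralizer ({x} : Set G)) = 2 * Nat.card K - 1 ∧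
      ∀ y ∈ NR K, IsConj x y ∨ IsConj x⁻¹ y := by
  classical
  set k := Nat.card K with hkdef
  obtain ⟨p, hp⟩ : ∃ p, 2 * k = p + 2 := ⟨2 * k - 2, by omega⟩
  have hq : 2 * k - 1 = p + 1 := by omega
  have hp' : 2 * k - 2 = p := by omega
  rw [hq, hp'] at hG
  rw [hq] at hNR
  have hppos : 0 < p := by omega
  have hkpos : 0 < k := by omega
  have hxi : x⁻¹ ∈ NR K := NR_inv hx
  set c := Nat.card (Subgroup.centralizer ({x} : Set G)) with hc
  set c' := Nat.card (Subgroup.centralizer ({x⁻¹} : Set G)) with hc'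
  obtain ⟨m, hm⟩ : c ∣ p + 1 := hq ▸ hdvd x hx
  obtain ⟨m', hm'⟩ : c' ∣ p + 1 := hq ▸ hdvd x⁻¹ hxi
  have hcpos : 0 < c := Nat.card_pos
  have hc'pos : 0 < c' := Nat.card_pos
  have hmpos : 0 < m := by
    rcases Nat.eq_zero_or_pos m with h0 | h0
    · rw [h0, mul_zero] at hm; omega
    · exact h0
  have hm'pos : 0 < m' := by
    rcases Nat.eq_zero_or_pos m' with h0 | h0
    · rw [h0, mul_zero] at hm'; omega
    · exact h0
  have hodd : Odd c := by
    have : Odd (p + 1) := ⟨k - 1, by omega⟩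
    rw [hm] at this
    exact (Nat.odd_mul.mp this).1
  have hnc : ¬ IsConj x x⁻¹ := not_isConj_inv h hx hodd
  -- the two classes
  set SA : Set G := {y | IsConj x y} with hSA
  set SB : Set G := {y | IsConj x⁻¹ y} with hSB
  have hA : SA.ncard * c = k * (p + 1) * p := by
    rw [← hG, ← Cfsg.Agent.Lib.Helper7.card_isConj_mul_card_centralizer x]
    rfl
  have hB : SB.ncard * c' = k * (p + 1) * p := by
    rw [← hG, ← Cfsg.Agent.Lib.Helper7.card_isConj_mul_card_centralizer x⁻¹]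
    rfl
  have hA' : SA.ncard = k * m * p := by
    apply Nat.eq_of_mul_eq_mul_right hcpos
    rw [hA, hm]; ring
  have hB' : SB.ncard = k * m' * p := by
    apply Nat.eq_of_mul_eq_mul_right hc'pos
    rw [hB, hm']; ring
  have hAsub : SA ⊆ NR K := by
    intro y hy
    obtain ⟨g, hg⟩ := isConj_iff.mp hy
    rw [← hg]
    exact NR_conj hx g
  have hBsub : SB ⊆ NR K := by
    intro y hy
    obtain ⟨g, hg⟩ := isConj_iff.mp hy
    rw [← hg]
    exact NR_conj hxi g
  have hdisj : Disjoint SA SB := by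
    rw [Set.disjoint_left]
    intro y hyA hyB
    exact hnc (hyA.trans hyB.symm)
  have hfin : (NR K).Finite := Set.toFinite _
  have hNR' : (NR K).ncard = (p + 1) ^ 2 - 1 := by
    rw [← hNR]; exact (Nat.card_coe_set_eq _).symm
  have hsq : (p + 1) ^ 2 - 1 = p * (p + 2) := by
    have : (p + 1) ^ 2 = p * (p + 2) + 1 := by ring
    omega
  have hle : (SA ∪ SB).ncard ≤ (NR K).ncard :=
    Set.ncard_le_ncard (Set.union_subset hAsub hBsub) hfin
  rw [Set.ncard_union_eq hdisj (hfin.subset hAsub) (hfin.subset hBsub), hA', hB', hNR', hsq,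
    ← hp] at hle
  have hmm : m + m' ≤ 2 := by
    have h1 : (k * p) * (m + m') ≤ (k * p) * 2 := by
      calc (k * p) * (m + m') = k * m * p + k * m' * p := by ring
        _ ≤ p * (2 * k) := hle
        _ = (k * p) * 2 := by ring
    exact Nat.le_of_mul_le_mul_left h1 (Nat.mul_pos hkpos hppos)
  have hm1 : m = 1 := by omega
  have hm'1 : m' = 1 := by omega
  refine ⟨?_, ?_⟩
  · rw [hq, hm, hm1, mul_one]
  · have heq : SA ∪ SB = NR K := by
      apply Set.eq_of_subset_of_ncard_le (Set.union_subset hAsub hBsub) _ hfin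
      rw [Set.ncard_union_eq hdisj (hfin.subset hAsub) (hfin.subset hBsub), hA', hB', hNR', hsq,
        ← hp, hm1, hm'1]
      apply le_of_eq
      ring
    intro y hy
    rw [← heq] at hy
    exact hy

end Cfsg.Agent.Lib.Helper20.S3282B2b
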