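import Mathlib
import Cfsg.Prelude.Def_Characters
import Cfsg.Agent.Lib.Helper11.S3282Defs
import Cfsg.Agent.Lib.Helper20.S3282B2b

/-!
# S3282 FO-B2c (architect helper11): `C(x)`, `x ∈ NR K`, is a Sylow subgroup in case B
-/

set_option autoImplicit false

namespace Cfsg.Agent.Lib.Helper20.S3282B2c

open Cfsg Cfsg.Agent.Lib.Helper11 Cfsg.Agent.Lib.Helper11.S3282
open Cfsg.Agent.Lib.Helper20.S3282B2b

universe u

variable {G : Type u} [Group G] {t s : G} {K : Subgroup G} [Finite G]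

theorem B2_sylow (h : Hyp t s K) (hk : 4 ≤ Nat.card K)
    (hG : Nat.card G = Nat.card K * (2 * Nat.card K - 1) * (2 * Nat.card K - 2))
    (hcent : ∀ x ∈ NR K, ∀ y ∈ Subgroup.centralizer ({x} : Set G), y ≠ 1 → y ∈ NR K)
    (hcl : ∀ x ∈ NR K, Nat.card (Subgroup.centralizer ({x} : Set G)) = 2 * Nat.card K - 1 ∧
      ∀ y ∈ NR K, IsConj x y ∨ IsConj x⁻¹ y)
    {x : G} (hx : x ∈ NR K) :
    ∃ (r : ℕ) (_ : Fact r.Prime) (P : Sylow r G), r ≠ 2 ∧
      (P : Subgroup G) = Subgroup.centralizer ({x} : Set G) ∧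
      ∀ y : G, (∃ n : ℕ, orderOf y = r ^ n) → y ≠ 1 → y ∈ NR K := by
  classical
  set k := Nat.card K with hkdef
  have hx1 : x ≠ 1 := hx.1
  have hox : orderOf x ≠ 1 := fun h1 => hx1 (orderOf_eq_one_iff.mp h1)
  have hox0 : orderOf x ≠ 0 := (orderOf_pos x).ne'
  set r := (orderOf x).minFac with hr
  have hrp : r.Prime := Nat.minFac_prime hox
  have hfact : Fact r.Prime := ⟨hrp⟩
  set x0 := x ^ (orderOf x / r) with hx0
  have hox0' : orderOf x0 = r := orderOf_pow_orderOf_div hox0 (Nat.minFac_dvd _)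
  have hx0C : x0 ∈ Subgroup.centralizer ({x} : Set G) := by
    rw [Subgroup.mem_centralizer_singleton_iff, hx0, ← pow_succ, ← pow_succ']
  have hx01 : x0 ≠ 1 := by
    intro h1
    rw [h1, orderOf_one] at hox0'
    exact hrp.one_lt.ne hox0'
  have hx0NR : x0 ∈ NR K := hcent x hx x0 hx0C hx01
  -- every element of `NR K` has order `r`
  have hord : ∀ y ∈ NR K, orderOf y = r := by
    intro y hy
    rcases (hcl x0 hx0NR).2 y hy with hc | hc
    · obtain ⟨g, hg⟩ := isConj_iff.mp hc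
      have := MulEquiv.orderOf_eq (MulAut.conj g) x0
      rw [MulAut.conj_apply, hg] at this
      rw [this, hox0']
    · obtain ⟨g, hg⟩ := isConj_iff.mp hc
      have := MulEquiv.orderOf_eq (MulAut.conj g) x0⁻¹
      rw [MulAut.conj_apply, hg] at this
      rw [this, orderOf_inv, hox0']
  -- `C(x)` is an `r`-group
  set C := Subgroup.centralizer ({x} : Set G) with hC
  have hCp : IsPGroup r C := by
    rw [IsPGroup.iff_orderOf]
    intro z
    by_cases hz : z = 1
    · exact ⟨0, by rw [hz, orderOf_one, pow_zero]⟩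
    · refine ⟨1, ?_⟩
      have hz1 : (z : G) ≠ 1 := fun h1 => hz (Subtype.ext h1)
      rw [pow_one, ← hord (z : G) (hcent x hx z z.2 hz1)]
      exact (Subgroup.orderOf_coe z).symm
  obtain ⟨n, hn⟩ := IsPGroup.iff_card.mp hCp
  have hCq : Nat.card C = 2 * k - 1 := (hcl x hx).1
  -- `r` is odd and divides `q`
  have hrq : r ∣ 2 * k - 1 := by
    rw [← hCq, ← hox0']
    exact Subgroup.orderOf_dvd_natCard C hx0C
  have hr2 : r ≠ 2 := by
    intro h2
    rw [h2] at hrq
    omega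
  -- a Sylow subgroup containing `C(x)`
  obtain ⟨P, hP⟩ := IsPGroup.exists_le_sylow hCp
  obtain ⟨a, ha⟩ := IsPGroup.iff_card.mp P.isPGroup'
  have hPdvd : Nat.card P ∣ Nat.card G := Subgroup.card_subgroup_dvd_card _
  have hrk : ¬ r ∣ k := by
    intro hdk
    have h1 : r ∣ 2 * k := dvd_mul_of_dvd_right hdk 2
    have h2 : 2 * k = (2 * k - 1) + 1 := by omega
    rw [h2] at h1
    have h3 : r ∣ 1 := (Nat.dvd_add_right hrq).mp h1
    exact hrp.one_lt.ne' (Nat.dvd_one.mp h3)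
  have hrq1 : ¬ r ∣ 2 * k - 2 := by
    intro hdk
    have h2 : 2 * k - 1 = (2 * k - 2) + 1 := by omega
    rw [h2] at hrq
    have h3 : r ∣ 1 := (Nat.dvd_add_right hdk).mp hrq
    exact hrp.one_lt.ne' (Nat.dvd_one.mp h3)
  have hcop : (r ^ a).Coprime (k * (2 * k - 2)) := by
    apply Nat.Coprime.pow_left
    exact Nat.Coprime.mul_right ((Nat.Prime.coprime_iff_not_dvd hrp).mpr hrk)
      ((Nat.Prime.coprime_iff_not_dvd hrp).mpr hrq1)
  have hPq : r ^ a ∣ 2 * k - 1 := by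
    apply Nat.Coprime.dvd_of_dvd_mul_right hcop
    rw [← ha]
    have : (2 * k - 1) * (k * (2 * k - 2)) = Nat.card G := by rw [hG]; ring
    rw [this]
    exact hPdvd
  have hPle : Nat.card P ≤ Nat.card C := by
    rw [ha, hCq]
    exact Nat.le_of_dvd (by omega) hPq
  have hCP : C = (P : Subgroup G) := Subgroup.eq_of_le_of_card_ge hP hPle
  refine ⟨r, hfact, P, hr2, hCP.symm, ?_⟩
  intro y hy hy1
  have hyp : IsPGroup r (Subgroup.zpowers y) := by
    obtain ⟨m, hm⟩ := hy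
    apply IsPGroup.of_card (n := m)
    rw [Nat.card_zpowers, hm]
  obtain ⟨P', hP'⟩ := IsPGroup.exists_le_sylow hyp
  obtain ⟨g, hg⟩ := MulAction.exists_smul_eq G P' P
  have hyP' : y ∈ (P' : Subgroup G) := hP' (Subgroup.mem_zpowers y)
  have hgy : g * y * g⁻¹ ∈ (P : Subgroup G) := by
    rw [← hg, Sylow.coe_subgroup_smul, Subgroup.mem_pointwise_smul_iff_inv_smul_mem]
    have : (MulAut.conj g)⁻¹ • (g * y * g⁻¹) = y := by
      rw [← map_inv, MulAut.smul_def, MulAut.conj_apply]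
      group
    rw [this]
    exact hyP'
  rw [← hCP] at hgy
  have hgy1 : g * y * g⁻¹ ≠ 1 := by
    intro h1
    apply hy1
    have : y = g⁻¹ * (g * y * g⁻¹) * g := by group
    rw [this, h1]
    group
  have hNR := hcent x hx _ hgy hgy1
  have := NR_conj hNR g⁻¹
  have e : g⁻¹ * (g * y * g⁻¹) * g⁻¹⁻¹ = y := by group
  rw [e] at this
  exact this

end Cfsg.Agent.Lib.Helper20.S3282B2c
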