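import Mathlib
import Cfsg.Agent.Lib.Helper28.OTDefs

/-!
# OT EXIT, U-level step (iii): products of two skew-adjoint operators span `End(U)`  (helper20)

`U = F^a` with a non-degenerate SYMMETRIC form `bf J` (`OrthG J`), `2 ≠ 0`, `3 ≤ a`.
Vocabulary: helper3 `SpT` (`bf`, `E J w w' : x ↦ f(x,w') w`, `adj J C = J⁻¹ Cᵀ J`), helper13 `TensSO.OrthG`.

* `isUnit_det`, `bf_adj`, `adj_unique`, `adj_E : adj J (E J u u') = E J u' u` (symmetric case);
* `wedge J x y = E J x y - E J y x`, `adj_wedge : adj J (wedge J x y) = - wedge J x y`;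
* `exists_orth_basis` : an orthogonal basis `v` of `bf J` with `bf J (v i) (v i) ≠ 0`;
* `mem_of_E_basis` : a submodule of matrices containing all `E J (v i) (v k)` is everything;
* `span_skew_mul`, `eq_top_of_skew_mul`, `mem_of_skew_mul` : the deliverables.
-/

set_option autoImplicit false

namespace Cfsg.Agent.Lib.Helper20.OTSkewMul

open Matrix Module
open Cfsg.Agent.Lib.Helper3.SpT (bf E adj E_mul_E E_mulVec E_add_left E_add_right E_smul_left E_smul_right
  mat_ext_mulVec bf_mulVec_left bf_mulVec_right eq_of_dot_mulVec bf_add_left bf_add_right bf_smul_left bf_smul_right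
  bf_zero_left bf_zero_right)
open Cfsg.Agent.Lib.Helper13.TensSO (OrthG)

variable {F : Type*} [Field F] {a : ℕ} {J : Matrix (Fin a) (Fin a) F}

theorem isUnit_det (hJ : OrthG J) : IsUnit J.det := by
  rw [← Matrix.isUnit_iff_isUnit_det, ← Matrix.mulVec_injective_iff_isUnit]
  intro x y hxy
  have h : ∀ z, bf J (x - y) z = 0 := by
    intro z
    rw [hJ.symm]
    unfold bf
    rw [Matrix.mulVec_sub, hxy, sub_self, dotProduct_zero]
  exact sub_eq_zero.mp (hJ.nondeg _ h)

/-- `f(Cx, y) = f(x, C^* y)` -/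
theorem bf_adj (hJ : OrthG J) (C : Matrix (Fin a) (Fin a) F) (x y : Fin a → F) :
    bf J (C *ᵥ x) y = bf J x (adj J C *ᵥ y) := by
  rw [bf_mulVec_left, bf_mulVec_right, adj, ← mul_assoc, ← mul_assoc, Matrix.mul_nonsing_inv _ (isUnit_det hJ),
    one_mul]

/-- the adjoint is characterised by `f(Cx, y) = f(x, D y)` -/
theorem adj_unique (hJ : OrthG J) (C D : Matrix (Fin a) (Fin a) F)
    (h : ∀ x y, bf J (C *ᵥ x) y = bf J x (D *ᵥ y)) : adj J C = D := by
  have h1 : J * adj J C = J * D := by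
    apply eq_of_dot_mulVec
    intro x y
    rw [← bf_mulVec_right, ← bf_mulVec_right, ← bf_adj hJ, h]
  have h2 := congrArg (fun X => J⁻¹ * X) h1
  simp only [← mul_assoc, Matrix.nonsing_inv_mul _ (isUnit_det hJ), one_mul] at h2
  exact h2

/-- `E_{u,u'}^* = E_{u',u}` (symmetric form) -/
theorem adj_E (hJ : OrthG J) (u u' : Fin a → F) : adj J (E J u u') = E J u' u := by
  apply adj_unique hJ
  intro x y
  rw [E_mulVec, E_mulVec, bf_smul_left, bf_smul_right, hJ.symm u y]
  ring

/-- `x ∧ y = E_{x,y} - E_{y,x}` -/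
def wedge (J : Matrix (Fin a) (Fin a) F) (x y : Fin a → F) : Matrix (Fin a) (Fin a) F := E J x y - E J y x

theorem adj_wedge (hJ : OrthG J) (x y : Fin a → F) : adj J (wedge J x y) = - wedge J x y := by
  unfold wedge
  have h : adj J (E J x y - E J y x) = adj J (E J x y) - adj J (E J y x) := by
    unfold adj
    rw [Matrix.transpose_sub, mul_sub, sub_mul]
  rw [h, adj_E hJ, adj_E hJ, neg_sub]

theorem E_zero_left (J : Matrix (Fin a) (Fin a) F) (z : Fin a → F) : E J 0 z = 0 := by
  apply mat_ext_mulVec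
  intro x
  rw [E_mulVec, smul_zero, Matrix.zero_mulVec]

theorem mul_E (J : Matrix (Fin a) (Fin a) F) (X : Matrix (Fin a) (Fin a) F) (w z : Fin a → F) :
    X * E J w z = E J (X *ᵥ w) z := by
  apply mat_ext_mulVec
  intro x
  rw [← Matrix.mulVec_mulVec, E_mulVec, E_mulVec, Matrix.mulVec_smul]

section basis
variable {ι : Type} [Fintype ι] [DecidableEq ι] (v : Basis ι F (Fin a → F))

/-- resolution of the identity in an orthogonal basis -/
theorem one_eq_sum (ho : ∀ i j, i ≠ j → bf J (v i) (v j) = 0) (hc : ∀ i, bf J (v i) (v i) ≠ 0) :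
    (1 : Matrix (Fin a) (Fin a) F) = ∑ i, (bf J (v i) (v i))⁻¹ • E J (v i) (v i) := by
  apply mat_ext_mulVec
  intro x
  rw [Matrix.one_mulVec, Matrix.sum_mulVec]
  have hx : ∀ i, bf J x (v i) = v.repr x i * bf J (v i) (v i) := by
    intro i
    have hw : x ∈ Submodule.span F (Set.range v) := by rw [v.span_eq]; trivial
    induction hw using Submodule.span_induction with
    | mem y hy =>
      obtain ⟨k, rfl⟩ := hy
      rw [Basis.repr_self]
      by_cases hki : k = i
      · subst hki; simp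
      · rw [ho k i hki, Finsupp.single_eq_of_ne' hki, zero_mul]
    | zero => simp
    | add y z _ _ hy hz => rw [bf_add_left, hy, hz, map_add, Finsupp.add_apply, add_mul]
    | smul c y _ hy => rw [bf_smul_left, hy, map_smul, Finsupp.smul_apply, smul_eq_mul, mul_assoc]
  conv_lhs => rw [← v.sum_repr x]
  apply Finset.sum_congr rfl
  intro i _
  rw [Matrix.smul_mulVec, E_mulVec, hx, smul_smul]
  congr 1
  field_simp [hc i]

/-- a submodule of matrices containing all `E J (v i) (v k)` for an orthogonal basis `v` is everything -/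
theorem mem_of_E_basis (ho : ∀ i j, i ≠ j → bf J (v i) (v j) = 0)
    (hc : ∀ i, bf J (v i) (v i) ≠ 0) (S : Submodule F (Matrix (Fin a) (Fin a) F))
    (h : ∀ i k, E J (v i) (v k) ∈ S) (X : Matrix (Fin a) (Fin a) F) : X ∈ S := by
  have h1 : ∀ (i : ι) (w : Fin a → F), E J w (v i) ∈ S := by
    intro i w
    have hw : w ∈ Submodule.span F (Set.range v) := by rw [v.span_eq]; trivial
    induction hw using Submodule.span_induction with
    | mem y hy => obtain ⟨k, rfl⟩ := hy; exact h k i
    | zero => rw [E_zero_left]; exact S.zero_mem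
    | add y z _ _ hy hz => rw [E_add_left]; exact S.add_mem hy hz
    | smul c y _ hy => rw [E_smul_left]; exact S.smul_mem c hy
  have h2 : X = X * 1 := (mul_one X).symm
  rw [h2, one_eq_sum v ho hc, Finset.mul_sum]
  apply S.sum_mem
  intro i _
  rw [Matrix.mul_smul, mul_E]
  exact S.smul_mem _ (h1 i _)

theorem exists_ne_ne (h3 : 3 ≤ Fintype.card ι) (i k : ι) : ∃ j, j ≠ i ∧ j ≠ k := by
  by_contra hcon
  push Not at hcon
  have hsub : (Finset.univ : Finset ι) ⊆ {i, k} := by
    intro j _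
    by_cases hji : j = i
    · simp [hji]
    · simp [hcon j hji]
  have h1 := Finset.card_le_card hsub
  have h2 : ({i, k} : Finset ι).card ≤ 2 := Finset.card_le_two
  rw [Finset.card_univ] at h1
  omega

omit [Fintype ι] [DecidableEq ι] in
theorem wedge_mul_wedge_off (ho : ∀ i j, i ≠ j → bf J (v i) (v j) = 0) {i j k : ι} (hij : i ≠ j) (hjk : j ≠ k)
    (hik : i ≠ k) :
    wedge J (v i) (v j) * wedge J (v j) (v k) = bf J (v j) (v j) • E J (v i) (v k) := by
  unfold wedge
  rw [sub_mul, mul_sub, mul_sub, E_mul_E, E_mul_E, E_mul_E, E_mul_E, ho k j hjk.symm, ho j i hij.symm,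
    ho k i hik.symm]
  simp

omit [Fintype ι] [DecidableEq ι] in
theorem wedge_mul_wedge_diag (ho : ∀ i j, i ≠ j → bf J (v i) (v j) = 0) {i j : ι} (hij : i ≠ j) :
    wedge J (v i) (v j) * wedge J (v j) (v i) =
      bf J (v j) (v j) • E J (v i) (v i) + bf J (v i) (v i) • E J (v j) (v j) := by
  unfold wedge
  rw [sub_mul, mul_sub, mul_sub, E_mul_E, E_mul_E, E_mul_E, E_mul_E, ho i j hij, ho j i hij.symm]
  simp

/-- the main step, for an orthogonal basis -/
theorem mem_of_skew_mul_basis (hJ : OrthG J) (h2 : (2 : F) ≠ 0) (h3 : 3 ≤ Fintype.card ι)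
    (ho : ∀ i j, i ≠ j → bf J (v i) (v j) = 0) (hc : ∀ i, bf J (v i) (v i) ≠ 0)
    (S : Submodule F (Matrix (Fin a) (Fin a) F))
    (h : ∀ K D, adj J K = -K → adj J D = -D → K * D ∈ S) (X : Matrix (Fin a) (Fin a) F) : X ∈ S := by
  have hw : ∀ x y x' y' : Fin a → F, wedge J x y * wedge J x' y' ∈ S :=
    fun x y x' y' => h _ _ (adj_wedge hJ x y) (adj_wedge hJ x' y')
  have hoff : ∀ i k, i ≠ k → E J (v i) (v k) ∈ S := by
    intro i k hik
    obtain ⟨j, hji, hjk⟩ := exists_ne_ne h3 i k
    have h1 := hw (v i) (v j) (v j) (v k)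
    rw [wedge_mul_wedge_off v ho hji.symm hjk hik] at h1
    have h4 := S.smul_mem (bf J (v j) (v j))⁻¹ h1
    rwa [smul_smul, inv_mul_cancel₀ (hc j), one_smul] at h4
  have hP : ∀ i j, i ≠ j → bf J (v j) (v j) • E J (v i) (v i) + bf J (v i) (v i) • E J (v j) (v j) ∈ S := by
    intro i j hij
    have h1 := hw (v i) (v j) (v j) (v i)
    rwa [wedge_mul_wedge_diag v ho hij] at h1
  have hdiag : ∀ i, E J (v i) (v i) ∈ S := by
    intro i
    obtain ⟨j, hji, -⟩ := exists_ne_ne h3 i i
    obtain ⟨k, hki, hkj⟩ := exists_ne_ne h3 i j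
    have e1 := hP i j hji.symm
    have e2 := hP i k hki.symm
    have e3 := hP j k hkj.symm
    have h4 : (2 * bf J (v j) (v j) * bf J (v k) (v k)) • E J (v i) (v i) ∈ S := by
      have h5 := S.sub_mem (S.add_mem (S.smul_mem (bf J (v k) (v k)) e1) (S.smul_mem (bf J (v j) (v j)) e2))
        (S.smul_mem (bf J (v i) (v i)) e3)
      convert h5 using 1
      simp only [smul_add, smul_smul]
      module
    have hne : (2 * bf J (v j) (v j) * bf J (v k) (v k)) ≠ 0 := mul_ne_zero (mul_ne_zero h2 (hc j)) (hc k)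
    have h6 := S.smul_mem (2 * bf J (v j) (v j) * bf J (v k) (v k))⁻¹ h4
    rwa [smul_smul, inv_mul_cancel₀ hne, one_smul] at h6
  apply mem_of_E_basis v ho hc S _ X
  intro i k
  by_cases hik : i = k
  · subst hik; exact hdiag i
  · exact hoff i k hik

end basis

/-- an orthogonal basis of `bf J` with non-zero norms (`2 ≠ 0`) -/
theorem exists_orth_basis (hJ : OrthG J) (h2 : (2 : F) ≠ 0) :
    ∃ v : Basis (Fin (finrank F (Fin a → F))) F (Fin a → F),
      (∀ i j, i ≠ j → bf J (v i) (v j) = 0) ∧ ∀ i, bf J (v i) (v i) ≠ 0 := by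
  have : Invertible (2 : F) := invertibleOfNonzero h2
  have hB : ∀ x y, Matrix.toBilin' J x y = bf J x y := fun x y => Matrix.toBilin'_apply' J x y
  have hsymm : LinearMap.IsSymm (Matrix.toBilin' J) := by
    refine ⟨fun x y => ?_⟩
    rw [RingHom.id_apply, hB, hB, hJ.symm]
  obtain ⟨v, hv⟩ := LinearMap.BilinForm.exists_orthogonal_basis hsymm
  have ho : ∀ i j, i ≠ j → bf J (v i) (v j) = 0 := by
    intro i j hij
    have h1 : Matrix.toBilin' J (v i) (v j) = 0 := hv hij
    rwa [hB] at h1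
  refine ⟨v, ho, ?_⟩
  intro i hi
  have hall : ∀ y, bf J (v i) y = 0 := by
    intro y
    have hw : y ∈ Submodule.span F (Set.range v) := by rw [v.span_eq]; trivial
    induction hw using Submodule.span_induction with
    | mem y hy =>
      obtain ⟨k, rfl⟩ := hy
      by_cases hki : i = k
      · subst hki; exact hi
      · exact ho i k hki
    | zero => simp
    | add y z _ _ hy hz => rw [bf_add_right, hy, hz, add_zero]
    | smul c y _ hy => rw [bf_smul_right, hy, mul_zero]
  exact v.ne_zero i (hJ.nondeg _ hall)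

/-- convenient form: a submodule of `End(U)` containing all products of two skew-adjoint operators is everything -/
theorem mem_of_skew_mul (hJ : OrthG J) (h2 : (2 : F) ≠ 0) (ha : 3 ≤ a)
    (S : Submodule F (Matrix (Fin a) (Fin a) F))
    (h : ∀ K D, adj J K = -K → adj J D = -D → K * D ∈ S) (X : Matrix (Fin a) (Fin a) F) : X ∈ S := by
  obtain ⟨v, ho, hc⟩ := exists_orth_basis hJ h2
  have h3 : 3 ≤ Fintype.card (Fin (finrank F (Fin a → F))) := by
    rw [Fintype.card_fin, Module.finrank_fin_fun]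
    exact ha
  exact mem_of_skew_mul_basis v hJ h2 h3 ho hc S h X

theorem eq_top_of_skew_mul (hJ : OrthG J) (h2 : (2 : F) ≠ 0) (ha : 3 ≤ a)
    (S : Submodule F (Matrix (Fin a) (Fin a) F))
    (h : ∀ K D, adj J K = -K → adj J D = -D → K * D ∈ S) : S = ⊤ :=
  eq_top_iff.mpr fun X _ => mem_of_skew_mul hJ h2 ha S h X

/-- **step (iii)**: the products `K * D` of two skew-adjoint operators span `End(U)` (`dim U ≥ 3`, `2 ≠ 0`) -/
theorem span_skew_mul (hJ : OrthG J) (h2 : (2 : F) ≠ 0) (ha : 3 ≤ a) :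
    Submodule.span F {X : Matrix (Fin a) (Fin a) F | ∃ K D, adj J K = -K ∧ adj J D = -D ∧ X = K * D} = ⊤ :=
  eq_top_of_skew_mul hJ h2 ha _ fun K D hK hD => Submodule.subset_span ⟨K, D, hK, hD, rfl⟩

end Cfsg.Agent.Lib.Helper20.OTSkewMul
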