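import Mathlib
import Cfsg.Agent.Lib.Helper28.OTDefs
import Cfsg.Agent.Lib.Helper16.OTRootC
import Cfsg.Agent.Lib.Helper8.OTRel

/-!
# OT EXIT, T3 piece TORUS: `M ∩ Z_L` (hence `calK`, `calC`) is an `F`-subspace  (helper20)

`π = ⟨k₁,k₂⟩` totally singular in `W`; hyperbolic partners `l₁, l₂`; `a_t = diag(t, 1/t)` on `⟨k₁,l₁⟩`;
`s` = `-1` on the hyperbolic plane `⟨k₁ - l₂, l₁ - k₂⟩` (it swaps `k₁ ↔ l₂`, `k₂ ↔ l₁`);
`h_t = [a_t, s]` is a commutator of isometries of `W` with `h_t k₁ = t k₁`, `h_t k₂ = t k₂`; `1 ⊗ h_t ∈ N0 ⊓ Ω ≤ M`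
conjugates `1 + z(K₁,C,K₂)` to `1 + t² z(K₁,C,K₂)`; `c = ((c+1)/2)² - ((c-1)/2)²`.
-/

set_option autoImplicit false

namespace Cfsg.Agent.Lib.Helper20.OTTorus

open Matrix Module
open Cfsg.Agent.Lib.Helper16.Tens Cfsg.Agent.Lib.Helper10.TensFund
open Cfsg.Agent.Lib.Helper3.SpT (bf E adj uni Over E_mul_E E_mulVec mat_ext_mulVec bf_add_left bf_add_right bf_smul_left
  bf_smul_right bf_sub_left bf_sub_right bf_neg_left bf_neg_right)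
open Cfsg.Agent.Lib.Helper13.TensSO (OrthG IsoG)
open Cfsg.Agent.Lib.Helper28.OT
open Cfsg.Agent.Lib.Helper16.OTRootC (oneK oneK_val oneK_mem_IsoG mem_iso_of_IsoG exists_partner Bm Bm_mulVec Bgl
  Bgl_mem_IsoG)
open Cfsg.Agent.Lib.Helper8.OTRel
open scoped Kronecker commutatorElement

variable {F : Type*} [Field F] {a b : ℕ}
variable {J1 : Matrix (Fin a) (Fin a) F} {J2 : Matrix (Fin b) (Fin b) F}
variable {Q : QuadraticForm F (Fin a × Fin b → F)}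
variable {M : Subgroup (GL (Fin a × Fin b) F)}
variable {k1 k2 : Fin b → F}

/-! ### the hyperbolic frame -/

theorem Ts2.swap (hJ2 : OrthG J2) (h : Ts2 J2 k1 k2) : Ts2 J2 k2 k1 where
  indep := by
    intro c1 c2 hc
    have := h.indep c2 c1 (by rw [add_comm]; exact hc)
    exact ⟨this.2, this.1⟩
  h11 := h.h22
  h12 := by rw [hJ2.symm]; exact h.h12
  h22 := h.h11

/-- hyperbolic partners `l₁, l₂` of `k₁, k₂` -/
theorem exists_frame (hJ2 : OrthG J2) (h2 : (2 : F) ≠ 0) (h : Ts2 J2 k1 k2) :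
    ∃ l1 l2 : Fin b → F, bf J2 k1 l1 = 1 ∧ bf J2 k2 l1 = 0 ∧ bf J2 l1 l1 = 0 ∧
      bf J2 k1 l2 = 0 ∧ bf J2 k2 l2 = 1 ∧ bf J2 l2 l2 = 0 ∧ bf J2 l1 l2 = 0 := by
  obtain ⟨l2, h1l2, h2l2, hl2l2⟩ := exists_partner hJ2 h2 h
  obtain ⟨l1', h2l1, h1l1, hl1l1⟩ := exists_partner hJ2 h2 (Ts2.swap hJ2 h)
  have hl1k2 : bf J2 l1' k2 = 0 := by rw [hJ2.symm, h2l1]
  refine ⟨l1' - bf J2 l1' l2 • k2, l2, ?_, ?_, ?_, h1l2, h2l2, hl2l2, ?_⟩
  · rw [bf_sub_right, bf_smul_right, h1l1, h.h12]; ring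
  · rw [bf_sub_right, bf_smul_right, h2l1, h.h22]; ring
  · simp only [bf_sub_right, bf_smul_right, bf_sub_left, bf_smul_left, hl1l1, hl1k2, h2l1, h.h22]; ring
  · simp only [bf_sub_left, bf_smul_left, h2l2]; ring

/-! ### the hyperbolic scaling `a_t` -/

/-- `x ↦ x + (t - 1) f(x,l) k + (s - 1) f(x,k) l` -/
def aM (J2 : Matrix (Fin b) (Fin b) F) (k l : Fin b → F) (t s : F) : Matrix (Fin b) (Fin b) F :=
  1 + (t - 1) • E J2 k l + (s - 1) • E J2 l k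

theorem aM_mulVec (J2 : Matrix (Fin b) (Fin b) F) (k l : Fin b → F) (t s : F) (x : Fin b → F) :
    aM J2 k l t s *ᵥ x = x + ((t - 1) * bf J2 x l) • k + ((s - 1) * bf J2 x k) • l := by
  unfold aM
  rw [Matrix.add_mulVec, Matrix.add_mulVec, Matrix.one_mulVec, Matrix.smul_mulVec, Matrix.smul_mulVec, E_mulVec,
    E_mulVec, smul_smul, smul_smul]

theorem aM_one (J2 : Matrix (Fin b) (Fin b) F) (k l : Fin b → F) : aM J2 k l 1 1 = 1 := by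
  unfold aM
  simp

section A
variable (hJ2 : OrthG J2) {k l : Fin b → F} (hkk : bf J2 k k = 0) (hkl : bf J2 k l = 1) (hll : bf J2 l l = 0)
include hJ2 hkk hkl hll

theorem aM_mul (t s t' s' : F) : aM J2 k l t s * aM J2 k l t' s' = aM J2 k l (t * t') (s * s') := by
  have hlk : bf J2 l k = 1 := by rw [hJ2.symm, hkl]
  apply mat_ext_mulVec
  intro x
  rw [← Matrix.mulVec_mulVec, aM_mulVec J2 k l t' s' x, aM_mulVec, aM_mulVec]
  simp only [bf_add_left, bf_smul_left, hkk, hkl, hll, hlk]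
  module

/-- `a_t` as an element of `GL` -/
def aGL (t : F) (ht : t ≠ 0) : GL (Fin b) F :=
  ⟨aM J2 k l t t⁻¹, aM J2 k l t⁻¹ t,
    by rw [aM_mul hJ2 hkk hkl hll, mul_inv_cancel₀ ht, inv_mul_cancel₀ ht, aM_one],
    by rw [aM_mul hJ2 hkk hkl hll, mul_inv_cancel₀ ht, inv_mul_cancel₀ ht, aM_one]⟩

theorem aGL_mem_IsoG (t : F) (ht : t ≠ 0) : aGL hJ2 hkk hkl hll t ht ∈ IsoG J2 := by
  intro x y
  show bf J2 (aM J2 k l t t⁻¹ *ᵥ x) (aM J2 k l t t⁻¹ *ᵥ y) = bf J2 x y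
  have hlk : bf J2 l k = 1 := by rw [hJ2.symm, hkl]
  rw [aM_mulVec, aM_mulVec]
  simp only [bf_add_left, bf_add_right, bf_smul_left, bf_smul_right, hkk, hkl, hll, hlk, hJ2.symm k y, hJ2.symm l y]
  field_simp
  ring

end A

/-! ### the torus element -/

theorem exists_torus_W (hJ2 : OrthG J2) (h2 : (2 : F) ≠ 0) (h : Ts2 J2 k1 k2) (t : F) (ht : t ≠ 0) :
    ∃ A S : GL (Fin b) F, A ∈ IsoG J2 ∧ S ∈ IsoG J2 ∧
      ((⁅A, S⁆ : GL (Fin b) F) : Matrix (Fin b) (Fin b) F) *ᵥ k1 = t • k1 ∧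
      ((⁅A, S⁆ : GL (Fin b) F) : Matrix (Fin b) (Fin b) F) *ᵥ k2 = t • k2 := by
  obtain ⟨l1, l2, h11, h21, hl1, h12, h22, hl2, hll⟩ := exists_frame hJ2 h2 h
  have hl1k1 : bf J2 l1 k1 = 1 := by rw [hJ2.symm, h11]
  have hl1k2 : bf J2 l1 k2 = 0 := by rw [hJ2.symm, h21]
  have hl2k1 : bf J2 l2 k1 = 0 := by rw [hJ2.symm, h12]
  have hl2k2 : bf J2 l2 k2 = 1 := by rw [hJ2.symm, h22]
  have hl2l1 : bf J2 l2 l1 = 0 := by rw [hJ2.symm, hll]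
  have hk2k1 : bf J2 k2 k1 = 0 := by rw [hJ2.symm, h.h12]
  -- the hyperbolic pair `p = k₁ - l₂`, `q = (l₁ - k₂)/2`
  obtain ⟨p, hp⟩ : ∃ p : Fin b → F, p = k1 - l2 := ⟨_, rfl⟩
  obtain ⟨q, hq⟩ : ∃ q : Fin b → F, q = (2 : F)⁻¹ • (l1 - k2) := ⟨_, rfl⟩
  have hpp : bf J2 p p = 0 := by
    rw [hp]
    simp only [bf_sub_left, bf_sub_right, h.h11, h12, hl2k1, hl2]
    ring
  have hpq : bf J2 p q = 1 := by
    rw [hp, hq]
    simp only [bf_sub_left, bf_sub_right, bf_smul_right, h11, h.h12, hl2l1, hl2k2]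
    field_simp
    ring
  have hqq : bf J2 q q = 0 := by
    rw [hq]
    simp only [bf_sub_left, bf_sub_right, bf_smul_right, bf_smul_left, hl1, hl1k2, h21, h.h22]
    ring
  refine ⟨aGL hJ2 h.h11 h11 hl1 t ht, Bgl hJ2 hpp hpq hqq, aGL_mem_IsoG hJ2 h.h11 h11 hl1 t ht,
    Bgl_mem_IsoG hJ2 hpp hpq hqq, ?_, ?_⟩
  · show (aM J2 k1 l1 t t⁻¹ * Bm J2 p q * aM J2 k1 l1 t⁻¹ t * Bm J2 p q) *ᵥ k1 = t • k1
    rw [← Matrix.mulVec_mulVec, ← Matrix.mulVec_mulVec, ← Matrix.mulVec_mulVec]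
    have e1 : Bm J2 p q *ᵥ k1 = l2 := by
      rw [Bm_mulVec, hp, hq]
      simp only [bf_sub_right, bf_smul_right, h.h11, h12, h11, h.h12]
      funext i
      simp only [Pi.sub_apply, Pi.add_apply, Pi.smul_apply, smul_eq_mul]
      field_simp
      ring
    have e2 : aM J2 k1 l1 t⁻¹ t *ᵥ l2 = l2 := by
      rw [aM_mulVec, hl2l1, hl2k1]
      simp
    have e3 : Bm J2 p q *ᵥ l2 = k1 := by
      rw [Bm_mulVec, hp, hq]
      simp only [bf_sub_right, bf_smul_right, hl2k1, hl2, hl2l1, hl2k2]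
      funext i
      simp only [Pi.sub_apply, Pi.add_apply, Pi.smul_apply, smul_eq_mul]
      field_simp
      ring
    have e4 : aM J2 k1 l1 t t⁻¹ *ᵥ k1 = t • k1 := by
      rw [aM_mulVec, h11, h.h11]
      funext i
      simp only [Pi.add_apply, Pi.smul_apply, smul_eq_mul]
      ring
    rw [e1, e2, e3, e4]
  · show (aM J2 k1 l1 t t⁻¹ * Bm J2 p q * aM J2 k1 l1 t⁻¹ t * Bm J2 p q) *ᵥ k2 = t • k2
    rw [← Matrix.mulVec_mulVec, ← Matrix.mulVec_mulVec, ← Matrix.mulVec_mulVec]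
    have e1 : Bm J2 p q *ᵥ k2 = l1 := by
      rw [Bm_mulVec, hp, hq]
      simp only [bf_sub_right, bf_smul_right, hk2k1, h22, h21, h.h22]
      funext i
      simp only [Pi.sub_apply, Pi.add_apply, Pi.smul_apply, smul_eq_mul]
      field_simp
      ring
    have e2 : aM J2 k1 l1 t⁻¹ t *ᵥ l1 = t • l1 := by
      rw [aM_mulVec, hl1, hl1k1]
      funext i
      simp only [Pi.add_apply, Pi.smul_apply, smul_eq_mul]
      ring
    have e3 : Bm J2 p q *ᵥ (t • l1) = t • k2 := by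
      rw [Matrix.mulVec_smul, Bm_mulVec, hp, hq]
      simp only [bf_sub_right, bf_smul_right, hl1k1, hll, hl1, hl1k2]
      funext i
      simp only [Pi.sub_apply, Pi.add_apply, Pi.smul_apply, smul_eq_mul]
      field_simp
      ring
    have e4 : aM J2 k1 l1 t t⁻¹ *ᵥ (t • k2) = t • k2 := by
      rw [Matrix.mulVec_smul, aM_mulVec, h21, hk2k1]
      simp
    rw [e1, e2, e3, e4]

/-- **TORUS (1)**: an element `1 ⊗ R ∈ N0 ⊓ Ω`, `R` an isometry of `W` with `R k₁ = t k₁`, `R k₂ = t k₂` -/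
theorem exists_torus (hS : SetupO J1 J2 Q) (h : Ts2 J2 k1 k2) (t : F) (ht : t ≠ 0) :
    ∃ R : GL (Fin b) F, R ∈ IsoG J2 ∧ oneK (a := a) R ∈ Cfsg.Geo.omegaGL (⇑Q) ∧
      (R : Matrix (Fin b) (Fin b) F) *ᵥ k1 = t • k1 ∧ (R : Matrix (Fin b) (Fin b) F) *ᵥ k2 = t • k2 := by
  obtain ⟨A, S, hA, hS', e1, e2⟩ := exists_torus_W hS.h2 hS.two h t ht
  refine ⟨⁅A, S⁆, ?_, ?_, e1, e2⟩
  · exact (IsoG J2).mul_mem ((IsoG J2).mul_mem ((IsoG J2).mul_mem hA hS') ((IsoG J2).inv_mem hA))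
      ((IsoG J2).inv_mem hS')
  · rw [map_commutatorElement]
    exact Cfsg.Agent.Lib.Helper3.SpT.commutator_mem_Om _ _
      (mem_iso_of_IsoG hS _ (oneK_mem_IsoG _ hA)) (mem_iso_of_IsoG hS _ (oneK_mem_IsoG _ hS'))

/-! ### scaling in `M ∩ Z_L` -/

theorem oneK_mem_kron' (R : GL (Fin b) F) : oneK (a := a) R ∈ Cfsg.Geo.kroneckerSubgroup a b F :=
  ⟨1, R, by rw [oneK_val, Units.val_one]⟩

theorem zL_zero (J1 : Matrix (Fin a) (Fin a) F) (J2 : Matrix (Fin b) (Fin b) F) (k1 k2 : Fin b → F) :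
    zL J1 J2 0 0 0 k1 k2 = 0 := by
  have h := zL_smul_coeff J1 J2 (0 : F) 0 0 0 k1 k2
  simpa using h

theorem gZ_zero (hJ2 : OrthG J2) (h11 : bf J2 k1 k1 = 0) (h12 : bf J2 k1 k2 = 0) (h22 : bf J2 k2 k2 = 0) :
    gZ J1 J2 hJ2 0 0 0 k1 k2 h11 h12 h22 = 1 := by
  apply Units.ext
  rw [gZ_val, zL_zero, add_zero, Units.val_one]

theorem gZ_congr (hJ2 : OrthG J2) {K1 C K2 K1' C' K2' : Matrix (Fin a) (Fin a) F}
    (h11 : bf J2 k1 k1 = 0) (h12 : bf J2 k1 k2 = 0) (h22 : bf J2 k2 k2 = 0)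
    (e1 : K1 = K1') (e2 : C = C') (e3 : K2 = K2') :
    gZ J1 J2 hJ2 K1 C K2 k1 k2 h11 h12 h22 = gZ J1 J2 hJ2 K1' C' K2' k1 k2 h11 h12 h22 := by
  subst e1 e2 e3; rfl

theorem gZ_inv (hJ2 : OrthG J2) (K1 C K2 : Matrix (Fin a) (Fin a) F)
    (h11 : bf J2 k1 k1 = 0) (h12 : bf J2 k1 k2 = 0) (h22 : bf J2 k2 k2 = 0) :
    (gZ J1 J2 hJ2 K1 C K2 k1 k2 h11 h12 h22)⁻¹ = gZ J1 J2 hJ2 (-K1) (-C) (-K2) k1 k2 h11 h12 h22 := by
  symm
  apply eq_inv_of_mul_eq_one_left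
  rw [gZ_mul, gZ_congr hJ2 h11 h12 h22 (neg_add_cancel K1) (neg_add_cancel C) (neg_add_cancel K2), gZ_zero]

/-- conjugation by the torus element scales `z(K₁,C,K₂)` by `t²` -/
theorem gZ_sq_mem (hS : SetupO J1 J2 Q) (hM : Over Q M) (h : Ts2 J2 k1 k2) (K1 C K2 : Matrix (Fin a) (Fin a) F) (t : F)
    (hg : gZ J1 J2 hS.h2 K1 C K2 k1 k2 h.h11 h.h12 h.h22 ∈ M) :
    gZ J1 J2 hS.h2 ((t * t) • K1) ((t * t) • C) ((t * t) • K2) k1 k2 h.h11 h.h12 h.h22 ∈ M := by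
  by_cases ht : t = 0
  · subst ht
    rw [gZ_congr hS.h2 h.h11 h.h12 h.h22 (by rw [mul_zero, zero_smul] : ((0 : F) * 0) • K1 = 0)
      (by rw [mul_zero, zero_smul] : ((0 : F) * 0) • C = 0) (by rw [mul_zero, zero_smul] : ((0 : F) * 0) • K2 = 0),
      gZ_zero]
    exact M.one_mem
  · obtain ⟨R, hR, hRO, e1, e2⟩ := exists_torus (a := a) hS h t ht
    have hn : oneK (a := a) R ∈ M := hM.kron_mem _ (oneK_mem_kron' R) hRO
    have h11' : bf J2 (t • k1) (t • k1) = 0 := by rw [bf_smul_left, bf_smul_right, h.h11, mul_zero, mul_zero]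
    have h12' : bf J2 (t • k1) (t • k2) = 0 := by rw [bf_smul_left, bf_smul_right, h.h12, mul_zero, mul_zero]
    have h22' : bf J2 (t • k2) (t • k2) = 0 := by rw [bf_smul_left, bf_smul_right, h.h22, mul_zero, mul_zero]
    have hc := R1_GL J1 J2 hS.h2 K1 C K2 R hR (oneK (a := a) R) (oneK_val R) k1 k2 (t • k1) (t • k2)
      h.h11 h.h12 h.h22 h11' h12' h22' e1 e2
    have e : gZ J1 J2 hS.h2 K1 C K2 (t • k1) (t • k2) h11' h12' h22' =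
        gZ J1 J2 hS.h2 ((t * t) • K1) ((t * t) • C) ((t * t) • K2) k1 k2 h.h11 h.h12 h.h22 := by
      apply Units.ext
      rw [gZ_val, gZ_val, zL_smul]
    rw [← e, ← hc]
    exact M.mul_mem (M.mul_mem hn hg) (M.inv_mem hn)

/-- **TORUS (2)**: `M ∩ Z_L` is closed under multiplication by scalars -/
theorem gZ_smul_mem (hS : SetupO J1 J2 Q) (hM : Over Q M) (h : Ts2 J2 k1 k2) (K1 C K2 : Matrix (Fin a) (Fin a) F) (c : F)
    (hg : gZ J1 J2 hS.h2 K1 C K2 k1 k2 h.h11 h.h12 h.h22 ∈ M) :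
    gZ J1 J2 hS.h2 (c • K1) (c • C) (c • K2) k1 k2 h.h11 h.h12 h.h22 ∈ M := by
  have h2 := hS.two
  have hc : ∀ X : Matrix (Fin a) (Fin a) F,
      c • X + (((c - 1) / 2) * ((c - 1) / 2)) • X = (((c + 1) / 2) * ((c + 1) / 2)) • X := by
    intro X
    rw [← add_smul]
    congr 1
    field_simp
    ring
  have e : gZ J1 J2 hS.h2 (c • K1) (c • C) (c • K2) k1 k2 h.h11 h.h12 h.h22 *
      gZ J1 J2 hS.h2 ((((c - 1) / 2) * ((c - 1) / 2)) • K1) ((((c - 1) / 2) * ((c - 1) / 2)) • C)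
        ((((c - 1) / 2) * ((c - 1) / 2)) • K2) k1 k2 h.h11 h.h12 h.h22 =
      gZ J1 J2 hS.h2 ((((c + 1) / 2) * ((c + 1) / 2)) • K1) ((((c + 1) / 2) * ((c + 1) / 2)) • C)
        ((((c + 1) / 2) * ((c + 1) / 2)) • K2) k1 k2 h.h11 h.h12 h.h22 := by
    rw [gZ_mul, gZ_congr hS.h2 h.h11 h.h12 h.h22 (hc K1) (hc C) (hc K2)]
  rw [eq_mul_inv_of_mul_eq e]
  exact M.mul_mem (gZ_sq_mem hS hM h K1 C K2 _ hg) (M.inv_mem (gZ_sq_mem hS hM h K1 C K2 _ hg))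

/-! ### the submodules -/

/-- `M ∩ Z_L` in the coordinates `(K₁, C, K₂)` -/
def ZM (hS : SetupO J1 J2 Q) (hM : Over Q M) (h : Ts2 J2 k1 k2) :
    Submodule F (Matrix (Fin a) (Fin a) F × Matrix (Fin a) (Fin a) F × Matrix (Fin a) (Fin a) F) where
  carrier := {X | gZ J1 J2 hS.h2 X.1 X.2.1 X.2.2 k1 k2 h.h11 h.h12 h.h22 ∈ M}
  add_mem' := by
    intro X Y hX hY
    show gZ J1 J2 hS.h2 (X + Y).1 (X + Y).2.1 (X + Y).2.2 k1 k2 h.h11 h.h12 h.h22 ∈ M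
    rw [Prod.fst_add, Prod.snd_add, Prod.fst_add, Prod.snd_add, ← gZ_mul]
    exact M.mul_mem hX hY
  zero_mem' := by
    show gZ J1 J2 hS.h2 0 0 0 k1 k2 h.h11 h.h12 h.h22 ∈ M
    rw [gZ_zero]
    exact M.one_mem
  smul_mem' := by
    intro c X hX
    exact gZ_smul_mem hS hM h X.1 X.2.1 X.2.2 c hX

theorem mem_ZM (hS : SetupO J1 J2 Q) (hM : Over Q M) (h : Ts2 J2 k1 k2) (K1 C K2 : Matrix (Fin a) (Fin a) F) :
    (K1, C, K2) ∈ ZM hS hM h ↔ gZ J1 J2 hS.h2 K1 C K2 k1 k2 h.h11 h.h12 h.h22 ∈ M := Iff.rfl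

theorem TO_zero (J1 : Matrix (Fin a) (Fin a) F) (J2 : Matrix (Fin b) (Fin b) F) (k k' : Fin b → F) :
    TO J1 J2 0 k k' = 0 := by
  have h := TO_smul J1 J2 (0 : F) 0 k k'
  simpa using h

theorem gK_eq_gZ (hJ2 : OrthG J2) (K : Matrix (Fin a) (Fin a) F)
    (h11 : bf J2 k1 k1 = 0) (h12 : bf J2 k1 k2 = 0) (h22 : bf J2 k2 k2 = 0) :
    gK J2 K k1 h11 = gZ J1 J2 hJ2 K 0 0 k1 k2 h11 h12 h22 := by
  apply Units.ext
  rw [gK_val, gZ_val]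
  unfold zL
  rw [TO_zero, Matrix.zero_kronecker, add_zero, add_zero]

theorem gK2_eq_gZ (hJ2 : OrthG J2) (K : Matrix (Fin a) (Fin a) F)
    (h11 : bf J2 k1 k1 = 0) (h12 : bf J2 k1 k2 = 0) (h22 : bf J2 k2 k2 = 0) :
    gK J2 K k2 h22 = gZ J1 J2 hJ2 0 0 K k1 k2 h11 h12 h22 := by
  apply Units.ext
  rw [gK_val, gZ_val]
  unfold zL
  rw [TO_zero, Matrix.zero_kronecker, add_zero, zero_add]

theorem gTO_eq_gZ (hJ2 : OrthG J2) (C : Matrix (Fin a) (Fin a) F)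
    (h11 : bf J2 k1 k1 = 0) (h12 : bf J2 k1 k2 = 0) (h22 : bf J2 k2 k2 = 0) :
    gTO J1 J2 hJ2 C k1 k2 h11 h12 h22 = gZ J1 J2 hJ2 0 C 0 k1 k2 h11 h12 h22 := by
  apply Units.ext
  rw [gTO_val, gZ_val]
  unfold zL
  rw [Matrix.zero_kronecker, Matrix.zero_kronecker, add_zero, zero_add]

/-- `calK = {K | 1 + K ⊗ E_{k₁,k₁} ∈ M}` as an `F`-subspace -/
def calK (hS : SetupO J1 J2 Q) (hM : Over Q M) (h : Ts2 J2 k1 k2) : Submodule F (Matrix (Fin a) (Fin a) F) :=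
  (ZM hS hM h).comap (LinearMap.inl F (Matrix (Fin a) (Fin a) F) (Matrix (Fin a) (Fin a) F × Matrix (Fin a) (Fin a) F))

theorem mem_calK (hS : SetupO J1 J2 Q) (hM : Over Q M) (h : Ts2 J2 k1 k2) (K : Matrix (Fin a) (Fin a) F) :
    K ∈ calK hS hM h ↔ gK J2 K k1 h.h11 ∈ M := by
  rw [gK_eq_gZ (J1 := J1) hS.h2 K h.h11 h.h12 h.h22]
  exact Iff.rfl

/-- `calK₂ = {K | 1 + K ⊗ E_{k₂,k₂} ∈ M}` as an `F`-subspace -/
def calK2 (hS : SetupO J1 J2 Q) (hM : Over Q M) (h : Ts2 J2 k1 k2) : Submodule F (Matrix (Fin a) (Fin a) F) :=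
  (ZM hS hM h).comap ((LinearMap.inr F (Matrix (Fin a) (Fin a) F) (Matrix (Fin a) (Fin a) F × Matrix (Fin a) (Fin a) F)).comp
    (LinearMap.inr F (Matrix (Fin a) (Fin a) F) (Matrix (Fin a) (Fin a) F)))

theorem mem_calK2 (hS : SetupO J1 J2 Q) (hM : Over Q M) (h : Ts2 J2 k1 k2) (K : Matrix (Fin a) (Fin a) F) :
    K ∈ calK2 hS hM h ↔ gK J2 K k2 h.h22 ∈ M := by
  rw [gK2_eq_gZ (J1 := J1) hS.h2 K h.h11 h.h12 h.h22]
  exact Iff.rfl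

/-- `calC = {C | g(C;k₁,k₂) ∈ M}` as an `F`-subspace -/
def calC (hS : SetupO J1 J2 Q) (hM : Over Q M) (h : Ts2 J2 k1 k2) : Submodule F (Matrix (Fin a) (Fin a) F) :=
  (ZM hS hM h).comap ((LinearMap.inr F (Matrix (Fin a) (Fin a) F) (Matrix (Fin a) (Fin a) F × Matrix (Fin a) (Fin a) F)).comp
    (LinearMap.inl F (Matrix (Fin a) (Fin a) F) (Matrix (Fin a) (Fin a) F)))

theorem mem_calC (hS : SetupO J1 J2 Q) (hM : Over Q M) (h : Ts2 J2 k1 k2) (C : Matrix (Fin a) (Fin a) F) :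
    C ∈ calC hS hM h ↔ gTO J1 J2 hS.h2 C k1 k2 h.h11 h.h12 h.h22 ∈ M := by
  rw [gTO_eq_gZ hS.h2 C h.h11 h.h12 h.h22]
  exact Iff.rfl

end Cfsg.Agent.Lib.Helper20.OTTorus
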