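import Mathlib

/-!
# S3489 (helper20): element orders in a semidirect product `(A × W) ⋊ H`

`H` acts on the abelian groups `A` (exponent 7) and `W` (exponent 3); a central involution `z` acts as `-1` on both; every
`h ∈ H` is `1`, or has `1 + h + h² = 0` on `A`, or `1 + h + h² + h³ + h⁴ = 0` on `A`, or a power `h^j = z` (`1 ≤ j ≤ 6`).
Then the orders of the elements of `G = (A × W) ⋊ H` lie in `{1,…,10,12,15,21}`, and all of these occur when `W` is the
`z = -1` part of the regular `F_3`-module and `H` has elements of orders `1,2,3,4,5,6,8,10,12`.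
-/

set_option autoImplicit false

namespace Cfsg.Agent.Lib.Helper20.A10Core

open Multiplicative

section gen
variable {H : Type*} [Group H] {V : Type*} [AddCommGroup V] [DistribMulAction H V]

/-- partial norm sums `v + h v + … + h^(j-1) v` -/
def Sj (h : H) (v : V) (j : ℕ) : V := ∑ i ∈ Finset.range j, h ^ i • v

theorem Sj_zero (h : H) (v : V) : Sj h v 0 = 0 := by simp [Sj]

theorem Sj_succ (h : H) (v : V) (j : ℕ) : Sj h v (j + 1) = Sj h v j + h ^ j • v := by
  unfold Sj
  rw [Finset.sum_range_succ]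

theorem Sj_add (h : H) (v : V) (a b : ℕ) : Sj h v (a + b) = Sj h v a + h ^ a • Sj h v b := by
  unfold Sj
  rw [Finset.sum_range_add, Finset.smul_sum]
  congr 1
  apply Finset.sum_congr rfl
  intro i _
  rw [pow_add, mul_smul]

theorem Sj_one (v : V) (j : ℕ) : Sj (1 : H) v j = j • v := by
  unfold Sj
  simp

variable (H V) in
/-- the action of `H` on `Multiplicative V` by automorphisms -/
def phi : H →* MulAut (Multiplicative V) where
  toFun h :=
    { toFun := fun n => ofAdd (h • toAdd n)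
      invFun := fun n => ofAdd (h⁻¹ • toAdd n)
      left_inv := fun n => by simp
      right_inv := fun n => by simp
      map_mul' := fun m n => by
        show ofAdd (h • (toAdd m + toAdd n)) = ofAdd (h • toAdd m) * ofAdd (h • toAdd n)
        rw [smul_add]; rfl }
  map_one' := by
    ext n
    show ofAdd ((1 : H) • toAdd n) = n
    rw [one_smul]; rfl
  map_mul' h h' := by
    ext n
    show ofAdd ((h * h') • toAdd n) = ofAdd (h • toAdd (ofAdd (h' • toAdd n)))
    rw [mul_smul]; rfl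

theorem phi_apply (h : H) (v : V) : phi H V h (ofAdd v) = ofAdd (h • v) := rfl

variable (H V) in
/-- the semidirect product `V ⋊ H` -/
abbrev G := Multiplicative V ⋊[phi H V] H

theorem mk_pow (v : V) (h : H) (j : ℕ) :
    (⟨ofAdd v, h⟩ : G H V) ^ j = ⟨ofAdd (Sj h v j), h ^ j⟩ := by
  induction j with
  | zero =>
    rw [pow_zero, Sj_zero, pow_zero]; rfl
  | succ j ih =>
    rw [pow_succ, ih, Sj_succ, pow_succ]
    apply SemidirectProduct.ext
    · show ofAdd (Sj h v j) * phi H V (h ^ j) (ofAdd v) = ofAdd (Sj h v j + h ^ j • v)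
      rw [phi_apply]; rfl
    · rfl

theorem mk_eq_one_iff (v : V) (h : H) : (⟨ofAdd v, h⟩ : G H V) = 1 ↔ v = 0 ∧ h = 1 := by
  constructor
  · intro e
    have h1 := congrArg SemidirectProduct.left e
    have h2 := congrArg SemidirectProduct.right e
    exact ⟨h1, h2⟩
  · rintro ⟨rfl, rfl⟩
    rfl

theorem exists_rep (g : G H V) : ∃ (v : V) (h : H), g = ⟨ofAdd v, h⟩ := ⟨toAdd g.left, g.right, rfl⟩

end gen

/-! ### the `z = -1` part of the regular `F_3`-module -/

section W
variable {H : Type*} [Group H] (z : H)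

/-- functions `f : H → ZMod 3` with `f (z x) = - f x` -/
def Wz : AddSubgroup (H → ZMod 3) where
  carrier := {f | ∀ x, f (z * x) = - f x}
  add_mem' := by
    intro f g hf hg x
    show f (z * x) + g (z * x) = -(f x + g x)
    rw [hf x, hg x]; ring
  zero_mem' := by
    intro x
    show (0 : ZMod 3) = -0
    simp
  neg_mem' := by
    intro f hf x
    show -f (z * x) = - -f x
    rw [hf x]

instance : SMul H (Wz z) where
  smul h f := ⟨fun x => f.1 (x * h), fun x => by
    show f.1 (z * x * h) = - f.1 (x * h)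
    rw [mul_assoc]; exact f.2 (x * h)⟩

theorem smul_apply (h : H) (f : Wz z) (x : H) : (h • f).1 x = f.1 (x * h) := rfl

instance : DistribMulAction H (Wz z) where
  one_smul f := by
    apply Subtype.ext; funext x
    rw [smul_apply, mul_one]
  mul_smul h h' f := by
    apply Subtype.ext; funext x
    rw [smul_apply, smul_apply, smul_apply, mul_assoc]
  smul_zero h := by
    apply Subtype.ext; funext x
    rfl
  smul_add h f g := by
    apply Subtype.ext; funext x
    rfl

theorem z_smul (hz : ∀ x, z * x = x * z) (f : Wz z) : z • f = -f := by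
  apply Subtype.ext; funext x
  rw [smul_apply, ← hz x]
  exact f.2 x

theorem three_nsmul (f : Wz z) : 3 • f = 0 := by
  apply Subtype.ext; funext x
  show (3 • f.1) x = 0
  rw [Pi.smul_apply, nsmul_eq_mul]
  have : ((3 : ℕ) : ZMod 3) = 0 := by decide
  rw [this, zero_mul]

open Classical in
/-- `δ_1 - δ_z` -/
noncomputable def w0 (hz1 : z ≠ 1) (hzz : z * z = 1) : Wz z :=
  ⟨fun x => if x = 1 then 1 else if x = z then -1 else 0, by
    intro x
    show (if z * x = 1 then (1 : ZMod 3) else if z * x = z then -1 else 0) =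
      -(if x = 1 then (1 : ZMod 3) else if x = z then -1 else 0)
    by_cases h1 : x = 1
    · subst h1
      rw [mul_one, if_neg hz1, if_pos rfl, if_pos rfl]
    · by_cases h2 : x = z
      · subst h2
        rw [hzz, if_pos rfl, if_neg h1, if_pos rfl, neg_neg]
      · have e1 : z * x ≠ 1 := by
          intro e
          apply h2
          have : z * (z * x) = z * 1 := by rw [e]
          rwa [← mul_assoc, hzz, one_mul, mul_one] at this
        have e2 : z * x ≠ z := by
          intro e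
          apply h1
          have : z * x = z * 1 := by rw [e, mul_one]
          exact mul_left_cancel this
        rw [if_neg e1, if_neg e2, if_neg h1, if_neg h2, neg_zero]⟩

open Classical in
theorem w0_one (hz1 : z ≠ 1) (hzz : z * z = 1) : (w0 z hz1 hzz).1 1 = 1 := by
  show (if (1 : H) = 1 then (1 : ZMod 3) else if (1 : H) = z then -1 else 0) = 1
  rw [if_pos rfl]

open Classical in
theorem w0_of_ne (hz1 : z ≠ 1) (hzz : z * z = 1) {x : H} (h1 : x ≠ 1) (h2 : x ≠ z) : (w0 z hz1 hzz).1 x = 0 := by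
  show (if x = 1 then (1 : ZMod 3) else if x = z then -1 else 0) = 0
  rw [if_neg h1, if_neg h2]

theorem Sj_apply_one (h : H) (f : Wz z) (j : ℕ) : (Sj h f j).1 1 = ∑ i ∈ Finset.range j, f.1 (h ^ i) := by
  induction j with
  | zero => rw [Sj_zero, Finset.range_zero, Finset.sum_empty]; rfl
  | succ j ih =>
    rw [Sj_succ, Finset.sum_range_succ, ← ih]
    show (Sj h f j).1 1 + (h ^ j • f).1 1 = _
    rw [smul_apply, one_mul]

/-- for `h` of odd order `m`, the norm of `δ_1 - δ_z` does not vanish -/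
theorem Sj_w0_ne_zero (hz1 : z ≠ 1) (hzz : z * z = 1) (h : H) (m : ℕ) (hm : Odd m) (ho : orderOf h = m) :
    Sj h (w0 z hz1 hzz) m ≠ 0 := by
  intro e
  have h1 : (Sj h (w0 z hz1 hzz) m).1 1 = (0 : Wz z).1 1 := by rw [e]
  rw [Sj_apply_one] at h1
  have hm0 : 0 < m := hm.pos
  have key : ∀ i ∈ Finset.range m, i ≠ 0 → (w0 z hz1 hzz).1 (h ^ i) = 0 := by
    intro i hi hi0
    rw [Finset.mem_range] at hi
    apply w0_of_ne
    · intro e1
      have := orderOf_dvd_of_pow_eq_one e1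
      rw [ho] at this
      exact absurd (Nat.le_of_dvd (Nat.pos_of_ne_zero hi0) this) (by omega)
    · intro e1
      -- `z = h^i` has odd order dividing `m`, but `z² = 1`
      have e2 : z ^ m = 1 := by rw [← e1, ← pow_mul, mul_comm, pow_mul, ← ho, pow_orderOf_eq_one, one_pow]
      obtain ⟨k, rfl⟩ := hm
      rw [pow_succ, pow_mul, pow_two, hzz, one_pow, one_mul] at e2
      exact hz1 e2
  rw [Finset.sum_eq_single_of_mem 0 (Finset.mem_range.mpr hm0) key, pow_zero, w0_one] at h1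
  exact one_ne_zero (h1.trans rfl)

end W

/-! ### the element orders of `(A × W) ⋊ H` -/

section main
variable {H : Type*} [Group H]

/-- the hypotheses on `H`, its module `A` and the central involution `z` -/
structure Hyp (A : Type*) [AddCommGroup A] [DistribMulAction H A] (z : H) : Prop where
  zc : ∀ x, z * x = x * z
  z1 : z ≠ 1
  zz : z * z = 1
  zA : ∀ a : A, z • a = -a
  h7 : ∀ a : A, 7 • a = 0
  ne : ∃ e : A, e ≠ 0
  cases : ∀ h : H, h = 1 ∨ (h ^ 3 = 1 ∧ ∀ a : A, Sj h a 3 = 0) ∨ (h ^ 5 = 1 ∧ ∀ a : A, Sj h a 5 = 0) ∨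
    ∃ j, 1 ≤ j ∧ j ≤ 6 ∧ h ^ j = z
  spec : ∀ s ∈ ({1, 2, 3, 4, 5, 6, 8, 10, 12} : Finset ℕ), ∃ h : H, orderOf h = s

/-- the spectrum of `A₁₀` -/
def SF : Finset ℕ := {1, 2, 3, 4, 5, 6, 7, 8, 9, 10, 12, 15, 21}

theorem SF_dvd : ∀ M ∈ SF, ∀ d ∈ M.divisors, d ∈ SF := by decide

theorem mem_SF_of_pow {G' : Type*} [Group G'] (g : G') (M : ℕ) (hM : M ∈ SF) (h : g ^ M = 1) : orderOf g ∈ SF := by
  have hM0 : M ≠ 0 := by
    rintro rfl
    exact absurd hM (by decide)
  exact SF_dvd M hM _ (Nat.mem_divisors.mpr ⟨orderOf_dvd_of_pow_eq_one h, hM0⟩)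

variable {A : Type*} [AddCommGroup A] [DistribMulAction H A] {z : H}

theorem Sj_prod (h : H) (a : A) (w : Wz z) (j : ℕ) : Sj h ((a, w) : A × Wz z) j = (Sj h a j, Sj h w j) := by
  induction j with
  | zero => rw [Sj_zero, Sj_zero, Sj_zero]; rfl
  | succ j ih => rw [Sj_succ, Sj_succ, Sj_succ, ih, Prod.smul_mk, Prod.mk_add_mk]

theorem order_mem (hyp : Hyp A z) (g : G H (A × Wz z)) : orderOf g ∈ SF := by
  obtain ⟨⟨a, w⟩, h, rfl⟩ := exists_rep g
  have h3 : ∀ u : Wz z, 3 • u = 0 := three_nsmul z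
  rcases hyp.cases h with rfl | ⟨h3', hs⟩ | ⟨h5', hs⟩ | ⟨j, hj1, hj6, hjz⟩
  · -- `h = 1`
    apply mem_SF_of_pow _ 21 (by decide)
    rw [mk_pow, one_pow, Sj_one, mk_eq_one_iff]
    refine ⟨?_, rfl⟩
    rw [Prod.smul_mk]
    have e1 : 21 • a = 0 := by
      have : 21 • a = 3 • (7 • a) := by rw [← mul_smul]; rfl
      rw [this, hyp.h7, smul_zero]
    have e2 : 21 • w = 0 := by
      have : 21 • w = 7 • (3 • w) := by rw [← mul_smul]; rfl
      rw [this, h3, smul_zero]
    rw [e1, e2]; rfl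
  · -- order 3
    apply mem_SF_of_pow _ 9 (by decide)
    have e : (⟨ofAdd ((a, w) : A × Wz z), h⟩ : G H (A × Wz z)) ^ 9 =
        ((⟨ofAdd ((a, w) : A × Wz z), h⟩ : G H (A × Wz z)) ^ 3) ^ 3 := by rw [← pow_mul]
    rw [e, mk_pow, h3', Sj_prod, hs a, mk_pow, one_pow, Sj_one, mk_eq_one_iff]
    refine ⟨?_, rfl⟩
    rw [Prod.smul_mk, smul_zero, h3]; rfl
  · -- order 5
    apply mem_SF_of_pow _ 15 (by decide)
    have e : (⟨ofAdd ((a, w) : A × Wz z), h⟩ : G H (A × Wz z)) ^ 15 =
        ((⟨ofAdd ((a, w) : A × Wz z), h⟩ : G H (A × Wz z)) ^ 5) ^ 3 := by rw [← pow_mul]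
    rw [e, mk_pow, h5', Sj_prod, hs a, mk_pow, one_pow, Sj_one, mk_eq_one_iff]
    refine ⟨?_, rfl⟩
    rw [Prod.smul_mk, smul_zero, h3]; rfl
  · -- `h ^ j = z`
    have hM : j + j ∈ SF := by
      interval_cases j <;> decide
    apply mem_SF_of_pow _ (j + j) hM
    rw [mk_pow, Sj_add, hjz, pow_add, hjz, hyp.zz, mk_eq_one_iff]
    refine ⟨?_, rfl⟩
    have hzv : ∀ v : A × Wz z, z • v = -v := by
      rintro ⟨a', w'⟩
      rw [Prod.smul_mk, hyp.zA, z_smul z hyp.zc]; rfl
    rw [hzv, add_neg_cancel]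

theorem exists_order (hyp : Hyp A z) (s : ℕ) (hs : s ∈ SF) : ∃ g : G H (A × Wz z), orderOf g = s := by
  have h3 : ∀ u : Wz z, 3 • u = 0 := three_nsmul z
  obtain ⟨e, he⟩ := hyp.ne
  have hw0 : w0 z hyp.z1 hyp.zz ≠ 0 := by
    intro h0
    have := w0_one z hyp.z1 hyp.zz
    rw [h0] at this
    exact zero_ne_one this
  have h3e : 3 • e ≠ 0 := by
    intro h0
    apply he
    have : e = 7 • e - 2 • (3 • e) := by abel
    rw [this, hyp.h7, h0, smul_zero, sub_zero]
  have h7w : ∀ u : Wz z, 7 • u = u := by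
    intro u
    have : 7 • u = u + 2 • (3 • u) := by abel
    rw [this, h3, smul_zero, add_zero]
  have hSF : s ∈ ({1, 2, 3, 4, 5, 6, 8, 10, 12} : Finset ℕ) ∨ s = 7 ∨ s = 9 ∨ s = 15 ∨ s = 21 := by
    revert s
    decide
  rcases hSF with hs' | rfl | rfl | rfl | rfl
  · obtain ⟨h, hh⟩ := hyp.spec s hs'
    exact ⟨SemidirectProduct.inr h, by rw [orderOf_injective _ SemidirectProduct.inr_injective, hh]⟩
  · -- 7
    refine ⟨⟨ofAdd ((e, 0) : A × Wz z), 1⟩, ?_⟩
    have : Fact (Nat.Prime 7) := ⟨by norm_num⟩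
    apply orderOf_eq_prime
    · rw [mk_pow, one_pow, Sj_one, mk_eq_one_iff]
      refine ⟨?_, rfl⟩
      rw [Prod.smul_mk, hyp.h7, smul_zero]; rfl
    · rw [Ne, mk_eq_one_iff]
      rintro ⟨h0, -⟩
      exact he (congrArg Prod.fst h0)
  · -- 9
    obtain ⟨h, hh⟩ := hyp.spec 3 (by decide)
    refine ⟨⟨ofAdd ((0, w0 z hyp.z1 hyp.zz) : A × Wz z), h⟩, ?_⟩
    have hh3 : h ^ 3 = 1 := by rw [← hh, pow_orderOf_eq_one]
    apply orderOf_eq_of_pow_and_pow_div_prime (by norm_num)
    · have e : (⟨ofAdd ((0, w0 z hyp.z1 hyp.zz) : A × Wz z), h⟩ : G H (A × Wz z)) ^ 9 =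
          ((⟨ofAdd ((0, w0 z hyp.z1 hyp.zz) : A × Wz z), h⟩ : G H (A × Wz z)) ^ 3) ^ 3 := by rw [← pow_mul]
      rw [e, mk_pow, hh3, Sj_prod, mk_pow, one_pow, Sj_one, mk_eq_one_iff]
      refine ⟨?_, rfl⟩
      rw [Prod.smul_mk, h3]
      have : Sj h (0 : A) 3 = 0 := by simp [Sj]
      rw [this, smul_zero]; rfl
    · intro p hp hp9
      have hp3 : p = 3 := by
        have : p ∣ 3 ^ 2 := by norm_num; exact hp9
        exact (Nat.prime_dvd_prime_iff_eq hp Nat.prime_three).mp (hp.dvd_of_dvd_pow this)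
      subst hp3
      rw [show (9 : ℕ) / 3 = 3 from rfl, Ne, mk_pow, hh3, mk_eq_one_iff, Sj_prod]
      rintro ⟨h0, -⟩
      exact Sj_w0_ne_zero z hyp.z1 hyp.zz h 3 (by decide) hh (congrArg Prod.snd h0)
  · -- 15
    obtain ⟨h, hh⟩ := hyp.spec 5 (by decide)
    refine ⟨⟨ofAdd ((0, w0 z hyp.z1 hyp.zz) : A × Wz z), h⟩, ?_⟩
    have hh5 : h ^ 5 = 1 := by rw [← hh, pow_orderOf_eq_one]
    apply orderOf_eq_of_pow_and_pow_div_prime (by norm_num)
    · have e : (⟨ofAdd ((0, w0 z hyp.z1 hyp.zz) : A × Wz z), h⟩ : G H (A × Wz z)) ^ 15 =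
          ((⟨ofAdd ((0, w0 z hyp.z1 hyp.zz) : A × Wz z), h⟩ : G H (A × Wz z)) ^ 5) ^ 3 := by rw [← pow_mul]
      rw [e, mk_pow, hh5, Sj_prod, mk_pow, one_pow, Sj_one, mk_eq_one_iff]
      refine ⟨?_, rfl⟩
      rw [Prod.smul_mk, h3]
      have : Sj h (0 : A) 5 = 0 := by simp [Sj]
      rw [this, smul_zero]; rfl
    · intro p hp hp15
      have hp35 : p = 3 ∨ p = 5 := by
        have : p ∣ 3 * 5 := by norm_num; exact hp15
        rcases (Nat.Prime.dvd_mul hp).mp this with h' | h'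
        · exact Or.inl ((Nat.prime_dvd_prime_iff_eq hp Nat.prime_three).mp h')
        · exact Or.inr ((Nat.prime_dvd_prime_iff_eq hp Nat.prime_five).mp h')
      rcases hp35 with rfl | rfl
      · rw [show (15 : ℕ) / 3 = 5 from rfl, Ne, mk_pow, hh5, mk_eq_one_iff, Sj_prod]
        rintro ⟨h0, -⟩
        exact Sj_w0_ne_zero z hyp.z1 hyp.zz h 5 (by decide) hh (congrArg Prod.snd h0)
      · rw [show (15 : ℕ) / 5 = 3 from rfl, Ne, mk_pow, mk_eq_one_iff]
        rintro ⟨-, h0⟩
        have := orderOf_dvd_of_pow_eq_one h0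
        rw [hh] at this
        norm_num at this
  · -- 21
    refine ⟨⟨ofAdd ((e, w0 z hyp.z1 hyp.zz) : A × Wz z), 1⟩, ?_⟩
    apply orderOf_eq_of_pow_and_pow_div_prime (by norm_num)
    · rw [mk_pow, one_pow, Sj_one, mk_eq_one_iff]
      refine ⟨?_, rfl⟩
      rw [Prod.smul_mk]
      have e1 : 21 • e = 0 := by
        have : 21 • e = 3 • (7 • e) := by rw [← mul_smul]; rfl
        rw [this, hyp.h7, smul_zero]
      have e2 : 21 • w0 z hyp.z1 hyp.zz = 0 := by
        have : 21 • w0 z hyp.z1 hyp.zz = 7 • (3 • w0 z hyp.z1 hyp.zz) := by rw [← mul_smul]; rfl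
        rw [this, h3, smul_zero]
      rw [e1, e2]; rfl
    · intro p hp hp21
      have hp37 : p = 3 ∨ p = 7 := by
        have : p ∣ 3 * 7 := by norm_num; exact hp21
        rcases (Nat.Prime.dvd_mul hp).mp this with h' | h'
        · exact Or.inl ((Nat.prime_dvd_prime_iff_eq hp Nat.prime_three).mp h')
        · exact Or.inr ((Nat.prime_dvd_prime_iff_eq hp (by norm_num)).mp h')
      rcases hp37 with rfl | rfl
      · rw [show (21 : ℕ) / 3 = 7 from rfl, Ne, mk_pow, one_pow, Sj_one, mk_eq_one_iff, Prod.smul_mk]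
        rintro ⟨h0, -⟩
        have := congrArg Prod.snd h0
        simp only at this
        rw [h7w] at this
        exact hw0 this
      · rw [show (21 : ℕ) / 7 = 3 from rfl, Ne, mk_pow, one_pow, Sj_one, mk_eq_one_iff, Prod.smul_mk]
        rintro ⟨h0, -⟩
        exact h3e (congrArg Prod.fst h0)

theorem range_orderOf (hyp : Hyp A z) : Set.range (orderOf : G H (A × Wz z) → ℕ) = ↑SF := by
  ext s
  constructor
  · rintro ⟨g, rfl⟩
    exact order_mem hyp g
  · intro hs
    exact exists_order hyp s hs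

end main

end Cfsg.Agent.Lib.Helper20.A10Core
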