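import Mathlib
import Cfsg.Agent.Lib.Helper9.U35MinDefs

/-!
# S2149 front, piece B1: a group of order 1000 has a normal Sylow 5-subgroup of order 125 and
index 8 containing every element of order dividing 5.
-/

set_option autoImplicit false
set_option linter.style.haveILetI false

namespace Cfsg.Agent.Lib.Helper9.U35Min

open scoped commutatorElement

namespace H20

/-- an element with `x ^ 5 = 1` lies in every Sylow 5-subgroup when there is only one -/
theorem mem_of_pow_five {S : Type*} [Group S] [Finite S] [Fact (Nat.Prime 5)]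
    [Subsingleton (Sylow 5 S)] (P : Sylow 5 S) {x : S} (hx : x ^ 5 = 1) : x ∈ (P : Subgroup S) := by
  have hp : IsPGroup 5 (Subgroup.zpowers x) := by
    rw [IsPGroup.iff_card]
    have h1 : Nat.card (Subgroup.zpowers x) ∣ 5 := by
      rw [Nat.card_zpowers]
      exact orderOf_dvd_of_pow_eq_one hx
    rcases (Nat.dvd_prime Nat.prime_five).1 h1 with h | h
    · exact ⟨0, by rw [h, pow_zero]⟩
    · exact ⟨1, by rw [h, pow_one]⟩
  obtain ⟨Q, hQ⟩ := hp.exists_le_sylow
  have hQP : Q = P := Subsingleton.elim Q P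
  rw [← hQP]
  exact hQ (Subgroup.mem_zpowers x)

end H20

section B
variable {S : Type*} [Group S] {u1 u2 t : S}

/-- B1: the normal Sylow 5-subgroup -/
theorem Borel.exists_U (hB : Borel S u1 u2 t) :
    ∃ U : Subgroup S, U.Normal ∧ Nat.card U = 125 ∧ U.index = 8 ∧ u1 ∈ U ∧ u2 ∈ U := by
  haveI : Fact (Nat.Prime 5) := ⟨Nat.prime_five⟩
  haveI : Finite S := Nat.finite_of_card_ne_zero (by rw [hB.card]; norm_num)
  obtain ⟨P⟩ : Nonempty (Sylow 5 S) := inferInstance
  have hfac : (1000 : ℕ).factorization 5 = 3 := by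
    have h1000 : (1000 : ℕ) = 5 ^ 3 * 8 := by norm_num
    rw [h1000, Nat.factorization_mul (by norm_num) (by norm_num), Nat.Prime.factorization_pow
      Nat.prime_five]
    have h8 : (8 : ℕ).factorization 5 = 0 :=
      Nat.factorization_eq_zero_of_not_dvd (by norm_num)
    simp [h8]
  have hcardP : Nat.card (P : Subgroup S) = 125 := by
    rw [Sylow.card_eq_multiplicity, hB.card, hfac]
    norm_num
  have hidx : (P : Subgroup S).index = 8 := by
    have h := (P : Subgroup S).card_mul_index
    rw [hcardP, hB.card] at h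
    omega
  have hn1 : Nat.card (Sylow 5 S) = 1 := by
    have hmod := card_sylow_modEq_one 5 S
    have hdvd := Sylow.card_dvd_index P
    rw [hidx] at hdvd
    have hle : Nat.card (Sylow 5 S) ≤ 8 := Nat.le_of_dvd (by norm_num) hdvd
    have hmod' : Nat.card (Sylow 5 S) % 5 = 1 := hmod
    interval_cases h : Nat.card (Sylow 5 S) <;> simp_all
  haveI : Subsingleton (Sylow 5 S) := (Nat.card_eq_one_iff_unique.1 hn1).1
  exact ⟨P, Sylow.normal_of_subsingleton P, hcardP, hidx, H20.mem_of_pow_five P hB.h1,
    H20.mem_of_pow_five P hB.h2⟩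

end B

end Cfsg.Agent.Lib.Helper9.U35Min
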