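import Mathlib
import Cfsg.Agent.Lib.Helper26.M23IdxA

/-!
# Generic reductions for the one-block criterion of `M₂₂` (helper20)

`N(g)` = number of factorizations `g = x y`, `x` a `p`-element, `y` `p`-regular.  We show that it
equals the number of `p`-elements `x` with `x⁻¹ g` `p`-regular, that it is a class function and
invariant under inversion, and we reduce "`2 ∣ N(g)` for all `g ≠ 1` of odd order" in a group of
order `2^7·3^2·5·7·11` to four parity counts plus Sylow data.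
-/

set_option autoImplicit false
set_option linter.style.haveILetI false
set_option linter.unusedSectionVars false

namespace Cfsg.Agent.Lib.Helper20.OneBlock

variable {G : Type*} [Group G]

theorem orderOf_conj_eq (c x : G) : orderOf (c * x * c⁻¹) = orderOf x := by
  have := orderOf_injective (MulAut.conj c).toMonoidHom (MulAut.conj c).injective x
  simpa [MulAut.conj_apply] using this

theorem orderOf_mul_swap (x y : G) : orderOf (x * y) = orderOf (y * x) := by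
  have h : y * x = x⁻¹ * (x * y) * x⁻¹⁻¹ := by group
  rw [h, orderOf_conj_eq]

/-- the counting predicate: `x` is a `p`-element and `x⁻¹ g` is `p`-regular -/
def Good (p : ℕ) (g x : G) : Prop := (∃ k : ℕ, orderOf x = p ^ k) ∧ ¬ p ∣ orderOf (x⁻¹ * g)

theorem card_pairs_eq (p : ℕ) (g : G) :
    Nat.card {xy : G × G // (∃ k : ℕ, orderOf xy.1 = p ^ k) ∧ ¬ p ∣ orderOf xy.2 ∧
        xy.1 * xy.2 = g} = Nat.card {x : G // Good p g x} := by
  apply Nat.card_congr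
  refine ⟨fun xy => ⟨xy.1.1, xy.2.1, ?_⟩,
    fun x => ⟨(x.1, x.1⁻¹ * g), x.2.1, x.2.2, by simp⟩, ?_, ?_⟩
  · have h := xy.2.2.2
    have h' : xy.1.1⁻¹ * g = xy.1.2 := inv_mul_eq_iff_eq_mul.mpr h.symm
    rw [h']; exact xy.2.2.1
  · rintro ⟨⟨x, y⟩, h1, h2, h3⟩
    simp only [Subtype.mk.injEq, Prod.mk.injEq, true_and]
    rw [← h3]; group
  · rintro ⟨x, h⟩; rfl

theorem good_conj_iff (p : ℕ) (g c x : G) :
    Good p (c * g * c⁻¹) x ↔ Good p g (c⁻¹ * x * c⁻¹⁻¹) := by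
  unfold Good
  rw [orderOf_conj_eq]
  have h : (c⁻¹ * x * c⁻¹⁻¹)⁻¹ * g = c⁻¹ * (x⁻¹ * (c * g * c⁻¹)) * c⁻¹⁻¹ := by group
  rw [h, orderOf_conj_eq]

theorem card_good_conj (p : ℕ) (g c : G) :
    Nat.card {x : G // Good p (c * g * c⁻¹) x} = Nat.card {x : G // Good p g x} := by
  apply Nat.card_congr
  exact Equiv.subtypeEquiv (MulAut.conj c⁻¹).toEquiv (fun x => by
    simpa [MulAut.conj_apply] using good_conj_iff p g c x)

theorem good_inv_iff (p : ℕ) (g x : G) : Good p g⁻¹ x ↔ Good p g x⁻¹ := by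
  unfold Good
  rw [orderOf_inv, inv_inv]
  have h : x⁻¹ * g⁻¹ = (g * x)⁻¹ := by group
  rw [h, orderOf_inv, orderOf_mul_swap]

theorem card_good_inv (p : ℕ) (g : G) :
    Nat.card {x : G // Good p g⁻¹ x} = Nat.card {x : G // Good p g x} := by
  apply Nat.card_congr
  exact Equiv.subtypeEquiv (Equiv.inv G) (fun x => by
    simpa using good_inv_iff p g x)

/-! ### Sylow arguments -/

theorem exists_conj_mem_of_pElement [Finite G] {p : ℕ} [Fact p.Prime] (K : Subgroup G)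
    (hK : ¬ p ∣ K.index) (x : G) (hx : ∃ k : ℕ, orderOf x = p ^ k) :
    ∃ c : G, c⁻¹ * x * c ∈ K := by
  obtain ⟨k, hk⟩ := hx
  have hT : IsPGroup p (Subgroup.zpowers x) :=
    IsPGroup.of_card (n := k) (by rw [Nat.card_zpowers, hk])
  obtain ⟨c, hc⟩ := Cfsg.Agent.H26.M23Idx.exists_conj_le_of_isPGroup (Subgroup.zpowers x) K hT hK
  exact ⟨c, hc x (Subgroup.mem_zpowers x)⟩

/-- if the Sylow `r`-subgroups have order `r` and `g_r` of order `r` is self-centralizing, then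
every element of order divisible by `r` is conjugate to a power of `g_r` -/
theorem conj_of_cyclic_sylow [Finite G] {r : ℕ} [hr : Fact r.Prime] (hr2 : ¬ r ^ 2 ∣ Nat.card G)
    (gr : G) (hgr : orderOf gr = r) (hc : Nat.card (Subgroup.centralizer {gr}) = r)
    (g : G) (hg : r ∣ orderOf g) : ∃ (c : G) (j : ℕ), ¬ r ∣ j ∧ g = c * gr ^ j * c⁻¹ := by
  have hrp := hr.out
  set K := Subgroup.zpowers gr with hK
  have hKcard : Nat.card K = r := by rw [Nat.card_zpowers, hgr]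
  have hKidx : ¬ r ∣ K.index := by
    intro h
    apply hr2
    rw [← K.card_mul_index, hKcard, pow_two]
    exact Nat.mul_dvd_mul_left r h
  have hg0 : orderOf g ≠ 0 := (orderOf_pos g).ne'
  set h0 := g ^ (orderOf g / r) with hh0
  have ho : orderOf h0 = r := orderOf_pow_orderOf_div hg0 hg
  obtain ⟨c, hc1⟩ := exists_conj_mem_of_pElement K hKidx h0 ⟨1, by rw [ho, pow_one]⟩
  set g' := c⁻¹ * g * c with hg'
  set h1 := c⁻¹ * h0 * c with hh1
  have hcomm : Commute g' h1 := by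
    have h2 : g * h0 = h0 * g := ((Commute.refl g).pow_right _).eq
    show g' * h1 = h1 * g'
    calc g' * h1 = c⁻¹ * (g * h0) * c := by rw [hg', hh1]; group
      _ = c⁻¹ * (h0 * g) * c := by rw [h2]
      _ = h1 * g' := by rw [hg', hh1]; group
  have ho1 : orderOf h1 = r := by
    have h2 : h1 = c⁻¹ * h0 * c⁻¹⁻¹ := by rw [hh1, inv_inv]
    rw [h2, orderOf_conj_eq, ho]
  have hle : Subgroup.zpowers h1 ≤ K := by
    rw [Subgroup.zpowers_le]; exact hc1
  have heq : Subgroup.zpowers h1 = K := by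
    apply Subgroup.eq_of_le_of_card_ge hle
    rw [hKcard, Nat.card_zpowers, ho1]
  have hgr_mem : gr ∈ Subgroup.zpowers h1 := by rw [heq]; exact Subgroup.mem_zpowers gr
  have hcomm2 : Commute g' gr := by
    obtain ⟨m, hm⟩ := Subgroup.mem_zpowers_iff.mp hgr_mem
    rw [← hm]; exact hcomm.zpow_right m
  have hg'C : g' ∈ Subgroup.centralizer {gr} := by
    rw [Subgroup.mem_centralizer_iff]
    intro y hy
    rw [Set.mem_singleton_iff] at hy; subst hy
    exact hcomm2.eq.symm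
  have hKC : K = Subgroup.centralizer {gr} := by
    apply Subgroup.eq_of_le_of_card_ge
    · rw [hK, Subgroup.zpowers_le, Subgroup.mem_centralizer_iff]
      intro y hy
      rw [Set.mem_singleton_iff] at hy; subst hy; rfl
    · rw [hc, hKcard]
  rw [← hKC] at hg'C
  obtain ⟨j, hj⟩ := (Submonoid.mem_powers_iff g' gr).mp
    ((mem_powers_iff_mem_zpowers (x := gr) (y := g')).mpr hg'C)
  refine ⟨c, j, ?_, ?_⟩
  · intro hdvd
    have h1' : gr ^ j = 1 := by
      rw [← orderOf_dvd_iff_pow_eq_one, hgr]; exact hdvd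
    have h2 : g = 1 := by
      have : g = c * g' * c⁻¹ := by rw [hg']; group
      rw [this, ← hj, h1']; group
    rw [h2, orderOf_one] at hg
    exact hrp.one_lt.ne' (Nat.dvd_one.mp hg)
  · rw [hj, hg']; group

theorem pow_conj_of_normalizer {x n : G} {k : ℕ} (hn : n * x * n⁻¹ = x ^ k) (i : ℕ) :
    n ^ i * x * (n ^ i)⁻¹ = x ^ (k ^ i) := by
  induction i with
  | zero => simp
  | succ i ih =>
    calc n ^ (i + 1) * x * (n ^ (i + 1))⁻¹ = n ^ i * (n * x * n⁻¹) * (n ^ i)⁻¹ := by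
          rw [pow_succ]; group
      _ = n ^ i * x ^ k * (n ^ i)⁻¹ := by rw [hn]
      _ = (n ^ i * x * (n ^ i)⁻¹) ^ k := by rw [conj_pow]
      _ = (x ^ (k ^ i)) ^ k := by rw [ih]
      _ = x ^ (k ^ (i + 1)) := by rw [← pow_mul, pow_succ]

/-- a conjugation- and inversion-invariant property passes from `x` to all its powers of
exponent prime to `r`, if `x` is conjugate to `x ^ k` and `⟨k, -1⟩ = (ℤ/r)ˣ` -/
theorem prop_pow_of_normalizer (P : G → Prop) (hconj : ∀ c g, P g → P (c * g * c⁻¹))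
    (hinv : ∀ g, P g → P g⁻¹) {x n : G} {r k : ℕ} (hr0 : 0 < r) (hx : orderOf x = r)
    (hn : n * x * n⁻¹ = x ^ k)
    (harith : ∀ t : Fin r, t.val ≠ 0 → ∃ i : Fin r,
      t.val % r = k ^ i.val % r ∨ (t.val + k ^ i.val) % r = 0)
    (hP : P x) (j : ℕ) (hj : ¬ r ∣ j) : P (x ^ j) := by
  have ht : j % r < r := Nat.mod_lt _ hr0
  have ht0 : j % r ≠ 0 := fun h => hj (Nat.dvd_of_mod_eq_zero h)
  obtain ⟨i, hi⟩ := harith ⟨j % r, ht⟩ ht0
  have hPi : P (x ^ (k ^ i.val)) := by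
    rw [← pow_conj_of_normalizer hn i.val]; exact hconj _ _ hP
  rcases hi with hi | hi
  · have : x ^ j = x ^ (k ^ i.val) := by
      rw [pow_eq_pow_iff_modEq, hx]
      simp only [Nat.mod_mod] at hi
      exact hi
    rw [this]; exact hPi
  · have h1 : r ∣ j + k ^ i.val := by
      apply Nat.dvd_of_mod_eq_zero
      simp only at hi
      rw [Nat.add_mod, Nat.mod_mod] at hi
      rw [Nat.add_mod]; exact hi
    have h2 : x ^ j * x ^ (k ^ i.val) = 1 := by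
      rw [← pow_add, ← orderOf_dvd_iff_pow_eq_one, hx]; exact h1
    have h3 : x ^ j = (x ^ (k ^ i.val))⁻¹ := eq_inv_of_mul_eq_one_left h2
    rw [h3]; exact hinv _ hPi

/-- the main reduction for a group of order `2^7·3^2·5·7·11` (such as `M₂₂`) -/
theorem dvd_of_data [Finite G]
    (hcard : Nat.card G = 2 ^ 7 * 3 ^ 2 * 5 * 7 * 11)
    (g3 g5 g7 g11 n5 n7 n11 : G)
    (o5 : orderOf g5 = 5) (o7 : orderOf g7 = 7) (o11 : orderOf g11 = 11)
    (c5 : Nat.card (Subgroup.centralizer {g5}) = 5)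
    (c7 : Nat.card (Subgroup.centralizer {g7}) = 7)
    (c11 : Nat.card (Subgroup.centralizer {g11}) = 11)
    (hn5 : n5 * g5 * n5⁻¹ = g5 ^ 2) (hn7 : n7 * g7 * n7⁻¹ = g7 ^ 2)
    (hn11 : n11 * g11 * n11⁻¹ = g11 ^ 3)
    (E : Subgroup G) (hE : Nat.card E = 9)
    (hE3 : ∀ x ∈ E, x ≠ 1 → ∃ c : G, c * x * c⁻¹ = g3 ∨ c * x * c⁻¹ = g3⁻¹)
    (e3 : Even (Nat.card {x : G // (∃ k : ℕ, orderOf x = 2 ^ k) ∧ ¬ 2 ∣ orderOf (x⁻¹ * g3)}))
    (e5 : Even (Nat.card {x : G // (∃ k : ℕ, orderOf x = 2 ^ k) ∧ ¬ 2 ∣ orderOf (x⁻¹ * g5)}))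
    (e7 : Even (Nat.card {x : G // (∃ k : ℕ, orderOf x = 2 ^ k) ∧ ¬ 2 ∣ orderOf (x⁻¹ * g7)}))
    (e11 : Even (Nat.card {x : G // (∃ k : ℕ, orderOf x = 2 ^ k) ∧
      ¬ 2 ∣ orderOf (x⁻¹ * g11)})) :
    ∀ g : G, g ≠ 1 → ¬ 2 ∣ orderOf g →
      2 ∣ Nat.card {xy : G × G // (∃ k : ℕ, orderOf xy.1 = 2 ^ k) ∧ ¬ 2 ∣ orderOf xy.2 ∧
          xy.1 * xy.2 = g} := by
  intro g hg1 hodd
  rw [card_pairs_eq]
  set P : G → Prop := fun g => 2 ∣ Nat.card {x : G // Good 2 g x} with hP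
  have hconj : ∀ c g, P g → P (c * g * c⁻¹) := fun c g h => by
    simp only [hP] at h ⊢; rw [card_good_conj]; exact h
  have hinv : ∀ g, P g → P g⁻¹ := fun g h => by
    simp only [hP] at h ⊢; rw [card_good_inv]; exact h
  have p3 : P g3 := even_iff_two_dvd.mp e3
  have p5 : P g5 := even_iff_two_dvd.mp e5
  have p7 : P g7 := even_iff_two_dvd.mp e7
  have p11 : P g11 := even_iff_two_dvd.mp e11
  show P g
  have hdvd : orderOf g ∣ 2 ^ 7 * 3 ^ 2 * 5 * 7 * 11 := hcard ▸ orderOf_dvd_natCard g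
  by_cases h11 : 11 ∣ orderOf g
  · haveI : Fact (Nat.Prime 11) := ⟨by norm_num⟩
    obtain ⟨c, j, hj, rfl⟩ := conj_of_cyclic_sylow (r := 11) (by rw [hcard]; norm_num)
      g11 o11 c11 g h11
    apply hconj
    exact prop_pow_of_normalizer P hconj hinv (by norm_num) o11 hn11 (by decide) p11 j hj
  by_cases h7 : 7 ∣ orderOf g
  · haveI : Fact (Nat.Prime 7) := ⟨by norm_num⟩
    obtain ⟨c, j, hj, rfl⟩ := conj_of_cyclic_sylow (r := 7) (by rw [hcard]; norm_num)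
      g7 o7 c7 g h7
    apply hconj
    exact prop_pow_of_normalizer P hconj hinv (by norm_num) o7 hn7 (by decide) p7 j hj
  by_cases h5 : 5 ∣ orderOf g
  · haveI : Fact (Nat.Prime 5) := ⟨by norm_num⟩
    obtain ⟨c, j, hj, rfl⟩ := conj_of_cyclic_sylow (r := 5) (by rw [hcard]; norm_num)
      g5 o5 c5 g h5
    apply hconj
    exact prop_pow_of_normalizer P hconj hinv (by norm_num) o5 hn5 (by decide) p5 j hj
  -- now `g` is a `3`-element
  have q11 : Nat.Coprime (orderOf g) 11 :=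
    (Nat.Coprime.symm ((Nat.Prime.coprime_iff_not_dvd (by norm_num)).mpr h11))
  have q7 : Nat.Coprime (orderOf g) 7 :=
    (Nat.Coprime.symm ((Nat.Prime.coprime_iff_not_dvd (by norm_num)).mpr h7))
  have q5 : Nat.Coprime (orderOf g) 5 :=
    (Nat.Coprime.symm ((Nat.Prime.coprime_iff_not_dvd (by norm_num)).mpr h5))
  have q2 : Nat.Coprime (orderOf g) (2 ^ 7) :=
    Nat.Coprime.pow_right 7
      (Nat.Coprime.symm ((Nat.Prime.coprime_iff_not_dvd Nat.prime_two).mpr hodd))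
  have d1 := q11.dvd_of_dvd_mul_right hdvd
  have d2 := q7.dvd_of_dvd_mul_right d1
  have d3 := q5.dvd_of_dvd_mul_right d2
  have d4 : orderOf g ∣ 3 ^ 2 := q2.dvd_of_dvd_mul_left d3
  obtain ⟨k, -, hk⟩ := (Nat.dvd_prime_pow Nat.prime_three).mp d4
  haveI : Fact (Nat.Prime 3) := ⟨Nat.prime_three⟩
  have hEidx : ¬ 3 ∣ E.index := by
    intro h
    have h1 := E.card_mul_index
    rw [hE, hcard] at h1
    omega
  obtain ⟨c, hc⟩ := exists_conj_mem_of_pElement E hEidx g ⟨k, hk⟩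
  have hne : c⁻¹ * g * c ≠ 1 := by
    intro h
    apply hg1
    have : g = c * (c⁻¹ * g * c) * c⁻¹ := by group
    rw [this, h]; group
  obtain ⟨d, hd | hd⟩ := hE3 _ hc hne
  · have h1 : g = (d * c⁻¹)⁻¹ * g3 * (d * c⁻¹)⁻¹⁻¹ := by rw [← hd]; group
    rw [h1]; exact hconj _ _ p3
  · have h1 : g = (d * c⁻¹)⁻¹ * g3⁻¹ * (d * c⁻¹)⁻¹⁻¹ := by rw [← hd]; group
    rw [h1]; exact hconj _ _ (hinv _ p3)

/-! ### Convenience lemmas for producing the data -/

theorem pElement_iff_pow [Finite G] (hcard : Nat.card G = 2 ^ 7 * 3 ^ 2 * 5 * 7 * 11) (x : G) :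
    (∃ k : ℕ, orderOf x = 2 ^ k) ↔ x ^ 128 = 1 := by
  constructor
  · rintro ⟨k, hk⟩
    have h1 : 2 ^ k ∣ 2 ^ 7 * 3465 := by
      have h0 := orderOf_dvd_natCard x
      rw [hk, hcard] at h0
      exact h0
    have h2 : 2 ^ k ∣ 2 ^ 7 :=
      (Nat.Coprime.pow_left k (by norm_num : Nat.Coprime 2 3465)).dvd_of_dvd_mul_right h1
    rw [← orderOf_dvd_iff_pow_eq_one, hk]; exact h2
  · intro h
    have h1 : orderOf x ∣ 2 ^ 7 := by rw [orderOf_dvd_iff_pow_eq_one]; exact h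
    obtain ⟨k, -, hk⟩ := (Nat.dvd_prime_pow Nat.prime_two).mp h1
    exact ⟨k, hk⟩

theorem pRegular_iff_pow [Finite G] (hcard : Nat.card G = 2 ^ 7 * 3 ^ 2 * 5 * 7 * 11) (y : G) :
    ¬ 2 ∣ orderOf y ↔ y ^ 3465 = 1 := by
  constructor
  · intro h
    have h1 : orderOf y ∣ 2 ^ 7 * 3465 := by
      have h0 := orderOf_dvd_natCard y
      rw [hcard] at h0
      exact h0
    have h2 : Nat.Coprime (orderOf y) (2 ^ 7) :=
      Nat.Coprime.pow_right 7
        (Nat.Coprime.symm ((Nat.Prime.coprime_iff_not_dvd Nat.prime_two).mpr h))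
    rw [← orderOf_dvd_iff_pow_eq_one]
    exact h2.dvd_of_dvd_mul_left h1
  · intro h h2
    have h1 : orderOf y ∣ 3465 := by rw [orderOf_dvd_iff_pow_eq_one]; exact h
    have := dvd_trans h2 h1
    omega

theorem good_iff_pow [Finite G] (hcard : Nat.card G = 2 ^ 7 * 3 ^ 2 * 5 * 7 * 11) (g x : G) :
    ((∃ k : ℕ, orderOf x = 2 ^ k) ∧ ¬ 2 ∣ orderOf (x⁻¹ * g)) ↔
      (x ^ 128 = 1 ∧ (x⁻¹ * g) ^ 3465 = 1) := by
  rw [pElement_iff_pow hcard, pRegular_iff_pow hcard]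

/-- an elementary abelian subgroup of order `9` generated by `a`, `b`, all of whose nonidentity
elements are conjugate to `a` or `a⁻¹` -/
theorem exists_E [Finite G] (h27 : ¬ 27 ∣ Nat.card G) (a b : G) (ha : a ^ 3 = 1) (hb : b ^ 3 = 1)
    (hab : a * b = b * a) (ha1 : a ≠ 1) (hb1 : b ≠ 1) (hba : b ≠ a) (hba2 : b ≠ a ^ 2)
    (c1 c2 c3 : G) (h1 : c1 * b * c1⁻¹ = a ∨ c1 * b * c1⁻¹ = a⁻¹)
    (h2 : c2 * (a * b) * c2⁻¹ = a ∨ c2 * (a * b) * c2⁻¹ = a⁻¹)
    (h3 : c3 * (a * b ^ 2) * c3⁻¹ = a ∨ c3 * (a * b ^ 2) * c3⁻¹ = a⁻¹) :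
    ∃ E : Subgroup G, Nat.card E = 9 ∧
      ∀ x ∈ E, x ≠ 1 → ∃ c : G, c * x * c⁻¹ = a ∨ c * x * c⁻¹ = a⁻¹ := by
  have hcomm : Commute a b := hab
  have oa : orderOf a = 3 := orderOf_eq_prime ha ha1
  have ob : orderOf b = 3 := orderOf_eq_prime hb hb1
  let E : Subgroup G :=
    { carrier := {x | ∃ i j : ℕ, x = a ^ i * b ^ j}
      mul_mem' := by
        rintro _ _ ⟨i, j, rfl⟩ ⟨k, l, rfl⟩
        refine ⟨i + k, j + l, ?_⟩
        have h : Commute (b ^ j) (a ^ k) := (hcomm.pow_pow k j).symm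
        calc a ^ i * b ^ j * (a ^ k * b ^ l) = a ^ i * (b ^ j * a ^ k) * b ^ l := by group
          _ = a ^ i * (a ^ k * b ^ j) * b ^ l := by rw [h.eq]
          _ = a ^ (i + k) * b ^ (j + l) := by rw [pow_add, pow_add]; group
      one_mem' := ⟨0, 0, by simp⟩
      inv_mem' := by
        rintro _ ⟨i, j, rfl⟩
        refine ⟨2 * i, 2 * j, ?_⟩
        have h : Commute (a ^ i) (b ^ j) := hcomm.pow_pow i j
        apply inv_eq_of_mul_eq_one_right
        calc a ^ i * b ^ j * (a ^ (2 * i) * b ^ (2 * j))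
            = a ^ i * (b ^ j * a ^ (2 * i)) * b ^ (2 * j) := by group
          _ = a ^ i * (a ^ (2 * i) * b ^ j) * b ^ (2 * j) := by
              rw [((hcomm.pow_pow (2 * i) j).symm).eq]
          _ = a ^ (3 * i) * b ^ (3 * j) := by
              rw [show 3 * i = i + 2 * i by ring, show 3 * j = j + 2 * j by ring, pow_add,
                pow_add]; group
          _ = 1 := by rw [pow_mul, pow_mul, ha, hb, one_pow, one_pow, one_mul] }
  have hmem : ∀ x, x ∈ E ↔ ∃ i j : ℕ, x = a ^ i * b ^ j := fun x => Iff.rfl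
  have hmem3 : ∀ x ∈ E, ∃ i j : ℕ, i < 3 ∧ j < 3 ∧ x = a ^ i * b ^ j := by
    intro x hx
    obtain ⟨i, j, rfl⟩ := (hmem x).mp hx
    refine ⟨i % 3, j % 3, Nat.mod_lt _ (by norm_num), Nat.mod_lt _ (by norm_num), ?_⟩
    rw [← oa, pow_mod_orderOf, oa, ← ob, pow_mod_orderOf]
  have haE : a ∈ E := ⟨1, 0, by simp⟩
  have hbE : b ∈ E := ⟨0, 1, by simp⟩
  -- `E` is a `3`-group
  have hE3 : IsPGroup 3 E := by
    rintro ⟨x, hx⟩
    refine ⟨1, ?_⟩
    obtain ⟨i, j, rfl⟩ := (hmem x).mp hx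
    apply Subtype.ext
    have h : Commute (a ^ i) (b ^ j) := hcomm.pow_pow i j
    show (a ^ i * b ^ j) ^ 3 ^ 1 = 1
    rw [pow_one, h.mul_pow, ← pow_mul, ← pow_mul, mul_comm i 3, mul_comm j 3, pow_mul, pow_mul,
      ha, hb, one_pow, one_pow, one_mul]
  obtain ⟨n, hn⟩ := IsPGroup.iff_card.mp hE3
  have hza : Subgroup.zpowers a ≤ E := by rw [Subgroup.zpowers_le]; exact haE
  have hzacard : Nat.card (Subgroup.zpowers a) = 3 := by rw [Nat.card_zpowers, oa]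
  have hn2 : 2 ≤ n := by
    by_contra hlt
    have hn1 : n ≤ 1 := by omega
    have hle : Nat.card E ≤ Nat.card (Subgroup.zpowers a) := by
      rw [hn, hzacard]
      calc 3 ^ n ≤ 3 ^ 1 := Nat.pow_le_pow_right (by norm_num) hn1
        _ = 3 := by norm_num
    have heq := Subgroup.eq_of_le_of_card_ge hza hle
    have hbz : b ∈ Subgroup.zpowers a := by rw [heq]; exact hbE
    obtain ⟨m, hm⟩ := (Submonoid.mem_powers_iff b a).mp
      ((mem_powers_iff_mem_zpowers (x := a) (y := b)).mpr hbz)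
    have hm' : a ^ (m % 3) = b := by rw [← oa, pow_mod_orderOf]; exact hm
    have hlt3 : m % 3 < 3 := Nat.mod_lt _ (by norm_num)
    interval_cases (m % 3)
    · exact hb1 (by simpa using hm'.symm)
    · exact hba (by simpa using hm'.symm)
    · exact hba2 hm'.symm
  have hn2' : n ≤ 2 := by
    by_contra hgt
    have h3 : 3 ≤ n := by omega
    apply h27
    have hd : Nat.card E ∣ Nat.card G := Subgroup.card_subgroup_dvd_card E
    rw [hn] at hd
    exact dvd_trans (pow_dvd_pow 3 h3) hd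
  have hn' : n = 2 := le_antisymm hn2' hn2
  refine ⟨E, by rw [hn, hn']; norm_num, ?_⟩
  -- conjugacy
  have hQinv : ∀ x : G, (∃ c : G, c * x * c⁻¹ = a ∨ c * x * c⁻¹ = a⁻¹) →
      ∃ c : G, c * x⁻¹ * c⁻¹ = a ∨ c * x⁻¹ * c⁻¹ = a⁻¹ := by
    rintro x ⟨c, h | h⟩
    · refine ⟨c, Or.inr ?_⟩
      rw [← h]; group
    · refine ⟨c, Or.inl ?_⟩
      have : c * x⁻¹ * c⁻¹ = (c * x * c⁻¹)⁻¹ := by group
      rw [this, h, inv_inv]
  have a2 : a ^ 2 = a⁻¹ := by
    apply eq_inv_of_mul_eq_one_left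
    rw [← pow_succ]; exact ha
  have b2 : b ^ 2 = b⁻¹ := by
    apply eq_inv_of_mul_eq_one_left
    rw [← pow_succ]; exact hb
  intro x hx hx1
  obtain ⟨i, j, hi, hj, rfl⟩ := hmem3 x hx
  interval_cases i <;> interval_cases j
  · exact absurd (by simp) hx1
  · simpa using (⟨c1, h1⟩ : ∃ c : G, c * b * c⁻¹ = a ∨ c * b * c⁻¹ = a⁻¹)
  · have := hQinv b ⟨c1, h1⟩
    simpa [b2] using this
  · exact ⟨1, Or.inl (by simp)⟩
  · simpa using (⟨c2, h2⟩ : ∃ c : G, c * (a * b) * c⁻¹ = a ∨ c * (a * b) * c⁻¹ = a⁻¹)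
  · simpa using (⟨c3, h3⟩ : ∃ c : G, c * (a * b ^ 2) * c⁻¹ = a ∨ c * (a * b ^ 2) * c⁻¹ = a⁻¹)
  · exact ⟨1, Or.inr (by simp [a2])⟩
  · -- a^2 b = (a b^2)⁻¹
    have h : a ^ 2 * b ^ 1 = (a * b ^ 2)⁻¹ := by
      rw [a2, b2, pow_one]
      have h' : Commute a⁻¹ b := hcomm.inv_left
      rw [h'.eq]; group
    rw [h]; exact hQinv _ ⟨c3, h3⟩
  · have h : a ^ 2 * b ^ 2 = (a * b)⁻¹ := by
      rw [a2, b2]
      have h' : Commute a⁻¹ b⁻¹ := hcomm.inv_inv
      rw [h'.eq]; group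
    rw [h]; exact hQinv _ ⟨c2, h2⟩

end Cfsg.Agent.Lib.Helper20.OneBlock
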