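import Mathlib
import Cfsg.Agent.Lib.Helper13.TensSODefs
import Cfsg.Agent.Lib.Helper13.S5666FOAPI
import Cfsg.Agent.Lib.Helper20.S5666ExitDefs
import Cfsg.Agent.Lib.Helper6.S5666ET3Z
import Cfsg.Agent.Lib.Helper6.S5666ET3S
import Cfsg.Agent.Lib.Helper6.S5666ET3J
import Cfsg.Agent.Lib.Helper19.S5666EOJ

/-!
# S5666: the exit for `a ≥ 4`, second half — `exists_transvection_A` (A-T3c, rev 2: singular centre)  (helper20)

Assembly of the T3 pieces of `notes/S5666ExitASkel_helper20.lean.txt`: `fix_struct`, `zU_add`, `zU_zero`, `zU_smul_one`, `zU_isTv`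
(helper6, T3-Z), `zU_conj_mem`, `zU_smul_mem` (helper6, T3-S), `jordan_rule` (helper6, T3-J), `oj_rank_one` (helper19, T3-OJ).
-/

set_option autoImplicit false

namespace Cfsg.Agent.Lib.Helper20.S5666ExitA

open Matrix Module
open Cfsg.Agent.Lib.Helper16.Tens Cfsg.Agent.Lib.Helper10.TensFund Cfsg.Agent.Lib.Helper13.TensSO
open Cfsg.Agent.Lib.Helper28.TensU (ctrL ctrL_apply ctrL_pur hypL mem_hypL_iff ptL mem_ptL_iff pur_mem_ptL rootGLL
  rootGLL_val act_rootGLL rootGLL_mem_SL rootGLL_mem_kron)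
open Cfsg.Agent.Lib.Helper3.SpT (bf SympG E E_mulVec E_mul_E uni uni_val uni_inv_val)
open Cfsg.Agent.Lib.Helper23.S5637T3b (kronGL kronGL_val kronGL_mem_kron)
open Cfsg.Agent.Lib.Helper20.S5666Exit
open scoped Kronecker

variable {F : Type*} [Field F] [Fintype F] {a b : ℕ}
variable {J1 : Matrix (Fin a) (Fin a) F} {J2 : Matrix (Fin b) (Fin b) F}
variable {M : Subgroup (GL (Fin a × Fin b) F)}

open Cfsg.Agent.Lib.Helper13.S5666API (rU_mem_iso)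
open Cfsg.Agent.Lib.Helper6.S5666ET3Z (zU_add zU_zero zU_smul_one zU_isTv fix_struct)
open Cfsg.Agent.Lib.Helper6.S5666ET3S (zU_conj_mem zU_smul_mem)
open Cfsg.Agent.Lib.Helper6.S5666ET3J (jordan_rule)
open Cfsg.Agent.Lib.Helper19.S5666EOJ (oj_rank_one)

omit [Fintype F] in
/-- two transvections with the same data are equal -/
theorem isTv_unique' {κ : Type} [Fintype κ] [DecidableEq κ] (J : Matrix κ κ F) (x : κ → F) (c : F)
    (t t' : GL κ F) (h : IsTv J x c t) (h' : IsTv J x c t') : t = t' := by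
  apply Units.ext
  ext i j
  have h1 := congrFun (h (Pi.single j 1)) i
  have h2 := congrFun (h' (Pi.single j 1)) i
  rw [Matrix.mulVec_single_one] at h1 h2
  change (t : Matrix κ κ F) i j = _ at h1
  change (t' : Matrix κ κ F) i j = _ at h2
  rw [h1, h2]

/-- A-T3c of notes/S5666Skel_helper13.lean.txt (rev 2: singular centre) -/
theorem exists_transvection_A (hS : SetupSO J1 J2) (_ha : 2 ≤ a) (hb : 3 ≤ b)
    (hex : ¬ (Fintype.card F = 3 ∧ b = 3)) (hM : OverS J1 J2 M)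
    (z : GL (Fin a × Fin b) F) (hz : z ∈ M) (hzK : z ∉ Cfsg.Geo.kroneckerSubgroup a b F) (u₀ : Fin a → F)
    (hu0 : u₀ ≠ 0) (hfix : ∀ v ∈ hypL (b := b) (J1 *ᵥ u₀), act z v = v) :
    ∃ w : Fin b → F, w ≠ 0 ∧ bf J2 w w = 0 ∧
      ∀ (c : F) (t : GL (Fin a × Fin b) F), IsTv (J1 ⊗ₖ J2) (pur u₀ w) c t → t ∈ M := by
  obtain ⟨σ₀, hσ₀adj, rfl⟩ := fix_struct hS u₀ hu0 z (hM.le_iso hz) hfix
  let S : Submodule F (Matrix (Fin b) (Fin b) F) :=
    { carrier := {σ | (∀ w w', bf J2 (σ *ᵥ w) w' = bf J2 w (σ *ᵥ w')) ∧ zU J1 hS.h1 u₀ σ ∈ M}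
      add_mem' := by
        rintro σ τ ⟨h1, h2⟩ ⟨h3, h4⟩
        refine ⟨fun w w' => ?_, ?_⟩
        · rw [Matrix.add_mulVec, Matrix.add_mulVec, Cfsg.Agent.Lib.Helper3.SpT.bf_add_left,
            Cfsg.Agent.Lib.Helper3.SpT.bf_add_right, h1, h3]
        · rw [← zU_add]
          exact M.mul_mem h2 h4
      zero_mem' := by
        refine ⟨fun w w' => ?_, ?_⟩
        · simp
        · rw [zU_zero]
          exact M.one_mem
      smul_mem' := by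
        rintro c σ ⟨h1, h2⟩
        refine ⟨fun w w' => ?_, zU_smul_mem hS hM u₀ hu0 σ h2 c⟩
        rw [Matrix.smul_mulVec, Matrix.smul_mulVec, Cfsg.Agent.Lib.Helper3.SpT.bf_smul_left,
          Cfsg.Agent.Lib.Helper3.SpT.bf_smul_right, h1] }
  have hmemS : ∀ σ, σ ∈ S ↔ (∀ w w', bf J2 (σ *ᵥ w) w' = bf J2 w (σ *ᵥ w')) ∧ zU J1 hS.h1 u₀ σ ∈ M :=
    fun σ => Iff.rfl
  have hone : (1 : Matrix (Fin b) (Fin b) F) ∈ S := by
    rw [hmemS]
    refine ⟨fun w w' => by simp, ?_⟩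
    have h1 : (1 : Matrix (Fin b) (Fin b) F) = (1 : F) • (1 : Matrix (Fin b) (Fin b) F) := by rw [one_smul]
    rw [h1, zU_smul_one]
    exact hM.kron_mem _ (rU_mem_kron J1 hS.h1 u₀ 1) (rU_mem_iso hS.h1 u₀ 1)
  have hconj : ∀ B : GL (Fin b) F,
      (∀ x y, bf J2 ((B : Matrix (Fin b) (Fin b) F) *ᵥ x) ((B : Matrix (Fin b) (Fin b) F) *ᵥ y) = bf J2 x y) →
      ∀ σ ∈ S, (B : Matrix (Fin b) (Fin b) F) * σ * ((B⁻¹ : GL (Fin b) F) : Matrix (Fin b) (Fin b) F) ∈ S := by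
    intro B hB σ hσ
    rw [hmemS] at hσ ⊢
    refine ⟨fun w w' => ?_, zU_conj_mem hS hM u₀ σ hσ.2 B hB⟩
    have hBi : ∀ x y, bf J2 (((B⁻¹ : GL (Fin b) F) : Matrix (Fin b) (Fin b) F) *ᵥ x) y =
        bf J2 x ((B : Matrix (Fin b) (Fin b) F) *ᵥ y) := by
      intro x y
      have := hB (((B⁻¹ : GL (Fin b) F) : Matrix (Fin b) (Fin b) F) *ᵥ x) y
      rw [Matrix.mulVec_mulVec, ← Units.val_mul, mul_inv_cancel, Units.val_one, Matrix.one_mulVec] at this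
      exact this.symm
    have hBi' : ∀ x y, bf J2 ((B : Matrix (Fin b) (Fin b) F) *ᵥ x) y =
        bf J2 x (((B⁻¹ : GL (Fin b) F) : Matrix (Fin b) (Fin b) F) *ᵥ y) := by
      intro x y
      rw [hS.h2.symm, ← hBi, hS.h2.symm]
    rw [← Matrix.mulVec_mulVec, ← Matrix.mulVec_mulVec, hBi', hσ.1, hBi, Matrix.mulVec_mulVec, Matrix.mulVec_mulVec,
      Matrix.mul_assoc]
  have hJ : ∀ σ ∈ S, ∀ τ ∈ S, τ * σ * τ = 0 → σ * τ + τ * σ ∈ S ∧ σ * τ * τ * σ ∈ S := by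
    intro σ hσ τ hτ h0
    rw [hmemS] at hσ hτ
    obtain ⟨hj1, hj2⟩ := jordan_rule hS hM u₀ hu0 σ τ hσ.1 hτ.1 hσ.2 hτ.2 h0
    refine ⟨(hmemS _).2 ⟨fun w w' => ?_, hj1⟩, (hmemS _).2 ⟨fun w w' => ?_, hj2⟩⟩
    · rw [Matrix.add_mulVec, Matrix.add_mulVec, Cfsg.Agent.Lib.Helper3.SpT.bf_add_left,
        Cfsg.Agent.Lib.Helper3.SpT.bf_add_right, ← Matrix.mulVec_mulVec, ← Matrix.mulVec_mulVec,
        ← Matrix.mulVec_mulVec, ← Matrix.mulVec_mulVec, hσ.1, hτ.1, hτ.1, hσ.1, add_comm]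
    · rw [← Matrix.mulVec_mulVec, ← Matrix.mulVec_mulVec, ← Matrix.mulVec_mulVec, ← Matrix.mulVec_mulVec,
        ← Matrix.mulVec_mulVec, ← Matrix.mulVec_mulVec, hσ.1, hτ.1, hτ.1, hσ.1]
  have hσ₀S : σ₀ ∈ S := (hmemS _).2 ⟨hσ₀adj, hz⟩
  have hns : ∀ c : F, σ₀ ≠ c • (1 : Matrix (Fin b) (Fin b) F) := by
    intro c hc
    apply hzK
    rw [hc, zU_smul_one]
    exact rU_mem_kron J1 hS.h1 u₀ c
  obtain ⟨w, c, hw, hsing, hc, hmem⟩ := oj_rank_one hS.h2 hS.two hb hex S (fun σ hσ => ((hmemS σ).1 hσ).1) hone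
    hconj hJ σ₀ hσ₀S hns
  refine ⟨w, hw, hsing, ?_⟩
  intro c' t ht
  have h1 : c' • E J2 w w ∈ S := by
    have : c' • E J2 w w = (c' / c) • (c • E J2 w w) := by
      rw [smul_smul, div_mul_cancel₀ _ hc]
    rw [this]
    exact S.smul_mem _ hmem
  have h2 := ((hmemS _).1 h1).2
  rw [isTv_unique' _ _ _ t _ ht (zU_isTv hS.h1 u₀ w c')]
  exact h2

end Cfsg.Agent.Lib.Helper20.S5666ExitA
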