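import Mathlib
import Cfsg.Agent.Lib.Helper13.TensSODefs
import Cfsg.Agent.Lib.Helper13.S5666FOAPI
import Cfsg.Agent.Lib.Helper20.S5666ExitDefs

/-!
# S5666 EXIT, piece E-CLS0: the class calculus, basic part (helper20)

`exists_cls`, `Cls.congr`, `cls_mul`, `cls_inv`, `cls_self` of `notes/S5666ExitASkel_helper20.lean.txt`, exact signatures.
-/

set_option autoImplicit false

namespace Cfsg.Agent.Lib.Helper20.S5666ECLS0

open Matrix Module
open Cfsg.Agent.Lib.Helper16.Tens Cfsg.Agent.Lib.Helper10.TensFund Cfsg.Agent.Lib.Helper13.TensSO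
open Cfsg.Agent.Lib.Helper28.TensU (ctrL ctrL_apply ctrL_pur hypL mem_hypL_iff ptL mem_ptL_iff pur_mem_ptL rootGLL
  rootGLL_val act_rootGLL rootGLL_mem_SL rootGLL_mem_kron)
open Cfsg.Agent.Lib.Helper3.SpT (bf SympG E E_mulVec E_mul_E uni uni_val uni_inv_val)
open Cfsg.Agent.Lib.Helper20.S5666Exit
open scoped Kronecker

variable {F : Type*} [Field F] {a b : ℕ}
variable {J1 : Matrix (Fin a) (Fin a) F} {J2 : Matrix (Fin b) (Fin b) F}

/-- a pure tensor `u₀ ⊗ p` with `u₀ ≠ 0` vanishes only for `p = 0` -/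
theorem pur_left_inj {u₀ : Fin a → F} (hu0 : u₀ ≠ 0) {p p' : Fin b → F} (h : pur u₀ p = pur u₀ p') : p = p' := by
  have h0 : pur u₀ (p - p') = 0 := by
    have : pur u₀ (p - p') = pur u₀ p - pur u₀ p' := by
      rw [sub_eq_add_neg, pur_add_right, pur_neg_right, ← sub_eq_add_neg]
    rw [this, h, sub_self]
  rcases pur_eq_zero h0 with h1 | h1
  · exact absurd h1 hu0
  · exact sub_eq_zero.mp h1

/-- E-CLS (1) -/
theorem Cls.congr {u₀ : Fin a → F} {g : GL (Fin a × Fin b) F} {D D' : (Fin a → F) → Matrix (Fin b) (Fin b) F}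
    (h : Cls J1 J2 u₀ g D) (hDD : ∀ y, bf J1 y u₀ = 0 → D' y = D y) : Cls J1 J2 u₀ g D' :=
  ⟨h.iso, h.rad, fun y hy w => by rw [hDD y hy]; exact h.eq y hy w⟩

/-- E-CLS (2) -/
theorem cls_mul {u₀ : Fin a → F} {g g' : GL (Fin a × Fin b) F} {D D' : (Fin a → F) → Matrix (Fin b) (Fin b) F}
    (h : Cls J1 J2 u₀ g D) (h' : Cls J1 J2 u₀ g' D') : Cls J1 J2 u₀ (g * g') (fun y => D y + D' y) := by
  refine ⟨(IsoG (J1 ⊗ₖ J2)).mul_mem h.iso h'.iso, ⟨?_, ?_⟩, ?_⟩
  · intro v hv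
    rw [act_mul, h'.rad.fixL v hv, h.rad.fixL v hv]
  · intro v hv
    rw [act_mul]
    have h1 := h'.rad.modL v hv
    have h2 := h.rad.modL v hv
    have h3 : act g (act g' v) = act g v + (act g' v - v) := by
      have : act g' v = v + (act g' v - v) := by abel
      conv_lhs => rw [this]
      rw [map_add, h.rad.fixL _ h1]
    rw [h3]
    have : act g v + (act g' v - v) - v = (act g v - v) + (act g' v - v) := by abel
    rw [this]
    exact Submodule.add_mem _ h2 h1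
  · intro y hy w
    rw [act_mul, h'.eq y hy w, map_add, h.eq y hy w, h.rad.fixL _ (pur_mem_ptL u₀ _), Matrix.add_mulVec,
      pur_add_right]
    abel

/-- E-CLS (3) -/
theorem cls_inv {u₀ : Fin a → F} {g : GL (Fin a × Fin b) F} {D : (Fin a → F) → Matrix (Fin b) (Fin b) F}
    (h : Cls J1 J2 u₀ g D) : Cls J1 J2 u₀ g⁻¹ (fun y => - D y) := by
  have hfix : ∀ v ∈ ptL (b := b) u₀, act g⁻¹ v = v := by
    intro v hv
    have := h.rad.fixL v hv
    conv_lhs => rw [← this]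
    rw [act_inv_act]
  refine ⟨(IsoG (J1 ⊗ₖ J2)).inv_mem h.iso, ⟨hfix, ?_⟩, ?_⟩
  · intro v hv
    have h1 := h.rad.modL v hv
    -- `g v = v + l`, so `g⁻¹ v = v - l`
    have h2 : act g⁻¹ v = v - (act g v - v) := by
      have h3 : act g (v - (act g v - v)) = v := by
        rw [map_sub, h.rad.fixL _ h1]
        abel
      conv_lhs => rw [← h3]
      rw [act_inv_act]
    rw [h2]
    have : v - (act g v - v) - v = - (act g v - v) := by abel
    rw [this]
    exact Submodule.neg_mem _ h1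
  · intro y hy w
    have h3 : act g (pur y w + pur u₀ ((- D y) *ᵥ w)) = pur y w := by
      rw [map_add, h.eq y hy w, h.rad.fixL _ (pur_mem_ptL u₀ _), Matrix.neg_mulVec, pur_neg_right]
      abel
    conv_lhs => rw [← h3]
    rw [act_inv_act]

/-- E-CLS (4): the class at `u₀` vanishes -/
theorem cls_self (hJ1 : SympG J1) {u₀ : Fin a → F} (hu0 : u₀ ≠ 0) {g : GL (Fin a × Fin b) F}
    {D : (Fin a → F) → Matrix (Fin b) (Fin b) F} (h : Cls J1 J2 u₀ g D) : D u₀ = 0 := by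
  apply Cfsg.Agent.Lib.Helper3.SpT.mat_ext_mulVec
  intro w
  rw [Matrix.zero_mulVec]
  have h1 := h.eq u₀ (hJ1.alt u₀) w
  rw [h.rad.fixL _ (pur_mem_ptL u₀ w)] at h1
  have h2 : pur u₀ (D u₀ *ᵥ w) = pur u₀ (0 : Fin b → F) := by
    rw [pur_zero_right]
    have : pur u₀ w + pur u₀ (D u₀ *ᵥ w) = pur u₀ w + 0 := by rw [add_zero]; exact h1.symm
    exact add_left_cancel this
  exact pur_left_inj hu0 h2

/-- E-CLS (0) -/
theorem exists_cls (hS : SetupSO J1 J2) (u₀ : Fin a → F) (hu0 : u₀ ≠ 0) (g : GL (Fin a × Fin b) F)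
    (hgI : g ∈ IsoG (J1 ⊗ₖ J2)) (hg : InRadL J1 u₀ g) :
    ∃ D : (Fin a → F) →ₗ[F] Matrix (Fin b) (Fin b) F, Cls J1 J2 u₀ g (fun y => D y) := by
  obtain ⟨u', hu'⟩ := Cfsg.Agent.Lib.Helper13.S5666API.exists_bf_eq_one hS.h1 u₀ hu0
  -- `φ := J1 (-u')`: `ctrL φ (pur u₀ p) = p`
  have hφ : ∀ p : Fin b → F, ctrL (J1 *ᵥ (-u')) (pur u₀ p) = p := by
    intro p
    rw [ctrL_J_pur, Cfsg.Agent.Lib.Helper3.SpT.bf_neg_right, hS.h1.skew u₀ u', hu', neg_neg, one_smul]
  -- the linear map `y ↦ (w ↦ ctrL φ (g (y ⊗ w) - y ⊗ w))`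
  let T : (Fin a → F) →ₗ[F] ((Fin b → F) →ₗ[F] (Fin b → F)) :=
    { toFun := fun y => (ctrL (J1 *ᵥ (-u'))) ∘ₗ ((act g).toLinearMap - LinearMap.id) ∘ₗ (purR y)
      map_add' := by
        intro y y'
        ext w j
        simp only [LinearMap.comp_apply, LinearMap.sub_apply, LinearMap.id_apply, LinearEquiv.coe_coe, purR_apply,
          LinearMap.add_apply, pur_add_left, map_add, map_sub]
      map_smul' := by
        intro c y
        ext w j
        simp only [LinearMap.comp_apply, LinearMap.sub_apply, LinearMap.id_apply, LinearEquiv.coe_coe, purR_apply,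
          LinearMap.smul_apply, pur_smul_left, map_smul, map_sub, RingHom.id_apply] }
  refine ⟨(LinearMap.toMatrix' : ((Fin b → F) →ₗ[F] (Fin b → F)) ≃ₗ[F] Matrix (Fin b) (Fin b) F).toLinearMap ∘ₗ T,
    hgI, hg, ?_⟩
  intro y hy w
  have hmem : pur y w ∈ hypL (b := b) (J1 *ᵥ u₀) := by
    rw [mem_hypL_iff, ctrL_J_pur, hy, zero_smul]
  obtain ⟨p, hp⟩ := (mem_ptL_iff u₀ _).1 (hg.modL _ hmem)
  have h1 : (LinearMap.toMatrix' (T y)) *ᵥ w = p := by
    rw [LinearMap.toMatrix'_mulVec]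
    change ctrL (J1 *ᵥ (-u')) (act g (pur y w) - pur y w) = p
    rw [← hp, hφ]
  change act g (pur y w) = pur y w + pur u₀ ((LinearMap.toMatrix' (T y)) *ᵥ w)
  rw [h1, hp]
  abel

end Cfsg.Agent.Lib.Helper20.S5666ECLS0
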