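import Mathlib
import Cfsg.Agent.Lib.Helper13.TensSODefs
import Cfsg.Agent.Lib.Helper13.S5666FOAPI
import Cfsg.Agent.Lib.Helper20.S5666ExitDefs
import Cfsg.Agent.Lib.Helper20.S5666ES

/-!
# S5666 EXIT, piece E-COMM: the commutator formula `cls_comm_pure` (helper20)

Exact signature of `notes/S5666ExitASkel_helper20.lean.txt`.  With `δᵢ = gᵢ - 1`:  `[g₁,g₂] = 1 + δ₁δ₂ - δ₂δ₁`,
`f(δ₁δ₂ v, t) = f(δ₁ t, δ₂ v)`.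
-/

set_option autoImplicit false

namespace Cfsg.Agent.Lib.Helper20.S5666ECOMM

open Matrix Module
open Cfsg.Agent.Lib.Helper16.Tens Cfsg.Agent.Lib.Helper10.TensFund Cfsg.Agent.Lib.Helper13.TensSO
open Cfsg.Agent.Lib.Helper28.TensU (ctrL ctrL_apply ctrL_pur hypL mem_hypL_iff ptL mem_ptL_iff pur_mem_ptL rootGLL
  rootGLL_val act_rootGLL rootGLL_mem_SL rootGLL_mem_kron)
open Cfsg.Agent.Lib.Helper3.SpT (bf SympG E E_mulVec E_mul_E uni uni_val uni_inv_val bf_add_left bf_add_right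
  bf_smul_left bf_smul_right bf_sub_left bf_sub_right bf_neg_left bf_neg_right bf_kron_pur)
open Cfsg.Agent.Lib.Helper13.S5666API (bf_kron_pur_right' mem_hypL_iff_perp)
open Cfsg.Agent.Lib.Helper13.S5666T4 (bf_kron_skew)
open Cfsg.Agent.Lib.Helper20.S5666Exit
open scoped Kronecker

variable {F : Type*} [Field F] {a b : ℕ}
variable {J1 : Matrix (Fin a) (Fin a) F} {J2 : Matrix (Fin b) (Fin b) F}

/-- `δ_g = g - 1` -/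
def dl (g : GL (Fin a × Fin b) F) : (Fin a × Fin b → F) →ₗ[F] (Fin a × Fin b → F) :=
  (act g).toLinearMap - LinearMap.id

theorem dl_apply (g : GL (Fin a × Fin b) F) (v : Fin a × Fin b → F) : dl g v = act g v - v := rfl

theorem act_eq (g : GL (Fin a × Fin b) F) (v : Fin a × Fin b → F) : act g v = v + dl g v := by
  rw [dl_apply]; abel

theorem isoG_act {g : GL (Fin a × Fin b) F} (hgI : g ∈ IsoG (J1 ⊗ₖ J2)) (x y : Fin a × Fin b → F) :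
    bf (J1 ⊗ₖ J2) (act g x) (act g y) = bf (J1 ⊗ₖ J2) x y := hgI x y

/-- `(g - 1) V ≤ u₀^⊥ ⊗ W` -/
theorem dl_mem_hypL (hS : SetupSO J1 J2) {u₀ : Fin a → F} {g : GL (Fin a × Fin b) F}
    (hgI : g ∈ IsoG (J1 ⊗ₖ J2)) (hg : InRadL J1 u₀ g) (v : Fin a × Fin b → F) :
    dl g v ∈ hypL (b := b) (J1 *ᵥ u₀) := by
  rw [mem_hypL_iff_perp hS]
  intro x hx
  rw [dl_apply, bf_sub_left]
  have h1 := isoG_act hgI v x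
  rw [hg.fixL x hx] at h1
  rw [h1, sub_self]

theorem dl_mem_ptL {u₀ : Fin a → F} {g : GL (Fin a × Fin b) F} (hg : InRadL J1 u₀ g) {h : Fin a × Fin b → F}
    (hh : h ∈ hypL (b := b) (J1 *ᵥ u₀)) : dl g h ∈ ptL (b := b) u₀ := hg.modL h hh

theorem dl_ptL {u₀ : Fin a → F} {g : GL (Fin a × Fin b) F} (hg : InRadL J1 u₀ g) {l : Fin a × Fin b → F}
    (hl : l ∈ ptL (b := b) u₀) : dl g l = 0 := by
  rw [dl_apply, hg.fixL l hl, sub_self]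

/-- `f((g-1) v, h) = - f(v, (g-1) h)` for `h ∈ u₀^⊥ ⊗ W` -/
theorem perp_rel' (hS : SetupSO J1 J2) {u₀ : Fin a → F} {g : GL (Fin a × Fin b) F}
    (hgI : g ∈ IsoG (J1 ⊗ₖ J2)) (hg : InRadL J1 u₀ g) (v h : Fin a × Fin b → F)
    (hh : h ∈ hypL (b := b) (J1 *ᵥ u₀)) :
    bf (J1 ⊗ₖ J2) (dl g v) h = - bf (J1 ⊗ₖ J2) v (dl g h) := by
  have h1 := isoG_act hgI v h
  rw [act_eq g v, act_eq g h, bf_add_left, bf_add_right, bf_add_right] at h1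
  have h2 : bf (J1 ⊗ₖ J2) (dl g v) (dl g h) = 0 :=
    (mem_hypL_iff_perp hS u₀ _).1 (dl_mem_hypL hS hgI hg v) _ (dl_mem_ptL hg hh)
  rw [h2] at h1
  linear_combination h1

/-- the commutator: `[g₁,g₂] v - v = δ₁ δ₂ v - δ₂ δ₁ v` -/
theorem comm_sub (hS : SetupSO J1 J2) {u₀ : Fin a → F} {g₁ g₂ : GL (Fin a × Fin b) F}
    (h1I : g₁ ∈ IsoG (J1 ⊗ₖ J2)) (h1 : InRadL J1 u₀ g₁) (h2I : g₂ ∈ IsoG (J1 ⊗ₖ J2)) (h2 : InRadL J1 u₀ g₂)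
    (v : Fin a × Fin b → F) :
    act (g₁ * g₂ * g₁⁻¹ * g₂⁻¹) v - v = dl g₁ (dl g₂ v) - dl g₂ (dl g₁ v) := by
  -- `Δ := δ₁δ₂ - δ₂δ₁` kills `P0`
  have hΔ0 : ∀ p ∈ hypL (b := b) (J1 *ᵥ u₀), dl g₁ (dl g₂ p) - dl g₂ (dl g₁ p) = 0 := by
    intro p hp
    rw [dl_ptL h1 (dl_mem_ptL h2 hp), dl_ptL h2 (dl_mem_ptL h1 hp), sub_self]
  set t := act (g₂ * g₁)⁻¹ v with ht
  have hv : v = act (g₂ * g₁) t := by rw [ht, act_act_inv]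
  have hz : act (g₁ * g₂ * g₁⁻¹ * g₂⁻¹) v = act (g₁ * g₂) t := by
    rw [hv, ← act_mul]
    congr 1
    group
  -- `g₁ g₂ t - g₂ g₁ t = Δ t`
  have hΔt : act (g₁ * g₂) t - act (g₂ * g₁) t = dl g₁ (dl g₂ t) - dl g₂ (dl g₁ t) := by
    rw [act_mul, act_mul, act_eq g₂ t, act_eq g₁ t, act_eq g₁ (t + dl g₂ t), act_eq g₂ (t + dl g₁ t), map_add, map_add]
    abel
  -- `v = t + p`, `p ∈ P0`
  have hp : v - t ∈ hypL (b := b) (J1 *ᵥ u₀) := by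
    rw [hv, act_mul, act_eq g₁ t, act_eq g₂ (t + dl g₁ t), map_add]
    have e : t + dl g₁ t + (dl g₂ t + dl g₂ (dl g₁ t)) - t = dl g₁ t + dl g₂ t + dl g₂ (dl g₁ t) := by abel
    rw [e]
    exact Submodule.add_mem _ (Submodule.add_mem _ (dl_mem_hypL hS h1I h1 t) (dl_mem_hypL hS h2I h2 t))
      (dl_mem_hypL hS h2I h2 _)
  have hΔv : dl g₁ (dl g₂ v) - dl g₂ (dl g₁ v) = dl g₁ (dl g₂ t) - dl g₂ (dl g₁ t) := by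
    have e : v = t + (v - t) := by abel
    have := hΔ0 _ hp
    conv_lhs => rw [e]
    rw [map_add, map_add, map_add, map_add]
    have e2 : dl g₁ (dl g₂ t) + dl g₁ (dl g₂ (v - t)) - (dl g₂ (dl g₁ t) + dl g₂ (dl g₁ (v - t))) =
        (dl g₁ (dl g₂ t) - dl g₂ (dl g₁ t)) + (dl g₁ (dl g₂ (v - t)) - dl g₂ (dl g₁ (v - t))) := by abel
    rw [e2, this, add_zero]
  rw [hΔv, ← hΔt, hz]
  conv_lhs => rw [hv]

/-- `f(δ₁ δ₂ v, t) = f(δ₁ t, δ₂ v)` -/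
theorem bf_dl_dl (hS : SetupSO J1 J2) {u₀ : Fin a → F} {g₁ g₂ : GL (Fin a × Fin b) F}
    (h1I : g₁ ∈ IsoG (J1 ⊗ₖ J2)) (h1 : InRadL J1 u₀ g₁) (h2I : g₂ ∈ IsoG (J1 ⊗ₖ J2)) (h2 : InRadL J1 u₀ g₂)
    (v t : Fin a × Fin b → F) :
    bf (J1 ⊗ₖ J2) (dl g₁ (dl g₂ v)) t = bf (J1 ⊗ₖ J2) (dl g₁ t) (dl g₂ v) := by
  rw [perp_rel' hS h1I h1 t _ (dl_mem_hypL hS h2I h2 v), bf_kron_skew hS t]
  ring

/-- the pure class on all of `P0` -/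
theorem dl_pure_class {u₀ : Fin a → F} {g₂ : GL (Fin a × Fin b) F} (x₂ : Fin a → F) (K₂ : Matrix (Fin b) (Fin b) F)
    (h2 : Cls J1 J2 u₀ g₂ (fun y => bf J1 y x₂ • K₂)) (q : Fin a × Fin b → F)
    (hq : q ∈ hypL (b := b) (J1 *ᵥ u₀)) :
    dl g₂ q = pur u₀ (K₂ *ᵥ ctrL (J1 *ᵥ x₂) q) := by
  have := Cfsg.Agent.Lib.Helper20.S5666ES.eq_on_hypL (J1 := J1) u₀ (dl g₂)
    ((purR u₀) ∘ₗ (Matrix.toLin' K₂) ∘ₗ (ctrL (J1 *ᵥ x₂))) (fun y w hy => by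
      rw [dl_apply, h2.eq y hy w, add_sub_cancel_left]
      simp only [LinearMap.comp_apply, purR_apply, Matrix.toLin'_apply, ctrL_J_pur, Matrix.smul_mulVec,
        Matrix.mulVec_smul]) q hq
  rw [this]
  simp only [LinearMap.comp_apply, purR_apply, Matrix.toLin'_apply]

/-- the key evaluation -/
theorem key (hS : SetupSO J1 J2) (u₀ : Fin a → F) (g₁ g₂ : GL (Fin a × Fin b) F)
    (D₁ : (Fin a → F) → Matrix (Fin b) (Fin b) F) (x₂ : Fin a → F) (K₂ K₂' : Matrix (Fin b) (Fin b) F)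
    (hx₂ : bf J1 x₂ u₀ = 0) (h1 : Cls J1 J2 u₀ g₁ D₁) (h2 : Cls J1 J2 u₀ g₂ (fun y => bf J1 y x₂ • K₂))
    (hadj : ∀ w w', bf J2 (K₂ *ᵥ w) w' = bf J2 w (K₂' *ᵥ w'))
    (u' u'' : Fin a → F) (w w' : Fin b → F) :
    bf (J1 ⊗ₖ J2) (dl g₁ (pur u'' w')) (dl g₂ (pur u' w)) =
      -(bf J1 u' u₀ * bf J1 u'' u₀) * bf J2 w' ((D₁ x₂ * K₂') *ᵥ w) := by
  set q := dl g₁ (pur u'' w') with hq
  have hqP : q ∈ hypL (b := b) (J1 *ᵥ u₀) := dl_mem_hypL hS h1.iso h1.rad _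
  -- `f(q, δ₂ v) = f(v, δ₂ q)`
  have e1 : bf (J1 ⊗ₖ J2) q (dl g₂ (pur u' w)) = bf (J1 ⊗ₖ J2) (pur u' w) (dl g₂ q) := by
    rw [bf_kron_skew hS q, perp_rel' hS h2.iso h2.rad _ q hqP, neg_neg]
  rw [e1, dl_pure_class x₂ K₂ h2 q hqP, bf_kron_pur]
  -- `f₂(w, K₂ c) = f₂(c, K₂' w)`, `c = ctrL (J1 x₂) q`
  have e2 : bf J2 w (K₂ *ᵥ ctrL (J1 *ᵥ x₂) q) = bf J2 (ctrL (J1 *ᵥ x₂) q) (K₂' *ᵥ w) := by
    rw [hS.h2.symm, hadj]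
  rw [e2, ← bf_kron_pur_right']
  -- `f(δ₁ t, x₂ ⊗ K₂' w) = - f(t, δ₁ (x₂ ⊗ K₂' w))`
  have hmem : pur x₂ (K₂' *ᵥ w) ∈ hypL (b := b) (J1 *ᵥ u₀) := by
    rw [mem_hypL_iff, ctrL_J_pur, hx₂, zero_smul]
  rw [hq, perp_rel' hS h1.iso h1.rad _ _ hmem, dl_apply, h1.eq x₂ hx₂, add_sub_cancel_left, bf_kron_pur,
    Matrix.mulVec_mulVec]
  ring

/-- E-CLS (7): THE COMMUTATOR FORMULA -/
theorem cls_comm_pure (hS : SetupSO J1 J2) (u₀ : Fin a → F) (g₁ g₂ : GL (Fin a × Fin b) F)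
    (D₁ : (Fin a → F) → Matrix (Fin b) (Fin b) F) (x₂ : Fin a → F) (K₂ K₂' : Matrix (Fin b) (Fin b) F)
    (hx₂ : bf J1 x₂ u₀ = 0) (h1 : Cls J1 J2 u₀ g₁ D₁) (h2 : Cls J1 J2 u₀ g₂ (fun y => bf J1 y x₂ • K₂))
    (hadj : ∀ w w', bf J2 (K₂ *ᵥ w) w' = bf J2 w (K₂' *ᵥ w'))
    (u' u'' : Fin a → F) (w w' : Fin b → F) :
    bf (J1 ⊗ₖ J2) (act (g₁ * g₂ * g₁⁻¹ * g₂⁻¹) (pur u' w) - pur u' w) (pur u'' w') =
      -(bf J1 u' u₀ * bf J1 u'' u₀) *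
        (bf J2 ((D₁ x₂ * K₂') *ᵥ w) w' + bf J2 w ((D₁ x₂ * K₂') *ᵥ w')) := by
  rw [comm_sub hS h1.iso h1.rad h2.iso h2.rad, bf_sub_left, bf_dl_dl hS h1.iso h1.rad h2.iso h2.rad,
    key hS u₀ g₁ g₂ D₁ x₂ K₂ K₂' hx₂ h1 h2 hadj u' u'' w w']
  -- the second term: `f(δ₂ δ₁ v, t) = f(δ₂ t, δ₁ v) = - f(δ₁ v, δ₂ t)`
  rw [bf_dl_dl hS h2.iso h2.rad h1.iso h1.rad, bf_kron_skew hS (dl g₂ (pur u'' w')),
    key hS u₀ g₁ g₂ D₁ x₂ K₂ K₂' hx₂ h1 h2 hadj u'' u' w' w, hS.h2.symm w' ((D₁ x₂ * K₂') *ᵥ w)]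
  ring

end Cfsg.Agent.Lib.Helper20.S5666ECOMM
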