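import Mathlib
import Cfsg.Agent.Lib.Helper13.TensSODefs
import Cfsg.Agent.Lib.Helper13.S5666FOAPI
import Cfsg.Agent.Lib.Helper20.S5666ExitDefs
import Cfsg.Agent.Lib.Helper20.S5666ES
import Cfsg.Agent.Lib.Helper20.S5666ExitA3
import Cfsg.Agent.Lib.Helper26.S5666EC
import Cfsg.Agent.Lib.Helper26.S5666ER
import Cfsg.Agent.Lib.Helper1.S5666EL

/-!
# S5666: the exit for `a ≥ 4` — `exists_center_of_stabL` (A-T2T3); with `S5666ExitA3` (`exists_transvection_A`, A-T3c)  (helper20)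

Assemblies of the pieces of `notes/S5666ExitASkel_helper20.lean.txt`: `rad_le_kron` (E-R: `exists_skew`, `skew_zero` by helper26),
`exists_center_of_stabL` (E-L `decomp_leviL` by helper1, `conj_inRadL` by helper26, E-S by helper20).
-/

set_option autoImplicit false

namespace Cfsg.Agent.Lib.Helper20.S5666ExitA

open Matrix Module
open Cfsg.Agent.Lib.Helper16.Tens Cfsg.Agent.Lib.Helper10.TensFund Cfsg.Agent.Lib.Helper13.TensSO
open Cfsg.Agent.Lib.Helper28.TensU (ctrL ctrL_apply ctrL_pur hypL mem_hypL_iff ptL mem_ptL_iff pur_mem_ptL rootGLL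
  rootGLL_val act_rootGLL rootGLL_mem_SL rootGLL_mem_kron)
open Cfsg.Agent.Lib.Helper3.SpT (bf SympG E E_mulVec E_mul_E uni uni_val uni_inv_val)
open Cfsg.Agent.Lib.Helper20.S5666Exit
open scoped Kronecker

variable {F : Type*} [Field F] [Fintype F] {a b : ℕ}
variable {J1 : Matrix (Fin a) (Fin a) F} {J2 : Matrix (Fin b) (Fin b) F}
variable {M : Subgroup (GL (Fin a × Fin b) F)}

open Cfsg.Agent.Lib.Helper20.S5666ES (siegU_mem_iso inRadL_siegU eq_on_hypL)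
open Cfsg.Agent.Lib.Helper26.S5666EC (conj_inRadL)
open Cfsg.Agent.Lib.Helper26.S5666ER (exists_skew skew_zero)
open Cfsg.Agent.Lib.Helper1.S5666EL (decomp_leviL)

/-- E-R (assembly): under (H) every radical element of `M` is Kronecker -/
theorem rad_le_kron (hS : SetupSO J1 J2) (hb : 3 ≤ b) (hM : OverS J1 J2 M) (u₀ : Fin a → F) (hu0 : u₀ ≠ 0)
    (H : ∀ z ∈ M, (∀ v ∈ hypL (b := b) (J1 *ᵥ u₀), act z v = v) → z ∈ Cfsg.Geo.kroneckerSubgroup a b F)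
    (g : GL (Fin a × Fin b) F) (hg : g ∈ M) (hr : InRadL J1 u₀ g) : g ∈ Cfsg.Geo.kroneckerSubgroup a b F := by
  obtain ⟨x₀, hx₀, D, hD, hskew⟩ := exists_skew hS (by omega) hM u₀ hu0 H g hg hr
  have hsM : siegU (b := b) J1 hS.h1 u₀ x₀ 0 hx₀ ∈ M :=
    hM.kron_mem _ (siegU_mem_kron J1 hS.h1 u₀ x₀ 0 hx₀) (siegU_mem_iso hS u₀ x₀ 0 hx₀)
  have hg₀M : (siegU (b := b) J1 hS.h1 u₀ x₀ 0 hx₀)⁻¹ * g ∈ M := M.mul_mem (M.inv_mem hsM) hg
  have hzero : ∀ y, bf J1 y u₀ = 0 → D y = 0 := fun y hy =>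
    skew_zero hS hb hM u₀ hu0 H _ hg₀M D hD hskew y hy
  have hfix : ∀ v ∈ hypL (b := b) (J1 *ᵥ u₀), act ((siegU (b := b) J1 hS.h1 u₀ x₀ 0 hx₀)⁻¹ * g) v = v := by
    intro v hv
    have := eq_on_hypL (J1 := J1) u₀ (act ((siegU (b := b) J1 hS.h1 u₀ x₀ 0 hx₀)⁻¹ * g)).toLinearMap
      LinearMap.id (fun y w hy => by
        change act _ (pur y w) = pur y w
        rw [hD.eq y hy w, hzero y hy, Matrix.zero_mulVec, pur_zero_right, add_zero]) v hv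
    exact this
  have hK := H _ hg₀M hfix
  have h2 : g = siegU (b := b) J1 hS.h1 u₀ x₀ 0 hx₀ * ((siegU (b := b) J1 hS.h1 u₀ x₀ 0 hx₀)⁻¹ * g) := by group
  rw [h2]
  exact (Cfsg.Geo.kroneckerSubgroup a b F).mul_mem (siegU_mem_kron J1 hS.h1 u₀ x₀ 0 hx₀) hK

/-- A-T2T3 of notes/S5666Skel_helper13.lean.txt -/
theorem exists_center_of_stabL (hS : SetupSO J1 J2) (_ha : 4 ≤ a) (hb : 3 ≤ b) (hM : OverS J1 J2 M)
    (m : GL (Fin a × Fin b) F) (hm : m ∈ M) (hmK : m ∉ Cfsg.Geo.kroneckerSubgroup a b F) (u₀ : Fin a → F)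
    (hu0 : u₀ ≠ 0) (hstab : img m (ptL (b := b) u₀) = ptL u₀) :
    ∃ z ∈ M, z ∉ Cfsg.Geo.kroneckerSubgroup a b F ∧ ∀ v ∈ hypL (b := b) (J1 *ᵥ u₀), act z v = v := by
  by_contra hcon
  push Not at hcon
  have H : ∀ z ∈ M, (∀ v ∈ hypL (b := b) (J1 *ᵥ u₀), act z v = v) → z ∈ Cfsg.Geo.kroneckerSubgroup a b F := by
    intro z hz hfix
    by_contra hzK
    obtain ⟨v, hv, hne⟩ := hcon z hz hzK
    exact hne (hfix v hv)
  have hsM : ∀ (x : Fin a → F) (c : F) (hx : bf J1 x u₀ = 0), siegU (b := b) J1 hS.h1 u₀ x c hx ∈ M :=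
    fun x c hx => hM.kron_mem _ (siegU_mem_kron J1 hS.h1 u₀ x c hx) (siegU_mem_iso hS u₀ x c hx)
  apply hmK
  have hnorm : ∀ (x : Fin a → F) (c : F) (hx : bf J1 x u₀ = 0),
      m * siegU J1 hS.h1 u₀ x c hx * m⁻¹ ∈ Cfsg.Geo.kroneckerSubgroup a b F := by
    intro x c hx
    exact rad_le_kron hS hb hM u₀ hu0 H _ (M.mul_mem (M.mul_mem hm (hsM x c hx)) (M.inv_mem hm))
      (conj_inRadL hS m (hM.le_iso hm) u₀ hstab _ (inRadL_siegU hS.h1 u₀ x c hx))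
  obtain ⟨n, hnK, hnI, hrad⟩ := decomp_leviL hS (by omega) u₀ hu0 m (hM.le_iso hm) hstab hnorm
  have hnM : n ∈ M := hM.kron_mem n hnK hnI
  have hz : n⁻¹ * m ∈ Cfsg.Geo.kroneckerSubgroup a b F :=
    rad_le_kron hS hb hM u₀ hu0 H _ (M.mul_mem (M.inv_mem hnM) hm) hrad
  have h2 : m = n * (n⁻¹ * m) := by group
  rw [h2]
  exact (Cfsg.Geo.kroneckerSubgroup a b F).mul_mem hnK hz

end Cfsg.Agent.Lib.Helper20.S5666ExitA
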