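import Mathlib
import Cfsg.Agent.S3335

/-!
Tools for bounding the Schur multiplier of the alternating groups through Carmichael's
presentation: manipulations of families satisfying the Carmichael relations exactly or modulo a
central subgroup, and the splitting criterion through the presentation.
-/

set_option autoImplicit false

namespace Cfsg.Agent.Lib.Helper20.AltMult

open Cfsg.Agent.S3335
open scoped commutatorElement

variable {G : Type*} [Group G]

theorem normal_of_le_center {Z : Subgroup G} (h : Z ≤ Subgroup.center G) : Z.Normal :=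
  ⟨fun z hz g => by
    have e := Subgroup.mem_center_iff.mp (h hz) g
    rw [e, mul_inv_cancel_right]; exact hz⟩

/-! ### transformations of Carmichael families -/

theorem carRel_map {H : Type*} [Group H] (f : G →* H) {y : ℕ → G} {k : ℕ} (h : CarRel y k) :
    CarRel (fun i => f (y i)) k where
  h1 := by
    show f (y 0) * f (y 0) * f (y 0) = 1
    rw [← map_mul, ← map_mul, h.h1, map_one]
  h2 := by
    intro i h1 h2
    show f (y i) * f (y i) = 1
    rw [← map_mul, h.h2 i h1 h2, map_one]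
  h3 := by
    intro i hi
    show (f (y i) * f (y (i + 1))) * (f (y i) * f (y (i + 1))) * (f (y i) * f (y (i + 1))) = 1
    rw [← map_mul, ← map_mul, ← map_mul, h.h3 i hi, map_one]
  h4 := by
    intro i j h1 h2
    show (f (y i) * f (y j)) * (f (y i) * f (y j)) = 1
    rw [← map_mul, ← map_mul, h.h4 i j h1 h2, map_one]

theorem carRel_mono {y : ℕ → G} {k l : ℕ} (h : CarRel y l) (hkl : k ≤ l) : CarRel y k :=
  ⟨h.h1, fun i h1 h2 => h.h2 i h1 (by omega), fun i hi => h.h3 i (by omega),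
    fun i j h1 h2 => h.h4 i j h1 (by omega)⟩

theorem carRel_congr {y y' : ℕ → G} {k : ℕ} (h : CarRel y k) (he : ∀ i, i ≤ k → y' i = y i) :
    CarRel y' k where
  h1 := by rw [he 0 (by omega)]; exact h.h1
  h2 := by intro i h1 h2; rw [he i h2]; exact h.h2 i h1 h2
  h3 := by intro i hi; rw [he i (by omega), he (i + 1) hi]; exact h.h3 i hi
  h4 := by intro i j h1 h2; rw [he i (by omega), he j h2]; exact h.h4 i j h1 h2

theorem inv_cube {a : G} (h : a * a * a = 1) : a⁻¹ * a⁻¹ * a⁻¹ = 1 := by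
  rw [← mul_inv_rev, ← mul_inv_rev, ← mul_assoc, h, inv_one]

theorem inv_sq {a : G} (h : a * a = 1) : a⁻¹ * a⁻¹ = 1 := by
  rw [← mul_inv_rev, h, inv_one]

theorem cube_swap {a b : G} (h : (a * b) * (a * b) * (a * b) = 1) :
    (b * a) * (b * a) * (b * a) = 1 := by
  calc (b * a) * (b * a) * (b * a) = a⁻¹ * ((a * b) * (a * b) * (a * b)) * a := by group
    _ = 1 := by rw [h]; group

theorem sq_swap {a b : G} (h : (a * b) * (a * b) = 1) : (b * a) * (b * a) = 1 := by
  calc (b * a) * (b * a) = a⁻¹ * ((a * b) * (a * b)) * a := by group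
    _ = 1 := by rw [h]; group

theorem carRel_inv {y : ℕ → G} {k : ℕ} (h : CarRel y k) : CarRel (fun i => (y i)⁻¹) k where
  h1 := inv_cube h.h1
  h2 := fun i h1 h2 => inv_sq (h.h2 i h1 h2)
  h3 := by
    intro i hi
    show ((y i)⁻¹ * (y (i + 1))⁻¹) * ((y i)⁻¹ * (y (i + 1))⁻¹) * ((y i)⁻¹ * (y (i + 1))⁻¹) = 1
    rw [← mul_inv_rev]
    exact inv_cube (cube_swap (h.h3 i hi))
  h4 := by
    intro i j h1 h2
    show ((y i)⁻¹ * (y j)⁻¹) * ((y i)⁻¹ * (y j)⁻¹) = 1
    rw [← mul_inv_rev]
    exact inv_sq (sq_swap (h.h4 i j h1 h2))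

theorem central_mul {c d a b : G} (hd : d ∈ Subgroup.center G) :
    (c * a) * (d * b) = (c * d) * (a * b) := by
  have e : a * d = d * a := Subgroup.mem_center_iff.mp hd a
  calc (c * a) * (d * b) = c * ((a * d) * b) := by simp only [mul_assoc]
    _ = c * ((d * a) * b) := by rw [e]
    _ = (c * d) * (a * b) := by simp only [mul_assoc]

theorem central_cube {c a : G} (hc : c ∈ Subgroup.center G) :
    (c * a) * (c * a) * (c * a) = (c * c * c) * (a * a * a) := by
  have hca : Commute c a := (Subgroup.mem_center_iff.mp hc a).symm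
  rw [← pow_three', hca.mul_pow, pow_three', pow_three']

theorem central_sq {c a : G} (hc : c ∈ Subgroup.center G) :
    (c * a) * (c * a) = (c * c) * (a * a) := by
  have hca : Commute c a := (Subgroup.mem_center_iff.mp hc a).symm
  rw [← pow_two, hca.mul_pow, pow_two, pow_two]

/-- if `w i = l i * v i` with `l i` central, and both `w` and `v` satisfy the relations, so does
`l` -/
theorem carRel_ratio {w v l : ℕ → G} {k : ℕ} (hw : CarRel w k) (hv : CarRel v k)
    (hl : ∀ i, i ≤ k → l i ∈ Subgroup.center G) (he : ∀ i, i ≤ k → w i = l i * v i) :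
    CarRel l k where
  h1 := by
    have h := hw.h1
    rw [he 0 (by omega), central_cube (hl 0 (by omega)), hv.h1, mul_one] at h
    exact h
  h2 := by
    intro i h1 h2
    have h := hw.h2 i h1 h2
    rw [he i h2, central_sq (hl i h2), hv.h2 i h1 h2, mul_one] at h
    exact h
  h3 := by
    intro i hi
    have h := hw.h3 i hi
    have hc : l i * l (i + 1) ∈ Subgroup.center G :=
      Subgroup.mul_mem _ (hl i (by omega)) (hl (i + 1) hi)
    have e : w i * w (i + 1) = (l i * l (i + 1)) * (v i * v (i + 1)) := by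
      rw [he i (by omega), he (i + 1) hi, central_mul (hl (i + 1) hi)]
    rw [e, central_cube hc, hv.h3 i hi, mul_one] at h
    exact h
  h4 := by
    intro i j h1 h2
    have h := hw.h4 i j h1 h2
    have hc : l i * l j ∈ Subgroup.center G :=
      Subgroup.mul_mem _ (hl i (by omega)) (hl j h2)
    have e : w i * w j = (l i * l j) * (v i * v j) := by
      rw [he i (by omega), he j h2, central_mul (hl j h2)]
    rw [e, central_sq hc, hv.h4 i j h1 h2, mul_one] at h
    exact h

/-- a central family satisfying the relations is trivial (up to the first term when short) -/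
theorem carRel_central {y : ℕ → G} {k : ℕ} (h : CarRel y k) (hk : 1 ≤ k)
    (hc : ∀ i, i ≤ k → y i ∈ Subgroup.center G) :
    (∀ i, 1 ≤ i → i ≤ k → y i = 1) ∧ (2 ≤ k → y 0 = 1) := by
  have h1 : y 1 = 1 := by
    have h3 := h.h3 0 (by omega)
    rw [zero_add, central_cube (hc 0 (by omega)), h.h1, one_mul] at h3
    have h2 := h.h2 1 (le_refl 1) hk
    rw [h2, one_mul] at h3
    exact h3
  have hall : ∀ i, 1 ≤ i → i ≤ k → y i = 1 := by
    intro i
    induction i with
    | zero => intro h0; omega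
    | succ j ih =>
      intro _ hj
      rcases Nat.eq_zero_or_pos j with rfl | hjpos
      · exact h1
      · have hj1 : y j = 1 := ih hjpos (by omega)
        have h3 := h.h3 j hj
        rw [hj1, one_mul, h.h2 (j + 1) (by omega) hj, one_mul] at h3
        exact h3
  refine ⟨hall, fun hk2 => ?_⟩
  have h4 := h.h4 0 2 (by omega) hk2
  rw [hall 2 (by omega) hk2, mul_one] at h4
  have h1' := h.h1
  rw [h4, one_mul] at h1'
  exact h1'

/-! ### relations modulo a subgroup -/

/-- the Carmichael relations hold modulo the subgroup `Z` -/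
structure CarRelMod (Z : Subgroup G) (t : ℕ → G) (k : ℕ) : Prop where
  h1 : t 0 * t 0 * t 0 ∈ Z
  h2 : ∀ i, 1 ≤ i → i ≤ k → t i * t i ∈ Z
  h3 : ∀ i, i + 1 ≤ k → (t i * t (i + 1)) * (t i * t (i + 1)) * (t i * t (i + 1)) ∈ Z
  h4 : ∀ i j, i + 1 < j → j ≤ k → (t i * t j) * (t i * t j) ∈ Z

theorem carRelMod_iff {H : Type*} [Group H] (f : G →* H) {Z : Subgroup G} (hf : f.ker = Z)
    (t : ℕ → G) (k : ℕ) : CarRelMod Z t k ↔ CarRel (fun i => f (t i)) k := by
  have key : ∀ x : G, x ∈ Z ↔ f x = 1 := fun x => by rw [← hf, MonoidHom.mem_ker]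
  constructor
  · intro h
    refine ⟨?_, ?_, ?_, ?_⟩
    · have := (key _).mp h.h1
      simpa only [map_mul] using this
    · intro i h1 h2
      have := (key _).mp (h.h2 i h1 h2)
      simpa only [map_mul] using this
    · intro i hi
      have := (key _).mp (h.h3 i hi)
      simpa only [map_mul] using this
    · intro i j h1 h2
      have := (key _).mp (h.h4 i j h1 h2)
      simpa only [map_mul] using this
  · intro h
    refine ⟨?_, ?_, ?_, ?_⟩
    · rw [key]; simpa only [map_mul] using h.h1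
    · intro i h1 h2; rw [key]; simpa only [map_mul] using h.h2 i h1 h2
    · intro i hi; rw [key]; simpa only [map_mul] using h.h3 i hi
    · intro i j h1 h2; rw [key]; simpa only [map_mul] using h.h4 i j h1 h2

theorem carRelMod_mono {Z Z' : Subgroup G} (hZ : Z ≤ Z') {t : ℕ → G} {k l : ℕ} (hkl : k ≤ l)
    (h : CarRelMod Z t l) : CarRelMod Z' t k :=
  ⟨hZ h.h1, fun i h1 h2 => hZ (h.h2 i h1 (by omega)), fun i hi => hZ (h.h3 i (by omega)),
    fun i j h1 h2 => hZ (h.h4 i j h1 (by omega))⟩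

theorem carRelMod_inf {Z H : Subgroup G} {t : ℕ → G} {k : ℕ} (h : CarRelMod Z t k)
    (hH : ∀ i, i ≤ k → t i ∈ H) : CarRelMod (Z ⊓ H) t k where
  h1 := ⟨h.h1, H.mul_mem (H.mul_mem (hH 0 (by omega)) (hH 0 (by omega))) (hH 0 (by omega))⟩
  h2 := fun i h1 h2 => ⟨h.h2 i h1 h2, H.mul_mem (hH i h2) (hH i h2)⟩
  h3 := fun i hi => by
    have hm : t i * t (i + 1) ∈ H := H.mul_mem (hH i (by omega)) (hH (i + 1) hi)
    exact ⟨h.h3 i hi, H.mul_mem (H.mul_mem hm hm) hm⟩
  h4 := fun i j h1 h2 => by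
    have hm : t i * t j ∈ H := H.mul_mem (hH i (by omega)) (hH j h2)
    exact ⟨h.h4 i j h1 h2, H.mul_mem hm hm⟩

/-- changing the family by elements of a central `Z` keeps the relations modulo `Z` -/
theorem carRelMod_congr {Z : Subgroup G} (hZ : Z ≤ Subgroup.center G) {t t' : ℕ → G} {k : ℕ}
    (h : CarRelMod Z t k) (he : ∀ i, i ≤ k → (t i)⁻¹ * t' i ∈ Z) : CarRelMod Z t' k := by
  haveI : Z.Normal := normal_of_le_center hZ
  have hker : (QuotientGroup.mk' Z).ker = Z := QuotientGroup.ker_mk' Z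
  rw [carRelMod_iff (QuotientGroup.mk' Z) hker] at h ⊢
  apply carRel_congr h
  intro i hi
  show (QuotientGroup.mk' Z) (t' i) = (QuotientGroup.mk' Z) (t i)
  symm
  exact (QuotientGroup.eq).mpr (he i hi)

/-! ### generation -/

/-- commutators of elements of `S·Z` with `Z` central lie in `⁅S, S⁆` -/
theorem commutator_sup_central_le {S Z : Subgroup G} (hZ : Z ≤ Subgroup.center G) :
    ⁅S ⊔ Z, S ⊔ Z⁆ ≤ ⁅S, S⁆ := by
  haveI : Z.Normal := normal_of_le_center hZ
  rw [Subgroup.commutator_le]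
  intro a ha b hb
  obtain ⟨a1, ha1, z1, hz1, rfl⟩ := Subgroup.mem_sup_of_normal_right.mp ha
  obtain ⟨b1, hb1, z2, hz2, rfl⟩ := Subgroup.mem_sup_of_normal_right.mp hb
  have e : ⁅a1 * z1, b1 * z2⁆ = ⁅a1, b1⁆ := by
    have c1 : ∀ g, g * z1 = z1 * g := Subgroup.mem_center_iff.mp (hZ hz1)
    have c2 : ∀ g, g * z2 = z2 * g := Subgroup.mem_center_iff.mp (hZ hz2)
    rw [commutatorElement_def, commutatorElement_def]
    calc a1 * z1 * (b1 * z2) * (a1 * z1)⁻¹ * (b1 * z2)⁻¹
        = a1 * (z1 * b1) * z2 * z1⁻¹ * a1⁻¹ * z2⁻¹ * b1⁻¹ := by group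
      _ = a1 * (b1 * z1) * z2 * z1⁻¹ * a1⁻¹ * z2⁻¹ * b1⁻¹ := by rw [c1 b1]
      _ = a1 * b1 * (z1 * z2) * z1⁻¹ * a1⁻¹ * z2⁻¹ * b1⁻¹ := by group
      _ = a1 * b1 * (z2 * z1) * z1⁻¹ * a1⁻¹ * z2⁻¹ * b1⁻¹ := by rw [c1 z2]
      _ = a1 * b1 * (z2 * a1⁻¹) * z2⁻¹ * b1⁻¹ := by group
      _ = a1 * b1 * (a1⁻¹ * z2) * z2⁻¹ * b1⁻¹ := by rw [← c2 a1⁻¹]
      _ = a1 * b1 * a1⁻¹ * b1⁻¹ := by group
  rw [e]
  exact Subgroup.commutator_mem_commutator ha1 hb1

/-- if `S·Z` is everything and the central `Z` lies in the commutator subgroup, `S` is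
everything -/
theorem eq_top_of_sup_central {S Z : Subgroup G} (hZ : Z ≤ Subgroup.center G)
    (hd : Z ≤ commutator G) (h : S ⊔ Z = ⊤) : S = ⊤ := by
  have h1 : commutator G ≤ S := by
    rw [commutator_def, ← h]
    exact (commutator_sup_central_le hZ).trans (Subgroup.commutator_le_self S)
  have h2 : Z ≤ S := hd.trans h1
  rw [← h]
  exact (sup_eq_left.mpr h2).symm

end Cfsg.Agent.Lib.Helper20.AltMult
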