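import Mathlib
import Cfsg.Agent.S3335
import Cfsg.Agent.Lib.Helper20.AltMultA

/-!
The splitting criterion through Carmichael's presentation and the inductive step (in a quotient)
for the bound on the Schur multiplier of the alternating groups.
-/

set_option autoImplicit false

namespace Cfsg.Agent.Lib.Helper20.AltMult

open Cfsg.Agent.S3335
open scoped commutatorElement

variable {G : Type*} [Group G]

/-! ### the braid identity with central values -/

theorem braid_central {u v B C : G} (hu : u * u = 1) (hB : v * v = B)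
    (hC : (u * v) * (u * v) * (u * v) = C) (hBc : B ∈ Subgroup.center G)
    (hCc : C ∈ Subgroup.center G) : C * C = B * B * B := by
  have h1 : (v * u) * (v * u) * (v * u) = C := by
    calc (v * u) * (v * u) * (v * u) = u⁻¹ * ((u * v) * (u * v) * (u * v)) * u := by group
      _ = u⁻¹ * C * u := by rw [hC]
      _ = C := by rw [Subgroup.mem_center_iff.mp hCc u⁻¹, inv_mul_cancel_right]
  have h2 : v * u = B * (u * v)⁻¹ := by
    have e : (u * v) * (v * u) = B := by
      calc (u * v) * (v * u) = u * (v * v) * u := by group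
        _ = u * B * u := by rw [hB]
        _ = B * (u * u) := by rw [Subgroup.mem_center_iff.mp hBc u, mul_assoc]
        _ = B := by rw [hu, mul_one]
    calc v * u = (u * v)⁻¹ * ((u * v) * (v * u)) := by group
      _ = (u * v)⁻¹ * B := by rw [e]
      _ = B * (u * v)⁻¹ := Subgroup.mem_center_iff.mp hBc _
  have h3 : (u * v)⁻¹ * (u * v)⁻¹ * (u * v)⁻¹ = C⁻¹ := by
    rw [← hC]; group
  rw [h2, central_cube hBc, h3] at h1
  calc C * C = (B * B * B * C⁻¹) * C := by rw [h1]
    _ = B * B * B := by group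

theorem central_wsq {B C : G} (hCc : C ∈ Subgroup.center G) (h : C * C = B * B * B) :
    (C * B⁻¹) * (C * B⁻¹) = B := by
  rw [central_sq hCc, h]; group

theorem central_wcube {B C : G} (hBc : B ∈ Subgroup.center G) (hCc : C ∈ Subgroup.center G)
    (h : C * C = B * B * B) : (C * B⁻¹) * (C * B⁻¹) * (C * B⁻¹) = C := by
  rw [central_wsq hCc h]
  calc B * (C * B⁻¹) = (B * C) * B⁻¹ := by rw [mul_assoc]
    _ = (C * B) * B⁻¹ := by rw [Subgroup.mem_center_iff.mp hCc B]
    _ = C := by rw [mul_inv_cancel_right]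

theorem mul_inv_sq {a w : G} (hw : w ∈ Subgroup.center G) :
    (a * w⁻¹) * (a * w⁻¹) = (a * a) * (w * w)⁻¹ := by
  have hwi : w⁻¹ ∈ Subgroup.center G := Subgroup.inv_mem _ hw
  have e : a * w⁻¹ = w⁻¹ * a := Subgroup.mem_center_iff.mp hwi a
  rw [e, central_sq hwi, mul_inv_rev]
  exact (Subgroup.mem_center_iff.mp (Subgroup.mul_mem _ hwi hwi) (a * a)).symm

theorem mul_inv_cube {a w : G} (hw : w ∈ Subgroup.center G) :
    (a * w⁻¹) * (a * w⁻¹) * (a * w⁻¹) = (a * a * a) * (w * w * w)⁻¹ := by
  have hwi : w⁻¹ ∈ Subgroup.center G := Subgroup.inv_mem _ hw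
  have e : a * w⁻¹ = w⁻¹ * a := Subgroup.mem_center_iff.mp hwi a
  have e2 : (w * w * w)⁻¹ = w⁻¹ * w⁻¹ * w⁻¹ := by group
  rw [e, central_cube hwi, e2]
  exact (Subgroup.mem_center_iff.mp
    (Subgroup.mul_mem _ (Subgroup.mul_mem _ hwi hwi) hwi) (a * a * a)).symm

/-! ### simplicity of the presented group and the splitting criterion -/

theorem cg_simple (m : ℕ) (hm : 2 ≤ m) : IsSimpleGroup (CG (m + 1)) := by
  obtain ⟨e⟩ := main m
  haveI : IsSimpleGroup (alternatingGroup (Fin (m + 3))) :=
    alternatingGroup.isSimpleGroup (by rw [Nat.card_fin]; omega)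
  haveI : Nontrivial (CG (m + 1)) := e.toEquiv.nontrivial
  exact IsSimpleGroup.isSimpleGroup_of_surjective e.symm.toMonoidHom e.symm.surjective

/-- a central subgroup inside the commutator subgroup is trivial as soon as the group is
generated, together with it, by a family satisfying the Carmichael relations exactly -/
theorem bot_of_section {Zb : Subgroup G} (hc : Zb ≤ Subgroup.center G)
    (hd : Zb ≤ commutator G) {y : ℕ → G} {m : ℕ} (hm : 2 ≤ m) (h : CarRel y m)
    (hgen : Subgroup.closure (y '' {i | i ≤ m}) ⊔ Zb = ⊤) : Zb = ⊥ := by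
  haveI := cg_simple m hm
  haveI : Zb.Normal := normal_of_le_center hc
  let σ : CG (m + 1) →* G :=
    PresentedGroup.toGroup (f := fun i : Fin (m + 1) => y i.val) (lift_rels h)
  have hσ : ∀ i : Fin (m + 1), σ (PresentedGroup.of i) = y i.val :=
    fun i => PresentedGroup.toGroup.of _
  have hrange : Subgroup.closure (y '' {i | i ≤ m}) ≤ σ.range := by
    rw [Subgroup.closure_le]
    rintro _ ⟨i, hi, rfl⟩
    exact ⟨PresentedGroup.of ⟨i, Nat.lt_succ_of_le hi⟩, hσ _⟩
  have htop : σ.range ⊔ Zb = ⊤ := by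
    rw [eq_top_iff, ← hgen]; exact sup_le_sup_right hrange Zb
  have hcomm : commutator G ≤ σ.range := by
    rw [commutator_def, ← htop]
    exact (commutator_sup_central_le hc).trans (Subgroup.commutator_le_self _)
  have hN : (Zb.comap σ).Normal := inferInstance
  rcases hN.eq_bot_or_eq_top with h0 | h1
  · rw [eq_bot_iff]
    intro z hz
    obtain ⟨g, rfl⟩ := hcomm (hd hz)
    have hg : g ∈ Zb.comap σ := hz
    rw [h0, Subgroup.mem_bot] at hg
    rw [hg, map_one]; exact Subgroup.mem_bot.mpr rfl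
  · have hr : σ.range ≤ Zb := by
      rintro _ ⟨g, rfl⟩
      have hg : g ∈ Zb.comap σ := by rw [h1]; exact Subgroup.mem_top g
      exact hg
    have hZtop : Zb = ⊤ := by rw [← htop]; exact (sup_eq_right.mpr hr).symm
    have hcb : commutator G = ⊥ := by
      rw [commutator_def, Subgroup.commutator_eq_bot_iff_le_centralizer]
      intro a _
      rw [Subgroup.mem_centralizer_iff]
      intro b _
      have hb : b ∈ Subgroup.center G := hc (by rw [hZtop]; exact Subgroup.mem_top b)
      exact (Subgroup.mem_center_iff.mp hb a).symm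
    rw [hcb] at hd
    exact le_bot_iff.mp hd

theorem carRel_conj (g : G) {y : ℕ → G} {k : ℕ} (h : CarRel y k) :
    CarRel (fun i => g * y i * g⁻¹) k := by
  have h' := carRel_map (MulAut.conj g).toMonoidHom h
  apply carRel_congr h'
  intro i _
  rfl

/-! ### the inductive step, in the quotient -/

theorem step_quot (Zb : Subgroup G) (hc : Zb ≤ Subgroup.center G) (hd : Zb ≤ commutator G)
    (v : ℕ → G) (k : ℕ) (hk : 2 ≤ k) (hex : CarRel v k) (hmod : CarRelMod Zb v (k + 1))
    (hgen : Subgroup.closure (v '' {i | i ≤ k + 1}) ⊔ Zb = ⊤) :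
    (3 ≤ k → Zb = ⊥) ∧ Nat.card Zb ∣ 3 := by
  haveI : Zb.Normal := normal_of_le_center hc
  obtain ⟨y, hy⟩ : ∃ y, y = v (k + 1) := ⟨_, rfl⟩
  obtain ⟨B, hB⟩ : ∃ B, B = y * y := ⟨_, rfl⟩
  obtain ⟨C, hC⟩ : ∃ C, C = (v k * y) * (v k * y) * (v k * y) := ⟨_, rfl⟩
  have hBm : B ∈ Zb := by rw [hB, hy]; exact hmod.h2 (k + 1) (by omega) le_rfl
  have hCm : C ∈ Zb := by rw [hC, hy]; exact hmod.h3 k le_rfl
  have hDm : ∀ i, i + 1 < k + 1 → (v i * y) * (v i * y) ∈ Zb := by
    intro i hi; rw [hy]; exact hmod.h4 i (k + 1) hi le_rfl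
  have hBc : B ∈ Subgroup.center G := hc hBm
  have hCc : C ∈ Subgroup.center G := hc hCm
  have hCB : C * C = B * B * B :=
    braid_central (hex.h2 k (by omega) le_rfl) hB.symm hC.symm hBc hCc
  -- the ratios
  obtain ⟨lam, hlam⟩ : ∃ lam : ℕ → G, ∀ i, lam i = y * v i * y⁻¹ * v i := ⟨_, fun _ => rfl⟩
  have hlamD : ∀ i, i + 1 < k + 1 → lam i = (v i * y) * (v i * y) * B⁻¹ := by
    intro i hi
    have hDc : (v i * y) * (v i * y) ∈ Subgroup.center G := hc (hDm i hi)
    have e : lam i * B = (v i * y) * (v i * y) := by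
      calc lam i * B = y * v i * y⁻¹ * (v i * B) := by rw [hlam]; simp only [mul_assoc]
        _ = y * v i * y⁻¹ * (B * v i) := by rw [Subgroup.mem_center_iff.mp hBc (v i)]
        _ = (v i)⁻¹ * ((v i * y) * (v i * y)) * v i := by rw [hB]; group
        _ = (v i * y) * (v i * y) := by
            rw [Subgroup.mem_center_iff.mp hDc (v i)⁻¹, inv_mul_cancel_right]
    rw [← e, mul_inv_cancel_right]
  have hlamZ : ∀ i, i + 1 < k + 1 → lam i ∈ Zb := by
    intro i hi
    rw [hlamD i hi]
    exact Zb.mul_mem (hDm i hi) (Zb.inv_mem hBm)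
  have hk1 : 1 ≤ k - 1 := by omega
  have hlamRel : CarRel lam (k - 1) := by
    apply carRel_ratio (carRel_conj y (carRel_mono hex (Nat.sub_le k 1)))
      (carRel_inv (carRel_mono hex (Nat.sub_le k 1)))
    · intro i hi
      exact hc (hlamZ i (by omega))
    · intro i _
      rw [hlam]; group
  obtain ⟨hlam1, hlam0⟩ := carRel_central hlamRel hk1 (fun i hi => hc (hlamZ i (by omega)))
  -- the subgroup generated by the first ratio
  have hl0Z : lam 0 ∈ Zb := hlamZ 0 (by omega)
  have hΛle : Subgroup.zpowers (lam 0) ≤ Zb := by rw [Subgroup.zpowers_le]; exact hl0Z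
  have hΛc : Subgroup.zpowers (lam 0) ≤ Subgroup.center G := hΛle.trans hc
  haveI hΛn : (Subgroup.zpowers (lam 0)).Normal := normal_of_le_center hΛc
  have hlamΛ : ∀ i, i + 1 < k + 1 → lam i ∈ Subgroup.zpowers (lam 0) := by
    intro i hi
    rcases Nat.eq_zero_or_pos i with rfl | hpos
    · exact Subgroup.mem_zpowers _
    · rw [hlam1 i hpos (by omega)]; exact Subgroup.one_mem _
  -- the normalized last generator
  obtain ⟨w, hw⟩ : ∃ w, w = C * B⁻¹ := ⟨_, rfl⟩
  have hwZ : w ∈ Zb := by rw [hw]; exact Zb.mul_mem hCm (Zb.inv_mem hBm)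
  have hwc : w ∈ Subgroup.center G := hc hwZ
  have hww : w * w = B := by rw [hw]; exact central_wsq hCc hCB
  have hwww : w * w * w = C := by rw [hw]; exact central_wcube hBc hCc hCB
  obtain ⟨y', hy'⟩ : ∃ y', y' = y * w⁻¹ := ⟨_, rfl⟩
  have hy'sq : y' * y' = 1 := by
    rw [hy', mul_inv_sq hwc, hww, ← hB, mul_inv_cancel]
  have hy'cube : (v k * y') * (v k * y') * (v k * y') = 1 := by
    have e : v k * y' = (v k * y) * w⁻¹ := by rw [hy', mul_assoc]
    rw [e, mul_inv_cube hwc, hwww, ← hC, mul_inv_cancel]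
  have hy'D : ∀ i, i + 1 < k + 1 → (v i * y') * (v i * y') = lam i := by
    intro i hi
    have e : v i * y' = (v i * y) * w⁻¹ := by rw [hy', mul_assoc]
    rw [e, mul_inv_sq hwc, hww, hlamD i hi]
  obtain ⟨v', hv'⟩ : ∃ v' : ℕ → G, ∀ i, v' i = if i ≤ k then v i else y' := ⟨_, fun _ => rfl⟩
  have hv'le : ∀ i, i ≤ k → v' i = v i := fun i hi => by rw [hv', if_pos hi]
  have hv'last : v' (k + 1) = y' := by rw [hv', if_neg (by omega)]
  have hmodΛ : CarRelMod (Subgroup.zpowers (lam 0)) v' (k + 1) := by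
    refine ⟨?_, ?_, ?_, ?_⟩
    · rw [hv'le 0 (by omega), hex.h1]; exact Subgroup.one_mem _
    · intro i h1 h2
      rcases Nat.lt_or_ge k i with hlt | hle
      · have : i = k + 1 := by omega
        subst this
        rw [hv'last, hy'sq]; exact Subgroup.one_mem _
      · rw [hv'le i hle, hex.h2 i h1 hle]; exact Subgroup.one_mem _
    · intro i hi
      rcases Nat.lt_or_ge i k with hlt | hle
      · rw [hv'le i (by omega), hv'le (i + 1) (by omega), hex.h3 i (by omega)]
        exact Subgroup.one_mem _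
      · have : i = k := by omega
        subst this
        rw [hv'le i le_rfl, hv'last, hy'cube]; exact Subgroup.one_mem _
    · intro i j h1 h2
      rcases Nat.lt_or_ge k j with hlt | hle
      · have : j = k + 1 := by omega
        subst this
        rw [hv'le i (by omega), hv'last, hy'D i h1]
        exact hlamΛ i h1
      · rw [hv'le i (by omega), hv'le j hle, hex.h4 i j h1 hle]; exact Subgroup.one_mem _
  -- pass to the quotient
  have hker : (QuotientGroup.mk' (Subgroup.zpowers (lam 0))).ker = Subgroup.zpowers (lam 0) :=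
    QuotientGroup.ker_mk' _
  have hqsurj : Function.Surjective (QuotientGroup.mk' (Subgroup.zpowers (lam 0))) :=
    QuotientGroup.mk'_surjective _
  have hrel2 := (carRelMod_iff (QuotientGroup.mk' (Subgroup.zpowers (lam 0))) hker v' (k + 1)).mp
    hmodΛ
  have hc2 : Zb.map (QuotientGroup.mk' (Subgroup.zpowers (lam 0))) ≤
      Subgroup.center (G ⧸ Subgroup.zpowers (lam 0)) := by
    rintro _ ⟨z, hz, rfl⟩
    rw [Subgroup.mem_center_iff]
    intro g
    obtain ⟨g, rfl⟩ := hqsurj g
    rw [← map_mul, ← map_mul, Subgroup.mem_center_iff.mp (hc hz) g]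
  have hd2 : Zb.map (QuotientGroup.mk' (Subgroup.zpowers (lam 0))) ≤
      commutator (G ⧸ Subgroup.zpowers (lam 0)) := by
    have e : (commutator G).map (QuotientGroup.mk' (Subgroup.zpowers (lam 0))) =
        commutator (G ⧸ Subgroup.zpowers (lam 0)) := by
      rw [commutator_def, Subgroup.map_commutator, Subgroup.map_top_of_surjective _ hqsurj,
        commutator_def]
    rw [← e]
    exact Subgroup.map_mono hd
  have hgen' : Subgroup.closure (v' '' {i | i ≤ k + 1}) ⊔ Zb = ⊤ := by
    rw [eq_top_iff, ← hgen]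
    apply sup_le _ le_sup_right
    rw [Subgroup.closure_le]
    rintro _ ⟨i, hi, rfl⟩
    rcases Nat.lt_or_ge k i with hlt | hle
    · have hik : i = k + 1 := by
        have : i ≤ k + 1 := hi
        omega
      subst hik
      have e : v (k + 1) = y' * w := by rw [← hy, hy', inv_mul_cancel_right]
      rw [e]
      apply Subgroup.mul_mem_sup _ hwZ
      apply Subgroup.subset_closure
      exact ⟨k + 1, (le_rfl : k + 1 ≤ k + 1), hv'last⟩
    · apply (le_sup_left : Subgroup.closure (v' '' {i | i ≤ k + 1}) ≤ _)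
      apply Subgroup.subset_closure
      exact ⟨i, hi, hv'le i hle⟩
  have hgen2 : Subgroup.closure ((fun i => (QuotientGroup.mk' (Subgroup.zpowers (lam 0))) (v' i)) ''
      {i | i ≤ k + 1}) ⊔ Zb.map (QuotientGroup.mk' (Subgroup.zpowers (lam 0))) = ⊤ := by
    have e := congrArg (Subgroup.map (QuotientGroup.mk' (Subgroup.zpowers (lam 0)))) hgen'
    rw [Subgroup.map_sup, MonoidHom.map_closure, Set.image_image,
      Subgroup.map_top_of_surjective _ hqsurj] at e
    exact e
  have hbot := bot_of_section hc2 hd2 (by omega : 2 ≤ k + 1) hrel2 hgen2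
  have hZΛ : Zb ≤ Subgroup.zpowers (lam 0) := by
    intro z hz
    have hz' : (QuotientGroup.mk' (Subgroup.zpowers (lam 0))) z ∈
        Zb.map (QuotientGroup.mk' (Subgroup.zpowers (lam 0))) := Subgroup.mem_map_of_mem _ hz
    rw [hbot, Subgroup.mem_bot] at hz'
    rw [← hker, MonoidHom.mem_ker]
    exact hz'
  have hZeq : Zb = Subgroup.zpowers (lam 0) := le_antisymm hZΛ hΛle
  constructor
  · intro hk3
    rw [hZeq, hlam0 (by omega)]
    exact Subgroup.zpowers_one_eq_bot
  · rw [hZeq, Nat.card_zpowers]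
    apply orderOf_dvd_of_pow_eq_one
    rw [pow_three']
    exact hlamRel.h1

end Cfsg.Agent.Lib.Helper20.AltMult
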