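import Mathlib
import Cfsg.Prelude.Def_Blocks
import Cfsg.Agent.Lib.Helper2.TwoDegreesDerived
import Cfsg.Agent.Lib.Helper2.DegreeRatio
import Cfsg.Agent.Lib.Helper2.Ito
import Cfsg.Agent.Lib.Helper2.BrolineGarrison
import Cfsg.Agent.Lib.Helper2.OddOrderChars
import Cfsg.Agent.Lib.Helper7.Covering
import Cfsg.Agent.Lib.Helper7.CliffordCentral
import Cfsg.Agent.Lib.Helper7.Gallagher
import Cfsg.Agent.Lib.Helper25.Kernel
import Cfsg.Agent.Lib.Helper25.Linear

/-!
# Three character degrees: general tools (helper20)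
-/

set_option autoImplicit false
set_option linter.style.haveILetI false
set_option linter.unusedSectionVars false

namespace Cfsg.Agent.Lib.Helper20.CD3

open Cfsg Cfsg.Agent.Lib.Helper2
open scoped ComplexConjugate commutatorElement

universe u

/-- the irreducible character degrees of `G` lie in `{1, m, n}` -/
def CD3 (G : Type u) [Group G] (m n : ℕ) : Prop :=
  ∀ χ : IrrCharacter G, charDegree (χ : G → ℂ) = 1 ∨ charDegree (χ : G → ℂ) = m ∨
    charDegree (χ : G → ℂ) = n

section Derived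

variable {G : Type*} [Group G]

theorem derivedSeries_two_eq_bot
    (h : ∀ a ∈ commutator G, ∀ b ∈ commutator G, a * b = b * a) : derivedSeries G 2 = ⊥ := by
  rw [show (2 : ℕ) = 1 + 1 from rfl, derivedSeries_succ, derivedSeries_one,
    Subgroup.commutator_eq_bot_iff_le_centralizer]
  intro a ha
  rw [Subgroup.mem_centralizer_iff]
  intro b hb
  exact h b hb a ha

theorem derivedSeries_le_map (H : Subgroup G) (j k : ℕ)
    (h : derivedSeries G j ≤ (derivedSeries H k).map H.subtype) (i : ℕ) :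
    derivedSeries G (j + i) ≤ (derivedSeries H (k + i)).map H.subtype := by
  induction i with
  | zero => exact h
  | succ i ih =>
    rw [← add_assoc, ← add_assoc, derivedSeries_succ, derivedSeries_succ, Subgroup.map_commutator]
    exact Subgroup.commutator_mono ih ih

theorem commutator_self_eq_map (H : Subgroup G) :
    ⁅H, H⁆ = (derivedSeries H 1).map H.subtype := by
  rw [derivedSeries_one]
  show ⁅H, H⁆ = (⁅(⊤ : Subgroup H), ⊤⁆ : Subgroup H).map H.subtype
  rw [Subgroup.map_commutator, ← MonoidHom.range_eq_map, Subgroup.range_subtype]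

theorem self_eq_map (H : Subgroup G) : H = (derivedSeries H 0).map H.subtype := by
  rw [derivedSeries_zero, ← MonoidHom.range_eq_map, Subgroup.range_subtype]

/-- `G'' ≤ Q'` and `Q'` abelian give `G''' = 1` -/
theorem d3_of_d2_le (Q : Subgroup G) (h2 : derivedSeries G 2 ≤ ⁅Q, Q⁆)
    (hQ : ∀ a ∈ commutator Q, ∀ b ∈ commutator Q, a * b = b * a) : derivedSeries G 3 = ⊥ := by
  have h := derivedSeries_le_map Q 2 1 (by rw [← commutator_self_eq_map]; exact h2) 1
  rw [show 1 + 1 = 2 from rfl, derivedSeries_two_eq_bot hQ, Subgroup.map_bot] at h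
  exact le_bot_iff.mp h

/-- `G' ≤ Q'` and `Q''' = 1` give `G''' = 1` -/
theorem d3_of_d1_le (Q : Subgroup G) (h1 : commutator G ≤ ⁅Q, Q⁆)
    (hQ : derivedSeries Q 3 = ⊥) : derivedSeries G 3 = ⊥ := by
  have h := derivedSeries_le_map Q 1 1
    (by rw [← commutator_self_eq_map, derivedSeries_one]; exact h1) 2
  rw [show 1 + 2 = 3 from rfl, hQ, Subgroup.map_bot] at h
  exact le_bot_iff.mp h

/-- `G' ≤ N` and `N'` abelian give `G''' = 1` -/
theorem d3_of_le (N : Subgroup G) (h1 : commutator G ≤ N)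
    (hN : ∀ a ∈ commutator N, ∀ b ∈ commutator N, a * b = b * a) : derivedSeries G 3 = ⊥ := by
  have h := derivedSeries_le_map N 1 0
    (by rw [← self_eq_map, derivedSeries_one]; exact h1) 2
  rw [show 1 + 2 = 3 from rfl, show 0 + 2 = 2 from rfl, derivedSeries_two_eq_bot hN,
    Subgroup.map_bot] at h
  exact le_bot_iff.mp h

/-- an abelian quotient contains the commutator subgroup in its kernel -/
theorem commutator_le_of_quotient_comm (N : Subgroup G) [N.Normal]
    (h : ∀ a b : G ⧸ N, a * b = b * a) : commutator G ≤ N := by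
  show ⁅(⊤ : Subgroup G), ⊤⁆ ≤ N
  rw [Subgroup.commutator_le]
  intro a _ b _
  have h1 : ((⁅a, b⁆ : G) : G ⧸ N) = 1 := by
    rw [commutatorElement_def]
    simp only [QuotientGroup.mk_mul, QuotientGroup.mk_inv]
    rw [h (a : G ⧸ N) (b : G ⧸ N)]
    group
  exact (QuotientGroup.eq_one_iff _).mp h1

end Derived

section Chars

variable {G : Type u} [Group G] [Finite G]

/-- at most one non-linear degree: the commutator subgroup is abelian -/
theorem two_deg_comm (f : ℕ)
    (hcd : ∀ χ : IrrCharacter G, charDegree (χ : G → ℂ) = 1 ∨ charDegree (χ : G → ℂ) = f) :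
    ∀ a ∈ commutator G, ∀ b ∈ commutator G, a * b = b * a := by
  by_cases h : (∃ χ : IrrCharacter G, charDegree (χ : G → ℂ) = f) ∧ f ≠ 1
  · exact TwoDeg.commutator_comm f hcd h.1 h.2
  · have hall : ∀ χ : IrrCharacter G, (χ : G → ℂ) 1 = 1 := by
      intro χ
      rw [TwoDeg.apply_one_eq_charDegree χ]
      have : charDegree (χ : G → ℂ) = 1 := by
        rcases hcd χ with h1 | h1
        · exact h1
        · by_contra hne
          exact h ⟨⟨χ, h1⟩, fun hf => hne (h1.trans hf)⟩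
      rw [this]
      simp
    have hcomm := comm_iff_forall_irr_degree_one.mpr hall
    intro a _ b _
    exact hcomm a b

/-- inflation from a quotient -/
theorem exists_inflation (N : Subgroup G) [N.Normal] (ψ : IrrCharacter (G ⧸ N)) :
    ∃ χ : IrrCharacter G, charDegree (χ : G → ℂ) = charDegree (ψ : G ⧸ N → ℂ) ∧
      ∀ g : G, (χ : G → ℂ) g = (ψ : G ⧸ N → ℂ) (g : G ⧸ N) := by
  refine ⟨⟨fun g => (ψ : G ⧸ N → ℂ) (g : G ⧸ N),
    Cfsg.Agent.Lib.Helper25.isIrrCharacter_inflation N ψ.2⟩, ?_, fun g => rfl⟩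
  apply ThompsonDeg.charDegree_eq
  show (ψ : G ⧸ N → ℂ) ((1 : G) : G ⧸ N) = _
  rw [QuotientGroup.mk_one, TwoDeg.apply_one_eq_charDegree ψ]

theorem CD3.quotient {m n : ℕ} (h : CD3 G m n) (N : Subgroup G) [N.Normal] :
    CD3 (G ⧸ N) m n := by
  intro ψ
  obtain ⟨χ, hχ, -⟩ := exists_inflation N ψ
  rw [← hχ]
  exact h χ

/-- the degrees of `G/Q'` are powers of `q` when `Q` is normal of `q`-power index -/
theorem quot_comm_degree_pow (Q : Subgroup G) [Q.Normal] (q : ℕ) (hq : q.Prime) (k : ℕ)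
    (hk : Q.index = q ^ k) (ψ : IrrCharacter (G ⧸ ⁅Q, Q⁆)) :
    ∃ j : ℕ, charDegree (ψ : G ⧸ ⁅Q, Q⁆ → ℂ) = q ^ j := by
  classical
  set A : Subgroup (G ⧸ ⁅Q, Q⁆) := Q.map (QuotientGroup.mk' ⁅Q, Q⁆) with hA
  haveI hAn : A.Normal :=
    Subgroup.Normal.map inferInstance _ (QuotientGroup.mk'_surjective ⁅Q, Q⁆)
  have hcomm : ∀ a ∈ A, ∀ b ∈ A, a * b = b * a := by
    rintro _ ⟨x, hx, rfl⟩ _ ⟨y, hy, rfl⟩
    rw [← map_mul, ← map_mul, QuotientGroup.mk'_apply, QuotientGroup.mk'_apply, QuotientGroup.eq]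
    have : (x * y)⁻¹ * (y * x) = ⁅y⁻¹, x⁻¹⁆ := by
      rw [commutatorElement_def]; group
    rw [this]
    exact Subgroup.commutator_mem_commutator (Q.inv_mem hy) (Q.inv_mem hx)
  obtain ⟨d, hd, hdvd⟩ := ito_aux (Nat.card (G ⧸ ⁅Q, Q⁆)) (G ⧸ ⁅Q, Q⁆) rfl
    (ψ : G ⧸ ⁅Q, Q⁆ → ℂ) ψ.2 A hcomm
  have h1 : d ∣ q ^ k := by
    rw [← hk]
    exact hdvd.trans (Subgroup.index_map_dvd Q (QuotientGroup.mk'_surjective ⁅Q, Q⁆))
  obtain ⟨j, _, hj⟩ := (Nat.dvd_prime_pow hq).mp h1
  exact ⟨j, by rw [ThompsonDeg.charDegree_eq hd, hj]⟩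

end Chars

section Fin

variable {G : Type u} [Group G] [Fintype G]

/-- degrees of a normal Hall subgroup of `q`-power index -/
theorem hall_degree (Q : Subgroup G) [Q.Normal] (q : ℕ) (hq : q.Prime)
    (hcop : (Nat.card Q).Coprime q) (k : ℕ) (hk : Q.index = q ^ k) (θ : IrrCharacter Q) :
    ∃ χ : IrrCharacter G, charDegree (θ : Q → ℂ) = ordCompl[q] (charDegree (χ : G → ℂ)) := by
  classical
  haveI : Fintype Q := Fintype.ofFinite Q
  obtain ⟨χ, hχ⟩ := Cfsg.Agent.Lib.Helper7.exists_irr_over Q θ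
  obtain ⟨b, d, hd, hbd, hb⟩ := DegreeRatio.main Q (χ : G → ℂ) χ.2 (θ : Q → ℂ) θ.2 hχ
  refine ⟨χ, ?_⟩
  rw [ThompsonDeg.charDegree_eq hd, ThompsonDeg.charDegree_eq hbd]
  rw [hk] at hb
  obtain ⟨j, _, hj⟩ := (Nat.dvd_prime_pow hq).mp hb
  rw [hj]
  have hdq : ¬ q ∣ d := by
    obtain ⟨d', hd', hdvd, _⟩ := IrrCharacter.exists_degree θ
    have hdd : d = d' := by exact_mod_cast hd.symm.trans hd'
    intro hqd
    rw [hdd] at hqd
    have := Nat.Coprime.eq_one_of_dvd hcop.symm (hqd.trans hdvd)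
    exact hq.one_lt.ne' this
  exact (Nat.ordCompl_pow_mul_of_not_dvd j hq hdq).symm

/-- a constituent of the restriction having the full degree is the restriction -/
theorem restrict_eq_of_degree_eq (K : Subgroup G) [Fintype K] (χ : IrrCharacter G)
    (θ : IrrCharacter K) (hcon : classInner (fun k : K => (χ : G → ℂ) k) (θ : K → ℂ) ≠ 0)
    (hdeg : charDegree (θ : K → ℂ) = charDegree (χ : G → ℂ)) :
    (fun k : K => (χ : G → ℂ) k) = (θ : K → ℂ) := by
  have hΨ : IsCharacter K (fun k : K => (χ : G → ℂ) k) :=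
    IsCharacter.restrict (IsIrrCharacter.isCharacter χ.2) K
  have ha : (fun k : K => (χ : G → ℂ) k) 1 = (charDegree (χ : G → ℂ) : ℂ) := by
    show (χ : G → ℂ) ((1 : K) : G) = _
    rw [Subgroup.coe_one, TwoDeg.apply_one_eq_charDegree χ]
  have hb : (θ : K → ℂ) 1 = (charDegree (θ : K → ℂ) : ℂ) := TwoDeg.apply_one_eq_charDegree θ
  exact BG.eq_of_classInner_ne_zero_of_degree_le hΨ θ hcon ha hb (le_of_eq hdeg.symm)

/-- Gallagher: if `η` restricts irreducibly to the normal subgroup `N` and `β` is an irreducible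
character with `N` in its kernel, then `β η` is irreducible -/
theorem gallagher_mul (N : Subgroup G) [hN : N.Normal] [Fintype N] {η β : G → ℂ}
    (hη : IsIrrCharacter G η) (hηN : IsIrrCharacter N (fun n : N => η n))
    (hβ : IsIrrCharacter G β) (hker : ∀ n ∈ N, β n = β 1) : IsIrrCharacter G (β * η) := by
  have hone : IsIrrCharacter N (fun _ : N => (1 : ℂ)) :=
    Cfsg.Agent.Lib.Helper25.isIrrCharacter_one
  have hinv : ∀ g : G, Cfsg.Agent.Lib.Helper11.conjFn N g (fun _ : N => (1 : ℂ))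
      = fun _ : N => (1 : ℂ) := fun g => rfl
  have hmul : ((fun _ : N => (1 : ℂ)) * fun n : N => η n) = fun n : N => η n := by
    funext n
    rw [Pi.mul_apply, one_mul]
  have hprod : IsIrrCharacter N ((fun _ : N => (1 : ℂ)) * fun n : N => η n) := by
    rw [hmul]; exact hηN
  obtain ⟨h1, -, -⟩ := Cfsg.Agent.Lib.Helper7.gallagher_rigidity N hone hinv
    (IsIrrCharacter.isCharacter hη) hprod
  apply (h1 β hβ ?_).1
  rw [frobenius_reciprocity N _ _ (IsCharacter.isClassFunction (IsIrrCharacter.isCharacter hβ))]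
  have hN0 : (Nat.card N : ℂ) ≠ 0 := Nat.cast_ne_zero.2 Nat.card_pos.ne'
  rw [classInner_def]
  have h3 : ∑ n : N, (1 : ℂ) * conj (β n) = (Nat.card N : ℂ) * conj (β 1) := by
    have h4 : ∀ n ∈ (Finset.univ : Finset N), (1 : ℂ) * conj (β (n : G)) = conj (β 1) := by
      intro n _
      rw [one_mul, hker n n.2]
    rw [Finset.sum_congr rfl h4, Finset.sum_const, Finset.card_univ, Nat.card_eq_fintype_card,
      nsmul_eq_mul]
  rw [h3, ← mul_assoc, inv_mul_cancel₀ hN0, one_mul]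
  exact fun h0 => IsIrrCharacter.apply_one_ne_zero hβ ((map_eq_zero _).1 h0)

/-- the norm of the restriction of a function vanishing off a subgroup -/
theorem classInner_restrict_of_vanish (K : Subgroup G) [Fintype K] (ψ : G → ℂ)
    (hvan : ∀ x : G, x ∉ K → ψ x = 0) :
    classInner (fun k : K => ψ k) (fun k : K => ψ k) = (K.index : ℂ) * classInner ψ ψ := by
  classical
  rw [classInner_def, classInner_def]
  have hsum : ∑ x : G, ψ x * conj (ψ x) = ∑ k : K, ψ k * conj (ψ k) := by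
    have h1 : ∑ x : G, ψ x * conj (ψ x)
        = ∑ x ∈ Finset.univ.filter (fun x : G => x ∈ K), ψ x * conj (ψ x) := by
      rw [Finset.sum_filter]
      apply Finset.sum_congr rfl
      intro x _
      by_cases hx : x ∈ K
      · rw [if_pos hx]
      · rw [if_neg hx, hvan x hx, zero_mul]
    rw [h1]
    exact Finset.sum_subtype (Finset.univ.filter (fun x : G => x ∈ K))
      (fun x => by rw [Finset.mem_filter]; exact ⟨fun h => h.2, fun h => ⟨Finset.mem_univ _, h⟩⟩)
      (fun x => ψ x * conj (ψ x))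
  rw [hsum, ← mul_assoc]
  congr 1
  have hK0 : (Nat.card K : ℂ) ≠ 0 := Nat.cast_ne_zero.2 Nat.card_pos.ne'
  have hG0 : (Nat.card G : ℂ) ≠ 0 := Nat.cast_ne_zero.2 Nat.card_pos.ne'
  have hci : (Nat.card K : ℂ) * (K.index : ℂ) = (Nat.card G : ℂ) := by
    rw [← Nat.cast_mul, Subgroup.card_mul_index]
  have hI0 : (K.index : ℂ) ≠ 0 := by
    intro h0
    rw [h0, mul_zero] at hci
    exact hG0 hci.symm
  rw [← hci]
  field_simp

end Fin

end Cfsg.Agent.Lib.Helper20.CD3
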