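import Mathlib
import Cfsg.Prelude.Def_Blocks
import Cfsg.Agent.Lib.Helper2.Taketa
import Cfsg.Agent.Lib.Helper2.TwoDegrees
import Cfsg.Agent.Lib.Helper25.LinearChar
import Cfsg.Agent.S0858

/-!
# Three character degrees: the monomial case (helper20)

* a group with an abelian normal subgroup of prime power index is monomial;
* a monomial group with at most three character degrees has derived length at most three.
-/

set_option autoImplicit false
set_option linter.style.haveILetI false
set_option linter.unusedSectionVars false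

namespace Cfsg.Agent.Lib.Helper20.CD3

open Cfsg Cfsg.Agent.Lib.Helper2
open scoped ComplexConjugate commutatorElement

/-- a nontrivial normal subgroup of a finite `q`-group contains a normal subgroup of order `q` -/
theorem exists_normal_card_prime {P : Type*} [Group P] [Finite P] {q : ℕ} [hq : Fact q.Prime]
    (hP : IsPGroup q P) (A : Subgroup P) [hA : A.Normal] (hA1 : A ≠ ⊥) :
    ∃ Z : Subgroup P, Z.Normal ∧ Z ≤ A ∧ Nat.card Z = q := by
  classical
  letI : MulAction P A := MulAction.compHom A (MulAut.conjNormal (H := A))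
  have hsmul : ∀ (g : P) (a : A), ((g • a : A) : P) = g * a * g⁻¹ := by
    intro g a
    rfl
  have hdvd : q ∣ Nat.card A := by
    rcases (hP.to_subgroup A).card_eq_or_dvd with h1 | h1
    · exact absurd (Subgroup.card_eq_one.mp h1) hA1
    · exact h1
  have hfix : (1 : A) ∈ MulAction.fixedPoints P A := by
    rw [MulAction.mem_fixedPoints]
    intro g
    apply Subtype.ext
    rw [hsmul]
    simp
  obtain ⟨b, hb, hb1⟩ := hP.exists_fixed_point_of_prime_dvd_card_of_fixed_point A hdvd hfix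
  rw [MulAction.mem_fixedPoints] at hb
  have hbc : (b : P) ∈ Subgroup.center P := by
    rw [Subgroup.mem_center_iff]
    intro g
    have := congrArg Subtype.val (hb g)
    rw [hsmul] at this
    calc g * (b : P) = g * (b : P) * g⁻¹ * g := by group
      _ = (b : P) * g := by rw [this]
  have hbne : (b : P) ≠ 1 := by
    intro h
    apply hb1
    apply Subtype.ext
    rw [Subgroup.coe_one, h]
  obtain ⟨k, hk⟩ := IsPGroup.iff_orderOf.mp hP (b : P)
  have hqdvd : q ∣ orderOf (b : P) := by
    rw [hk]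
    rcases Nat.eq_zero_or_pos k with h0 | h0
    · exfalso
      rw [h0, pow_zero, orderOf_eq_one_iff] at hk
      exact hbne hk
    · exact dvd_pow_self q (by omega)
  set z : P := (b : P) ^ (orderOf (b : P) / q) with hz
  have hzord : orderOf z = q :=
    orderOf_pow_orderOf_div (orderOf_pos (b : P)).ne' hqdvd
  have hzc : z ∈ Subgroup.center P := Subgroup.pow_mem _ hbc _
  have hzA : z ∈ A := Subgroup.pow_mem _ b.2 _
  refine ⟨Subgroup.zpowers z, ⟨?_⟩, ?_, ?_⟩
  · intro n hn g
    have hnc : n ∈ Subgroup.center P := (Subgroup.zpowers_le.mpr hzc) hn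
    rw [Subgroup.mem_center_iff] at hnc
    have : g * n * g⁻¹ = n := by rw [hnc g]; group
    rw [this]
    exact hn
  · exact Subgroup.zpowers_le.mpr hzA
  · rw [Nat.card_zpowers, hzord]

/-- chief factors above a normal subgroup of `q`-power index have order `q` -/
theorem relIndex_eq_prime_of_chief {G : Type*} [Group G] [Finite G] (Q : Subgroup G) [Q.Normal]
    (q : ℕ) [hq : Fact q.Prime] (k : ℕ) (hidx : Q.index = q ^ k) (H K L : Subgroup G)
    (hQL : Q ≤ L) (hLK : L < K) (hKH : K ≤ H)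
    (hK : ∀ h ∈ H, ∀ k ∈ K, h * k * h⁻¹ ∈ K) (hL : ∀ h ∈ H, ∀ l ∈ L, h * l * h⁻¹ ∈ L)
    (hmin : ∀ M : Subgroup G, L ≤ M → M ≤ K → (∀ h ∈ H, ∀ m ∈ M, h * m * h⁻¹ ∈ M) →
      M = L ∨ M = K) :
    L.relIndex K = q := by
  classical
  have hLH : L ≤ H := hLK.le.trans hKH
  set L' : Subgroup H := L.subgroupOf H with hL'
  set K' : Subgroup H := K.subgroupOf H with hK'
  haveI hL'n : L'.Normal := by
    constructor
    intro n hn g
    rw [hL', Subgroup.mem_subgroupOf] at hn ⊢
    simpa using hL g g.2 n hn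
  haveI hK'n : K'.Normal := by
    constructor
    intro n hn g
    rw [hK', Subgroup.mem_subgroupOf] at hn ⊢
    simpa using hK g g.2 n hn
  have hL'K' : L' ≤ K' := by
    intro x hx
    rw [hL', Subgroup.mem_subgroupOf] at hx
    rw [hK', Subgroup.mem_subgroupOf]
    exact hLK.le hx
  -- the quotient is a `q`-group
  have hcard : ∃ j : ℕ, Nat.card (H ⧸ L') = q ^ j := by
    have h1 : Nat.card (H ⧸ L') = L.relIndex H := by
      rw [← Subgroup.index_eq_card]
      rfl
    have h2 : L.relIndex H ∣ q ^ k := by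
      rw [← hidx]
      exact (Subgroup.relIndex_dvd_of_le_left H hQL).trans (Subgroup.relIndex_dvd_index_of_normal Q H)
    rw [h1]
    obtain ⟨j, _, hj⟩ := (Nat.dvd_prime_pow hq.out).mp h2
    exact ⟨j, hj⟩
  obtain ⟨j, hj⟩ := hcard
  have hP : IsPGroup q (H ⧸ L') := IsPGroup.of_card hj
  set A : Subgroup (H ⧸ L') := K'.map (QuotientGroup.mk' L') with hA
  haveI hAn : A.Normal := Subgroup.Normal.map hK'n _ (QuotientGroup.mk'_surjective L')
  have hA1 : A ≠ ⊥ := by
    intro h0
    rw [hA, Subgroup.map_eq_bot_iff, QuotientGroup.ker_mk'] at h0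
    apply not_le_of_gt hLK
    intro x hx
    have : (⟨x, hKH hx⟩ : H) ∈ L' := h0 (by rw [hK', Subgroup.mem_subgroupOf]; exact hx)
    rw [hL', Subgroup.mem_subgroupOf] at this
    exact this
  obtain ⟨Z, hZn, hZA, hZcard⟩ := exists_normal_card_prime hP A hA1
  set M' : Subgroup H := Z.comap (QuotientGroup.mk' L') with hM'
  haveI hM'n : M'.Normal := Subgroup.Normal.comap hZn _
  have hM'map : M'.map (QuotientGroup.mk' L') = Z :=
    Subgroup.map_comap_eq_self_of_surjective (QuotientGroup.mk'_surjective L') Z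
  have hL'M' : L' ≤ M' := by
    intro x hx
    rw [hM', Subgroup.mem_comap]
    have : (QuotientGroup.mk' L') x = 1 := by
      rw [QuotientGroup.mk'_apply, QuotientGroup.eq_one_iff]
      exact hx
    rw [this]
    exact Z.one_mem
  have hM'K' : M' ≤ K' := by
    intro y hy
    rw [hM', Subgroup.mem_comap] at hy
    obtain ⟨k', hk', hk'y⟩ := hZA hy
    rw [QuotientGroup.mk'_apply, QuotientGroup.mk'_apply, QuotientGroup.eq] at hk'y
    have : y = k' * (k'⁻¹ * y) := by group
    rw [this]
    exact K'.mul_mem hk' (hL'K' hk'y)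
  set M : Subgroup G := M'.map H.subtype with hM
  have hLM : L ≤ M := by
    intro x hx
    refine ⟨⟨x, hLH hx⟩, hL'M' ?_, rfl⟩
    rw [hL', Subgroup.mem_subgroupOf]
    exact hx
  have hMK : M ≤ K := by
    rintro _ ⟨y, hy, rfl⟩
    have := hM'K' hy
    rw [hK', Subgroup.mem_subgroupOf] at this
    exact this
  have hMinv : ∀ h ∈ H, ∀ m ∈ M, h * m * h⁻¹ ∈ M := by
    rintro h hh _ ⟨y, hy, rfl⟩
    refine ⟨(⟨h, hh⟩ : H) * y * (⟨h, hh⟩ : H)⁻¹, hM'n.conj_mem y hy _, ?_⟩
    simp
  have hrel : L.relIndex K = Nat.card A := by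
    rw [← Subgroup.relIndex_subgroupOf hKH, hA, ← Subgroup.relIndex_ker, QuotientGroup.ker_mk']
  rcases hmin M hLM hMK hMinv with h0 | h0
  · exfalso
    have hM'L' : M' ≤ L' := by
      intro y hy
      rw [hL', Subgroup.mem_subgroupOf, ← h0]
      exact ⟨y, hy, rfl⟩
    have hZbot : Z = ⊥ := by
      rw [← hM'map, Subgroup.map_eq_bot_iff, QuotientGroup.ker_mk']
      exact hM'L'
    rw [hZbot, Subgroup.card_bot] at hZcard
    exact hq.out.one_lt.ne hZcard
  · have hK'M' : K' ≤ M' := by
      intro y hy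
      rw [hK', Subgroup.mem_subgroupOf, ← h0] at hy
      obtain ⟨y', hy', hyy'⟩ := hy
      have : y' = y := Subtype.ext hyy'
      rw [← this]
      exact hy'
    have hAZ : A = Z := by
      rw [hA, ← hM'map, le_antisymm hK'M' hM'K']
    rw [hrel, hAZ, hZcard]

/-- a group with an abelian normal subgroup of prime power index is monomial -/
theorem monomial_of_abelian_prime_power_index {G : Type*} [Group G] [Fintype G]
    (Q : Subgroup G) [Q.Normal] (hQ : ∀ a ∈ Q, ∀ b ∈ Q, a * b = b * a)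
    (q : ℕ) (hq : q.Prime) (hidx : ∃ k : ℕ, Q.index = q ^ k)
    (χ : G → ℂ) (hχ : Cfsg.IsIrrCharacter G χ) :
    ∃ (U : Subgroup G) (lam : U → ℂ), Cfsg.IsCharacter U lam ∧ lam 1 = 1 ∧
      Cfsg.indFun U lam = χ := by
  haveI : Fact q.Prime := ⟨hq⟩
  obtain ⟨k, hk⟩ := hidx
  have hsolv : Group.IsSolvable (G ⧸ Q) := by
    have hP : IsPGroup q (G ⧸ Q) :=
      IsPGroup.of_card (n := k) (by rw [← Subgroup.index_eq_card, hk])
    haveI := hP.isNilpotent
    infer_instance
  have hchief : ∀ (H K L : Subgroup G), Q ≤ L → L < K → K ≤ H →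
      (∀ h ∈ H, ∀ k ∈ K, h * k * h⁻¹ ∈ K) → (∀ h ∈ H, ∀ l ∈ L, h * l * h⁻¹ ∈ L) →
      (∀ M : Subgroup G, L ≤ M → M ≤ K → (∀ h ∈ H, ∀ m ∈ M, h * m * h⁻¹ ∈ M) → M = L ∨ M = K) →
      ¬ IsSquare (L.relIndex K) := by
    intro H K L hQL hLK hKH hK hL hmin
    rw [relIndex_eq_prime_of_chief Q q k hk H K L hQL hLK hKH hK hL hmin]
    exact (Nat.Prime.prime hq).not_isSquare
  obtain ⟨H, hNH, ψ, hψ, hind, hres⟩ := Cfsg.Agent.S0858.result Q hsolv hchief χ hχ
  refine ⟨H, ψ, IsIrrCharacter.isCharacter hψ, ?_, hind⟩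
  have h1 := IsIrrCharacter.apply_one_of_comm
    (fun a b : Q => Subtype.ext (hQ a a.2 b b.2)) hres
  exact h1

section Taketa

variable {G : Type*} [Group G] [Fintype G]

theorem multiset_sum_apply_one (m : Multiset (IrrCharacter G)) :
    (m.map (fun ψ : IrrCharacter G => (ψ : G → ℂ) 1)).sum
      = (((m.map (fun ψ : IrrCharacter G => charDegree (ψ : G → ℂ))).sum : ℕ) : ℂ) := by
  induction m using Multiset.induction_on with
  | empty => simp
  | cons a s ihs =>
    rw [Multiset.map_cons, Multiset.sum_cons, Multiset.map_cons, Multiset.sum_cons, ihs,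
      TwoDeg.apply_one_eq_charDegree a]
    push_cast
    rfl

theorem multiset_sum_apply (m : Multiset (IrrCharacter G)) (g : G) :
    ((m.map (fun χ : IrrCharacter G => (χ : G → ℂ))).sum) g
      = (m.map (fun ψ : IrrCharacter G => (ψ : G → ℂ) g)).sum := by
  induction m using Multiset.induction_on with
  | empty => simp
  | cons a s ihs =>
    rw [Multiset.map_cons, Multiset.sum_cons, Multiset.map_cons, Multiset.sum_cons, Pi.add_apply,
      ihs]

/-- the inductive step of Taketa's argument -/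
theorem taketa_step (N : Subgroup G) [hN : N.Normal] (χ : IrrCharacter G)
    (hM : ∃ (U : Subgroup G) (lam : U → ℂ), IsCharacter U lam ∧ lam 1 = 1 ∧
      indFun U lam = (χ : G → ℂ))
    (hlow : ∀ ψ : IrrCharacter G, charDegree (ψ : G → ℂ) < charDegree (χ : G → ℂ) →
      ∀ n ∈ N, (ψ : G → ℂ) n = (ψ : G → ℂ) 1) :
    ∀ n ∈ ⁅N, N⁆, (χ : G → ℂ) n = (χ : G → ℂ) 1 := by
  classical
  obtain ⟨H, lam0, hlam0, hlam01, hχ⟩ := hM
  obtain ⟨lam, hlam⟩ := Cfsg.Agent.Lib.Helper25.exists_hom_of_linear hlam0 hlam01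
  have hlam0eq : lam0 = fun h => ((lam h : ℂˣ) : ℂ) := funext hlam
  have hidx : (H.index : ℂ) = (χ : G → ℂ) 1 := by
    have h1 := indFun_apply_one H lam0
    rw [hχ, hlam01, mul_one] at h1
    exact h1.symm
  have hidx' : H.index = charDegree (χ : G → ℂ) := by
    rw [TwoDeg.apply_one_eq_charDegree χ] at hidx
    exact_mod_cast hidx
  set π : G → ℂ := indFun H (fun _ => (1 : ℂ)) with hπ
  have hπchar : IsCharacter G π :=
    indFun_isCharacter H _ (IsIrrCharacter.isCharacter isIrrCharacter_one)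
  have hπ1 : π 1 = (H.index : ℂ) := by
    rw [hπ, indFun_apply_one]; simp
  have hne : classInner π ((trivialIrr G : IrrCharacter G) : G → ℂ) ≠ 0 := by
    haveI : Fintype H := Fintype.ofFinite H
    rw [hπ, frobenius_reciprocity H _ _ (IrrCharacter.isClassFunction (trivialIrr G))]
    have : classInner (fun _ : H => (1 : ℂ))
        (fun h : H => ((trivialIrr G : IrrCharacter G) : G → ℂ) h) = 1 :=
      classInner_irrCharacter_self (trivialIrr H)
    rw [this]
    exact one_ne_zero
  obtain ⟨Ψ, hΨ, hsum⟩ := exists_add_of_classInner_ne_zero hπchar (trivialIrr G) hne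
  obtain ⟨m, hm⟩ := IsCharacter.exists_multiset_irr hΨ
  have hπapply : ∀ g : G,
      π g = 1 + (m.map (fun ψ : IrrCharacter G => (ψ : G → ℂ) g)).sum := by
    intro g
    have h1 := congrFun hsum g
    rw [Pi.add_apply, hm, multiset_sum_apply] at h1
    rw [h1]
    rfl
  have hdegsum : (m.map (fun ψ : IrrCharacter G => charDegree (ψ : G → ℂ))).sum + 1
      = H.index := by
    have h1 := hπapply 1
    rw [hπ1, multiset_sum_apply_one] at h1
    have h3 : H.index = 1 + (m.map (fun ψ : IrrCharacter G => charDegree (ψ : G → ℂ))).sum := by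
      exact_mod_cast h1
    omega
  have hdeglt : ∀ ψ ∈ m, charDegree (ψ : G → ℂ) < charDegree (χ : G → ℂ) := by
    intro ψ hψ
    have := Multiset.single_le_sum (fun _ _ => Nat.zero_le _) _
      (Multiset.mem_map_of_mem (fun ψ : IrrCharacter G => charDegree (ψ : G → ℂ)) hψ)
    omega
  have hNH : N ≤ H := by
    intro g hg
    apply mem_of_indFun_one_eq H
    change π g = π 1
    rw [hπapply g, hπapply 1]
    congr 2
    apply Multiset.map_congr rfl
    intro ψ hψ
    exact hlow ψ (hdeglt ψ hψ) g hg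
  have hker : ⁅N, N⁆ ≤ (MonoidHom.ker lam).map H.subtype := by
    rw [Subgroup.commutator_le]
    intro g₁ hg₁ g₂ hg₂
    refine ⟨⁅(⟨g₁, hNH hg₁⟩ : H), ⟨g₂, hNH hg₂⟩⁆, ?_, rfl⟩
    rw [SetLike.mem_coe, MonoidHom.mem_ker, map_commutatorElement]
    exact commutatorElement_eq_one_iff_commute.mpr (Commute.all _ _)
  haveI : (⁅N, N⁆).Normal := Subgroup.commutator_normal N N
  have hNH' : ⁅N, N⁆ ≤ H := fun g hg => by
    obtain ⟨y, _, rfl⟩ := hker hg
    exact y.2
  intro n hn
  rw [← hχ, hlam0eq]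
  apply indFun_apply_eq_apply_one_of_normal H ⁅N, N⁆ hNH' _ _ hn
  intro g hg
  obtain ⟨y, hy, hyg⟩ := hker hg
  have hy' : lam y = 1 := hy
  have : (⟨g, hNH' hg⟩ : H) = y := Subtype.ext hyg.symm
  rw [this, hy', map_one]

/-- refined Taketa theorem for three degrees -/
theorem taketa_three (m n : ℕ) (hm : 1 < m) (hmn : m < n)
    (hcd : ∀ χ : Cfsg.IrrCharacter G, Cfsg.charDegree (χ : G → ℂ) = 1 ∨
      Cfsg.charDegree (χ : G → ℂ) = m ∨ Cfsg.charDegree (χ : G → ℂ) = n)
    (hM : ∀ χ : G → ℂ, Cfsg.IsIrrCharacter G χ → ∃ (U : Subgroup G) (lam : U → ℂ),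
      Cfsg.IsCharacter U lam ∧ lam 1 = 1 ∧ Cfsg.indFun U lam = χ) :
    derivedSeries G 3 = ⊥ := by
  classical
  have h1 : ∀ χ : IrrCharacter G, charDegree (χ : G → ℂ) = 1 →
      ∀ g ∈ derivedSeries G 1, (χ : G → ℂ) g = (χ : G → ℂ) 1 := by
    intro χ hχ
    have := taketa_step (⊤ : Subgroup G) χ (hM χ χ.2) (fun ψ hψ => by
      exfalso
      rcases hcd ψ with h | h | h <;> omega)
    intro g hg
    apply this g
    rw [derivedSeries_succ, derivedSeries_zero] at hg
    exact hg
  haveI hn1 : (derivedSeries G 1).Normal := derivedSeries_normal G 1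
  have h2 : ∀ χ : IrrCharacter G, charDegree (χ : G → ℂ) = 1 ∨ charDegree (χ : G → ℂ) = m →
      ∀ g ∈ derivedSeries G 2, (χ : G → ℂ) g = (χ : G → ℂ) 1 := by
    intro χ hχ g hg
    rcases hχ with hχ | hχ
    · exact h1 χ hχ g (derivedSeries_antitone G (by norm_num) hg)
    · have := taketa_step (derivedSeries G 1) χ (hM χ χ.2) (fun ψ hψ => by
        apply h1 ψ
        rcases hcd ψ with h | h | h <;> omega)
      apply this g
      rw [derivedSeries_succ] at hg
      exact hg
  haveI hn2 : (derivedSeries G 2).Normal := derivedSeries_normal G 2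
  have h3 : ∀ χ : IrrCharacter G,
      ∀ g ∈ derivedSeries G 3, (χ : G → ℂ) g = (χ : G → ℂ) 1 := by
    intro χ g hg
    rcases hcd χ with hχ | hχ | hχ
    · exact h2 χ (Or.inl hχ) g (derivedSeries_antitone G (by norm_num) hg)
    · exact h2 χ (Or.inr hχ) g (derivedSeries_antitone G (by norm_num) hg)
    · have := taketa_step (derivedSeries G 2) χ (hM χ χ.2) (fun ψ hψ => by
        apply h2 ψ
        rcases hcd ψ with h | h | h
        · exact Or.inl h
        · exact Or.inr h
        · omega)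
      apply this g
      rw [derivedSeries_succ] at hg
      exact hg
  rw [eq_bot_iff]
  intro g hg
  rw [Subgroup.mem_bot]
  have hconj : IsConj g 1 := by
    rw [isConj_iff_forall_irrCharacter]
    intro χ
    exact h3 χ g hg
  exact isConj_one_left.mp hconj

end Taketa

end Cfsg.Agent.Lib.Helper20.CD3
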