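import Mathlib
import Cfsg.Prelude.Def_Blocks
import Cfsg.Agent.Lib.Helper20.CD3Tools
import Cfsg.Agent.Lib.Helper20.CD3Taketa

/-!
# Three character degrees: the case of a common prime divisor (helper20)
-/

set_option autoImplicit false
set_option linter.style.haveILetI false
set_option linter.unusedSectionVars false

namespace Cfsg.Agent.Lib.Helper20.CD3

open Cfsg Cfsg.Agent.Lib.Helper2
open scoped ComplexConjugate commutatorElement

universe u

section StepOne

variable {G : Type u} [Group G] [Fintype G]

/-- exactly one of the two non-linear degrees is a power of `q` -/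
theorem step_one_mixed (Q : Subgroup G) [Q.Normal] (q : ℕ) (hq : q.Prime) (k : ℕ)
    (hk : Q.index = q ^ k) (f g : ℕ)
    (hcd : ∀ χ : IrrCharacter G, charDegree (χ : G → ℂ) = 1 ∨ charDegree (χ : G → ℂ) = f ∨
      charDegree (χ : G → ℂ) = g)
    (g' : ℕ) (hg' : ordCompl[q] g = g') (hg1 : g' ≠ 1)
    (hcdQ : ∀ θ : IrrCharacter Q, charDegree (θ : Q → ℂ) = 1 ∨ charDegree (θ : Q → ℂ) = g') :
    derivedSeries G 3 = ⊥ := by
  have hQ' := two_deg_comm g' hcdQ
  have hD : ∀ ψ : IrrCharacter (G ⧸ ⁅Q, Q⁆), charDegree (ψ : G ⧸ ⁅Q, Q⁆ → ℂ) = 1 ∨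
      charDegree (ψ : G ⧸ ⁅Q, Q⁆ → ℂ) = f := by
    intro ψ
    obtain ⟨j, hj⟩ := quot_comm_degree_pow Q q hq k hk ψ
    obtain ⟨χ, hχ, -⟩ := exists_inflation ⁅Q, Q⁆ ψ
    rcases hcd χ with h | h | h
    · left; rw [← hχ, h]
    · right; rw [← hχ, h]
    · exfalso
      apply hg1
      rw [← hg', ← h, hχ, hj]
      exact Nat.ordCompl_self_pow hq
  have hD' := two_deg_comm f hD
  have hD2 : derivedSeries (G ⧸ ⁅Q, Q⁆) 2 = ⊥ := derivedSeries_two_eq_bot hD'
  have h2 : derivedSeries G 2 ≤ ⁅Q, Q⁆ := by
    have h3 := map_derivedSeries_eq (QuotientGroup.mk'_surjective ⁅Q, Q⁆) 2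
    rw [hD2, Subgroup.map_eq_bot_iff, QuotientGroup.ker_mk'] at h3
    exact h3
  exact d3_of_d2_le Q h2 hQ'

theorem step_one (m n : ℕ) (hm : 1 < m) (hmn : m < n) (hcd : CD3 G m n)
    (hom : ∃ χ : IrrCharacter G, charDegree (χ : G → ℂ) = m)
    (q : ℕ) (hq : q.Prime) (hqm : q ∣ m) (hqn : q ∣ n)
    (IH : ∀ (H : Type u) [Group H] [Finite H], Nat.card H < Nat.card G →
      ∀ a b : ℕ, CD3 H a b → derivedSeries H 3 = ⊥) :
    derivedSeries G 3 = ⊥ := by
  classical
  haveI : Fact q.Prime := ⟨hq⟩
  have hdeg : ∀ χ : IrrCharacter G, charDegree (χ : G → ℂ) ≠ 1 →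
      q ∣ charDegree (χ : G → ℂ) := by
    intro χ h1
    rcases hcd χ with h | h | h
    · exact absurd h h1
    · rw [h]; exact hqm
    · rw [h]; exact hqn
  obtain ⟨hQn, hQcop, k, hk⟩ := ThompsonDeg.exists_normal_pcomplement q hdeg
  set Q : Subgroup G := pResidual q G with hQ
  haveI := hQn
  set m' := ordCompl[q] m with hm'
  set n' := ordCompl[q] n with hn'
  have hcdQ : CD3 Q m' n' := by
    intro θ
    obtain ⟨χ, hχ⟩ := hall_degree Q q hq hQcop k hk θ
    rw [hχ]
    rcases hcd χ with h | h | h
    · left; rw [h]; simp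
    · right; left; rw [h]
    · right; right; rw [h]
  by_cases hm1 : m' = 1
  · by_cases hn1 : n' = 1
    · -- both degrees are powers of `q`: `Q` is abelian and `G` is monomial
      have hQab : ∀ a ∈ Q, ∀ b ∈ Q, a * b = b * a := by
        have hall : ∀ θ : IrrCharacter Q, (θ : Q → ℂ) 1 = 1 := by
          intro θ
          rw [TwoDeg.apply_one_eq_charDegree θ]
          have : charDegree (θ : Q → ℂ) = 1 := by
            rcases hcdQ θ with h | h | h
            · exact h
            · rw [h, hm1]
            · rw [h, hn1]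
          rw [this]
          simp
        have hc := comm_iff_forall_irr_degree_one.mpr hall
        intro a ha b hb
        exact congrArg Subtype.val (hc ⟨a, ha⟩ ⟨b, hb⟩)
      exact taketa_three m n hm hmn hcd
        (fun χ hχ => monomial_of_abelian_prime_power_index Q hQab q hq ⟨k, hk⟩ χ hχ)
    · -- `m` is a power of `q`, `n` is not
      apply step_one_mixed Q q hq k hk m n hcd n' hn'.symm hn1
      intro θ
      rcases hcdQ θ with h | h | h
      · exact Or.inl h
      · left; rw [h, hm1]
      · exact Or.inr h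
  · by_cases hn1 : n' = 1
    · -- `n` is a power of `q`, `m` is not
      apply step_one_mixed Q q hq k hk n m (fun χ => by
        rcases hcd χ with h | h | h
        · exact Or.inl h
        · exact Or.inr (Or.inr h)
        · exact Or.inr (Or.inl h)) m' hm'.symm hm1
      intro θ
      rcases hcdQ θ with h | h | h
      · exact Or.inl h
      · exact Or.inr h
      · left; rw [h, hn1]
    · -- neither is a power of `q`
      have hDab : ∀ a b : G ⧸ ⁅Q, Q⁆, a * b = b * a := by
        apply comm_iff_forall_irr_degree_one.mpr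
        intro ψ
        rw [TwoDeg.apply_one_eq_charDegree ψ]
        obtain ⟨j, hj⟩ := quot_comm_degree_pow Q q hq k hk ψ
        have : charDegree (ψ : G ⧸ ⁅Q, Q⁆ → ℂ) = 1 := by
          rcases CD3.quotient hcd ⁅Q, Q⁆ ψ with h | h | h
          · exact h
          · exfalso
            apply hm1
            rw [hm', ← h, hj]
            exact Nat.ordCompl_self_pow hq
          · exfalso
            apply hn1
            rw [hn', ← h, hj]
            exact Nat.ordCompl_self_pow hq
        rw [this]
        simp
      have h1 : commutator G ≤ ⁅Q, Q⁆ := commutator_le_of_quotient_comm _ hDab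
      have hlt : Nat.card Q < Nat.card G := by
        have hk0 : k ≠ 0 := by
          rintro rfl
          rw [pow_zero] at hk
          have hcard : Nat.card Q = Nat.card G := by
            have := Subgroup.card_mul_index Q
            rw [hk, mul_one] at this
            exact this
          obtain ⟨χ, hχ⟩ := hom
          obtain ⟨d, hd, hdvd, _⟩ := IrrCharacter.exists_degree χ
          have hd' : charDegree (χ : G → ℂ) = d := ThompsonDeg.charDegree_eq hd
          have hqG : q ∣ Nat.card G := by
            apply hqm.trans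
            rw [← hχ, hd']
            exact hdvd
          rw [← hcard] at hqG
          have := Nat.Coprime.eq_one_of_dvd hQcop.symm hqG
          exact hq.one_lt.ne' this
        have hci := Subgroup.card_mul_index Q
        rw [hk] at hci
        have h2 : 2 ≤ q ^ k := Nat.one_lt_pow hk0 hq.one_lt
        have h3 : 0 < Nat.card Q := Nat.card_pos
        nlinarith
      have hQ3 := IH Q hlt m' n' hcdQ
      exact d3_of_d1_le Q h1 hQ3

end StepOne

end Cfsg.Agent.Lib.Helper20.CD3
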