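import Mathlib
import Cfsg.Prelude.Def_Blocks
import Cfsg.Agent.Lib.Helper2.TwoDegrees
import Cfsg.Agent.Lib.Helper2.DirectProduct
import Cfsg.Agent.Lib.Helper25.Kernel
import Cfsg.Agent.Lib.Helper25.MinNormal

/-!
# Three character degrees: the non-solvable configuration is impossible (helper20)

If `M = L'` is a non-abelian minimal normal subgroup of `L` and the irreducible character degrees
of `L` are `1 < m < n` with `m, n` coprime, we derive a contradiction.
-/

set_option autoImplicit false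
set_option linter.style.haveILetI false
set_option linter.unusedSectionVars false

namespace Cfsg.Agent.Lib.Helper20.CD3

open Cfsg Cfsg.Agent.Lib.Helper2 Cfsg.Agent.Lib.Helper25
open scoped ComplexConjugate commutatorElement

universe u

section Basic

variable {L : Type u} [Group L] [Fintype L]

/-- adjointness of multiplication for the class inner product -/
theorem classInner_mul_left (a b c : L → ℂ) :
    classInner (a * b) c = classInner b ((fun g => conj (a g)) * c) := by
  unfold classInner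
  congr 1
  apply Finset.sum_congr rfl
  intro g _
  simp only [Pi.mul_apply, map_mul, Complex.conj_conj]
  ring

theorem classInner_mul_right' (a b c : L → ℂ) :
    classInner a (b * c) = classInner ((fun g => conj (b g)) * a) c := by
  unfold classInner
  congr 1
  apply Finset.sum_congr rfl
  intro g _
  simp only [Pi.mul_apply, map_mul]
  ring

theorem classInner_mul_swap (a b c : L → ℂ) :
    classInner (a * b) c = conj (classInner ((fun g => conj (a g)) * c) b) := by
  unfold classInner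
  rw [map_mul, map_inv₀, Complex.conj_natCast, map_sum]
  congr 1
  apply Finset.sum_congr rfl
  intro g _
  simp only [Pi.mul_apply, map_mul, Complex.conj_conj]
  ring

/-- the degree as a natural number -/
theorem irr_apply_one (χ : IrrCharacter L) :
    (χ : L → ℂ) 1 = (charDegree (χ : L → ℂ) : ℂ) :=
  TwoDeg.apply_one_eq_charDegree χ

theorem irr_ne_of_degree_ne {χ ψ : IrrCharacter L}
    (h : charDegree (χ : L → ℂ) ≠ charDegree (ψ : L → ℂ)) : χ ≠ ψ := by
  intro he
  exact h (by rw [he])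

theorem classInner_eq_zero_of_degree_ne {φ : L → ℂ} (hφ : IsIrrCharacter L φ) (ψ : IrrCharacter L)
    (h : charDegree φ ≠ charDegree (ψ : L → ℂ)) : classInner φ (ψ : L → ℂ) = 0 := by
  classical
  rw [irr_classInner hφ ψ.2, if_neg]
  intro he
  exact h (by rw [he])

theorem isClassFunction_mul {a b : L → ℂ} (ha : IsClassFunction L a) (hb : IsClassFunction L b) :
    IsClassFunction L (a * b) := by
  intro g h
  simp only [Pi.mul_apply, ha g h, hb g h]

theorem isClassFunction_pow {a : L → ℂ} (ha : IsClassFunction L a) (k : ℕ) :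
    IsClassFunction L (a ^ k) := by
  intro g h
  simp only [Pi.pow_apply, ha g h]

theorem charDegree_conj {χ : L → ℂ} (hχ : IsIrrCharacter L χ) :
    charDegree (fun g => conj (χ g)) = charDegree χ := by
  obtain ⟨d, _, hd⟩ := IsIrrCharacter.apply_one hχ
  rw [ThompsonDeg.charDegree_eq hd]
  apply ThompsonDeg.charDegree_eq
  rw [hd]
  simp

theorem charDegree_mul {a b : L → ℂ} {d e : ℕ} (ha : a 1 = d) (hb : b 1 = e) :
    charDegree (a * b) = d * e := by
  apply ThompsonDeg.charDegree_eq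
  rw [Pi.mul_apply, ha, hb]
  push_cast
  ring

theorem classInner_eq_zero_of_degree_ne' (ψ : IrrCharacter L) {φ : L → ℂ} (hφ : IsIrrCharacter L φ)
    (h : charDegree (ψ : L → ℂ) ≠ charDegree φ) : classInner (ψ : L → ℂ) φ = 0 := by
  classical
  rw [irr_classInner ψ.2 hφ, if_neg]
  intro he
  exact h (by rw [he])

theorem quotient_commutator_comm (a b : L ⧸ commutator L) : a * b = b * a := by
  induction a using QuotientGroup.induction_on with
  | H x =>
  induction b using QuotientGroup.induction_on with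
  | H y =>
  rw [← QuotientGroup.mk_mul, ← QuotientGroup.mk_mul, QuotientGroup.eq]
  have : (x * y)⁻¹ * (y * x) = ⁅y⁻¹, x⁻¹⁆ := by
    rw [commutatorElement_def]; group
  rw [this]
  exact Subgroup.commutator_mem_commutator (Subgroup.mem_top _) (Subgroup.mem_top _)

end Basic

/-- the configuration to be refuted -/
structure Cfg (L : Type u) [Group L] [Fintype L] (m n : ℕ) : Prop where
  hm : 1 < m
  hmn : m < n
  hcop : Nat.Coprime m n
  hcd : ∀ χ : IrrCharacter L, charDegree (χ : L → ℂ) = 1 ∨ charDegree (χ : L → ℂ) = m ∨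
    charDegree (χ : L → ℂ) = n
  hmin : ∀ N : Subgroup L, N.Normal → N ≤ commutator L → N = ⊥ ∨ N = commutator L
  hnab : ¬ ∀ a ∈ commutator L, ∀ b ∈ commutator L, a * b = b * a

section Main

variable {L : Type u} [Group L] [Fintype L] [Fintype ↥(commutator L)] {m n : ℕ}

/-- a non-linear irreducible character is faithful on the commutator subgroup -/
theorem Cfg.ker_inf (h : Cfg L m n) (χ : IrrCharacter L) (hχ : charDegree (χ : L → ℂ) ≠ 1)
    {s : L} (hs : s ∈ commutator L) (h1 : (χ : L → ℂ) s = (χ : L → ℂ) 1) : s = 1 := by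
  obtain ⟨K, hKn, hK⟩ := exists_kernel (IsIrrCharacter.isCharacter χ.2)
  haveI := hKn
  have hN : (K ⊓ commutator L).Normal := inferInstance
  rcases h.hmin (K ⊓ commutator L) hN inf_le_right with h0 | h0
  · have : s ∈ K ⊓ commutator L := ⟨(hK s).2 h1, hs⟩
    rw [h0] at this
    exact Subgroup.mem_bot.mp this
  · exfalso
    have hle : commutator L ≤ K := by
      rw [← h0]; exact inf_le_left
    obtain ⟨ψ, hψ, hψχ⟩ := exists_deflation (commutator L) χ.2 (fun x hx => (hK x).1 (hle hx))
    have h2 : ψ 1 = 1 := IsIrrCharacter.apply_one_of_comm quotient_commutator_comm hψ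
    apply hχ
    apply ThompsonDeg.charDegree_eq
    rw [hψχ 1, QuotientGroup.mk_one, h2]
    simp

theorem Cfg.sum_comm (h : Cfg L m n) (χ : IrrCharacter L) (hχ : charDegree (χ : L → ℂ) ≠ 1) :
    ∑ s : commutator L, (χ : L → ℂ) (s : L) = 0 := by
  rcases sum_normal_char χ.2 (commutator L) with h1 | h1
  · exfalso
    apply h.hnab
    intro a ha b hb
    rw [h.ker_inf χ hχ ha (h1 a ha), h.ker_inf χ hχ hb (h1 b hb)]
  · simpa using h1 1

variable [Fintype (IrrCharacter L)]

open Classical in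
/-- counting degrees of the constituents of a character -/
theorem Cfg.degree_count (h : Cfg L m n) {Φ : L → ℂ} (hΦ : IsClassFunction L Φ)
    (c : IrrCharacter L → ℕ) (hc : ∀ ξ : IrrCharacter L, classInner Φ (ξ : L → ℂ) = (c ξ : ℂ))
    (d : ℕ) (hd : Φ 1 = (d : ℂ)) :
    d = ∑ ξ ∈ Finset.univ.filter (fun ξ : IrrCharacter L => charDegree (ξ : L → ℂ) = 1), c ξ
      + m * ∑ ξ ∈ Finset.univ.filter (fun ξ : IrrCharacter L => charDegree (ξ : L → ℂ) = m), c ξ
      + n * ∑ ξ ∈ Finset.univ.filter (fun ξ : IrrCharacter L => charDegree (ξ : L → ℂ) = n), c ξ := by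
  have hexp := congrFun (classFunction_expansion Φ hΦ) 1
  rw [Finset.sum_apply] at hexp
  have h1 : (d : ℂ) = ((∑ ξ : IrrCharacter L, c ξ * charDegree (ξ : L → ℂ) : ℕ) : ℂ) := by
    rw [← hd, hexp]
    push_cast
    apply Finset.sum_congr rfl
    intro ξ _
    rw [Pi.smul_apply, smul_eq_mul, hc ξ, irr_apply_one ξ]
  have h2 : d = ∑ ξ : IrrCharacter L, c ξ * charDegree (ξ : L → ℂ) := by exact_mod_cast h1
  rw [h2, Finset.sum_filter, Finset.sum_filter, Finset.sum_filter, Finset.mul_sum, Finset.mul_sum,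
    ← Finset.sum_add_distrib, ← Finset.sum_add_distrib]
  apply Finset.sum_congr rfl
  intro ξ _
  have hm := h.hm
  have hmn := h.hmn
  rcases h.hcd ξ with h3 | h3 | h3
  · rw [h3, if_pos rfl, if_neg (by omega), if_neg (by omega)]; ring
  · rw [h3, if_neg (by omega), if_pos rfl, if_neg (by omega)]; ring
  · rw [h3, if_neg (by omega), if_neg (by omega), if_pos rfl]; ring

/-- (F1) a product of two characters of degree `m` without linear constituents has no
constituent of degree `n` -/
theorem Cfg.F1 (h : Cfg L m n) (χ χ' : IrrCharacter L) (hχ : charDegree (χ : L → ℂ) = m)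
    (hχ' : charDegree (χ' : L → ℂ) = m)
    (hlin : ∀ lam : IrrCharacter L, charDegree (lam : L → ℂ) = 1 →
      classInner ((χ : L → ℂ) * (χ' : L → ℂ)) (lam : L → ℂ) = 0) :
    ∀ ψ : IrrCharacter L, charDegree (ψ : L → ℂ) = n →
      classInner ((χ : L → ℂ) * (χ' : L → ℂ)) (ψ : L → ℂ) = 0 := by
  classical
  have hΦ : IsCharacter L ((χ : L → ℂ) * (χ' : L → ℂ)) :=
    isCharacter_mul (IsIrrCharacter.isCharacter χ.2) (IsIrrCharacter.isCharacter χ'.2)
  have hc : ∀ ξ : IrrCharacter L, ∃ k : ℕ,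
      classInner ((χ : L → ℂ) * (χ' : L → ℂ)) (ξ : L → ℂ) = (k : ℂ) :=
    fun ξ => classInner_isCharacter_nat hΦ (IsIrrCharacter.isCharacter ξ.2)
  choose c hc using hc
  have hd : ((χ : L → ℂ) * (χ' : L → ℂ)) 1 = ((m * m : ℕ) : ℂ) := by
    rw [Pi.mul_apply, irr_apply_one, irr_apply_one, hχ, hχ']; push_cast; ring
  have hcount := h.degree_count (IsCharacter.isClassFunction hΦ) c hc (m * m) hd
  have h1 : ∑ ξ ∈ Finset.univ.filter (fun ξ : IrrCharacter L => charDegree (ξ : L → ℂ) = 1), c ξ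
      = 0 := by
    apply Finset.sum_eq_zero
    intro ξ hξ
    rw [Finset.mem_filter] at hξ
    have := hlin ξ hξ.2
    rw [hc ξ] at this
    exact_mod_cast this
  rw [h1, zero_add] at hcount
  set A := ∑ ξ ∈ Finset.univ.filter (fun ξ : IrrCharacter L => charDegree (ξ : L → ℂ) = m), c ξ
  set B := ∑ ξ ∈ Finset.univ.filter (fun ξ : IrrCharacter L => charDegree (ξ : L → ℂ) = n), c ξ
    with hB
  have hdvd : m ∣ n * B := by
    have : m ∣ m * m := dvd_mul_right m m
    rw [hcount] at this
    exact (Nat.dvd_add_right (dvd_mul_right m A)).mp this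
  have hdvd' : m ∣ B := h.hcop.dvd_of_dvd_mul_left hdvd
  have hBlt : B < m := by
    have h2 : n * B ≤ m * m := by omega
    have hm := h.hm
    have hmn := h.hmn
    by_contra hge
    push Not at hge
    have h3 : n * m ≤ n * B := Nat.mul_le_mul_left n hge
    have h4 : m * m < n * m := Nat.mul_lt_mul_of_pos_right hmn (by omega)
    omega
  have hB0 : B = 0 := Nat.eq_zero_of_dvd_of_lt hdvd' hBlt
  intro ψ hψ
  rw [hc ψ]
  have : c ψ = 0 := by
    rw [hB] at hB0
    exact (Finset.sum_eq_zero_iff.mp hB0) ψ (by rw [Finset.mem_filter]; exact ⟨Finset.mem_univ _, hψ⟩)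
  rw [this]; simp

/-- (F3) `χ χ̄` has no constituent of degree `n` -/
theorem Cfg.F3 (h : Cfg L m n) (χ ψ : IrrCharacter L) (hχ : charDegree (χ : L → ℂ) = m)
    (hψ : charDegree (ψ : L → ℂ) = n) :
    classInner ((χ : L → ℂ) * (fun g => conj ((χ : L → ℂ) g))) (ψ : L → ℂ) = 0 := by
  classical
  by_contra hne
  have hm := h.hm
  have hmn := h.hmn
  set χb : IrrCharacter L := ⟨fun g => conj ((χ : L → ℂ) g), isIrrCharacter_conj χ.2⟩ with hχb
  have hχbdeg : charDegree (χb : L → ℂ) = m := by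
    rw [hχb]; show charDegree (fun g => conj ((χ : L → ℂ) g)) = m
    rw [charDegree_conj χ.2, hχ]
  set Φ : L → ℂ := (χ : L → ℂ) * (ψ : L → ℂ) with hΦdef
  have hΦ : IsCharacter L Φ :=
    isCharacter_mul (IsIrrCharacter.isCharacter χ.2) (IsIrrCharacter.isCharacter ψ.2)
  have hc : ∀ ξ : IrrCharacter L, ∃ k : ℕ, classInner Φ (ξ : L → ℂ) = (k : ℂ) :=
    fun ξ => classInner_isCharacter_nat hΦ (IsIrrCharacter.isCharacter ξ.2)
  choose c hc using hc
  have hd : Φ 1 = ((m * n : ℕ) : ℂ) := by
    rw [hΦdef, Pi.mul_apply, irr_apply_one, irr_apply_one, hχ, hψ]; push_cast; ring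
  have hcount := h.degree_count (IsCharacter.isClassFunction hΦ) c hc (m * n) hd
  -- no linear constituents
  have hS1 : ∑ ξ ∈ Finset.univ.filter (fun ξ : IrrCharacter L => charDegree (ξ : L → ℂ) = 1), c ξ
      = 0 := by
    apply Finset.sum_eq_zero
    intro lam hlam
    rw [Finset.mem_filter] at hlam
    have hlam1 : (lam : L → ℂ) 1 = 1 := by rw [irr_apply_one, hlam.2]; simp
    have hirr : IsIrrCharacter L ((lam : L → ℂ) * (χb : L → ℂ)) :=
      isIrrCharacter_linear_mul (IsIrrCharacter.isCharacter lam.2) hlam1 χb.2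
    have hdeg : charDegree ((lam : L → ℂ) * (χb : L → ℂ)) = m := by
      rw [charDegree_mul (d := 1) (e := m) (by rw [hlam1]; simp) (by rw [irr_apply_one, hχbdeg])]
      ring
    have h0 : classInner Φ (lam : L → ℂ) = 0 := by
      rw [hΦdef, classInner_mul_left]
      have : (fun g => conj ((χ : L → ℂ) g)) * (lam : L → ℂ) = (lam : L → ℂ) * (χb : L → ℂ) := by
        rw [mul_comm]
      rw [this]
      apply classInner_eq_zero_of_degree_ne' ψ hirr
      rw [hψ, hdeg]; omega
    rw [hc lam] at h0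
    exact_mod_cast h0
  -- constituents of degree `m` agree with `χ` on the commutator subgroup
  have hkey : ∀ ξ : IrrCharacter L, charDegree (ξ : L → ℂ) = m → c ξ ≠ 0 →
      ∀ s ∈ commutator L, (ξ : L → ℂ) s = (χ : L → ℂ) s := by
    intro ξ hξ hcξ
    have h1 : classInner ((χb : L → ℂ) * (ξ : L → ℂ)) (ψ : L → ℂ) ≠ 0 := by
      intro h0
      apply hcξ
      have h2 := classInner_mul_swap (χ : L → ℂ) (ψ : L → ℂ) (ξ : L → ℂ)
      rw [show ((fun g => conj ((χ : L → ℂ) g)) * (ξ : L → ℂ)) = (χb : L → ℂ) * (ξ : L → ℂ) from rfl,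
        h0, map_zero] at h2
      have h3 : (c ξ : ℂ) = 0 := by rw [← hc ξ, hΦdef, h2]
      exact_mod_cast h3
    have h2 : ∃ lam : IrrCharacter L, charDegree (lam : L → ℂ) = 1 ∧
        classInner ((χb : L → ℂ) * (ξ : L → ℂ)) (lam : L → ℂ) ≠ 0 := by
      by_contra hno
      push Not at hno
      exact h1 (h.F1 χb ξ hχbdeg hξ hno ψ hψ)
    obtain ⟨lam, hlam, hlamne⟩ := h2
    have hlam1 : (lam : L → ℂ) 1 = 1 := by rw [irr_apply_one, hlam]; simp
    have h3 := classInner_mul_swap (χb : L → ℂ) (ξ : L → ℂ) (lam : L → ℂ)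
    have h4 : (fun g => conj ((χb : L → ℂ) g)) * (lam : L → ℂ) = (lam : L → ℂ) * (χ : L → ℂ) := by
      funext g
      simp only [Pi.mul_apply, hχb, Complex.conj_conj]
      ring
    rw [h4] at h3
    have hirr : IsIrrCharacter L ((lam : L → ℂ) * (χ : L → ℂ)) :=
      isIrrCharacter_linear_mul (IsIrrCharacter.isCharacter lam.2) hlam1 χ.2
    have h5 : classInner ((lam : L → ℂ) * (χ : L → ℂ)) (ξ : L → ℂ) ≠ 0 := by
      intro h0
      apply hlamne
      rw [h3, h0, map_zero]
    rw [irr_classInner hirr ξ.2] at h5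
    have h6 : (lam : L → ℂ) * (χ : L → ℂ) = (ξ : L → ℂ) := by
      by_contra hh
      rw [if_neg hh] at h5
      exact h5 rfl
    intro s hs
    rw [← h6, Pi.mul_apply, TwoDeg.linear_apply_commutator lam hlam1 s hs, one_mul]
  -- counting
  rw [hS1, zero_add] at hcount
  set A := ∑ ξ ∈ Finset.univ.filter (fun ξ : IrrCharacter L => charDegree (ξ : L → ℂ) = m), c ξ
    with hA
  set B := ∑ ξ ∈ Finset.univ.filter (fun ξ : IrrCharacter L => charDegree (ξ : L → ℂ) = n), c ξ
    with hB
  have hcχ : c χ ≠ 0 := by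
    intro h0
    apply hne
    have h2 := classInner_mul_swap (χ : L → ℂ) (ψ : L → ℂ) (χ : L → ℂ)
    have h3 : classInner Φ (χ : L → ℂ) = 0 := by rw [hc χ, h0]; simp
    rw [hΦdef, h2] at h3
    have h4 := (map_eq_zero (starRingEnd ℂ)).mp h3
    rw [← h4]
    congr 1
    rw [mul_comm]
  have hApos : 1 ≤ A := by
    have : c χ ≤ A := by
      rw [hA]
      apply Finset.single_le_sum (f := c) (fun _ _ => Nat.zero_le _)
      rw [Finset.mem_filter]; exact ⟨Finset.mem_univ _, hχ⟩
    omega
  have hdvd : n ∣ m * A := by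
    have : n ∣ m * n := dvd_mul_left n m
    rw [hcount] at this
    exact (Nat.dvd_add_left (dvd_mul_right n B)).mp this
  have hdvd' : n ∣ A := h.hcop.symm.dvd_of_dvd_mul_left hdvd
  have hAle : A ≤ n := by
    have h2 : m * A ≤ m * n := by omega
    exact Nat.le_of_mul_le_mul_left h2 (by omega)
  have hAn : A = n := Nat.le_antisymm hAle (Nat.le_of_dvd hApos hdvd')
  have hB0 : B = 0 := by
    rw [hAn] at hcount
    have : n * B = 0 := by omega
    rcases Nat.mul_eq_zero.mp this with h0 | h0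
    · omega
    · exact h0
  have hcn : ∀ ξ : IrrCharacter L, charDegree (ξ : L → ℂ) = n → c ξ = 0 := by
    intro ξ hξ
    rw [hB] at hB0
    exact (Finset.sum_eq_zero_iff.mp hB0) ξ (by rw [Finset.mem_filter]; exact ⟨Finset.mem_univ _, hξ⟩)
  have hc1 : ∀ ξ : IrrCharacter L, charDegree (ξ : L → ℂ) = 1 → c ξ = 0 := by
    intro ξ hξ
    exact (Finset.sum_eq_zero_iff.mp hS1) ξ (by rw [Finset.mem_filter]; exact ⟨Finset.mem_univ _, hξ⟩)
  -- values on the commutator subgroup
  have hval : ∀ s ∈ commutator L, Φ s = (n : ℂ) * (χ : L → ℂ) s := by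
    intro s hs
    have hexp := congrFun (classFunction_expansion Φ (IsCharacter.isClassFunction hΦ)) s
    rw [Finset.sum_apply] at hexp
    rw [hexp]
    have h2 : ∀ ξ : IrrCharacter L, (classInner Φ (ξ : L → ℂ) • (ξ : L → ℂ)) s
        = ((if charDegree (ξ : L → ℂ) = m then c ξ else 0 : ℕ) : ℂ) * (χ : L → ℂ) s := by
      intro ξ
      rw [Pi.smul_apply, smul_eq_mul, hc ξ]
      rcases h.hcd ξ with h3 | h3 | h3
      · rw [if_neg (by omega), hc1 ξ h3]; simp
      · rw [if_pos h3]
        by_cases h0 : c ξ = 0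
        · rw [h0]; simp
        · rw [hkey ξ h3 h0 s hs]
      · rw [if_neg (by omega), hcn ξ h3]; simp
    rw [Finset.sum_congr rfl (fun ξ _ => h2 ξ), ← Finset.sum_mul]
    congr 1
    rw [← Nat.cast_sum, ← Finset.sum_filter, ← hA, hAn]
  -- `χ` vanishes on the non-identity elements of the commutator subgroup
  have hvan : ∀ s ∈ commutator L, s ≠ 1 → (χ : L → ℂ) s = 0 := by
    intro s hs hs1
    have h2 := hval s hs
    rw [hΦdef, Pi.mul_apply] at h2
    have h3 : (ψ : L → ℂ) s ≠ (n : ℂ) := by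
      intro h4
      apply hs1
      apply h.ker_inf ψ (by omega) hs
      rw [h4, irr_apply_one, hψ]
    by_contra h5
    apply h3
    have : (χ : L → ℂ) s * ((ψ : L → ℂ) s - n) = 0 := by rw [mul_sub, h2]; ring
    rcases mul_eq_zero.mp this with h6 | h6
    · exact absurd h6 h5
    · exact sub_eq_zero.mp h6
  have hsum := h.sum_comm χ (by omega)
  rw [Finset.sum_eq_single (1 : commutator L)] at hsum
  · have h2 : (χ : L → ℂ) 1 = (m : ℂ) := by rw [irr_apply_one, hχ]
    rw [Subgroup.coe_one, h2] at hsum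
    have : m = 0 := by exact_mod_cast hsum
    omega
  · intro s _ hs
    apply hvan s s.2
    intro h0
    apply hs
    exact Subtype.ext h0
  · intro h0
    exact absurd (Finset.mem_univ _) h0

/-- (F4) for `χ` of degree `m` and irreducible `ζ` of degree `≠ n`, the product `χ ζ` has no
constituent of degree `n` -/
theorem Cfg.F4 (h : Cfg L m n) (χ ζ ψ : IrrCharacter L) (hχ : charDegree (χ : L → ℂ) = m)
    (hζ : charDegree (ζ : L → ℂ) ≠ n) (hψ : charDegree (ψ : L → ℂ) = n) :
    classInner ((χ : L → ℂ) * (ζ : L → ℂ)) (ψ : L → ℂ) = 0 := by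
  classical
  have hm := h.hm
  have hmn := h.hmn
  rcases h.hcd ζ with h1 | h1 | h1
  · -- `ζ` linear
    have hζ1 : (ζ : L → ℂ) 1 = 1 := by rw [irr_apply_one, h1]; simp
    have hζ1' : (ζ : L → ℂ) 1 = ((1 : ℕ) : ℂ) := by rw [irr_apply_one, h1]
    have hirr : IsIrrCharacter L ((ζ : L → ℂ) * (χ : L → ℂ)) :=
      isIrrCharacter_linear_mul (IsIrrCharacter.isCharacter ζ.2) hζ1 χ.2
    rw [mul_comm]
    apply classInner_eq_zero_of_degree_ne hirr ψ
    rw [charDegree_mul hζ1' (irr_apply_one χ), hχ, hψ]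
    omega
  · -- `ζ` of degree `m`
    by_cases hlin : ∀ lam : IrrCharacter L, charDegree (lam : L → ℂ) = 1 →
        classInner ((χ : L → ℂ) * (ζ : L → ℂ)) (lam : L → ℂ) = 0
    · exact h.F1 χ ζ hχ h1 hlin ψ hψ
    · push Not at hlin
      obtain ⟨lam, hlam1, hlam⟩ := hlin
      have hlam1' : (lam : L → ℂ) 1 = 1 := by rw [irr_apply_one, hlam1]; simp
      have hirr : IsIrrCharacter L ((lam : L → ℂ) * (fun g => conj ((χ : L → ℂ) g))) :=
        isIrrCharacter_linear_mul (IsIrrCharacter.isCharacter lam.2) hlam1'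
          (isIrrCharacter_conj χ.2)
      have h2 : classInner ((χ : L → ℂ) * (ζ : L → ℂ)) (lam : L → ℂ)
          = classInner (ζ : L → ℂ) ((fun g => conj ((χ : L → ℂ) g)) * (lam : L → ℂ)) :=
        classInner_mul_left _ _ _
      rw [h2, mul_comm] at hlam
      have h3 : (ζ : L → ℂ) = (lam : L → ℂ) * (fun g => conj ((χ : L → ℂ) g)) := by
        by_contra hne
        apply hlam
        rw [irr_classInner ζ.2 hirr, if_neg hne]
      rw [h3]
      have h4 : (χ : L → ℂ) * ((lam : L → ℂ) * (fun g => conj ((χ : L → ℂ) g)))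
          = (lam : L → ℂ) * ((χ : L → ℂ) * (fun g => conj ((χ : L → ℂ) g))) := by
        rw [mul_left_comm]
      rw [h4, classInner_mul_left]
      have hlamc : IsIrrCharacter L (fun g => conj ((lam : L → ℂ) g)) := isIrrCharacter_conj lam.2
      have hirr2 : IsIrrCharacter L ((fun g => conj ((lam : L → ℂ) g)) * (ψ : L → ℂ)) :=
        isIrrCharacter_linear_mul (IsIrrCharacter.isCharacter hlamc) (by simp [hlam1']) ψ.2
      have hdeg : charDegree ((fun g => conj ((lam : L → ℂ) g)) * (ψ : L → ℂ)) = n := by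
        have h5 : (fun g => conj ((lam : L → ℂ) g)) 1 = ((1 : ℕ) : ℂ) := by simp [hlam1']
        rw [charDegree_mul h5 (irr_apply_one ψ), hψ]
        omega
      exact h.F3 χ ⟨_, hirr2⟩ hχ hdeg
  · exact absurd h1 hζ

/-- (F5) no power of `χ` has a constituent of degree `n` -/
theorem Cfg.F5 (h : Cfg L m n) (χ : IrrCharacter L) (hχ : charDegree (χ : L → ℂ) = m) (k : ℕ) :
    ∀ ψ : IrrCharacter L, charDegree (ψ : L → ℂ) = n →
      classInner ((χ : L → ℂ) ^ k) (ψ : L → ℂ) = 0 := by
  have hm := h.hm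
  have hmn := h.hmn
  induction k with
  | zero =>
    intro ψ hψ
    rw [pow_zero]
    have h1 : (1 : L → ℂ) = fun _ => 1 := rfl
    rw [h1]
    apply classInner_eq_zero_of_degree_ne Helper25.isIrrCharacter_one ψ
    have h2 : charDegree (fun _ : L => (1 : ℂ)) = 1 := by
      apply ThompsonDeg.charDegree_eq
      simp
    rw [hψ, h2]
    omega
  | succ k ih =>
    intro ψ hψ
    rw [pow_succ]
    have hexp := Helper2.classFunction_expansion ((χ : L → ℂ) ^ k)
      (isClassFunction_pow (IsCharacter.isClassFunction (IsIrrCharacter.isCharacter χ.2)) k)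
    conv_lhs => rw [hexp]
    rw [Finset.sum_mul, Helper2.classInner_sum_left]
    apply Finset.sum_eq_zero
    intro ζ _
    rw [smul_mul_assoc, classInner_smul_left]
    by_cases hζ : charDegree (ζ : L → ℂ) = n
    · rw [ih ζ hζ, zero_mul]
    · rw [mul_comm (ζ : L → ℂ), h.F4 χ ζ ψ hχ hζ hψ, mul_zero]

/-- (F6) the moments of `χ` against `ψ` over the commutator subgroup vanish -/
theorem Cfg.F6 (h : Cfg L m n) (χ ψ : IrrCharacter L) (hχ : charDegree (χ : L → ℂ) = m)
    (hψ : charDegree (ψ : L → ℂ) = n) (k : ℕ) :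
    ∑ s : commutator L, (χ : L → ℂ) (s : L) ^ k * (ψ : L → ℂ) (s : L) = 0 := by
  classical
  have hm := h.hm
  have hmn := h.hmn
  set Φ : L → ℂ := (ψ : L → ℂ) * (χ : L → ℂ) ^ k with hΦ
  have hcf : IsClassFunction L Φ :=
    isClassFunction_mul (IsCharacter.isClassFunction (IsIrrCharacter.isCharacter ψ.2))
      (isClassFunction_pow (IsCharacter.isClassFunction (IsIrrCharacter.isCharacter χ.2)) k)
  have h1 : ∀ s : commutator L,
      (χ : L → ℂ) (s : L) ^ k * (ψ : L → ℂ) (s : L) = Φ (s : L) := by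
    intro s
    rw [hΦ, Pi.mul_apply, Pi.pow_apply, mul_comm]
  rw [Finset.sum_congr rfl (fun s _ => h1 s)]
  have h2 : ∀ s : commutator L, Φ (s : L)
      = ∑ ξ : IrrCharacter L, classInner Φ (ξ : L → ℂ) * (ξ : L → ℂ) (s : L) := by
    intro s
    exact Helper25.classFunction_expansion Φ hcf (s : L)
  rw [Finset.sum_congr rfl (fun s _ => h2 s), Finset.sum_comm]
  apply Finset.sum_eq_zero
  intro ξ _
  rw [← Finset.mul_sum]
  by_cases hξ : charDegree (ξ : L → ℂ) = 1
  · have hξ1 : (ξ : L → ℂ) 1 = 1 := by rw [irr_apply_one, hξ]; simp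
    have hξ1' : (ξ : L → ℂ) 1 = ((1 : ℕ) : ℂ) := by rw [irr_apply_one, hξ]
    have hψc : IsIrrCharacter L (fun g => conj ((ψ : L → ℂ) g)) := isIrrCharacter_conj ψ.2
    have hirr : IsIrrCharacter L ((ξ : L → ℂ) * (fun g => conj ((ψ : L → ℂ) g))) :=
      isIrrCharacter_linear_mul (IsIrrCharacter.isCharacter ξ.2) hξ1 hψc
    have hdeg : charDegree ((ξ : L → ℂ) * (fun g => conj ((ψ : L → ℂ) g))) = n := by
      have h5 : (fun g => conj ((ψ : L → ℂ) g)) 1 = ((n : ℕ) : ℂ) := by
        show conj ((ψ : L → ℂ) 1) = _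
        rw [irr_apply_one, hψ]; simp
      rw [charDegree_mul hξ1' h5]
      omega
    have h3 : classInner Φ (ξ : L → ℂ)
        = classInner ((χ : L → ℂ) ^ k) ((fun g => conj ((ψ : L → ℂ) g)) * (ξ : L → ℂ)) := by
      rw [hΦ]; exact classInner_mul_left _ _ _
    rw [h3, mul_comm (fun g => conj ((ψ : L → ℂ) g))]
    have := h.F5 χ hχ k ⟨_, hirr⟩ hdeg
    rw [this, zero_mul]
  · rw [h.sum_comm ξ hξ, mul_zero]

/-- the configuration is impossible as soon as both degrees occur -/
theorem Cfg.false_of (h : Cfg L m n) (χ ψ : IrrCharacter L) (hχ : charDegree (χ : L → ℂ) = m)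
    (hψ : charDegree (ψ : L → ℂ) = n) : False := by
  classical
  have hm := h.hm
  have hmn := h.hmn
  set V : Finset ℂ :=
    (Finset.univ.image (fun s : commutator L => (χ : L → ℂ) (s : L))).erase (m : ℂ) with hV
  set P : Polynomial ℂ := ∏ v ∈ V, (Polynomial.X - Polynomial.C v) with hP
  have hsum : ∑ s : commutator L,
      P.eval ((χ : L → ℂ) (s : L)) * (ψ : L → ℂ) (s : L) = 0 := by
    have h1 : ∀ s : commutator L, P.eval ((χ : L → ℂ) (s : L)) * (ψ : L → ℂ) (s : L)
        = ∑ i ∈ Finset.range (P.natDegree + 1),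
          P.coeff i * ((χ : L → ℂ) (s : L) ^ i * (ψ : L → ℂ) (s : L)) := by
      intro s
      rw [Polynomial.eval_eq_sum_range, Finset.sum_mul]
      apply Finset.sum_congr rfl
      intro i _
      ring
    rw [Finset.sum_congr rfl (fun s _ => h1 s), Finset.sum_comm]
    apply Finset.sum_eq_zero
    intro i _
    rw [← Finset.mul_sum, h.F6 χ ψ hχ hψ i, mul_zero]
  have hzero : ∀ s : commutator L, s ≠ 1 → P.eval ((χ : L → ℂ) (s : L)) = 0 := by
    intro s hs
    rw [hP, Polynomial.eval_prod]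
    apply Finset.prod_eq_zero (i := (χ : L → ℂ) (s : L))
    · rw [hV, Finset.mem_erase]
      refine ⟨?_, Finset.mem_image_of_mem _ (Finset.mem_univ s)⟩
      intro h1
      apply hs
      apply Subtype.ext
      rw [Subgroup.coe_one]
      apply h.ker_inf χ (by omega) s.2
      rw [h1, irr_apply_one, hχ]
    · simp
  rw [Finset.sum_eq_single (1 : commutator L)] at hsum
  · have h1 : P.eval ((χ : L → ℂ) ((1 : commutator L) : L)) ≠ 0 := by
      rw [Subgroup.coe_one, irr_apply_one, hχ, hP, Polynomial.eval_prod]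
      apply Finset.prod_ne_zero_iff.mpr
      intro v hv
      rw [hV, Finset.mem_erase] at hv
      simp only [Polynomial.eval_sub, Polynomial.eval_X, Polynomial.eval_C]
      exact sub_ne_zero.mpr (Ne.symm hv.1)
    have h2 : (ψ : L → ℂ) ((1 : commutator L) : L) ≠ 0 := by
      rw [Subgroup.coe_one, irr_apply_one, hψ]
      exact_mod_cast (by omega : n ≠ 0)
    exact (mul_ne_zero h1 h2) hsum
  · intro s _ hs
    rw [hzero s hs, zero_mul]
  · intro h0
    exact absurd (Finset.mem_univ _) h0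

end Main

end Cfsg.Agent.Lib.Helper20.CD3
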