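import Mathlib

/-!
# Three character degrees: the group-theoretic lemmas (helper20)

* a non-abelian finite group has a normal subgroup `K` maximal with `G/K` non-abelian;
* Isaacs' Lemma 12.3: if `L'` is the unique minimal normal subgroup of the non-abelian group
  `L` and is abelian, then `L` is a `p`-group or a Frobenius-like group with kernel `L'`.
-/

set_option autoImplicit false
set_option linter.style.haveILetI false
set_option linter.unusedSectionVars false

namespace Cfsg.Agent.Lib.Helper20.CD3

open scoped commutatorElement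

theorem exists_max_nonabelian_quotient {G : Type*} [Group G] [Finite G]
    (hna : ¬ ∀ a b : G, a * b = b * a) :
    ∃ K : Subgroup G, K.Normal ∧ ¬ commutator G ≤ K ∧
      ∀ N : Subgroup G, N.Normal → K < N → commutator G ≤ N := by
  classical
  set S : Set (Subgroup G) := {K | K.Normal ∧ ¬ commutator G ≤ K} with hS
  have hne : S.Nonempty := by
    refine ⟨⊥, Subgroup.normal_bot, ?_⟩
    intro h0
    apply hna
    intro a b
    have : ⁅a, b⁆ ∈ commutator G :=
      Subgroup.commutator_mem_commutator (Subgroup.mem_top a) (Subgroup.mem_top b)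
    have h1 := h0 this
    rw [Subgroup.mem_bot] at h1
    exact commutatorElement_eq_one_iff_mul_comm.mp h1
  obtain ⟨K, hK, hmax⟩ := (wellFounded_gt (α := Subgroup G)).has_min S hne
  refine ⟨K, hK.1, hK.2, ?_⟩
  intro N hN hKN
  by_contra hcon
  exact hmax N ⟨hN, hcon⟩ hKN

section Lemma123

variable {L : Type*} [Group L] [Finite L]

theorem lemma_12_3
    (hna : ¬ ∀ a b : L, a * b = b * a)
    (hmin : ∀ N : Subgroup L, N.Normal → N ≠ ⊥ → commutator L ≤ N)
    (hab : ∀ a ∈ commutator L, ∀ b ∈ commutator L, a * b = b * a) :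
    (∃ p : ℕ, p.Prime ∧ IsPGroup p L) ∨
    (∃ p : ℕ, p.Prime ∧ IsPGroup p (commutator L) ∧ ¬ p ∣ (commutator L).index ∧
      ∀ g : L, g ∉ commutator L → ∀ x ∈ commutator L, x * g = g * x → x = 1) := by
  classical
  set M : Subgroup L := commutator L with hM
  haveI hMn : M.Normal := by rw [hM]; infer_instance
  have hM1 : M ≠ ⊥ := by
    intro h0
    apply hna
    intro a b
    have : ⁅a, b⁆ ∈ M :=
      Subgroup.commutator_mem_commutator (Subgroup.mem_top a) (Subgroup.mem_top b)
    rw [h0, Subgroup.mem_bot] at this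
    exact commutatorElement_eq_one_iff_mul_comm.mp this
  have hcard1 : Nat.card M ≠ 1 := fun h => hM1 (Subgroup.card_eq_one.mp h)
  obtain ⟨p, hp, hpdvd⟩ := Nat.exists_prime_and_dvd hcard1
  haveI : Fact p.Prime := ⟨hp⟩
  obtain ⟨x0, hx0⟩ := exists_prime_orderOf_dvd_card' p hpdvd
  -- the elements of order dividing `p`
  let Ω : Subgroup L :=
    { carrier := {x | x ∈ M ∧ x ^ p = 1}
      one_mem' := ⟨M.one_mem, one_pow p⟩
      mul_mem' := by
        rintro a b ⟨ha, ha'⟩ ⟨hb, hb'⟩
        refine ⟨M.mul_mem ha hb, ?_⟩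
        have hc : Commute a b := hab a ha b hb
        rw [hc.mul_pow, ha', hb', one_mul]
      inv_mem' := by
        rintro a ⟨ha, ha'⟩
        exact ⟨M.inv_mem ha, by rw [inv_pow, ha', inv_one]⟩ }
  have hΩmem : ∀ x : L, x ∈ Ω ↔ x ∈ M ∧ x ^ p = 1 := fun x => Iff.rfl
  have hΩn : Ω.Normal := by
    constructor
    intro a ha g
    rw [hΩmem] at ha ⊢
    refine ⟨hMn.conj_mem a ha.1 g, ?_⟩
    rw [conj_pow, ha.2]
    simp
  have hΩ1 : Ω ≠ ⊥ := by
    intro h0
    have hx0p : (x0 : L) ^ p = 1 := by
      have h1 := pow_orderOf_eq_one x0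
      rw [hx0] at h1
      have h2 := congrArg Subtype.val h1
      simpa using h2
    have hmem : (x0 : L) ∈ Ω := (hΩmem _).mpr ⟨x0.2, hx0p⟩
    rw [h0, Subgroup.mem_bot] at hmem
    have h1 : x0 = 1 := Subtype.ext hmem
    rw [h1, orderOf_one] at hx0
    exact hp.one_lt.ne hx0
  have hexp : ∀ x ∈ M, x ^ p = 1 := fun x hx => ((hΩmem x).mp (hmin Ω hΩn hΩ1 hx)).2
  have hMp : IsPGroup p M := by
    intro x
    refine ⟨1, ?_⟩
    rw [pow_one]
    apply Subtype.ext
    rw [Subgroup.coe_pow, Subgroup.coe_one]
    exact hexp x x.2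
  by_cases hmax : ∀ H : Subgroup L, IsCoatom H → H.Normal
  · left
    refine ⟨p, hp, ?_⟩
    have hcard : ∀ q : ℕ, q.Prime → q ∣ Nat.card L → q = p := by
      intro q hq hqdvd
      by_contra hne
      haveI : Fact q.Prime := ⟨hq⟩
      obtain ⟨S⟩ : Nonempty (Sylow q L) := inferInstance
      haveI hSn : (S : Subgroup L).Normal := Sylow.normal_of_all_max_subgroups_normal hmax S
      have hS1 : (S : Subgroup L) ≠ ⊥ := Sylow.ne_bot_of_dvd_card S hqdvd
      have hMS : M ≤ S := hmin S hSn hS1
      have hMq : IsPGroup q M := S.2.to_le hMS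
      have hdis := IsPGroup.disjoint_of_ne p q (Ne.symm hne) M M hMp hMq
      rw [disjoint_self] at hdis
      exact hM1 hdis
    have hpow := Nat.eq_prime_pow_of_unique_prime_dvd (n := Nat.card L) (p := p)
      Nat.card_pos.ne' (fun {d} hd hdvd => hcard d hd hdvd)
    exact IsPGroup.of_card hpow
  · right
    push Not at hmax
    obtain ⟨H, hHco, hHn⟩ := hmax
    have hMH : ¬ M ≤ H := by
      intro hle
      apply hHn
      constructor
      intro h hh g
      have : g * h * g⁻¹ = ⁅g, h⁆ * h := by rw [commutatorElement_def]; group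
      rw [this]
      exact H.mul_mem
        (hle (Subgroup.commutator_mem_commutator (Subgroup.mem_top g) (Subgroup.mem_top h))) hh
    have hsup : M ⊔ H = ⊤ := by
      apply hHco.2 (M ⊔ H)
      apply lt_of_le_of_ne le_sup_right
      intro h
      apply hMH
      rw [h]
      exact le_sup_left
    have hdecomp : ∀ g : L, ∃ m ∈ M, ∃ h ∈ H, g = m * h := by
      intro g
      have hg : g ∈ M ⊔ H := by rw [hsup]; exact Subgroup.mem_top g
      rw [← SetLike.mem_coe, Subgroup.normal_mul] at hg
      obtain ⟨m, hm, h, hh, rfl⟩ := Set.mem_mul.mp hg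
      exact ⟨m, hm, h, hh, rfl⟩
    -- conjugation by `m ∈ M` is trivial on `M`
    have hMconj : ∀ m ∈ M, ∀ y ∈ M, m * y * m⁻¹ = y := by
      intro m hm y hy
      rw [hab m hm y hy]
      group
    -- `M ⊓ H` is trivial
    have hinf : M ⊓ H = ⊥ := by
      by_contra hne
      have hn : (M ⊓ H).Normal := by
        constructor
        intro x hx g
        obtain ⟨m, hm, h, hh, rfl⟩ := hdecomp g
        have h1 : h * x * h⁻¹ ∈ M := hMn.conj_mem x hx.1 h
        have h2 : h * x * h⁻¹ ∈ H := H.mul_mem (H.mul_mem hh hx.2) (H.inv_mem hh)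
        have h3 : m * h * x * (m * h)⁻¹ = m * (h * x * h⁻¹) * m⁻¹ := by group
        rw [h3, hMconj m hm _ h1]
        exact ⟨h1, h2⟩
      exact hMH ((hmin _ hn hne).trans inf_le_right)
    -- `H` is abelian
    have hHab : ∀ a ∈ H, ∀ b ∈ H, a * b = b * a := by
      intro a ha b hb
      have h1 : ⁅a, b⁆ ∈ M ⊓ H := by
        refine ⟨Subgroup.commutator_mem_commutator (Subgroup.mem_top a) (Subgroup.mem_top b), ?_⟩
        rw [commutatorElement_def]
        exact H.mul_mem (H.mul_mem (H.mul_mem ha hb) (H.inv_mem ha)) (H.inv_mem hb)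
      rw [hinf, Subgroup.mem_bot] at h1
      exact commutatorElement_eq_one_iff_mul_comm.mp h1
    -- the centralizer of `M` in `H` is trivial
    let Z : Subgroup L :=
      { carrier := {k | k ∈ H ∧ ∀ y ∈ M, k * y = y * k}
        one_mem' := ⟨H.one_mem, fun y _ => by rw [one_mul, mul_one]⟩
        mul_mem' := by
          rintro a b ⟨ha, ha'⟩ ⟨hb, hb'⟩
          refine ⟨H.mul_mem ha hb, fun y hy => ?_⟩
          rw [mul_assoc, hb' y hy, ← mul_assoc, ha' y hy, mul_assoc]
        inv_mem' := by
          rintro a ⟨ha, ha'⟩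
          refine ⟨H.inv_mem ha, fun y hy => ?_⟩
          have := ha' y hy
          calc a⁻¹ * y = a⁻¹ * (y * a) * a⁻¹ := by group
            _ = a⁻¹ * (a * y) * a⁻¹ := by rw [this]
            _ = y * a⁻¹ := by group }
    have hZmem : ∀ k : L, k ∈ Z ↔ k ∈ H ∧ ∀ y ∈ M, k * y = y * k := fun k => Iff.rfl
    have hZ : Z = ⊥ := by
      by_contra hne
      have hn : Z.Normal := by
        constructor
        intro z hz g
        rw [hZmem] at hz
        obtain ⟨m, hm, h, hh, rfl⟩ := hdecomp g
        have h1 : h * z * h⁻¹ = z := by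
          rw [hHab h hh z hz.1]; group
        have h3 : m * h * z * (m * h)⁻¹ = m * (h * z * h⁻¹) * m⁻¹ := by group
        have h4 : m * z * m⁻¹ = z := by
          rw [← hz.2 m hm]; group
        rw [h3, h1, h4]
        exact (hZmem z).mpr hz
      have hle : M ≤ H := (hmin _ hn hne).trans (fun k hk => ((hZmem k).mp hk).1)
      exact hMH hle
    -- the fixed points on `M` of a non-identity element of `H`
    have hfix : ∀ h ∈ H, h ≠ 1 → ∀ x ∈ M, x * h = h * x → x = 1 := by
      intro h hh hh1 x hx hxh
      let C : Subgroup L :=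
        { carrier := {y | y ∈ M ∧ y * h = h * y}
          one_mem' := ⟨M.one_mem, by rw [one_mul, mul_one]⟩
          mul_mem' := by
            rintro a b ⟨ha, ha'⟩ ⟨hb, hb'⟩
            refine ⟨M.mul_mem ha hb, ?_⟩
            rw [mul_assoc, hb', ← mul_assoc, ha', mul_assoc]
          inv_mem' := by
            rintro a ⟨ha, ha'⟩
            refine ⟨M.inv_mem ha, ?_⟩
            calc a⁻¹ * h = a⁻¹ * (h * a) * a⁻¹ := by group
              _ = a⁻¹ * (a * h) * a⁻¹ := by rw [ha']
              _ = h * a⁻¹ := by group }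
      have hCmem : ∀ y : L, y ∈ C ↔ y ∈ M ∧ y * h = h * y := fun y => Iff.rfl
      have hCn : C.Normal := by
        constructor
        intro y hy g
        rw [hCmem] at hy
        obtain ⟨m, hm, k, hk, rfl⟩ := hdecomp g
        have h1 : k * y * k⁻¹ ∈ M := hMn.conj_mem y hy.1 k
        have h3 : m * k * y * (m * k)⁻¹ = m * (k * y * k⁻¹) * m⁻¹ := by group
        rw [h3, hMconj m hm _ h1, hCmem]
        refine ⟨h1, ?_⟩
        have h4 : k⁻¹ * h = h * k⁻¹ := hHab _ (H.inv_mem hk) h hh
        have h5 : k * h = h * k := hHab k hk h hh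
        calc k * y * k⁻¹ * h = k * y * (k⁻¹ * h) := by group
          _ = k * y * (h * k⁻¹) := by rw [h4]
          _ = k * (y * h) * k⁻¹ := by group
          _ = k * (h * y) * k⁻¹ := by rw [hy.2]
          _ = (k * h) * y * k⁻¹ := by group
          _ = (h * k) * y * k⁻¹ := by rw [h5]
          _ = h * (k * y * k⁻¹) := by group
      by_contra hx1
      have hC1 : C ≠ ⊥ := by
        intro h0
        have : x ∈ C := (hCmem x).mpr ⟨hx, hxh⟩
        rw [h0, Subgroup.mem_bot] at this
        exact hx1 this
      have hMC : M ≤ C := hmin C hCn hC1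
      have hhZ : h ∈ Z := by
        rw [hZmem]
        refine ⟨hh, fun y hy => ?_⟩
        exact (((hCmem y).mp (hMC hy)).2).symm
      rw [hZ, Subgroup.mem_bot] at hhZ
      exact hh1 hhZ
    -- fixed-point-freeness
    have hfpf : ∀ g : L, g ∉ M → ∀ x ∈ M, x * g = g * x → x = 1 := by
      intro g hg x hx hxg
      obtain ⟨m, hm, h, hh, rfl⟩ := hdecomp g
      have hh1 : h ≠ 1 := by
        rintro rfl
        apply hg
        rw [mul_one]
        exact hm
      apply hfix h hh hh1 x hx
      have h1 : x * m = m * x := hab x hx m hm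
      have h2 : m * (x * h) = m * (h * x) := by
        calc m * (x * h) = (m * x) * h := by group
          _ = (x * m) * h := by rw [h1]
          _ = x * (m * h) := by group
          _ = m * h * x := hxg
          _ = m * (h * x) := by group
      exact mul_left_cancel h2
    refine ⟨p, hp, hMp, ?_, hfpf⟩
    -- `p` does not divide the index
    intro hpidx
    obtain ⟨P, hMP⟩ := hMp.exists_le_sylow
    have hPM : (P : Subgroup L) ≠ M := by
      intro h0
      apply P.not_dvd_index
      rw [h0]
      exact hpidx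
    have hlt : M < (P : Subgroup L) := lt_of_le_of_ne hMP (Ne.symm hPM)
    obtain ⟨g, hgP, hgM⟩ := SetLike.exists_of_lt hlt
    -- `P` acts on `M` by conjugation, with a non-trivial fixed point
    letI : MulAction P M :=
      MulAction.compHom M ((MulAut.conjNormal (H := M)).comp (P : Subgroup L).subtype)
    have hsmul : ∀ (a : P) (y : M), ((a • y : M) : L) = a * y * (a : L)⁻¹ := by
      intro a y
      rfl
    have hfixed : (1 : M) ∈ MulAction.fixedPoints P M := by
      rw [MulAction.mem_fixedPoints]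
      intro a
      apply Subtype.ext
      rw [hsmul]
      simp
    obtain ⟨b, hb, hb1⟩ :=
      P.2.exists_fixed_point_of_prime_dvd_card_of_fixed_point M hpdvd hfixed
    rw [MulAction.mem_fixedPoints] at hb
    have hbg : (b : L) * g = g * b := by
      have h1 := congrArg Subtype.val (hb ⟨g, hgP⟩)
      rw [hsmul] at h1
      have h2 : g * (b : L) * g⁻¹ = b := h1
      calc (b : L) * g = (g * (b : L) * g⁻¹) * g := by rw [h2]
        _ = g * b := by group
    have hb0 := hfpf g hgM b b.2 hbg
    apply hb1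
    apply Subtype.ext
    rw [Subgroup.coe_one, hb0]

end Lemma123

end Cfsg.Agent.Lib.Helper20.CD3
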