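import Mathlib
import Cfsg.Prelude.Def_Blocks
import Cfsg.Agent.Lib.Helper2.TwoDegrees
import Cfsg.Agent.Lib.Helper11.Clifford
import Cfsg.Agent.Lib.Helper25.MinNormal
import Cfsg.Agent.Lib.Helper25.Linear

/-!
# Three character degrees: a theorem on characters of a normal subgroup with a
fixed-point-free abelian section (helper20)

`K ≤ N` normal in `G`, `N/K` abelian, `G/N` abelian of order prime to `|N/K|`, every `g ∉ N`
acting without fixed points on `N/K`.  Then for `ψ ∈ Irr(N)`, either some `ψ'` of the same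
degree induces irreducibly to `G`, or `ψ` vanishes off `K`.
-/

set_option autoImplicit false
set_option linter.style.haveILetI false
set_option linter.unusedSectionVars false

namespace Cfsg.Agent.Lib.Helper20.CD3

open Cfsg Cfsg.Agent.Lib.Helper2 Cfsg.Agent.Lib.Helper2.TwoDeg Cfsg.Agent.Lib.Helper11
open scoped ComplexConjugate commutatorElement

universe u

section Twelve4

variable {G : Type u} [Group G] [Fintype G] (N K : Subgroup G) [hN : N.Normal] [hK : K.Normal]

/-- linear characters of `N` trivial on `K` -/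
def TrivOn (lam : N →* ℂˣ) : Prop := ∀ x : N, (x : G) ∈ K → lam x = 1

theorem trivOn_one : TrivOn N K 1 := fun _ _ => rfl

theorem TrivOn.mul {a b : N →* ℂˣ} (ha : TrivOn N K a) (hb : TrivOn N K b) :
    TrivOn N K (a * b) := by
  intro x hx
  rw [MonoidHom.mul_apply, ha x hx, hb x hx, one_mul]

theorem TrivOn.inv {a : N →* ℂˣ} (ha : TrivOn N K a) : TrivOn N K a⁻¹ := by
  intro x hx
  rw [MonoidHom.inv_apply, ha x hx, inv_one]

theorem TrivOn.pow {a : N →* ℂˣ} (ha : TrivOn N K a) (k : ℕ) : TrivOn N K (a ^ k) := by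
  intro x hx
  rw [MonoidHom.pow_apply, ha x hx, one_pow]

theorem TrivOn.prod {ι : Type*} (s : Finset ι) (f : ι → (N →* ℂˣ))
    (h : ∀ i ∈ s, TrivOn N K (f i)) : TrivOn N K (∏ i ∈ s, f i) := by
  intro x hx
  rw [MonoidHom.finset_prod_apply]
  exact Finset.prod_eq_one (fun i hi => h i hi x hx)

theorem TrivOn.act {a : N →* ℂˣ} (ha : TrivOn N K a) (g : G) : TrivOn N K (act N g a) := by
  intro x hx
  rw [act_apply]
  exact ha _ (hK.conj_mem _ hx g)

/-- `N` acts trivially on the linear characters of `N/K` -/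
theorem act_of_mem (hab : ∀ a ∈ N, ∀ b ∈ N, ⁅a, b⁆ ∈ K) {lam : N →* ℂˣ}
    (h : TrivOn N K lam) {n : G} (hn : n ∈ N) : act N n lam = lam := by
  apply MonoidHom.ext
  intro x
  rw [act_apply]
  set c : N := ⟨n, hn⟩ * x * ⟨n, hn⟩⁻¹ * x⁻¹ with hc
  have hcK : (c : G) ∈ K := by
    have : (c : G) = ⁅n, (x : G)⁆ := by
      rw [hc, commutatorElement_def]
      simp
    rw [this]
    exact hab n hn x x.2
  have h1 : (⟨n * x * n⁻¹, hN.conj_mem x x.2 n⟩ : N) = c * x := by
    apply Subtype.ext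
    rw [hc]
    simp
  rw [h1, map_mul, h c hcK, one_mul]

theorem TrivOn.pow_relIndex {lam : N →* ℂˣ} (h : TrivOn N K lam) :
    lam ^ (K.relIndex N) = 1 := by
  apply MonoidHom.ext
  intro x
  rw [MonoidHom.pow_apply, ← map_pow, MonoidHom.one_apply]
  apply h
  have : x ^ (K.subgroupOf N).index ∈ K.subgroupOf N := Subgroup.pow_index_mem _ x
  rw [Subgroup.mem_subgroupOf] at this
  exact this

/-- the quotient `N/K` is abelian -/
theorem quot_mul_comm (hab : ∀ a ∈ N, ∀ b ∈ N, ⁅a, b⁆ ∈ K) (a b : N ⧸ K.subgroupOf N) :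
    a * b = b * a := by
  induction a using QuotientGroup.induction_on with
  | H x =>
  induction b using QuotientGroup.induction_on with
  | H y =>
  rw [← QuotientGroup.mk_mul, ← QuotientGroup.mk_mul, QuotientGroup.eq,
    Subgroup.mem_subgroupOf]
  have : (((x * y)⁻¹ * (y * x) : N) : G) = ⁅((y : G))⁻¹, ((x : G))⁻¹⁆ := by
    rw [commutatorElement_def]
    simp only [Subgroup.coe_mul, Subgroup.coe_inv]
    group
  rw [this]
  exact hab _ (N.inv_mem y.2) _ (N.inv_mem x.2)

theorem comm_rearrange {Q : Type*} [Group Q] (hcm : ∀ a b : Q, a * b = b * a) (A B C D : Q) :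
    A * B * (C * D) = A * D * (B * C) := by
  calc A * B * (C * D) = A * ((B * C) * D) := by simp only [mul_assoc]
    _ = A * (D * (B * C)) := by rw [hcm (B * C) D]
    _ = A * D * (B * C) := by simp only [mul_assoc]

/-- linear characters of a finite abelian group separate points -/
theorem exists_hom_ne_one_of_comm {A : Type*} [Group A] [Finite A]
    (hcomm : ∀ a b : A, a * b = b * a) (x : A) (hx : x ≠ 1) : ∃ lam : A →* ℂˣ, lam x ≠ 1 := by
  let inst : CommGroup A := { (inferInstance : Group A) with mul_comm := hcomm }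
  have hne : NeZero ((Monoid.exponent A : ℕ) : ℂ) :=
    ⟨by exact_mod_cast Monoid.exponent_ne_zero_of_finite⟩
  exact @CommGroup.exists_apply_ne_one_of_hasEnoughRootsOfUnity A ℂ inst _ _ inferInstance x hx

theorem hom_mul_inv_cancel (a : N →* ℂˣ) : a * a⁻¹ = 1 := mul_inv_cancel a

theorem hom_pow_zero (a : N →* ℂˣ) : a ^ 0 = 1 := pow_zero a

theorem hom_pow_succ (a : N →* ℂˣ) (k : ℕ) : a ^ (k + 1) = a ^ k * a := pow_succ a k

theorem hom_mul_assoc (a b c : N →* ℂˣ) : a * b * c = a * (b * c) := mul_assoc a b c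

theorem hom_mul_one (a : N →* ℂˣ) : a * 1 = a := mul_one a

/-- a linear character of `N/K` fixed by some `g ∉ N` is trivial -/
theorem eq_one_of_act_eq (hab : ∀ a ∈ N, ∀ b ∈ N, ⁅a, b⁆ ∈ K)
    (hfpf : ∀ g : G, g ∉ N → ∀ x ∈ N, ⁅x, g⁆ ∈ K → x ∈ K) {g : G} (hg : g ∉ N)
    {lam : N →* ℂˣ} (h : TrivOn N K lam) (hfix : act N g lam = lam) : lam = 1 := by
  classical
  set K' : Subgroup N := K.subgroupOf N with hK'
  have hcm := quot_mul_comm N K hab
  let c : N →* N := (MulAut.conjNormal g : N ≃* N).toMonoidHom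
  have hc : ∀ x : N, ((c x : N) : G) = g * x * g⁻¹ := fun x => rfl
  let f : N →* (N ⧸ K') := MonoidHom.mk'
    (fun x => (QuotientGroup.mk' K') (c x) * ((QuotientGroup.mk' K') x)⁻¹) (by
      intro x y
      show (QuotientGroup.mk' K') (c (x * y)) * ((QuotientGroup.mk' K') (x * y))⁻¹
        = ((QuotientGroup.mk' K') (c x) * ((QuotientGroup.mk' K') x)⁻¹) *
          ((QuotientGroup.mk' K') (c y) * ((QuotientGroup.mk' K') y)⁻¹)
      rw [map_mul c, map_mul (QuotientGroup.mk' K'), map_mul (QuotientGroup.mk' K'), mul_inv_rev]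
      exact comm_rearrange hcm _ _ _ _)
  have hf : ∀ x : N, f x = ((c x * x⁻¹ : N) : N ⧸ K') := by
    intro x
    show (QuotientGroup.mk' K') (c x) * ((QuotientGroup.mk' K') x)⁻¹ = _
    rw [QuotientGroup.mk'_apply, QuotientGroup.mk'_apply, QuotientGroup.mk_mul,
      QuotientGroup.mk_inv]
  have hker : f.ker = K' := by
    ext x
    rw [MonoidHom.mem_ker, hf, QuotientGroup.eq_one_iff, hK', Subgroup.mem_subgroupOf,
      Subgroup.mem_subgroupOf, Subgroup.coe_mul, Subgroup.coe_inv, hc]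
    constructor
    · intro hx
      apply hfpf g hg x x.2
      have h1 : ⁅(x : G), g⁆ = (g * x * g⁻¹ * (x : G)⁻¹)⁻¹ := by
        rw [commutatorElement_def]; group
      rw [h1]
      exact K.inv_mem hx
    · intro hx
      exact K.mul_mem (hK.conj_mem _ hx g) (K.inv_mem hx)
  have hsurj : Function.Surjective f := by
    rw [← MonoidHom.range_eq_top]
    apply Subgroup.eq_top_of_card_eq
    rw [← Subgroup.index_ker, hker, Subgroup.index_eq_card]
  apply MonoidHom.ext
  intro y
  obtain ⟨x, hx⟩ := hsurj (QuotientGroup.mk' K' y)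
  rw [hf, QuotientGroup.mk'_apply, QuotientGroup.eq] at hx
  have h3 : lam ((c x * x⁻¹)⁻¹ * y) = 1 := by
    apply h
    rw [hK', Subgroup.mem_subgroupOf] at hx
    exact hx
  have h4 : lam (c x) = lam x := DFunLike.congr_fun hfix x
  rw [map_mul, map_inv, map_mul, map_inv, h4, mul_inv_cancel, inv_one, one_mul] at h3
  rw [h3, MonoidHom.one_apply]

/-- linear characters of `N/K` separate the points of `N` off `K` -/
theorem exists_trivOn_ne_one (hab : ∀ a ∈ N, ∀ b ∈ N, ⁅a, b⁆ ∈ K) (x : N)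
    (hx : (x : G) ∉ K) : ∃ lam : N →* ℂˣ, TrivOn N K lam ∧ lam x ≠ 1 := by
  classical
  set K' : Subgroup N := K.subgroupOf N with hK'
  have hne : (QuotientGroup.mk' K' x) ≠ 1 := by
    intro h0
    rw [QuotientGroup.mk'_apply, QuotientGroup.eq_one_iff, hK', Subgroup.mem_subgroupOf] at h0
    exact hx h0
  obtain ⟨φ, hφ⟩ := exists_hom_ne_one_of_comm (quot_mul_comm N K hab) _ hne
  refine ⟨φ.comp (QuotientGroup.mk' K'), ?_, hφ⟩
  intro y hy
  rw [MonoidHom.comp_apply]
  have : QuotientGroup.mk' K' y = 1 := by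
    rw [QuotientGroup.mk'_apply, QuotientGroup.eq_one_iff, hK', Subgroup.mem_subgroupOf]
    exact hy
  rw [this, map_one]

/-- the twist of a function on `N` by a linear character -/
def tw (θ : N → ℂ) (lam : N →* ℂˣ) : N → ℂ := fun x => θ x * ((lam x : ℂˣ) : ℂ)

theorem tw_apply (θ : N → ℂ) (lam : N →* ℂˣ) (x : N) :
    tw N θ lam x = θ x * ((lam x : ℂˣ) : ℂ) := rfl

theorem tw_one (θ : N → ℂ) : tw N θ 1 = θ := by
  funext x
  rw [tw_apply]
  simp

theorem tw_tw (θ : N → ℂ) (a b : N →* ℂˣ) : tw N (tw N θ a) b = tw N θ (a * b) := by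
  funext x
  rw [tw_apply, tw_apply, tw_apply, MonoidHom.mul_apply, Units.val_mul, mul_assoc]

theorem tw_apply_one (θ : N → ℂ) (lam : N →* ℂˣ) : tw N θ lam 1 = θ 1 := by
  rw [tw_apply, map_one]
  simp

theorem tw_isIrrCharacter {θ : N → ℂ} (hθ : IsIrrCharacter N θ) (lam : N →* ℂˣ) :
    IsIrrCharacter N (tw N θ lam) := by
  have h1 : IsIrrCharacter N (fun x : N => ((lam x : ℂˣ) : ℂ)) :=
    Cfsg.Agent.Lib.Helper25.isIrrCharacter_of_hom lam
  have h2 := Cfsg.Agent.Lib.Helper25.isIrrCharacter_linear_mul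
    (IsIrrCharacter.isCharacter h1) (by simp) hθ
  have h3 : tw N θ lam = (fun x : N => ((lam x : ℂˣ) : ℂ)) * θ := by
    funext x
    rw [tw_apply, Pi.mul_apply, mul_comm]
  rw [h3]
  exact h2

theorem conjFn_tw (g : G) (θ : N → ℂ) (lam : N →* ℂˣ) :
    conjFn N g (tw N θ lam) = tw N (conjFn N g θ) (act N g lam) := by
  funext x
  rw [conjFn_apply, tw_apply, tw_apply, conjFn_apply, act_apply]

/-- two `g`-fixed members of the orbit `θ A` coincide, for `g ∉ N` -/
theorem tw_eq_of_fixed (hab : ∀ a ∈ N, ∀ b ∈ N, ⁅a, b⁆ ∈ K)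
    (hcop : (N.index).Coprime (K.relIndex N))
    (hfpf : ∀ g : G, g ∉ N → ∀ x ∈ N, ⁅x, g⁆ ∈ K → x ∈ K)
    {θ : N → ℂ} {g : G} (hg : g ∉ N) (hθg : conjFn N g θ = θ) {μ : N →* ℂˣ}
    (hμ : TrivOn N K μ) (hμg : conjFn N g (tw N θ μ) = tw N θ μ) : tw N θ μ = θ := by
  classical
  -- the stabilizer of `θ` in the group of linear characters
  have hBmul : ∀ a b : N →* ℂˣ, tw N θ a = θ → tw N θ b = θ → tw N θ (a * b) = θ := by
    intro a b ha hb
    rw [← tw_tw, ha, hb]
  have hBinv : ∀ a : N →* ℂˣ, tw N θ a = θ → tw N θ a⁻¹ = θ := by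
    intro a ha
    have : tw N (tw N θ a) a⁻¹ = θ := by rw [tw_tw, hom_mul_inv_cancel, tw_one]
    rw [ha] at this
    exact this
  have hBact : ∀ a : N →* ℂˣ, tw N θ a = θ → tw N θ (act N g a) = θ := by
    intro a ha
    have := congrArg (conjFn N g) ha
    rw [conjFn_tw, hθg] at this
    exact this
  have hBpow : ∀ (a : N →* ℂˣ) (k : ℕ), tw N θ a = θ → tw N θ (a ^ k) = θ := by
    intro a k ha
    induction k with
    | zero => rw [hom_pow_zero, tw_one]
    | succ k ih => rw [hom_pow_succ]; exact hBmul _ _ ih ha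
  set ν₀ : N →* ℂˣ := act N g μ * μ⁻¹ with hν₀
  have hν₀B : tw N θ ν₀ = θ := by
    rw [conjFn_tw, hθg] at hμg
    rw [hν₀, ← tw_tw, hμg, tw_tw, hom_mul_inv_cancel, tw_one]
  have hactμ : act N g μ = μ * ν₀ := by
    apply MonoidHom.ext
    intro x
    rw [hν₀, MonoidHom.mul_apply, MonoidHom.mul_apply, MonoidHom.inv_apply,
      mul_comm ((act N g μ) x), ← mul_assoc, mul_inv_cancel, one_mul]
  -- the conjugates of `μ`
  have hconj : ∀ i : ℕ, ∃ β : N →* ℂˣ, tw N θ β = θ ∧ act N (g ^ i) μ = μ * β := by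
    intro i
    induction i with
    | zero => exact ⟨1, tw_one N θ, by rw [pow_zero, act_one, hom_mul_one]⟩
    | succ i ih =>
      obtain ⟨β, hβ, hβi⟩ := ih
      refine ⟨ν₀ * act N g β, hBmul _ _ hν₀B (hBact β hβ), ?_⟩
      rw [pow_succ, act_mul, hβi, act_mul_hom, hactμ, hom_mul_assoc]
  choose β hβB hβ using hconj
  set r := N.index with hr
  set P : N →* ℂˣ := ∏ i ∈ Finset.range r, act N (g ^ i) μ with hP
  have hgr : g ^ r ∈ N := N.pow_index_mem g
  have hPA : TrivOn N K P := TrivOn.prod N K _ _ (fun i _ => hμ.act N K (g ^ i))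
  have hPfix : act N g P = P := by
    rw [hP, act_prod_hom]
    have h1 : ∀ i ∈ Finset.range r, act N g (act N (g ^ i) μ) = act N (g ^ (i + 1)) μ := by
      intro i _
      rw [pow_succ, act_mul]
    rw [Finset.prod_congr rfl h1]
    have h2 := Finset.prod_range_succ (fun i => act N (g ^ i) μ) r
    have h3 := Finset.prod_range_succ' (fun i => act N (g ^ i) μ) r
    rw [h2] at h3
    have h4 : act N (g ^ r) μ = act N (g ^ 0) μ := by
      rw [pow_zero, act_one, act_of_mem N K hab hμ hgr]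
    rw [h4] at h3
    exact (mul_right_cancel h3).symm
  have hP1 : P = 1 := eq_one_of_act_eq N K hab hfpf hg hPA hPfix
  have hPeq : P = μ ^ r * ∏ i ∈ Finset.range r, β i := by
    rw [hP, Finset.prod_congr rfl (fun i _ => hβ i)]
    have h1 := Finset.prod_mul_distrib (s := Finset.range r) (f := fun _ => μ) (g := β)
    rw [Finset.prod_const, Finset.card_range] at h1
    exact h1
  have hprodB : tw N θ (∏ i ∈ Finset.range r, β i) = θ := by
    generalize Finset.range r = s
    induction s using Finset.induction_on with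
    | empty => rw [Finset.prod_empty, tw_one]
    | insert a s ha ih => rw [Finset.prod_insert ha]; exact hBmul _ _ (hβB a) ih
  have hμr : tw N θ (μ ^ r) = θ := by
    have h0 : μ ^ r * ∏ i ∈ Finset.range r, β i = 1 := by
      rw [← hPeq]; exact hP1
    have h1 : μ ^ r = (∏ i ∈ Finset.range r, β i)⁻¹ := by
      apply MonoidHom.ext
      intro x
      have h2 := DFunLike.congr_fun h0 x
      rw [MonoidHom.mul_apply, MonoidHom.one_apply] at h2
      rw [MonoidHom.inv_apply]
      exact eq_inv_of_mul_eq_one_left h2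
    rw [h1]
    exact hBinv _ hprodB
  set s := K.relIndex N with hs
  have hμs : μ ^ s = 1 := hμ.pow_relIndex N K
  rcases Nat.lt_or_ge 1 s with hs1 | hs1
  · obtain ⟨a, -, ha⟩ := Nat.exists_mul_mod_eq_one_of_coprime hcop hs1
    have h1 : (μ ^ r) ^ a = μ := by
      have e1 : (μ ^ r) ^ a = μ ^ (r * a) := (pow_mul (M := N →* ℂˣ) μ r a).symm
      have e2 : μ ^ (r * a) = μ ^ ((r * a) % s) := pow_eq_pow_mod (M := N →* ℂˣ) (r * a) hμs
      rw [e1, e2, ha]
      exact pow_one (M := N →* ℂˣ) μ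
    rw [← h1]
    exact hBpow _ a hμr
  · have hs0 : s ≠ 0 := by
      rw [hs]
      show (K.subgroupOf N).index ≠ 0
      exact Subgroup.index_ne_zero_of_finite
    have : s = 1 := by omega
    rw [this] at hμs
    have hμ1 : μ = 1 := by
      rw [← hμs]
      exact (pow_one (M := N →* ℂˣ) μ).symm
    rw [hμ1, tw_one]

/-- **Isaacs 12.4** -/
theorem twelve_four (hab : ∀ a ∈ N, ∀ b ∈ N, ⁅a, b⁆ ∈ K) (hGN : commutator G ≤ N)
    (hcop : (N.index).Coprime (K.relIndex N))
    (hfpf : ∀ g : G, g ∉ N → ∀ x ∈ N, ⁅x, g⁆ ∈ K → x ∈ K)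
    (ψ : N → ℂ) (hψ : IsIrrCharacter N ψ) :
    (∃ ψ' : N → ℂ, IsIrrCharacter N ψ' ∧ ψ' 1 = ψ 1 ∧ IsIrrCharacter G (indFun N ψ')) ∨
    (∀ x : N, (x : G) ∉ K → ψ x = 0) := by
  classical
  haveI : Fintype N := Fintype.ofFinite N
  by_cases hex : ∃ lam : N →* ℂˣ, TrivOn N K lam ∧
      ∀ g : G, conjFn N g (tw N ψ lam) = tw N ψ lam → g ∈ N
  · left
    obtain ⟨lam, hlam, hstab⟩ := hex
    have hirr := tw_isIrrCharacter N hψ lam
    refine ⟨tw N ψ lam, hirr, tw_apply_one N ψ lam, ?_⟩
    apply isIrrCharacter_of_classInner_self_eq_one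
      (indFun_isCharacter N _ (IsIrrCharacter.isCharacter hirr))
    rw [classInner_indFun_self_of_irr N hirr]
    have hcf : IsClassFunction N (tw N ψ lam) :=
      IsCharacter.isClassFunction (IsIrrCharacter.isCharacter hirr)
    have hcard : Nat.card {g : G // conjFn N g (tw N ψ lam) = tw N ψ lam} = Nat.card N := by
      apply Nat.card_congr
      exact Equiv.subtypeEquivRight (fun g => ⟨hstab g, fun hg => conjFn_of_mem N hcf hg⟩)
    rw [hcard]
    have : (Nat.card N : ℂ) ≠ 0 := Nat.cast_ne_zero.mpr Nat.card_pos.ne'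
    exact div_self this
  · right
    push Not at hex
    have hψcf : IsClassFunction N ψ := IsCharacter.isClassFunction (IsIrrCharacter.isCharacter hψ)
    -- a stabilizing element for `ψ` itself
    obtain ⟨g, hgψ, hgN⟩ := hex 1 (trivOn_one N K)
    rw [tw_one] at hgψ
    have hall : ∀ lam : N →* ℂˣ, TrivOn N K lam → tw N ψ lam = ψ := by
      intro lam hlam
      obtain ⟨h, hh, hhN⟩ := hex lam hlam
      set κ : N →* ℂˣ := lam * (act N h lam)⁻¹ with hκ
      have hκA : TrivOn N K κ := hlam.mul N K ((hlam.act N K h).inv N K)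
      have hψh : conjFn N h ψ = tw N ψ κ := by
        rw [conjFn_tw] at hh
        rw [hκ, ← tw_tw, ← hh, tw_tw, hom_mul_inv_cancel, tw_one]
      -- `ψ^h` is fixed by `g`
      have hfix : conjFn N g (conjFn N h ψ) = conjFn N h ψ := by
        have h1 : conjFn N g (conjFn N h ψ) = conjFn N (h * g) ψ := (conjFn_mul N h g ψ).symm
        have h2 : conjFn N h ψ = conjFn N (g * h) ψ := by
          rw [conjFn_mul, hgψ]
        have h3 : h * g = (g * h) * ⁅h⁻¹, g⁻¹⁆ := by
          rw [commutatorElement_def]; group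
        have h4 : ⁅h⁻¹, g⁻¹⁆ ∈ N :=
          hGN (Subgroup.commutator_mem_commutator (Subgroup.mem_top _) (Subgroup.mem_top _))
        have hcf' : IsClassFunction N (conjFn N (g * h) ψ) :=
          IsCharacter.isClassFunction (IsIrrCharacter.isCharacter
            (conjFn_isIrrCharacter N (g * h) hψ))
        rw [h1, h3, conjFn_mul N (g * h), conjFn_of_mem N hcf' h4, ← h2]
      rw [hψh] at hfix
      have h5 : tw N ψ κ = ψ := tw_eq_of_fixed N K hab hcop hfpf hgN hgψ hκA hfix
      have h6 : conjFn N h ψ = ψ := by rw [hψh, h5]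
      exact tw_eq_of_fixed N K hab hcop hfpf hhN h6 hlam hh
    intro x hx
    obtain ⟨lam, hlam, hlamx⟩ := exists_trivOn_ne_one N K hab x hx
    have h1 := congrFun (hall lam hlam) x
    rw [tw_apply] at h1
    have h2 : ψ x * (((lam x : ℂˣ) : ℂ) - 1) = 0 := by rw [mul_sub, h1, mul_one, sub_self]
    rcases mul_eq_zero.mp h2 with h3 | h3
    · exact h3
    · exfalso
      apply hlamx
      apply Units.ext
      rw [Units.val_one]
      exact sub_eq_zero.mp h3

end Twelve4

end Cfsg.Agent.Lib.Helper20.CD3
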