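import Mathlib
import Cfsg.Prelude.Def_Blocks
import Cfsg.Agent.Lib.Helper20.CD3Tools
import Cfsg.Agent.Lib.Helper20.CD3Fusion
import Cfsg.Agent.Lib.Helper20.CD3Twelve4
import Cfsg.Agent.Lib.Helper20.CD3Group

/-!
# Three character degrees: the case of coprime degrees (helper20)
-/

set_option autoImplicit false
set_option linter.style.haveILetI false
set_option linter.unusedSectionVars false

namespace Cfsg.Agent.Lib.Helper20.CD3

open Cfsg Cfsg.Agent.Lib.Helper2
open scoped ComplexConjugate commutatorElement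

universe u

section StepTwo

variable {G : Type u} [Group G] [Fintype G]

/-- the quotient `G/K` cannot be a non-abelian `p`-group -/
theorem step_two_pgroup (m n : ℕ) (hm : 1 < m) (hmn : m < n) (hcop : m.Coprime n)
    (hcd : CD3 G m n) (hom : ∃ χ : IrrCharacter G, charDegree (χ : G → ℂ) = m)
    (hon : ∃ χ : IrrCharacter G, charDegree (χ : G → ℂ) = n)
    (K : Subgroup G) [K.Normal] (hna : ¬ ∀ a b : G ⧸ K, a * b = b * a)
    (p : ℕ) (hp : p.Prime) (hL : IsPGroup p (G ⧸ K)) : False := by
  classical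
  haveI : Fact p.Prime := ⟨hp⟩
  haveI : Fintype K := Fintype.ofFinite K
  have h1 : ¬ ∀ β : IrrCharacter (G ⧸ K), (β : G ⧸ K → ℂ) 1 = 1 :=
    fun h => hna (comm_iff_forall_irr_degree_one.mpr h)
  push Not at h1
  obtain ⟨β, hβ⟩ := h1
  obtain ⟨βt, hβt, hβtv⟩ := exists_inflation K β
  set f := charDegree (β : G ⧸ K → ℂ) with hf
  have hf1 : f ≠ 1 := by
    intro h
    apply hβ
    rw [TwoDeg.apply_one_eq_charDegree β, ← hf, h]
    simp
  obtain ⟨e, he⟩ := IsPGroup.iff_card.mp hL
  obtain ⟨d, hd, hdvd, hdpos⟩ := IrrCharacter.exists_degree β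
  have hfd : f = d := ThompsonDeg.charDegree_eq hd
  have hpf : p ∣ f := by
    rw [hfd]
    rw [he] at hdvd
    obtain ⟨j, _, hj⟩ := (Nat.dvd_prime_pow hp).mp hdvd
    rw [hj]
    have hj0 : j ≠ 0 := by
      rintro rfl
      rw [pow_zero] at hj
      exact hf1 (hfd.trans hj)
    exact dvd_pow_self p hj0
  have hfmn : f = m ∨ f = n := by
    rcases hcd βt with h | h | h
    · exact absurd (hβt.symm.trans h) hf1
    · exact Or.inl (hβt.symm.trans h)
    · exact Or.inr (hβt.symm.trans h)
  have hnot : ∀ x y : ℕ, x.Coprime y → p ∣ x → ¬ p ∣ y := by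
    intro x y hxy hpx hpy
    have h2 : p ∣ Nat.gcd x y := Nat.dvd_gcd hpx hpy
    rw [Nat.Coprime.gcd_eq_one hxy] at h2
    exact hp.one_lt.ne' (Nat.dvd_one.mp h2)
  obtain ⟨g, χ, hχ, hpg, hfg⟩ : ∃ g : ℕ, ∃ χ : IrrCharacter G,
      charDegree (χ : G → ℂ) = g ∧ ¬ p ∣ g ∧ f * g = m * n := by
    rcases hfmn with h | h
    · obtain ⟨χ, hχ⟩ := hon
      exact ⟨n, χ, hχ, hnot m n hcop (h ▸ hpf), by rw [h]⟩
    · obtain ⟨χ, hχ⟩ := hom
      exact ⟨m, χ, hχ, hnot n m hcop.symm (h ▸ hpf), by rw [h, mul_comm]⟩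
  -- `χ` restricts irreducibly to `K`
  obtain ⟨θ, hθ⟩ := Cfsg.Agent.Lib.Helper7.exists_constituent_restrict K χ
  obtain ⟨b, d2, hd2, hbd, hb⟩ := DegreeRatio.main K (χ : G → ℂ) χ.2 (θ : K → ℂ) θ.2 hθ
  have hKidx : K.index = p ^ e := by rw [Subgroup.index_eq_card]; exact he
  have hχdeg : g = b * d2 := by rw [← hχ]; exact ThompsonDeg.charDegree_eq hbd
  have hb1 : b = 1 := by
    rw [hKidx] at hb
    obtain ⟨j, _, hj⟩ := (Nat.dvd_prime_pow hp).mp hb
    rcases Nat.eq_zero_or_pos j with h0 | h0
    · rw [hj, h0, pow_zero]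
    · exfalso
      apply hpg
      rw [hχdeg, hj]
      exact Dvd.dvd.mul_right (dvd_pow_self p (by omega)) d2
  have hθdeg : charDegree (θ : K → ℂ) = charDegree (χ : G → ℂ) := by
    rw [ThompsonDeg.charDegree_eq hd2, hχ, hχdeg, hb1, one_mul]
  have hres := restrict_eq_of_degree_eq K χ θ hθ hθdeg
  have hηN : IsIrrCharacter K (fun k : K => (χ : G → ℂ) k) := by rw [hres]; exact θ.2
  have hprod := gallagher_mul K χ.2 hηN βt.2 (fun x hx => by
    rw [hβtv x, hβtv 1, (QuotientGroup.eq_one_iff x).mpr hx, QuotientGroup.mk_one])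
  have hdegprod : charDegree ((βt : G → ℂ) * (χ : G → ℂ)) = f * g := by
    apply ThompsonDeg.charDegree_eq
    rw [Pi.mul_apply, TwoDeg.apply_one_eq_charDegree βt, TwoDeg.apply_one_eq_charDegree χ, hβt,
      hχ]
    push_cast
    rfl
  have hmem := hcd ⟨_, hprod⟩
  rw [show charDegree ((⟨_, hprod⟩ : IrrCharacter G) : G → ℂ) = f * g from hdegprod, hfg] at hmem
  have h2 := Nat.mul_le_mul_left m (show 2 ≤ n by omega)
  have h3 := Nat.mul_le_mul_right n (show 2 ≤ m by omega)
  rcases hmem with h | h | h <;> omega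

/-- the Frobenius-like case -/
theorem step_two_frob (m n : ℕ) (hm : 1 < m) (hmn : m < n) (hcop : m.Coprime n)
    (hcd : CD3 G m n) (N K : Subgroup G) [hNn : N.Normal] [hKn : K.Normal]
    (hKneN : ∃ x ∈ N, x ∉ K) (hNtop : N.index ≠ 1)
    (hab : ∀ a ∈ N, ∀ b ∈ N, ⁅a, b⁆ ∈ K) (hGN : commutator G ≤ N)
    (p : ℕ) (hp : p.Prime) (hpN : ¬ p ∣ N.index) (a : ℕ) (hrel : K.relIndex N = p ^ a)
    (hfpf : ∀ g : G, g ∉ N → ∀ x ∈ N, ⁅x, g⁆ ∈ K → x ∈ K) : derivedSeries G 3 = ⊥ := by
  classical
  haveI : Fintype N := Fintype.ofFinite N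
  have hcopr : (N.index).Coprime (K.relIndex N) := by
    rw [hrel]
    exact Nat.Coprime.pow_right a ((Nat.Prime.coprime_iff_not_dvd hp).mpr hpN).symm
  have T := twelve_four N K hab hGN hcopr hfpf
  have ha0 : a ≠ 0 := by
    rintro rfl
    rw [pow_zero, Subgroup.relIndex_eq_one] at hrel
    obtain ⟨x, hxN, hxK⟩ := hKneN
    exact hxK (hrel hxN)
  -- the index of `N` is a degree
  have hf : N.index = m ∨ N.index = n := by
    rcases T (fun _ => 1) Cfsg.Agent.Lib.Helper25.isIrrCharacter_one with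
      ⟨ψ', hψ', hψ'1, hind⟩ | hvan
    · have hdeg : charDegree (indFun N ψ') = N.index := by
        apply ThompsonDeg.charDegree_eq
        rw [indFun_apply_one, hψ'1, mul_one]
      have hmem := hcd ⟨_, hind⟩
      rw [show charDegree ((⟨_, hind⟩ : IrrCharacter G) : G → ℂ) = N.index from hdeg] at hmem
      rcases hmem with h | h | h
      · exact absurd h hNtop
      · exact Or.inl h
      · exact Or.inr h
    · exfalso
      obtain ⟨x, hxN, hxK⟩ := hKneN
      have := hvan ⟨x, hxN⟩ hxK
      exact one_ne_zero this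
  have hf2 : 2 ≤ N.index := by rcases hf with h | h <;> omega
  obtain ⟨g, hcd', hfg⟩ : ∃ g : ℕ, (∀ χ : IrrCharacter G, charDegree (χ : G → ℂ) = 1 ∨
      charDegree (χ : G → ℂ) = N.index ∨ charDegree (χ : G → ℂ) = g) ∧ (N.index).Coprime g := by
    rcases hf with h | h
    · exact ⟨n, by rw [h]; exact hcd, by rw [h]; exact hcop⟩
    · refine ⟨m, ?_, by rw [h]; exact hcop.symm⟩
      rw [h]
      intro χ
      rcases hcd χ with h1 | h1 | h1
      · exact Or.inl h1
      · exact Or.inr (Or.inr h1)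
      · exact Or.inr (Or.inl h1)
  -- the degrees of `N`
  have hcdN : ∀ ψ : IrrCharacter N, charDegree (ψ : N → ℂ) = 1 ∨ charDegree (ψ : N → ℂ) = g := by
    intro ψ
    by_cases hψ1 : charDegree (ψ : N → ℂ) = 1
    · exact Or.inl hψ1
    right
    set d := charDegree (ψ : N → ℂ) with hd
    have hd2 : 2 ≤ d := by
      obtain ⟨d', hd', _, hd'pos⟩ := IrrCharacter.exists_degree ψ
      have : d = d' := ThompsonDeg.charDegree_eq hd'
      omega
    have hψ1' : (ψ : N → ℂ) 1 = (d : ℂ) := TwoDeg.apply_one_eq_charDegree ψ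
    -- `ψ` vanishes off `K`
    have hvan : ∀ x : N, (x : G) ∉ K → (ψ : N → ℂ) x = 0 := by
      rcases T (ψ : N → ℂ) ψ.2 with ⟨ψ', hψ', hψ'1, hind⟩ | hvan
      · exfalso
        have hdeg : charDegree (indFun N ψ') = N.index * d := by
          apply ThompsonDeg.charDegree_eq
          rw [indFun_apply_one, hψ'1, hψ1']
          push_cast
          rfl
        have hmem := hcd' ⟨_, hind⟩
        rw [show charDegree ((⟨_, hind⟩ : IrrCharacter G) : G → ℂ) = N.index * d from hdeg]
          at hmem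
        have h4 := Nat.mul_le_mul_left N.index hd2
        rcases hmem with h | h | h
        · omega
        · omega
        · have hdvd : N.index ∣ g := ⟨d, h.symm⟩
          have := Nat.Coprime.eq_one_of_dvd hfg hdvd
          omega
      · exact hvan
    -- `p` divides the degree of `ψ`
    have hpd : p ∣ d := by
      set K' : Subgroup N := K.subgroupOf N with hK'
      haveI : K'.Normal := by rw [hK']; infer_instance
      haveI : Fintype K' := Fintype.ofFinite _
      obtain ⟨θ, hθ⟩ := Cfsg.Agent.Lib.Helper7.exists_constituent_restrict K' ψ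
      obtain ⟨b, d2, hd2', hbd, hb⟩ :=
        DegreeRatio.main K' (ψ : N → ℂ) ψ.2 (θ : K' → ℂ) θ.2 hθ
      have hidx : K'.index = p ^ a := hrel
      have hb' : b ∣ p ^ a := by rw [← hidx]; exact hb
      have hdb : d = b * d2 := ThompsonDeg.charDegree_eq hbd
      by_cases hb1 : b = 1
      · exfalso
        have hθdeg : charDegree (θ : K' → ℂ) = charDegree (ψ : N → ℂ) := by
          rw [ThompsonDeg.charDegree_eq hd2', ← hd, hdb, hb1, one_mul]
        have hres := restrict_eq_of_degree_eq K' ψ θ hθ hθdeg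
        have hnorm := classInner_restrict_of_vanish K' (ψ : N → ℂ) (fun x hx => hvan x (by
          intro hxK
          exact hx (Subgroup.mem_subgroupOf.mpr hxK)))
        rw [hres, classInner_irrCharacter_self θ, classInner_irrCharacter_self ψ, mul_one, hidx]
          at hnorm
        have h1 : p ^ a = 1 := by exact_mod_cast hnorm.symm
        have h2 : 1 < p ^ a := Nat.one_lt_pow ha0 hp.one_lt
        omega
      · obtain ⟨j, _, hj⟩ := (Nat.dvd_prime_pow hp).mp hb'
        have hj0 : j ≠ 0 := by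
          rintro rfl
          exact hb1 (by rw [hj, pow_zero])
        rw [hdb, hj]
        exact Dvd.dvd.mul_right (dvd_pow_self p hj0) d2
    -- a character of `G` over `ψ`
    obtain ⟨χ, hχ⟩ := Cfsg.Agent.Lib.Helper7.exists_irr_over N ψ
    obtain ⟨c, d3, hd3, hcd3, hc⟩ := DegreeRatio.main N (χ : G → ℂ) χ.2 (ψ : N → ℂ) ψ.2 hχ
    have hd3' : d = d3 := ThompsonDeg.charDegree_eq hd3
    have hχdeg : charDegree (χ : G → ℂ) = c * d := by
      rw [hd3']; exact ThompsonDeg.charDegree_eq hcd3
    rcases hcd' χ with h | h | h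
    · exfalso
      rw [hχdeg] at h
      have h5 := Nat.eq_one_of_mul_eq_one_left h
      omega
    · exfalso
      apply hpN
      rw [hχdeg] at h
      exact hpd.trans ⟨c, by rw [← h, mul_comm]⟩
    · rw [hχdeg] at h
      have hcg : c ∣ g := ⟨d, h.symm⟩
      have hc1 : c = 1 := Nat.eq_one_of_dvd_coprimes hfg hc hcg
      rw [hc1, one_mul] at h
      exact h
  exact d3_of_le N hGN (two_deg_comm g hcdN)

theorem step_two (m n : ℕ) (hm : 1 < m) (hmn : m < n) (hcop : m.Coprime n)
    (hcd : CD3 G m n) (hom : ∃ χ : IrrCharacter G, charDegree (χ : G → ℂ) = m)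
    (hon : ∃ χ : IrrCharacter G, charDegree (χ : G → ℂ) = n) : derivedSeries G 3 = ⊥ := by
  classical
  have hna : ¬ ∀ a b : G, a * b = b * a := by
    intro h
    obtain ⟨χ, hχ⟩ := hom
    have h1 := comm_iff_forall_irr_degree_one.mp h χ
    rw [TwoDeg.apply_one_eq_charDegree χ, hχ] at h1
    have : m = 1 := by exact_mod_cast h1
    omega
  obtain ⟨K, hKn, hKG, hKmax⟩ := exists_max_nonabelian_quotient hna
  haveI := hKn
  have hLna : ¬ ∀ a b : G ⧸ K, a * b = b * a :=
    fun h => hKG (commutator_le_of_quotient_comm K h)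
  have hmkcomm : ∀ x y : G, ((⁅x, y⁆ : G) : G ⧸ K) = ⁅(x : G ⧸ K), (y : G ⧸ K)⁆ := by
    intro x y
    exact map_commutatorElement (QuotientGroup.mk' K) x y
  have hLmin : ∀ N : Subgroup (G ⧸ K), N.Normal → N ≠ ⊥ → commutator (G ⧸ K) ≤ N := by
    intro Nb hNb hNb1
    set N := Nb.comap (QuotientGroup.mk' K) with hN
    have hNn : N.Normal := Subgroup.Normal.comap hNb _
    have hKN : K ≤ N := by
      intro x hx
      rw [hN, Subgroup.mem_comap, QuotientGroup.mk'_apply, (QuotientGroup.eq_one_iff x).mpr hx]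
      exact Nb.one_mem
    have hKltN : K < N := by
      apply lt_of_le_of_ne hKN
      intro h
      apply hNb1
      have h1 : Nb = N.map (QuotientGroup.mk' K) :=
        (Subgroup.map_comap_eq_self_of_surjective (QuotientGroup.mk'_surjective K) Nb).symm
      rw [h1, ← h, Subgroup.map_eq_bot_iff, QuotientGroup.ker_mk']
    have hGN := hKmax N hNn hKltN
    show ⁅(⊤ : Subgroup (G ⧸ K)), ⊤⁆ ≤ Nb
    rw [Subgroup.commutator_le]
    intro a _ b _
    induction a using QuotientGroup.induction_on with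
    | H x =>
    induction b using QuotientGroup.induction_on with
    | H y =>
    have h1 : ⁅x, y⁆ ∈ N :=
      hGN (Subgroup.commutator_mem_commutator (Subgroup.mem_top x) (Subgroup.mem_top y))
    rw [hN, Subgroup.mem_comap, QuotientGroup.mk'_apply, hmkcomm] at h1
    exact h1
  have hcdL : CD3 (G ⧸ K) m n := CD3.quotient hcd K
  by_cases hLab : ∀ a ∈ commutator (G ⧸ K), ∀ b ∈ commutator (G ⧸ K), a * b = b * a
  swap
  · exfalso
    haveI : Fintype (G ⧸ K) := Fintype.ofFinite _
    haveI : Fintype ↥(commutator (G ⧸ K)) := Fintype.ofFinite _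
    haveI : Fintype (IrrCharacter (G ⧸ K)) := Fintype.ofFinite _
    by_cases hboth : (∃ χ : IrrCharacter (G ⧸ K), charDegree (χ : G ⧸ K → ℂ) = m) ∧
        (∃ ψ : IrrCharacter (G ⧸ K), charDegree (ψ : G ⧸ K → ℂ) = n)
    · obtain ⟨⟨χ, hχ⟩, ⟨ψ, hψ⟩⟩ := hboth
      have hcfg : Cfg (G ⧸ K) m n :=
        { hm := hm
          hmn := hmn
          hcop := hcop
          hcd := hcdL
          hmin := by
            intro N hN hle
            by_cases h0 : N = ⊥
            · exact Or.inl h0
            · exact Or.inr (le_antisymm hle (hLmin N hN h0))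
          hnab := hLab }
      exact hcfg.false_of χ ψ hχ hψ
    · apply hLab
      rw [not_and_or] at hboth
      rcases hboth with h | h
      · push Not at h
        apply two_deg_comm n
        intro χ
        rcases hcdL χ with h1 | h1 | h1
        · exact Or.inl h1
        · exact absurd h1 (h χ)
        · exact Or.inr h1
      · push Not at h
        apply two_deg_comm m
        intro χ
        rcases hcdL χ with h1 | h1 | h1
        · exact Or.inl h1
        · exact Or.inr h1
        · exact absurd h1 (h χ)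
  · rcases lemma_12_3 hLna hLmin hLab with ⟨p, hp, hL⟩ | ⟨p, hp, hMp, hpidx, hfpf⟩
    · exact (step_two_pgroup m n hm hmn hcop hcd hom hon K hLna p hp hL).elim
    · set N : Subgroup G := (commutator (G ⧸ K)).comap (QuotientGroup.mk' K) with hN
      haveI hNn : N.Normal := Subgroup.Normal.comap inferInstance _
      have hmemN : ∀ x : G, x ∈ N ↔ (x : G ⧸ K) ∈ commutator (G ⧸ K) := fun x => Iff.rfl
      have hM1 : commutator (G ⧸ K) ≠ ⊥ := by
        intro h0
        apply hLna
        intro a b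
        have h1 : ⁅a, b⁆ ∈ commutator (G ⧸ K) :=
          Subgroup.commutator_mem_commutator (Subgroup.mem_top a) (Subgroup.mem_top b)
        rw [h0, Subgroup.mem_bot] at h1
        exact commutatorElement_eq_one_iff_mul_comm.mp h1
      have hKneN : ∃ x ∈ N, x ∉ K := by
        obtain ⟨y, hy, hy1⟩ : ∃ y ∈ commutator (G ⧸ K), y ≠ 1 := by
          by_contra hcon
          push Not at hcon
          apply hM1
          rw [eq_bot_iff]
          intro y hy
          rw [Subgroup.mem_bot]
          exact hcon y hy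
        induction y using QuotientGroup.induction_on with
        | H x =>
        refine ⟨x, (hmemN x).mpr hy, fun hxK => hy1 ?_⟩
        exact (QuotientGroup.eq_one_iff x).mpr hxK
      have hidx : N.index = (commutator (G ⧸ K)).index :=
        Subgroup.index_comap_of_surjective _ (QuotientGroup.mk'_surjective K)
      have hNtop : N.index ≠ 1 := by
        rw [hidx]
        intro h1
        rw [Subgroup.index_eq_one] at h1
        apply hLna
        intro a b
        exact hLab a (by rw [h1]; exact Subgroup.mem_top a) b (by rw [h1]; exact Subgroup.mem_top b)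
      have hab : ∀ a ∈ N, ∀ b ∈ N, ⁅a, b⁆ ∈ K := by
        intro a ha b hb
        rw [← QuotientGroup.eq_one_iff, hmkcomm]
        exact commutatorElement_eq_one_iff_mul_comm.mpr
          (hLab _ ((hmemN a).mp ha) _ ((hmemN b).mp hb))
      have hGN : commutator G ≤ N := by
        show ⁅(⊤ : Subgroup G), ⊤⁆ ≤ N
        rw [Subgroup.commutator_le]
        intro a _ b _
        rw [hmemN, hmkcomm]
        exact Subgroup.commutator_mem_commutator (Subgroup.mem_top _) (Subgroup.mem_top _)
      have hpN : ¬ p ∣ N.index := by rw [hidx]; exact hpidx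
      haveI : Fact p.Prime := ⟨hp⟩
      obtain ⟨a, ha⟩ := IsPGroup.iff_card.mp hMp
      have hrel : K.relIndex N = p ^ a := by
        have h1 := Subgroup.relIndex_ker (QuotientGroup.mk' K) (K := N)
        rw [QuotientGroup.ker_mk'] at h1
        rw [h1, hN, Subgroup.map_comap_eq_self_of_surjective (QuotientGroup.mk'_surjective K), ha]
      have hfpf' : ∀ g : G, g ∉ N → ∀ x ∈ N, ⁅x, g⁆ ∈ K → x ∈ K := by
        intro g hg x hx hxg
        rw [← QuotientGroup.eq_one_iff, hmkcomm] at hxg
        have h1 := hfpf (g : G ⧸ K) (fun h => hg ((hmemN g).mpr h)) (x : G ⧸ K) ((hmemN x).mp hx)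
          (commutatorElement_eq_one_iff_mul_comm.mp hxg)
        exact (QuotientGroup.eq_one_iff x).mp h1
      exact step_two_frob m n hm hmn hcop hcd N K hKneN hNtop hab hGN p hp hpN a hrel hfpf'

end StepTwo

end Cfsg.Agent.Lib.Helper20.CD3
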