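import Mathlib
import Cfsg.Prelude.Def_Blocks
import Cfsg.Agent.Lib.Helper20.CD3Tools
import Cfsg.Agent.Lib.Helper20.CD3Step1
import Cfsg.Agent.Lib.Helper20.CD3Step2

/-!
# Three character degrees: derived length at most three (helper20; Isaacs 12.15)
-/

set_option autoImplicit false
set_option linter.style.haveILetI false
set_option linter.unusedSectionVars false

namespace Cfsg.Agent.Lib.Helper20.CD3

open Cfsg Cfsg.Agent.Lib.Helper2
open scoped ComplexConjugate commutatorElement

universe u

theorem main_aux : ∀ (N : ℕ) (G : Type u) [Group G] [Finite G], Nat.card G = N →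
    ∀ m n : ℕ, CD3 G m n → derivedSeries G 3 = ⊥ := by
  intro N
  induction N using Nat.strong_induction_on with
  | _ N ih =>
  intro G _ _ hcard m n hcd
  classical
  haveI : Fintype G := Fintype.ofFinite G
  have IH : ∀ (H : Type u) [Group H] [Finite H], Nat.card H < Nat.card G →
      ∀ a b : ℕ, CD3 H a b → derivedSeries H 3 = ⊥ := by
    intro H _ _ hlt a b hab
    exact ih (Nat.card H) (hcard ▸ hlt) H rfl a b hab
  have hsmall : ∀ f : ℕ, (∀ χ : IrrCharacter G, charDegree (χ : G → ℂ) = 1 ∨
      charDegree (χ : G → ℂ) = f) → derivedSeries G 3 = ⊥ := by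
    intro f hf
    have h2 := derivedSeries_two_eq_bot (two_deg_comm f hf)
    have h3 := derivedSeries_antitone G (show 2 ≤ 3 by norm_num)
    rw [h2] at h3
    exact le_bot_iff.mp h3
  have key : ∀ a b : ℕ, 1 < a → a < b → CD3 G a b →
      (∃ χ : IrrCharacter G, charDegree (χ : G → ℂ) = a) →
      (∃ χ : IrrCharacter G, charDegree (χ : G → ℂ) = b) → derivedSeries G 3 = ⊥ := by
    intro a b ha hab hcd' hoa hob
    by_cases hcop : a.Coprime b
    · exact step_two a b ha hab hcop hcd' hoa hob
    · obtain ⟨q, hq, hqa, hqb⟩ := Nat.Prime.not_coprime_iff_dvd.mp hcop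
      exact step_one a b ha hab hcd' hoa q hq hqa hqb IH
  by_cases hom : ∃ χ : IrrCharacter G, charDegree (χ : G → ℂ) = m
  swap
  · push Not at hom
    apply hsmall n
    intro χ
    rcases hcd χ with h | h | h
    · exact Or.inl h
    · exact absurd h (hom χ)
    · exact Or.inr h
  by_cases hon : ∃ χ : IrrCharacter G, charDegree (χ : G → ℂ) = n
  swap
  · push Not at hon
    apply hsmall m
    intro χ
    rcases hcd χ with h | h | h
    · exact Or.inl h
    · exact Or.inr h
    · exact absurd h (hon χ)
  by_cases hm1 : m = 1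
  · apply hsmall n
    intro χ
    rcases hcd χ with h | h | h
    · exact Or.inl h
    · exact Or.inl (h.trans hm1)
    · exact Or.inr h
  by_cases hn1 : n = 1
  · apply hsmall m
    intro χ
    rcases hcd χ with h | h | h
    · exact Or.inl h
    · exact Or.inr h
    · exact Or.inl (h.trans hn1)
  have hpos : ∀ d : ℕ, (∃ χ : IrrCharacter G, charDegree (χ : G → ℂ) = d) → 0 < d := by
    rintro d ⟨χ, hχ⟩
    obtain ⟨d', hd', _, hd'pos⟩ := IrrCharacter.exists_degree χ
    have : charDegree (χ : G → ℂ) = d' := ThompsonDeg.charDegree_eq hd'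
    omega
  have hm0 := hpos m hom
  have hn0 := hpos n hon
  rcases Nat.lt_trichotomy m n with h | h | h
  · exact key m n (by omega) h hcd hom hon
  · apply hsmall m
    intro χ
    rcases hcd χ with h1 | h1 | h1
    · exact Or.inl h1
    · exact Or.inr h1
    · exact Or.inr (h1.trans h.symm)
  · apply key n m (by omega) h _ hon hom
    intro χ
    rcases hcd χ with h1 | h1 | h1
    · exact Or.inl h1
    · exact Or.inr (Or.inr h1)
    · exact Or.inr (Or.inl h1)

/-- **Isaacs 12.15**: three character degrees force derived length at most three -/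
theorem derived_three_of_card_degrees {G : Type u} [Group G] [Finite G]
    (hcd : Nat.card {n : ℕ // ∃ χ : IrrCharacter G, charDegree (χ : G → ℂ) = n} = 3) :
    derivedSeries G 3 = ⊥ := by
  classical
  set D : Set ℕ := {n | ∃ χ : IrrCharacter G, charDegree (χ : G → ℂ) = n} with hD
  have h3 : D.ncard = 3 := by
    rw [← _root_.Nat.card_coe_set_eq]
    exact hcd
  obtain ⟨x, y, z, hxy, hxz, hyz, hDeq⟩ := Set.ncard_eq_three.mp h3
  have h1 : (1 : ℕ) ∈ D := by
    refine ⟨trivialIrr G, ?_⟩
    apply ThompsonDeg.charDegree_eq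
    show (1 : ℂ) = ((1 : ℕ) : ℂ)
    simp
  have hmem : ∀ χ : IrrCharacter G, charDegree (χ : G → ℂ) = x ∨ charDegree (χ : G → ℂ) = y ∨
      charDegree (χ : G → ℂ) = z := by
    intro χ
    have : charDegree (χ : G → ℂ) ∈ D := ⟨χ, rfl⟩
    rw [hDeq] at this
    simpa using this
  rw [hDeq] at h1
  simp only [Set.mem_insert_iff, Set.mem_singleton_iff] at h1
  rcases h1 with h | h | h
  · apply main_aux (Nat.card G) G rfl y z
    intro χ
    rcases hmem χ with h' | h' | h'
    · exact Or.inl (h'.trans h.symm)
    · exact Or.inr (Or.inl h')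
    · exact Or.inr (Or.inr h')
  · apply main_aux (Nat.card G) G rfl x z
    intro χ
    rcases hmem χ with h' | h' | h'
    · exact Or.inr (Or.inl h')
    · exact Or.inl (h'.trans h.symm)
    · exact Or.inr (Or.inr h')
  · apply main_aux (Nat.card G) G rfl x y
    intro χ
    rcases hmem χ with h' | h' | h'
    · exact Or.inr (Or.inl h')
    · exact Or.inr (Or.inr h')
    · exact Or.inl (h'.trans h.symm)

end Cfsg.Agent.Lib.Helper20.CD3
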