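import Mathlib
import Cfsg.Prelude.Def_GeometricClasses

/-!
# S5673 O4d2 : the form of a symmetric invertible Gram matrix  (helper20)
-/

set_option autoImplicit false

namespace Cfsg.Agent.Lib.Helper20.S5673O4d12

open Matrix Cfsg Cfsg.Geo

variable {F : Type*} [Field F]

theorem formOfGram_id_eq {k : ℕ} (G : Matrix (Fin k) (Fin k) F) (x y : Fin k → F) :
    formOfGram id G x y = x ⬝ᵥ G *ᵥ y := by
  unfold formOfGram
  simp only [dotProduct, Matrix.mulVec, id, Finset.mul_sum, mul_assoc]

theorem gramMatrix_formOfGram {k : ℕ} (G : Matrix (Fin k) (Fin k) F) : gramMatrix (formOfGram id G) = G := by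
  ext a b
  unfold gramMatrix
  rw [formOfGram_id_eq, Matrix.mulVec_single_one, single_one_dotProduct]
  rfl

/-- **O4d2** the form of a symmetric invertible Gram matrix -/
theorem isSymmetricForm_formOfGram {k : ℕ} (G : Matrix (Fin k) (Fin k) F) (hG : IsUnit G) (hsym : Gᵀ = G) :
    IsSymmetricForm (formOfGram id G) ∧ gramMatrix (formOfGram id G) = G := by
  have hdet : IsUnit G.det := (Matrix.isUnit_iff_isUnit_det G).mp hG
  have hsymm : ∀ u v, formOfGram id G u v = formOfGram id G v u := by
    intro u v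
    rw [formOfGram_id_eq, formOfGram_id_eq, Matrix.dotProduct_mulVec, ← hsym, Matrix.vecMul_transpose, hsym,
      dotProduct_comm]
  refine ⟨⟨⟨?_, ?_, ?_, ?_⟩, hsymm, ?_⟩, gramMatrix_formOfGram G⟩
  · intro x y v
    simp only [formOfGram_id_eq, add_dotProduct]
  · intro c x v
    simp only [formOfGram_id_eq, smul_dotProduct, smul_eq_mul]
  · intro v x y
    simp only [formOfGram_id_eq, Matrix.mulVec_add, dotProduct_add]
  · intro c v x
    simp only [formOfGram_id_eq, Matrix.mulVec_smul, dotProduct_smul, smul_eq_mul]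
  · intro v hv
    have h1 : ∃ x, formOfGram id G x v ≠ 0 := by
      by_contra hcon
      push Not at hcon
      apply hv
      have h2 : G *ᵥ v = 0 := by
        ext i
        have := hcon (Pi.single i 1)
        rw [formOfGram_id_eq, single_one_dotProduct] at this
        exact this
      have h3 : G⁻¹ *ᵥ (G *ᵥ v) = v := by
        rw [Matrix.mulVec_mulVec, Matrix.nonsing_inv_mul _ hdet, Matrix.one_mulVec]
      rw [← h3, h2, Matrix.mulVec_zero]
    refine ⟨h1, ?_⟩
    obtain ⟨x, hx⟩ := h1
    exact ⟨x, by rw [hsymm]; exact hx⟩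

end Cfsg.Agent.Lib.Helper20.S5673O4d12
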