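import Mathlib

/-!
# S5673 O7a / O4d1 : invertible skew matrices have even size; Kronecker factors of a symmetric matrix  (helper20)
-/

set_option autoImplicit false

namespace Cfsg.Agent.Lib.Helper20.S5673O7a

open Matrix
open scoped Kronecker

variable {F : Type*} [Field F] [Fintype F]

theorem two_ne_zero_of_odd_card (hq : Odd (Fintype.card F)) : (2 : F) ≠ 0 := by
  intro h2
  have hc : ringChar F = 2 := CharP.ringChar_of_prime_eq_zero Nat.prime_two (by exact_mod_cast h2)
  have := FiniteField.even_card_of_char_two hc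
  rcases hq with ⟨k, hk⟩
  omega

/-- **O7a** an invertible skew matrix has even size (`2 ≠ 0`) -/
theorem even_of_skew (hq : Odd (Fintype.card F)) {k : ℕ} (G : Matrix (Fin k) (Fin k) F) (hG : IsUnit G)
    (hskew : Gᵀ = -G) : Even k := by
  by_contra hk
  rw [Nat.not_even_iff_odd] at hk
  have hdet : G.det ≠ 0 := by
    have := (Matrix.isUnit_iff_isUnit_det G).mp hG
    exact this.ne_zero
  have h1 : G.det = (-1) ^ k * G.det := by
    conv_lhs => rw [← Matrix.det_transpose, hskew]
    rw [Matrix.det_neg, Fintype.card_fin]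
  rw [hk.neg_one_pow] at h1
  have h2 : (2 : F) * G.det = 0 := by linear_combination h1
  rcases mul_eq_zero.mp h2 with h | h
  · exact two_ne_zero_of_odd_card hq h
  · exact hdet h

/-- **O4d1** both Kronecker factors of a symmetric invertible Gram matrix in odd dimension are symmetric
(`0 < s` is needed: for `s = 0` the hypothesis is empty) -/
theorem symm_of_kronecker_symm (hq : Odd (Fintype.card F)) {d s : ℕ} (hd : Odd d) (hs : 0 < s)
    (G₁ : Matrix (Fin d) (Fin d) F) (G₂ : Matrix (Fin s) (Fin s) F) (h1 : IsUnit G₁) (h2 : IsUnit G₂)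
    (h : (G₁ ⊗ₖ G₂)ᵀ = G₁ ⊗ₖ G₂) : G₁ᵀ = G₁ ∧ G₂ᵀ = G₂ := by
  -- entrywise: `G₁ j i * G₂ l k = G₁ i j * G₂ k l`
  have hent : ∀ i j k l, G₁ j i * G₂ l k = G₁ i j * G₂ k l := by
    intro i j k l
    have := congrFun (congrFun h (i, k)) (j, l)
    simpa [Matrix.transpose_apply, Matrix.kroneckerMap_apply] using this
  have hd0 : 0 < d := hd.pos
  -- nonzero entries
  have hne : ∀ {m : ℕ} (G : Matrix (Fin m) (Fin m) F), IsUnit G → 0 < m → ∃ i j, G i j ≠ 0 := by
    intro m G hG hm
    by_contra hcon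
    push Not at hcon
    have hG0 : G = 0 := by ext i j; exact hcon i j
    have hdet := (Matrix.isUnit_iff_isUnit_det G).mp hG
    rw [hG0] at hdet
    have : Nonempty (Fin m) := ⟨⟨0, hm⟩⟩
    rw [Matrix.det_zero] at hdet
    exact not_isUnit_zero hdet
  obtain ⟨i₀, j₀, h10⟩ := hne G₁ h1 hd0
  obtain ⟨k₀, l₀, h20⟩ := hne G₂ h2 hs
  -- `G₂ l₀ k₀ ≠ 0` too
  have h20' : G₂ l₀ k₀ ≠ 0 := by
    intro h0
    -- all `G₁ i j * G₂ k₀ l₀ = G₁ j i * 0 = 0`
    have : G₁ i₀ j₀ * G₂ k₀ l₀ = 0 := by rw [← hent i₀ j₀ k₀ l₀, h0, mul_zero]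
    exact (mul_ne_zero h10 h20) this
  -- `G₁ᵀ = c • G₁` with `c = G₂ k₀ l₀ / G₂ l₀ k₀`
  set c : F := G₂ k₀ l₀ / G₂ l₀ k₀ with hc
  have hT : ∀ i j, G₁ j i = c * G₁ i j := by
    intro i j
    have := hent i j k₀ l₀
    rw [hc]
    field_simp
    linear_combination this
  have hc2 : c * c = 1 := by
    have h3 := hT i₀ j₀
    have h4 := hT j₀ i₀
    rw [h3] at h4
    have h5 : G₁ i₀ j₀ * (c * c - 1) = 0 := by linear_combination -h4
    rcases mul_eq_zero.mp h5 with h | h
    · exact absurd h h10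
    · linear_combination h
  have hc1 : c = 1 := by
    have h3 : (c - 1) * (c + 1) = 0 := by linear_combination hc2
    rcases mul_eq_zero.mp h3 with h | h
    · linear_combination h
    · exfalso
      have hcm : c = -1 := by linear_combination h
      have hskew : G₁ᵀ = -G₁ := by
        ext i j
        rw [Matrix.transpose_apply, Matrix.neg_apply, hT j i, hcm]
        ring
      exact (Nat.not_even_iff_odd.2 hd) (even_of_skew hq G₁ h1 hskew)
  have hG1 : G₁ᵀ = G₁ := by
    ext i j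
    rw [Matrix.transpose_apply, hT j i, hc1, one_mul]
  refine ⟨hG1, ?_⟩
  ext k l
  rw [Matrix.transpose_apply]
  have h3 := hent i₀ j₀ k l
  have h4 : G₁ j₀ i₀ = G₁ i₀ j₀ := by
    have := congrFun (congrFun hG1 i₀) j₀
    rw [Matrix.transpose_apply] at this
    exact this
  rw [h4] at h3
  exact mul_left_cancel₀ h10 h3

end Cfsg.Agent.Lib.Helper20.S5673O7a
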