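import Mathlib
import Cfsg.Agent.S0756
import Cfsg.Agent.Lib.Helper20.S5673O7a

/-!
# S5673 O4d3 : in odd dimension two non-degenerate symmetric matrices over a finite field of odd order are similar  (helper20)

Normal form (`Cfsg.Agent.S0756.result`): `aᵀ G a = diag(1, …, 1, δ)`, `δ ∈ {1, α}` (`α` a fixed non-square); `δ` is determined by the
square class of `det G`, and scaling `G` by `α` changes the class in odd dimension.
-/

set_option autoImplicit false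

namespace Cfsg.Agent.Lib.Helper20.S5673O4d3

open Matrix

variable {F : Type*} [Field F]

/-- weights `1, …, 1, δ` -/
def cdw (n : ℕ) (δ : F) (i : Fin (n + 1)) : F := if i = Fin.last n then δ else 1

theorem prod_cdw (n : ℕ) (δ : F) : ∏ i, cdw n δ i = δ := by
  rw [Fin.prod_univ_castSucc]
  have h1 : ∀ i : Fin n, cdw n δ (Fin.castSucc i) = 1 := by
    intro i
    unfold cdw
    rw [if_neg (Fin.castSucc_lt_last i).ne]
  simp only [h1, Finset.prod_const_one, one_mul]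
  unfold cdw
  rw [if_pos rfl]

/-- the normal form of a non-degenerate symmetric matrix -/
theorem exists_normal [Finite F] (h2 : (2 : F) ≠ 0) {n : ℕ} (G : Matrix (Fin (n + 1)) (Fin (n + 1)) F) (hG : IsUnit G)
    (hs : Gᵀ = G) (α : F) (hα : ¬ IsSquare α) :
    ∃ (a : Matrix (Fin (n + 1)) (Fin (n + 1)) F) (δ : F), (δ = 1 ∨ δ = α) ∧
      aᵀ * G * a = Matrix.diagonal (cdw n δ) := by
  classical
  have hdet : IsUnit G.det := (Matrix.isUnit_iff_isUnit_det G).mp hG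
  let B : LinearMap.BilinForm F (Fin (n + 1) → F) := Matrix.toBilin' G
  have hBapp : ∀ x y, B x y = x ⬝ᵥ G *ᵥ y := fun x y => Matrix.toBilin'_apply' G x y
  have hsymm : ∀ x y, B x y = B y x := by
    intro x y
    rw [hBapp, hBapp, Matrix.dotProduct_mulVec, ← hs, Matrix.vecMul_transpose, hs, dotProduct_comm]
  have hS : B.IsSymm := ⟨fun x y => hsymm x y⟩
  have hleft : ∀ x, (∀ y, B x y = 0) → x = 0 := by
    intro x hx
    have h3 : G *ᵥ x = 0 := by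
      ext i
      have := hx (Pi.single i 1)
      rw [hsymm, hBapp, single_one_dotProduct] at this
      exact this
    have h4 : G⁻¹ *ᵥ (G *ᵥ x) = x := by
      rw [Matrix.mulVec_mulVec, Matrix.nonsing_inv_mul _ hdet, Matrix.one_mulVec]
    rw [← h4, h3, Matrix.mulVec_zero]
  have hB : B.Nondegenerate := by
    constructor
    · intro x hx
      exact hleft x hx
    · intro y hy
      exact hleft y (fun x => by rw [hsymm]; exact hy x)
  have hfr : Module.finrank F (Fin (n + 1) → F) = n + 1 := by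
    rw [Module.finrank_fintype_fun_eq_card, Fintype.card_fin]
  obtain ⟨b, hortho, hone, hlast⟩ := Cfsg.Agent.S0756.result h2 B hS hB hfr α hα
  refine ⟨Matrix.of (fun i j => b j i), B (b (Fin.last n)) (b (Fin.last n)), hlast, ?_⟩
  ext i j
  have h5 : (((Matrix.of (fun i j => b j i) : Matrix (Fin (n + 1)) (Fin (n + 1)) F))ᵀ * G *
      (Matrix.of (fun i j => b j i) : Matrix (Fin (n + 1)) (Fin (n + 1)) F)) i j = B (b i) (b j) := by
    rw [hBapp]
    simp only [Matrix.mul_apply, Matrix.transpose_apply, Matrix.of_apply, dotProduct, Matrix.mulVec, Finset.sum_mul,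
      Finset.mul_sum]
    rw [Finset.sum_comm]
    refine Finset.sum_congr rfl fun k _ => Finset.sum_congr rfl fun l _ => ?_
    ring
  rw [h5, Matrix.diagonal_apply]
  by_cases hij : i = j
  · subst hij
    rw [if_pos rfl]
    unfold cdw
    by_cases hi : i = Fin.last n
    · rw [if_pos hi, hi]
    · rw [if_neg hi, hone i hi]
  · rw [if_neg hij, hortho i j hij]

theorem isUnit_of_normal {n : ℕ} (G a : Matrix (Fin (n + 1)) (Fin (n + 1)) F) (δ : F) (hδ : δ ≠ 0)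
    (h : aᵀ * G * a = Matrix.diagonal (cdw n δ)) : IsUnit a ∧ a.det * a.det * G.det = δ := by
  have h1 := congrArg Matrix.det h
  rw [Matrix.det_mul, Matrix.det_mul, Matrix.det_transpose, Matrix.det_diagonal, prod_cdw] at h1
  refine ⟨?_, by linear_combination h1⟩
  rw [Matrix.isUnit_iff_isUnit_det]
  apply IsUnit.mk0
  intro h0
  rw [h0] at h1
  simp only [zero_mul] at h1
  exact hδ h1.symm

/-- two matrices with the same normal form -/
theorem similar_of_normal {m : ℕ} (G₁ G₂ a₁ a₂ D : Matrix (Fin m) (Fin m) F) (μ : F)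
    (ha₁ : IsUnit a₁) (ha₂ : IsUnit a₂)
    (h1 : a₁ᵀ * (μ • G₁) * a₁ = D) (h2 : a₂ᵀ * G₂ * a₂ = D) :
    ∃ a : GL (Fin m) F, G₂ = μ • ((a : Matrix (Fin m) (Fin m) F)ᵀ * G₁ * (a : Matrix (Fin m) (Fin m) F)) := by
  have hd₂ : IsUnit a₂.det := (Matrix.isUnit_iff_isUnit_det a₂).mp ha₂
  have hu : IsUnit (a₁ * a₂⁻¹) := by
    rw [Matrix.isUnit_iff_isUnit_det, Matrix.det_mul]
    exact ((Matrix.isUnit_iff_isUnit_det a₁).mp ha₁).mul ((Matrix.isUnit_iff_isUnit_det _).mp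
      ((Matrix.isUnit_nonsing_inv_iff).mpr ha₂))
  refine ⟨hu.unit, ?_⟩
  rw [IsUnit.unit_spec]
  have e1 : a₂⁻¹ᵀ * a₂ᵀ = 1 := by
    rw [← Matrix.transpose_mul, Matrix.mul_nonsing_inv _ hd₂, Matrix.transpose_one]
  have e2 : a₂ * a₂⁻¹ = 1 := Matrix.mul_nonsing_inv _ hd₂
  have h3 : G₂ = a₂⁻¹ᵀ * (a₂ᵀ * G₂ * a₂) * a₂⁻¹ := by
    calc G₂ = (a₂⁻¹ᵀ * a₂ᵀ) * G₂ * (a₂ * a₂⁻¹) := by rw [e1, e2, Matrix.one_mul, Matrix.mul_one]
      _ = a₂⁻¹ᵀ * (a₂ᵀ * G₂ * a₂) * a₂⁻¹ := by simp only [Matrix.mul_assoc]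
  rw [h3, h2, ← h1, Matrix.transpose_mul]
  simp only [Matrix.mul_assoc, Matrix.mul_smul, Matrix.smul_mul]

variable [Fintype F]

/-- **O4d3** -/
theorem exists_similar_of_odd (hq : Odd (Fintype.card F)) {d : ℕ} (hd : Odd d)
    (G₁ G₂ : Matrix (Fin d) (Fin d) F) (h1 : IsUnit G₁) (h2 : IsUnit G₂) (hs1 : G₁ᵀ = G₁) (hs2 : G₂ᵀ = G₂) :
    ∃ (μ : F) (a : GL (Fin d) F), μ ≠ 0 ∧
      G₂ = μ • ((a : Matrix (Fin d) (Fin d) F)ᵀ * G₁ * (a : Matrix (Fin d) (Fin d) F)) := by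
  have h2F : (2 : F) ≠ 0 := Cfsg.Agent.Lib.Helper20.S5673O7a.two_ne_zero_of_odd_card hq
  obtain ⟨k, hk⟩ := hd
  obtain ⟨n, rfl⟩ : ∃ n, d = n + 1 := ⟨2 * k, hk⟩
  have hn : n = 2 * k := by omega
  obtain ⟨α, hα⟩ : ∃ α : F, ¬ IsSquare α := by
    apply FiniteField.exists_nonsquare
    intro hc
    have : CharP F 2 := ringChar.of_eq hc
    exact h2F (CharTwo.two_eq_zero)
  have hα0 : α ≠ 0 := by rintro rfl; exact hα IsSquare.zero
  have hδne : ∀ δ : F, (δ = 1 ∨ δ = α) → δ ≠ 0 := by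
    rintro δ (rfl | rfl)
    · exact one_ne_zero
    · exact hα0
  obtain ⟨a₁, δ₁, hδ₁, hn₁⟩ := exists_normal h2F G₁ h1 hs1 α hα
  obtain ⟨a₂, δ₂, hδ₂, hn₂⟩ := exists_normal h2F G₂ h2 hs2 α hα
  obtain ⟨hu₁, hdet₁⟩ := isUnit_of_normal G₁ a₁ δ₁ (hδne δ₁ hδ₁) hn₁
  obtain ⟨hu₂, hdet₂⟩ := isUnit_of_normal G₂ a₂ δ₂ (hδne δ₂ hδ₂) hn₂
  by_cases h12 : δ₁ = δ₂
  · obtain ⟨a, ha⟩ := similar_of_normal G₁ G₂ a₁ a₂ (Matrix.diagonal (cdw n δ₂)) 1 hu₁ hu₂
      (by rw [one_smul, hn₁, h12]) hn₂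
    exact ⟨1, a, one_ne_zero, ha⟩
  · have hαG : IsUnit (α • G₁) := by
      rw [Matrix.isUnit_iff_isUnit_det, Matrix.det_smul]
      exact (IsUnit.mk0 _ (pow_ne_zero _ hα0)).mul ((Matrix.isUnit_iff_isUnit_det G₁).mp h1)
    have hαs : (α • G₁)ᵀ = α • G₁ := by rw [Matrix.transpose_smul, hs1]
    obtain ⟨a₃, δ₃, hδ₃, hn₃⟩ := exists_normal h2F (α • G₁) hαG hαs α hα
    obtain ⟨hu₃, hdet₃⟩ := isUnit_of_normal (α • G₁) a₃ δ₃ (hδne δ₃ hδ₃) hn₃
    have h32 : δ₃ = δ₂ := by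
      by_contra h32
      have h31 : δ₃ = δ₁ := by
        rcases hδ₁ with rfl | rfl <;> rcases hδ₂ with rfl | rfl <;> rcases hδ₃ with rfl | rfl <;>
          first | rfl | exact absurd rfl h12 | exact absurd rfl h32
      apply hα
      rw [Matrix.det_smul, Fintype.card_fin, h31, ← hdet₁] at hdet₃
      have hG₁ : G₁.det ≠ 0 := ((Matrix.isUnit_iff_isUnit_det G₁).mp h1).ne_zero
      have ha₃ : a₃.det ≠ 0 := ((Matrix.isUnit_iff_isUnit_det a₃).mp hu₃).ne_zero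
      have h5 : a₃.det * a₃.det * α ^ (n + 1) = a₁.det * a₁.det := by
        apply mul_right_cancel₀ hG₁
        linear_combination hdet₃
      have hαk : α ^ k ≠ 0 := pow_ne_zero _ hα0
      refine ⟨a₁.det / (a₃.det * α ^ k), ?_⟩
      have h6 : α ^ (n + 1) = α * (α ^ k * α ^ k) := by
        rw [hn, ← pow_add, ← two_mul, pow_succ, mul_comm]
      rw [h6] at h5
      field_simp
      linear_combination h5
    obtain ⟨a, ha⟩ := similar_of_normal G₁ G₂ a₃ a₂ (Matrix.diagonal (cdw n δ₂)) α hu₃ hu₂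
      (by rw [hn₃, h32]) hn₂
    exact ⟨α, a, hα0, ha⟩

end Cfsg.Agent.Lib.Helper20.S5673O4d3
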