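import Mathlib
import Cfsg.Prelude.Def_GeometricClasses
import Cfsg.Agent.H5.HubCorP4
import Cfsg.Agent.Lib.Helper20.S5673O4d3

/-!
# S5673 O-T33, part (a): orthogonal tensor-wreath matrices over `F₃` in degree `3` are monomial  (helper20)

`wm σ gs` (helper5's normal form of the standard tensor wreath group) with `(wm σ gs)ᵀ * wm σ gs = 1`:
every factor satisfies `(gs i)ᵀ * gs i = λ_i • 1`; over `F₃` in dimension `3` the multiplier is `1` (determinants) and an
orthogonal `3 × 3` matrix over `F₃` is monomial; so `wm σ gs` is monomial.  Also: a non-degenerate symmetric `3 × 3` matrix over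
`F₃` is congruent to `± 1`.
-/

set_option autoImplicit false

namespace Cfsg.Agent.Lib.Helper20.S5673OT33

open Matrix Cfsg Cfsg.Geo
open Cfsg.H5.HubCor (wm wm_apply wm_mul wm_one wm_one_eq)

variable {F : Type*} [Field F] [Fintype F]

/-! ## the field with three elements -/

theorem three_eq_zero (hq : Fintype.card F = 3) : (3 : F) = 0 := by
  have := FiniteField.cast_card_eq_zero F
  rw [hq] at this
  exact_mod_cast this

theorem two_ne_zero3 (hq : Fintype.card F = 3) : (2 : F) ≠ 0 := by
  intro h2
  have h3 := three_eq_zero hq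
  have : (1 : F) = 0 := by linear_combination h3 - h2
  exact one_ne_zero this

theorem sq_eq_one3 (hq : Fintype.card F = 3) (x : F) (hx : x ≠ 0) : x * x = 1 := by
  have := FiniteField.pow_card_sub_one_eq_one x hx
  rw [hq] at this
  rw [← this]
  ring

theorem cube_eq3 (hq : Fintype.card F = 3) (x : F) : x ^ 3 = x := by
  have := FiniteField.pow_card x
  rw [hq] at this
  exact this

theorem not_isSquare_neg_one3 (hq : Fintype.card F = 3) : ¬ IsSquare (-1 : F) := by
  rintro ⟨r, hr⟩
  by_cases h0 : r = 0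
  · rw [h0, mul_zero] at hr
    exact one_ne_zero (neg_eq_zero.mp hr)
  · rw [sq_eq_one3 hq r h0] at hr
    apply two_ne_zero3 hq
    linear_combination -hr

/-! ## orthogonal `3 × 3` matrices over `F₃` are monomial -/

theorem mono_of_orth3 (hq : Fintype.card F = 3) (g : Matrix (Fin 3) (Fin 3) F) (hg : gᵀ * g = 1) :
    ∃ π : Equiv.Perm (Fin 3), ∀ i j, g i j ≠ 0 → i = π j := by
  classical
  have h3 := three_eq_zero hq
  have h2 := two_ne_zero3 hq
  have hent : ∀ j j', ∑ k, g k j * g k j' = if j = j' then 1 else 0 := by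
    intro j j'
    have := congrFun (congrFun hg j) j'
    rw [Matrix.mul_apply, Matrix.one_apply] at this
    simpa [Matrix.transpose_apply] using this
  have hsq : ∀ x : F, x = 0 ∨ x * x = 1 := fun x => by
    by_cases hx : x = 0
    · exact Or.inl hx
    · exact Or.inr (sq_eq_one3 hq x hx)
  -- each column has exactly one nonzero entry
  have hcol : ∀ j, ∃ i, g i j ≠ 0 ∧ ∀ k, g k j ≠ 0 → k = i := by
    intro j
    have hj := hent j j
    rw [if_pos rfl, Fin.sum_univ_three] at hj
    rcases hsq (g 0 j) with a0 | a0 <;> rcases hsq (g 1 j) with a1 | a1 <;> rcases hsq (g 2 j) with a2 | a2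
    · exfalso; rw [a0, a1, a2] at hj; simp at hj
    · refine ⟨2, fun h => by rw [h, mul_zero] at a2; exact zero_ne_one a2, fun k hk => ?_⟩
      fin_cases k
      · exact absurd a0 hk
      · exact absurd a1 hk
      · rfl
    · refine ⟨1, fun h => by rw [h, mul_zero] at a1; exact zero_ne_one a1, fun k hk => ?_⟩
      fin_cases k
      · exact absurd a0 hk
      · rfl
      · exact absurd a2 hk
    · exfalso
      rw [a0, a1, a2, mul_zero, zero_add] at hj
      apply one_ne_zero (α := F)
      linear_combination hj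
    · refine ⟨0, fun h => by rw [h, mul_zero] at a0; exact zero_ne_one a0, fun k hk => ?_⟩
      fin_cases k
      · rfl
      · exact absurd a1 hk
      · exact absurd a2 hk
    · exfalso
      rw [a0, a1, a2, mul_zero, add_zero] at hj
      apply one_ne_zero (α := F)
      linear_combination hj
    · exfalso
      rw [a0, a1, a2, mul_zero, add_zero] at hj
      apply one_ne_zero (α := F)
      linear_combination hj
    · exfalso
      rw [a0, a1, a2] at hj
      apply h2
      linear_combination hj
  choose π hπ1 hπ2 using hcol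
  have hinj : Function.Injective π := by
    intro j j' hjj
    by_contra hne
    have h0 := hent j j'
    rw [if_neg hne] at h0
    have h1 : ∑ k, g k j * g k j' = g (π j) j * g (π j) j' := by
      apply Finset.sum_eq_single (π j)
      · intro k _ hk
        have : g k j = 0 := by
          by_contra hk0
          exact hk (hπ2 j k hk0)
        rw [this, zero_mul]
      · intro h
        exact absurd (Finset.mem_univ _) h
    rw [h1] at h0
    rcases mul_eq_zero.mp h0 with h | h
    · exact hπ1 j h
    · rw [hjj] at h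
      exact hπ1 j' h
  refine ⟨Equiv.ofBijective π (Finite.injective_iff_bijective.mp hinj), fun i j hij => ?_⟩
  rw [Equiv.ofBijective_apply]
  exact hπ2 j i hij

/-! ## a similitude of the standard form on `F₃³` is an isometry -/

theorem simil_one3 (hq : Fintype.card F = 3) (g : Matrix (Fin 3) (Fin 3) F) (l : F) (hl : l ≠ 0)
    (hg : gᵀ * g = l • (1 : Matrix (Fin 3) (Fin 3) F)) : l = 1 := by
  have h1 := congrArg Matrix.det hg
  rw [Matrix.det_mul, Matrix.det_transpose, Matrix.det_smul, Matrix.det_one, mul_one, Fintype.card_fin,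
    cube_eq3 hq] at h1
  have hd : g.det ≠ 0 := by
    intro h0
    rw [h0, mul_zero] at h1
    exact hl h1.symm
  rw [sq_eq_one3 hq _ hd] at h1
  exact h1.symm

/-! ## the factors of an orthogonal `wm` -/

omit [Fintype F] in
theorem wm_transpose_mul {m t : ℕ} (σ : Equiv.Perm (Fin t)) (gs : Fin t → Matrix (Fin m) (Fin m) F)
    (y y' : Fin t → Fin m) :
    ((wm m t σ gs)ᵀ * wm m t σ gs) y y' = ∏ i, ((gs i)ᵀ * gs i) (y (σ i)) (y' (σ i)) := by
  rw [Matrix.mul_apply]
  simp only [Matrix.transpose_apply, wm_apply, Matrix.mul_apply]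
  rw [Fintype.prod_sum]
  refine Finset.sum_congr rfl fun x _ => ?_
  rw [Finset.prod_mul_distrib]

omit [Fintype F] in
theorem factor_simil {m t : ℕ} (hm : 0 < m) (σ : Equiv.Perm (Fin t)) (gs : Fin t → Matrix (Fin m) (Fin m) F)
    (h : (wm m t σ gs)ᵀ * wm m t σ gs = 1) (i₀ : Fin t) :
    ∃ l : F, l ≠ 0 ∧ (gs i₀)ᵀ * gs i₀ = l • (1 : Matrix (Fin m) (Fin m) F) := by
  classical
  set B : Fin t → Matrix (Fin m) (Fin m) F := fun i => (gs i)ᵀ * gs i with hB
  let k₀ : Fin m := ⟨0, hm⟩
  -- the product formula in the variables `z = y ∘ σ`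
  have hprod : ∀ z z' : Fin t → Fin m, ∏ i, B i (z i) (z' i) = if z = z' then 1 else 0 := by
    intro z z'
    have h1 := wm_transpose_mul σ gs (z ∘ σ.symm) (z' ∘ σ.symm)
    rw [h, Matrix.one_apply] at h1
    have h2 : ∀ i, (z ∘ σ.symm) (σ i) = z i := fun i => by simp
    have h2' : ∀ i, (z' ∘ σ.symm) (σ i) = z' i := fun i => by simp
    simp only [h2, h2'] at h1
    rw [← h1]
    congr 1
    apply propext
    constructor
    · intro hz
      funext i
      have := congrFun hz (σ i)
      simpa using this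
    · intro hz; rw [hz]
  -- split off the factor `i₀`
  have hsplit : ∀ k k' : Fin m, B i₀ k k' * ∏ i ∈ Finset.univ.erase i₀, B i k₀ k₀ = if k = k' then 1 else 0 := by
    intro k k'
    have h1 := hprod (Function.update (fun _ => k₀) i₀ k) (Function.update (fun _ => k₀) i₀ k')
    rw [← Finset.mul_prod_erase Finset.univ _ (Finset.mem_univ i₀), Function.update_self, Function.update_self] at h1
    have h2 : ∏ i ∈ Finset.univ.erase i₀, B i (Function.update (fun _ => k₀) i₀ k i)
        (Function.update (fun _ => k₀) i₀ k' i) = ∏ i ∈ Finset.univ.erase i₀, B i k₀ k₀ := by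
      refine Finset.prod_congr rfl fun i hi => ?_
      rw [Function.update_of_ne (Finset.ne_of_mem_erase hi), Function.update_of_ne (Finset.ne_of_mem_erase hi)]
    rw [h2] at h1
    rw [h1]
    congr 1
    apply propext
    constructor
    · intro hz
      have := congrFun hz i₀
      rw [Function.update_self, Function.update_self] at this
      exact this
    · intro hz; rw [hz]
  set P0 : F := ∏ i ∈ Finset.univ.erase i₀, B i k₀ k₀ with hP0def
  have hP0 : P0 ≠ 0 := by
    intro h0
    have := hsplit k₀ k₀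
    rw [h0, mul_zero, if_pos rfl] at this
    exact zero_ne_one this
  refine ⟨P0⁻¹, inv_ne_zero hP0, ?_⟩
  ext k k'
  have h1 := hsplit k k'
  rw [Matrix.smul_apply, Matrix.one_apply, smul_eq_mul]
  have h2 : B i₀ k k' = (if k = k' then 1 else 0) * P0⁻¹ := by
    rw [← h1, mul_assoc, mul_inv_cancel₀ hP0, mul_one]
  change B i₀ k k' = _
  rw [h2, mul_comm]

/-! ## monomiality of an orthogonal `wm` over `F₃`, degree `3` -/

theorem wm_mono3 (hq : Fintype.card F = 3) {t : ℕ} (σ : Equiv.Perm (Fin t)) (gs : Fin t → Matrix (Fin 3) (Fin 3) F)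
    (h : (wm 3 t σ gs)ᵀ * wm 3 t σ gs = 1) :
    ∃ ρ : Equiv.Perm (Fin t → Fin 3), ∀ x y, wm 3 t σ gs x y ≠ 0 → x = ρ y := by
  have hfac : ∀ i, ∃ π : Equiv.Perm (Fin 3), ∀ p q, gs i p q ≠ 0 → p = π q := by
    intro i
    obtain ⟨l, hl, hgl⟩ := factor_simil (by norm_num) σ gs h i
    have hl1 := simil_one3 hq (gs i) l hl hgl
    rw [hl1, one_smul] at hgl
    exact mono_of_orth3 hq (gs i) hgl
  choose π hπ using hfac
  refine ⟨(Equiv.arrowCongr σ.symm (Equiv.refl (Fin 3))).trans (Equiv.piCongrRight π), fun x y hxy => ?_⟩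
  funext i
  rw [wm_apply] at hxy
  have h1 : gs i (x i) (y (σ i)) ≠ 0 := fun h0 => hxy (Finset.prod_eq_zero (Finset.mem_univ i) h0)
  have h2 := hπ i _ _ h1
  rw [h2]
  simp [Equiv.arrowCongr]

/-! ## standardisation of a non-degenerate symmetric `3 × 3` matrix over `F₃` -/

theorem exists_std3 (hq : Fintype.card F = 3) (G : Matrix (Fin 3) (Fin 3) F) (hG : IsUnit G) (hs : Gᵀ = G) :
    ∃ (a : Matrix (Fin 3) (Fin 3) F) (ε : F), IsUnit a ∧ ε ≠ 0 ∧ aᵀ * G * a = ε • (1 : Matrix (Fin 3) (Fin 3) F) := by
  have h3 := three_eq_zero hq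
  have h2 := two_ne_zero3 hq
  obtain ⟨a, δ, hδ, hn⟩ := Cfsg.Agent.Lib.Helper20.S5673O4d3.exists_normal (n := 2) h2 G hG hs (-1)
    (not_isSquare_neg_one3 hq)
  have hδ0 : δ ≠ 0 := by
    rcases hδ with rfl | rfl
    · exact one_ne_zero
    · exact neg_ne_zero.mpr one_ne_zero
  obtain ⟨hua, -⟩ := Cfsg.Agent.Lib.Helper20.S5673O4d3.isUnit_of_normal G a δ hδ0 hn
  rcases hδ with rfl | rfl
  · refine ⟨a, 1, hua, one_ne_zero, ?_⟩
    rw [hn, one_smul]
    ext i j
    fin_cases i <;> fin_cases j <;> simp [Cfsg.Agent.Lib.Helper20.S5673O4d3.cdw, Fin.last]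
  · let m : Matrix (Fin 3) (Fin 3) F := !![1, 1, 0; 1, -1, 0; 0, 0, 1]
    have hm : IsUnit m := by
      rw [Matrix.isUnit_iff_isUnit_det]
      have : m.det = 1 := by
        rw [Matrix.det_fin_three]
        simp [m]
        linear_combination -h3
      rw [this]
      exact isUnit_one
    refine ⟨a * m, -1, hua.mul hm, neg_ne_zero.mpr one_ne_zero, ?_⟩
    have h4 : (a * m)ᵀ * G * (a * m) = mᵀ * (aᵀ * G * a) * m := by
      rw [Matrix.transpose_mul]
      simp only [Matrix.mul_assoc]
    rw [h4, hn]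
    ext i j
    fin_cases i <;> fin_cases j <;>
      simp [Cfsg.Agent.Lib.Helper20.S5673O4d3.cdw, Fin.last, m, Matrix.mul_apply, Fin.sum_univ_three,
        Matrix.diagonal_apply] <;> linear_combination h3

end Cfsg.Agent.Lib.Helper20.S5673OT33
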