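import Mathlib
import Cfsg.Prelude.Def_GeometricClasses
import Cfsg.Agent.Lib.Helper7.AschDefs
import Cfsg.Agent.Lib.Helper17.AschODefs
import Cfsg.Agent.Lib.Helper2.S5673O1

/-!
# S5673 O-T33, part (b): an orthogonal frame permuted by `H` puts `H` in class 2 (prime field)  (helper20)
-/

set_option autoImplicit false

namespace Cfsg.Agent.Lib.Helper20.S5673OT33

open Matrix Cfsg Cfsg.Geo Cfsg.Agent.Lib.Helper7.Asch Cfsg.Agent.Lib.Helper17.AschO

variable {F : Type*} [Field F] [Fintype F] {n : ℕ} {Q : (Fin n → F) → F}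

/-- `n` pairwise orthogonal vectors of the same non-zero norm, permuted up to scalars by `H`: class 2 (frame) -/
theorem inClassO_of_frame_vectors (S : OSetup Q) (hp : (Fintype.card F).Prime) (hn : 2 ≤ n)
    (H : Subgroup (GL (Fin n) F)) (hHI : H ≤ isometryGroup F Q) (w : Fin n → (Fin n → F)) (c' : F) (hc' : c' ≠ 0)
    (hw : ∀ i j, QuadraticMap.polar Q (w i) (w j) = if i = j then c' else 0)
    (hmono : ∀ h ∈ H, ∃ ρ : Equiv.Perm (Fin n), ∀ j, ∃ s : F,
      (h : Matrix (Fin n) (Fin n) F) *ᵥ w j = s • w (ρ j)) :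
    InClassO n Q H := by
  classical
  have hbil := S.quad.polar_bilinear
  have h2 : (2 : F) ≠ 0 := Cfsg.Agent.Lib.Helper2.S5673O1.two_ne_zero_of_odd_card S.odd_card
  have hw0 : ∀ i, w i ≠ 0 := by
    intro i h0
    have := hw i i
    rw [if_pos rfl, h0] at this
    have hz : QuadraticMap.polar Q (0 : Fin n → F) 0 = 0 := by
      have := hbil.smul_left 0 (0 : Fin n → F) 0
      rw [zero_smul, zero_mul] at this
      exact this
    rw [hz] at this
    exact hc' this.symm
  -- linear independence
  have hli : LinearIndependent F w := by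
    rw [Fintype.linearIndependent_iff]
    intro g hg i
    have h1 : QuadraticMap.polar Q (∑ j, g j • w j) (w i) = g i * c' := by
      have hsum : ∀ (s : Finset (Fin n)), QuadraticMap.polar Q (∑ j ∈ s, g j • w j) (w i) =
          ∑ j ∈ s, g j * QuadraticMap.polar Q (w j) (w i) := by
        intro s
        induction s using Finset.induction_on with
        | empty =>
          simp only [Finset.sum_empty]
          have := hbil.smul_left 0 (0 : Fin n → F) (w i)
          rw [zero_smul, zero_mul] at this
          exact this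
        | insert a s ha ih =>
          rw [Finset.sum_insert ha, Finset.sum_insert ha, hbil.add_left, hbil.smul_left, ih]
      rw [hsum, Finset.sum_eq_single i]
      · rw [hw i i, if_pos rfl]
      · intro j _ hji
        rw [hw j i, if_neg hji, mul_zero]
      · intro h
        exact absurd (Finset.mem_univ i) h
    rw [hg] at h1
    have hz : QuadraticMap.polar Q (0 : Fin n → F) (w i) = 0 := by
      have := hbil.smul_left 0 (0 : Fin n → F) (w i)
      rw [zero_smul, zero_mul] at this
      exact this
    rw [hz] at h1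
    exact (mul_eq_zero.mp h1.symm).resolve_right hc'
  have hspan : Submodule.span F (Set.range w) = ⊤ := by
    apply hli.span_eq_top_of_card_eq_finrank'
    rw [Module.finrank_fintype_fun_eq_card]
  -- the frame
  let D : Fin n → Submodule F (Fin n → F) := fun i => Submodule.span F {w i}
  have hDmem : ∀ i v, v ∈ D i ↔ ∃ a : F, a • w i = v := fun i v => Submodule.mem_span_singleton
  have hpol : ∀ (a b : F) i j, QuadraticMap.polar Q (a • w i) (b • w j) = a * b * (if i = j then c' else 0) := by
    intro a b i j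
    rw [hbil.smul_left, hbil.smul_right, hw, mul_assoc]
  have hQw : ∀ i, Q (w i) = c' / 2 := by
    intro i
    have h1 := Cfsg.Agent.Lib.Helper2.S5673O1.polar_self S (w i)
    rw [hw i i, if_pos rfl] at h1
    rw [h1]
    field_simp
  have hD : IsOrthogonalMDecomposition Q 1 D := by
    refine ⟨⟨⟨hn, Nat.one_pos, fun i => finrank_span_singleton (hw0 i), ?_, ?_⟩, ?_, ?_⟩, ?_⟩
    · exact hli.iSupIndep_span_singleton
    · rw [← hspan, Submodule.span_range_eq_iSup]
    · intro i v hv hv0
      obtain ⟨a, rfl⟩ := (hDmem i v).1 hv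
      have ha : a ≠ 0 := by
        rintro rfl
        exact hv0 (zero_smul _ _)
      refine ⟨⟨w i, Submodule.mem_span_singleton_self _, ?_⟩, ⟨w i, Submodule.mem_span_singleton_self _, ?_⟩⟩
      · have := hpol 1 a i i
        rw [one_smul, if_pos rfl, one_mul] at this
        rw [this]
        exact mul_ne_zero ha hc'
      · have := hpol a 1 i i
        rw [one_smul, if_pos rfl, mul_one] at this
        rw [this]
        exact mul_ne_zero ha hc'
    · intro i j hij u hu v hv
      obtain ⟨a, rfl⟩ := (hDmem i u).1 hu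
      obtain ⟨b, rfl⟩ := (hDmem j v).1 hv
      rw [hpol, if_neg hij, mul_zero]
    · intro i j
      let ei := LinearEquiv.toSpanNonzeroSingleton F (Fin n → F) (w i) (hw0 i)
      let ej := LinearEquiv.toSpanNonzeroSingleton F (Fin n → F) (w j) (hw0 j)
      refine ⟨ei.symm.trans ej, fun v => ?_⟩
      obtain ⟨a, ha⟩ : ∃ a : F, ei a = v := ⟨ei.symm v, ei.apply_symm_apply v⟩
      rw [← ha]
      rw [LinearEquiv.trans_apply, LinearEquiv.symm_apply_apply]
      change Q ((LinearEquiv.toSpanNonzeroSingleton F (Fin n → F) (w j) (hw0 j) a : _) : Fin n → F) =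
        Q ((LinearEquiv.toSpanNonzeroSingleton F (Fin n → F) (w i) (hw0 i) a : _) : Fin n → F)
      rw [LinearEquiv.toSpanNonzeroSingleton_apply, LinearEquiv.toSpanNonzeroSingleton_apply]
      change Q (a • w j) = Q (a • w i)
      rw [S.quad.smul, S.quad.smul, hQw, hQw]
  refine InClassO.of_frame H hHI D hp hD ?_
  intro h hh
  obtain ⟨ρ, hρ⟩ := hmono h hh
  refine ⟨ρ, fun j => ?_⟩
  obtain ⟨s, hs⟩ := hρ j
  have hs0 : s ≠ 0 := by
    rintro rfl
    rw [zero_smul] at hs
    have h1 : ((h⁻¹ : GL (Fin n) F) : Matrix (Fin n) (Fin n) F) *ᵥ ((h : Matrix (Fin n) (Fin n) F) *ᵥ w j) = w j := by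
      rw [Matrix.mulVec_mulVec, ← Units.val_mul, inv_mul_cancel, Units.val_one, Matrix.one_mulVec]
    rw [hs, Matrix.mulVec_zero] at h1
    exact hw0 j h1.symm
  change Submodule.map _ (Submodule.span F {w j}) = Submodule.span F {w (ρ j)}
  rw [Submodule.map_span, Set.image_singleton, Matrix.toLin'_apply, hs]
  exact Submodule.span_singleton_smul_eq (IsUnit.mk0 s hs0) _

end Cfsg.Agent.Lib.Helper20.S5673OT33
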