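import Mathlib
import Cfsg.Prelude.Def_GeometricClasses
import Cfsg.Agent.Lib.Helper7.AschDefs
import Cfsg.Agent.Lib.Helper17.AschODefs
import Cfsg.Agent.Lib.Helper2.S5673O1
import Cfsg.Agent.H5.HubCorP4
import Cfsg.Agent.Lib.Helper20.S5673OT33a
import Cfsg.Agent.Lib.Helper20.S5673OT33b

/-!
# S5673 O-T33 : the corner `(q, k) = (3, 3)` of class 7 is an orthogonal frame  (helper20)
-/

set_option autoImplicit false

namespace Cfsg.Agent.Lib.Helper20.S5673OT33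

open Matrix Cfsg Cfsg.Geo Cfsg.Agent.Lib.Helper7.Asch Cfsg.Agent.Lib.Helper17.AschO
open Cfsg.H5.HubCor (wm wm_apply wm_mul wm_one wm_one_eq exists_wm_of_mem)

variable {F : Type*} [Field F]

theorem glReindex_symm_mulVec' {n : ℕ} {κ : Type} [Fintype κ] [DecidableEq κ] (e : Fin n ≃ κ) (B : GL κ F)
    (x : κ → F) :
    ((glReindex (F := F) e.symm B : GL (Fin n) F) : Matrix (Fin n) (Fin n) F) *ᵥ (x ∘ e) =
      ((B : Matrix κ κ F) *ᵥ x) ∘ e := by
  funext i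
  simp only [Matrix.mulVec, dotProduct, Function.comp_apply]
  rw [← Equiv.sum_comp e]
  rfl

theorem wm_one_transpose {m t : ℕ} (gs : Fin t → Matrix (Fin m) (Fin m) F) :
    (wm m t 1 gs)ᵀ = wm m t 1 (fun i => (gs i)ᵀ) := by
  ext x y
  rw [Matrix.transpose_apply, wm_apply, wm_apply]
  simp only [Equiv.Perm.one_apply, Matrix.transpose_apply]

theorem wm_one_smul_one {m t : ℕ} (ε : F) :
    wm m t 1 (fun _ => ε • (1 : Matrix (Fin m) (Fin m) F)) = ε ^ t • (1 : Matrix (Fin t → Fin m) (Fin t → Fin m) F) := by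
  ext x y
  have h1 := congrFun (congrFun (wm_one (F := F) (m := m) (t := t)) x) y
  rw [wm_apply] at h1
  rw [wm_apply, Matrix.smul_apply, smul_eq_mul, ← h1]
  simp only [Matrix.smul_apply, smul_eq_mul]
  rw [Finset.prod_mul_distrib, Finset.prod_const, Finset.card_univ, Fintype.card_fin]

theorem dot_conj {κ : Type} [Fintype κ] (A G : Matrix κ κ F) (x y : κ → F) :
    (A *ᵥ x) ⬝ᵥ G *ᵥ (A *ᵥ y) = x ⬝ᵥ (Aᵀ * G * A) *ᵥ y := by
  rw [← Matrix.vecMul_transpose, ← Matrix.dotProduct_mulVec, Matrix.mulVec_mulVec, Matrix.mulVec_mulVec,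
    Matrix.mul_assoc]

variable [Fintype F] {n : ℕ} {Q : (Fin n → F) → F}

/-- **O-T33** -/
theorem inClassO_of_tensorWreath_33 (S : OSetup Q) (hq : Fintype.card F = 3) (H : Subgroup (GL (Fin n) F))
    (hHI : H ≤ isometryGroup F Q) (t : ℕ) (ht : 2 ≤ t) (e : Fin n ≃ (Fin t → Fin 3)) (P : GL (Fin n) F)
    (G₁ : Matrix (Fin 3) (Fin 3) F) (hG₁ : IsUnit G₁) (hsym : G₁ᵀ = G₁)
    (hH : H ≤ tensorWreathSubgroup 3 t e P) (c : F) (hc : c ≠ 0)
    (hform : ∀ x y : (Fin t → Fin 3) → F,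
      QuadraticMap.polar Q ((P : Matrix (Fin n) (Fin n) F) *ᵥ (x ∘ e)) ((P : Matrix (Fin n) (Fin n) F) *ᵥ (y ∘ e)) =
        c * ∑ a, ∑ b, x a * (∏ i, G₁ (a i) (b i)) * y b) : InClassO n Q H := by
  classical
  obtain ⟨a, ε, hua, hε, hstd⟩ := exists_std3 hq G₁ hG₁ hsym
  have hda : IsUnit a.det := (Matrix.isUnit_iff_isUnit_det a).mp hua
  have haa : a * a⁻¹ = 1 := Matrix.mul_nonsing_inv a hda
  have haa' : a⁻¹ * a = 1 := Matrix.nonsing_inv_mul a hda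
  set A : Matrix (Fin t → Fin 3) (Fin t → Fin 3) F := wm 3 t 1 (fun _ => a) with hA
  set GG : Matrix (Fin t → Fin 3) (Fin t → Fin 3) F := wm 3 t 1 (fun _ => G₁) with hGG
  -- the form in the tensor coordinates
  have hβ : ∀ x y : (Fin t → Fin 3) → F,
      QuadraticMap.polar Q ((P : Matrix (Fin n) (Fin n) F) *ᵥ (x ∘ e)) ((P : Matrix (Fin n) (Fin n) F) *ᵥ (y ∘ e)) =
        c * (x ⬝ᵥ GG *ᵥ y) := by
    intro x y
    rw [hform]
    congr 1
    simp only [dotProduct, Matrix.mulVec, Finset.mul_sum]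
    refine Finset.sum_congr rfl fun p _ => Finset.sum_congr rfl fun r _ => ?_
    rw [hGG, wm_apply]
    simp only [Equiv.Perm.one_apply]
    ring
  have hAGA : Aᵀ * GG * A = ε ^ t • (1 : Matrix (Fin t → Fin 3) (Fin t → Fin 3) F) := by
    rw [hA, hGG, wm_one_transpose, wm_mul, wm_mul]
    simp only [mul_one]
    simp only [hstd]
    exact wm_one_smul_one ε
  set c' : F := c * ε ^ t with hc'
  have hc'0 : c' ≠ 0 := mul_ne_zero hc (pow_ne_zero _ hε)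
  have hβA : ∀ x y : (Fin t → Fin 3) → F,
      QuadraticMap.polar Q ((P : Matrix (Fin n) (Fin n) F) *ᵥ ((A *ᵥ x) ∘ e))
        ((P : Matrix (Fin n) (Fin n) F) *ᵥ ((A *ᵥ y) ∘ e)) = c' * (x ⬝ᵥ y) := by
    intro x y
    rw [hβ, dot_conj, hAGA, Matrix.smul_mulVec, Matrix.one_mulVec, dotProduct_smul, smul_eq_mul, hc']
    ring
  -- the frame
  let w : Fin n → (Fin n → F) := fun j => (P : Matrix (Fin n) (Fin n) F) *ᵥ ((A *ᵥ Pi.single (e j) 1) ∘ e)
  have hw : ∀ i j, QuadraticMap.polar Q (w i) (w j) = if i = j then c' else 0 := by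
    intro i j
    change QuadraticMap.polar Q ((P : Matrix (Fin n) (Fin n) F) *ᵥ ((A *ᵥ Pi.single (e i) 1) ∘ e))
      ((P : Matrix (Fin n) (Fin n) F) *ᵥ ((A *ᵥ Pi.single (e j) 1) ∘ e)) = _
    rw [hβA, single_one_dotProduct, Pi.single_apply]
    by_cases hij : i = j
    · rw [if_pos hij, if_pos (by rw [hij]), mul_one]
    · rw [if_neg hij, if_neg (fun h => hij (e.injective h)), mul_zero]
  have hn : 2 ≤ n := by
    have h1 : Fintype.card (Fin n) = Fintype.card (Fin t → Fin 3) := Fintype.card_congr e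
    rw [Fintype.card_fin, Fintype.card_fun, Fintype.card_fin, Fintype.card_fin] at h1
    rw [h1]
    calc 2 ≤ 3 ^ 1 := by norm_num
      _ ≤ 3 ^ t := Nat.pow_le_pow_right (by norm_num) (by omega)
  have hp : (Fintype.card F).Prime := by rw [hq]; exact Nat.prime_three
  refine inClassO_of_frame_vectors S hp hn H hHI w c' hc'0 hw ?_
  intro h hh
  obtain ⟨g₁, ⟨g₀, hg₀, rfl⟩, rfl⟩ := hH hh
  obtain ⟨σ, gs, hwm⟩ := exists_wm_of_mem g₀ hg₀
  -- the action on `P (x ∘ e)`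
  have hact : ∀ x : (Fin t → Fin 3) → F,
      ((MulAut.conj P).toMonoidHom ((glReindex (F := F) e.symm).toMonoidHom g₀) : Matrix (Fin n) (Fin n) F) *ᵥ
        ((P : Matrix (Fin n) (Fin n) F) *ᵥ (x ∘ e)) =
      (P : Matrix (Fin n) (Fin n) F) *ᵥ (((g₀ : Matrix (Fin t → Fin 3) (Fin t → Fin 3) F) *ᵥ x) ∘ e) := by
    intro x
    change ((P * glReindex (F := F) e.symm g₀ * P⁻¹ : GL (Fin n) F) : Matrix (Fin n) (Fin n) F) *ᵥ _ = _
    rw [Matrix.mulVec_mulVec, ← Units.val_mul, inv_mul_cancel_right, Units.val_mul, ← Matrix.mulVec_mulVec,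
      glReindex_symm_mulVec']
  -- the isometry property
  have hiso : ∀ x y : (Fin t → Fin 3) → F,
      ((g₀ : Matrix (Fin t → Fin 3) (Fin t → Fin 3) F) *ᵥ x) ⬝ᵥ GG *ᵥ
        ((g₀ : Matrix (Fin t → Fin 3) (Fin t → Fin 3) F) *ᵥ y) = x ⬝ᵥ GG *ᵥ y := by
    intro x y
    have h1 := Cfsg.Agent.Lib.Helper2.S5673O1.fixesForm_of_le_isometryGroup H hHI _ ⟨_, hh, rfl⟩
      ((P : Matrix (Fin n) (Fin n) F) *ᵥ (x ∘ e)) ((P : Matrix (Fin n) (Fin n) F) *ᵥ (y ∘ e))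
    rw [hact, hact, hβ, hβ] at h1
    exact mul_left_cancel₀ hc h1
  -- the conjugated element `T`
  set T : Matrix (Fin t → Fin 3) (Fin t → Fin 3) F := wm 3 t σ (fun i => a⁻¹ * gs i * a) with hT
  have hgA : (g₀ : Matrix (Fin t → Fin 3) (Fin t → Fin 3) F) * A = A * T := by
    rw [hwm, hA, hT, wm_mul, wm_mul]
    simp only [mul_one, one_mul, Equiv.Perm.one_apply]
    congr 1
    funext i
    rw [← Matrix.mul_assoc, ← Matrix.mul_assoc, haa, Matrix.one_mul]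
  have hgAv : ∀ x : (Fin t → Fin 3) → F,
      (g₀ : Matrix (Fin t → Fin 3) (Fin t → Fin 3) F) *ᵥ (A *ᵥ x) = A *ᵥ (T *ᵥ x) := by
    intro x
    rw [Matrix.mulVec_mulVec, hgA, ← Matrix.mulVec_mulVec]
  have hTT : Tᵀ * T = 1 := by
    have h1 : ∀ x y : (Fin t → Fin 3) → F, (T *ᵥ x) ⬝ᵥ (T *ᵥ y) = x ⬝ᵥ y := by
      intro x y
      have h2 := hiso (A *ᵥ x) (A *ᵥ y)
      rw [hgAv x, hgAv y, dot_conj A GG (T *ᵥ x) (T *ᵥ y), dot_conj A GG x y, hAGA] at h2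
      simp only [Matrix.smul_mulVec, Matrix.one_mulVec, dotProduct_smul, smul_eq_mul] at h2
      exact mul_left_cancel₀ (pow_ne_zero _ hε) h2
    ext p r
    have h3 := h1 (Pi.single p 1) (Pi.single r 1)
    rw [Matrix.mulVec_single_one, Matrix.mulVec_single_one, single_one_dotProduct] at h3
    have h4 : (Tᵀ * T) p r = (T.col p) ⬝ᵥ (T.col r) := by
      rw [Matrix.mul_apply]
      rfl
    rw [h4, h3, Matrix.one_apply, Pi.single_apply]
  obtain ⟨ρ, hρ⟩ := wm_mono3 hq σ (fun i => a⁻¹ * gs i * a) hTT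
  refine ⟨(e.trans ρ).trans e.symm, fun j => ⟨T (ρ (e j)) (e j), ?_⟩⟩
  change _ *ᵥ ((P : Matrix (Fin n) (Fin n) F) *ᵥ ((A *ᵥ Pi.single (e j) 1) ∘ e)) = _ •
    ((P : Matrix (Fin n) (Fin n) F) *ᵥ ((A *ᵥ Pi.single (e (((e.trans ρ).trans e.symm) j)) 1) ∘ e))
  rw [hact, hgAv]
  have hcol : T *ᵥ Pi.single (e j) 1 = T (ρ (e j)) (e j) • Pi.single (ρ (e j)) 1 := by
    funext x
    rw [Matrix.mulVec_single_one, Pi.smul_apply, Pi.single_apply, smul_eq_mul]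
    change T x (e j) = _
    by_cases hx : x = ρ (e j)
    · rw [if_pos hx, mul_one, hx]
    · rw [if_neg hx, mul_zero]
      by_contra h0
      exact hx (hρ x (e j) h0)
  rw [hcol, Matrix.mulVec_smul]
  have he : e (((e.trans ρ).trans e.symm) j) = ρ (e j) := by simp
  rw [he]
  have hsm : ((T (ρ (e j)) (e j) • (A *ᵥ Pi.single (ρ (e j)) 1)) ∘ e : Fin n → F) =
      T (ρ (e j)) (e j) • ((A *ᵥ Pi.single (ρ (e j)) 1) ∘ e) := by
    funext i
    simp
  rw [hsm, Matrix.mulVec_smul]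

end Cfsg.Agent.Lib.Helper20.S5673OT33
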