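import Mathlib
import Cfsg.Agent.Lib.Helper24.SLB.Defs

set_option autoImplicit false

/-! S4538 farm (architect helper24), leaf [B] `antidiag_perm`: a permutation of `Fin n` whose
descents at consecutive positions are descents by exactly one is a block reversal. -/

namespace Cfsg.Agent.Lib.Helper24.SLB

namespace Helper20

/-- the permutation as a function on `ℕ` -/
def Tn {n : ℕ} (τ : Equiv.Perm (Fin n)) (x : ℕ) : ℕ := if h : x < n then (τ ⟨x, h⟩ : ℕ) else x

/-- the labels as a function on `ℕ` -/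
def Dn {n : ℕ} {α : Type*} (dd : Fin n → α) (x : ℕ) : Option α :=
  if h : x < n then some (dd ⟨x, h⟩) else none

theorem Tn_of_lt {n : ℕ} (τ : Equiv.Perm (Fin n)) {x : ℕ} (h : x < n) :
    Tn τ x = (τ ⟨x, h⟩ : ℕ) := by
  simp [Tn, h]

theorem Dn_of_lt {n : ℕ} {α : Type*} (dd : Fin n → α) {x : ℕ} (h : x < n) :
    Dn dd x = some (dd ⟨x, h⟩) := by
  simp [Dn, h]

theorem Tn_fin {n : ℕ} (τ : Equiv.Perm (Fin n)) (j : Fin n) : Tn τ (j : ℕ) = (τ j : ℕ) := by
  rw [Tn_of_lt τ j.isLt]

theorem Dn_fin {n : ℕ} {α : Type*} (dd : Fin n → α) (j : Fin n) : Dn dd (j : ℕ) = some (dd j) := by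
  rw [Dn_of_lt dd j.isLt]

theorem Tn_inj {n : ℕ} (τ : Equiv.Perm (Fin n)) {x y : ℕ} (hx : x < n) (hy : y < n)
    (h : Tn τ x = Tn τ y) : x = y := by
  rw [Tn_of_lt τ hx, Tn_of_lt τ hy] at h
  have := τ.injective (Fin.ext h)
  exact congrArg Fin.val this

section
variable {n : ℕ} (τ : Equiv.Perm (Fin n)) {α : Type*} (dd : Fin n → α)

/-- the hypothesis of `antidiag_perm` in `ℕ` form -/
def Hyp : Prop :=
  ∀ k : ℕ, k + 1 < n → Tn τ (k + 1) < Tn τ k →
    Tn τ (k + 1) + 1 = Tn τ k ∧ Dn dd (k + 1) = Dn dd k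

variable {τ dd}

theorem step_left (H : Hyp τ dd) : ∀ (d i m : ℕ), m = i + d + 1 → m < n → Tn τ m < Tn τ i →
    Tn τ m + 1 = Tn τ (i + d) ∧ Dn dd m = Dn dd (i + d) := by
  intro d
  induction d with
  | zero =>
    intro i m hm hmn hlt
    subst hm
    simpa using H i hmn hlt
  | succ d ih =>
    intro i m hm hmn hlt
    by_cases h1 : Tn τ m < Tn τ (i + 1)
    · have := ih (i + 1) m (by omega) hmn h1
      rwa [show i + 1 + d = i + (d + 1) by omega] at this
    · exfalso
      have hne : Tn τ (i + 1) ≠ Tn τ m := by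
        intro he
        have := Tn_inj τ (by omega) hmn he
        omega
      have h2 : Tn τ (i + 1) < Tn τ i := by omega
      have := (H i (by omega) h2).1
      omega

theorem run (H : Hyp τ dd) {i m : ℕ} (him : i < m) (hmn : m < n) (hlt : Tn τ m < Tn τ i) :
    ∀ t : ℕ, t ≤ m - i → Tn τ (m - t) = Tn τ m + t ∧ Dn dd (m - t) = Dn dd m ∧
      (t < m - i → Tn τ m + t < Tn τ i) := by
  intro t
  induction t with
  | zero =>
    intro _
    exact ⟨by simp, by simp, fun _ => by simpa using hlt⟩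
  | succ t ih =>
    intro ht
    obtain ⟨h1, h2, h3⟩ := ih (by omega)
    have h4 := h3 (by omega)
    have h5 : Tn τ (m - t) < Tn τ i := by omega
    obtain ⟨h6, h7⟩ := step_left H (m - t - i - 1) i (m - t) (by omega) (by omega) h5
    rw [show i + (m - t - i - 1) = m - (t + 1) by omega] at h6 h7
    refine ⟨by omega, by rw [← h7, h2], fun h8 => ?_⟩
    have hne : Tn τ i ≠ Tn τ (m - (t + 1)) := by
      intro he
      have := Tn_inj τ (by omega) (by omega) he
      omega
    omega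

end

end Helper20

open Helper20 in
/-- **[B]** a permutation whose descents at consecutive positions are descents by exactly one is
the block reversal permutation: it is an involution, and a function constant along the descents is
invariant under it. -/
theorem antidiag_perm (n : ℕ) (τ : Equiv.Perm (Fin n)) {α : Type*} (dd : Fin n → α)
    (h : ∀ (k : ℕ) (hk : k + 1 < n), τ (fs k hk) < τ (fi k hk) →
      ((τ (fs k hk) : ℕ) + 1 = (τ (fi k hk) : ℕ) ∧ dd (fs k hk) = dd (fi k hk))) :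
    ∀ j : Fin n, τ (τ j) = j ∧ dd (τ j) = dd j := by
  have H : Hyp τ dd := by
    intro k hk hlt
    have hk' : k < n := by omega
    rw [Tn_of_lt τ hk, Tn_of_lt τ hk'] at hlt ⊢
    rw [Dn_of_lt dd hk, Dn_of_lt dd hk']
    have := h k hk (by exact Fin.lt_def.mpr hlt)
    exact ⟨this.1, by rw [this.2]⟩
  -- the conclusion from `Tn`, `Dn`
  have key : ∀ j : Fin n, Tn τ (τ j : ℕ) = j ∧ Dn dd (τ j : ℕ) = Dn dd j → 
      τ (τ j) = j ∧ dd (τ j) = dd j := by
    intro j ⟨h1, h2⟩
    rw [Tn_fin τ (τ j)] at h1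
    rw [Dn_fin dd (τ j), Dn_fin dd j] at h2
    exact ⟨Fin.ext h1, Option.some.inj h2⟩
  intro j
  apply key
  rcases lt_trichotomy (τ j : ℕ) (j : ℕ) with hlt | heq | hgt
  · -- `τ j < j`: some position `i ≤ τ j` has a value above `τ j`
    have hex : ∃ i : Fin n, i ≤ τ j ∧ τ j < τ i := by
      by_contra hno
      push Not at hno
      have hmap : ∀ a ∈ Finset.Iic (τ j), τ a ∈ Finset.Iio (τ j) := by
        intro a ha
        rw [Finset.mem_Iic] at ha
        rw [Finset.mem_Iio]
        refine lt_of_le_of_ne (hno a ha) ?_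
        intro he
        have := τ.injective he
        rw [this] at ha
        have : (j : ℕ) ≤ (τ j : ℕ) := ha
        omega
      have := Finset.card_le_card_of_injOn τ hmap (τ.injective.injOn)
      rw [Fin.card_Iic, Fin.card_Iio] at this
      omega
    obtain ⟨i, hi1, hi2⟩ := hex
    have hi1' : (i : ℕ) ≤ (τ j : ℕ) := hi1
    have hlt' : Tn τ j < Tn τ i := by
      rw [Tn_fin τ j, Tn_fin τ i]
      exact hi2
    obtain ⟨h1, h2, -⟩ := run H (by omega : (i : ℕ) < j) j.isLt hlt' ((j : ℕ) - (τ j : ℕ)) (by omega)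
    rw [show (j : ℕ) - ((j : ℕ) - (τ j : ℕ)) = (τ j : ℕ) by omega] at h1 h2
    refine ⟨?_, h2⟩
    rw [h1, Tn_fin τ j]
    omega
  · have : τ j = j := Fin.ext heq
    rw [this]
    exact ⟨by rw [Tn_fin τ j, this], rfl⟩
  · -- `j < τ j`: some position `m ≥ τ j` has a value below `τ j`
    have hex : ∃ m : Fin n, τ j ≤ m ∧ τ m < τ j := by
      by_contra hno
      push Not at hno
      have hmap : ∀ a ∈ Finset.Ici (τ j), τ a ∈ Finset.Ioi (τ j) := by
        intro a ha
        rw [Finset.mem_Ici] at ha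
        rw [Finset.mem_Ioi]
        refine lt_of_le_of_ne (hno a ha) ?_
        intro he
        have := τ.injective he
        rw [← this] at ha
        have : (τ j : ℕ) ≤ (j : ℕ) := ha
        omega
      have := Finset.card_le_card_of_injOn τ hmap (τ.injective.injOn)
      rw [Fin.card_Ici, Fin.card_Ioi] at this
      have := (τ j).isLt
      omega
    obtain ⟨m, hm1, hm2⟩ := hex
    have hm1' : (τ j : ℕ) ≤ (m : ℕ) := hm1
    have hlt' : Tn τ m < Tn τ j := by
      rw [Tn_fin τ j, Tn_fin τ m]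
      exact hm2
    obtain ⟨h1, h2, -⟩ := run H (by omega : (j : ℕ) < m) m.isLt hlt' ((m : ℕ) - (τ j : ℕ)) (by omega)
    obtain ⟨h3, h4, -⟩ := run H (by omega : (j : ℕ) < m) m.isLt hlt' ((m : ℕ) - (j : ℕ)) (by omega)
    rw [show (m : ℕ) - ((m : ℕ) - (τ j : ℕ)) = (τ j : ℕ) by omega] at h1 h2
    rw [show (m : ℕ) - ((m : ℕ) - (j : ℕ)) = (j : ℕ) by omega] at h3 h4
    refine ⟨?_, by rw [h2, h4]⟩
    rw [Tn_fin τ j] at h3
    rw [h1]
    omega

end Cfsg.Agent.Lib.Helper24.SLB
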