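import Mathlib

/-!
# S5886 FO-Q222, part a: the fields with two and four elements, and the coordinate word identity
-/

set_option autoImplicit false

namespace Cfsg.Agent.Lib.Helper20.S5886Q222

open Module

section field

variable {F : Type*} [Field F] [Fintype F] {L : Type*} [Field L] [Algebra F L]

theorem f2_cases (hq : Fintype.card F = 2) (c : F) : c = 0 ∨ c = 1 := by
  classical
  have h : ({0, 1} : Finset F) = Finset.univ := by
    apply Finset.eq_univ_of_card
    rw [Finset.card_pair zero_ne_one, hq]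
  have hc : c ∈ ({0, 1} : Finset F) := by rw [h]; exact Finset.mem_univ c
  simpa using hc

theorem f2_two (hq : Fintype.card F = 2) : (1 : F) + 1 = 0 := by
  rcases f2_cases hq (1 + 1) with h | h
  · exact h
  · exfalso
    have : (1 : F) = 0 := by
      have h' : (1 : F) + 1 = 0 + 1 := by rw [h, zero_add]
      exact add_right_cancel h'
    exact one_ne_zero this

theorem f4_struct (hrk : finrank F L = 2) (hq : Fintype.card F = 2) :
    ∃ (ω : L) (τ : L →ₗ[F] F), ω * ω = ω + 1 ∧ (∀ x : L, x + x = 0) ∧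
      (∀ x : L, x = 0 ∨ x = 1 ∨ x = ω ∨ x = ω + 1) ∧ τ 1 = 0 ∧ τ ω = 1 := by
  classical
  have hF := f2_cases hq
  have h11 := f2_two hq
  have : FiniteDimensional F L := Module.finite_of_finrank_pos (by omega)
  have h2 : ∀ x : L, x + x = 0 := by
    intro x
    have : ((1 : F) + 1) • x = 0 := by rw [h11, zero_smul]
    rwa [add_smul, one_smul] at this
  obtain ⟨ω, hli⟩ := exists_linearIndependent_pair_of_one_lt_finrank (R := F) (M := L)
    (by omega) (one_ne_zero)
  have hpair := LinearIndependent.pair_iff.mp hli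
  have hω0 : ω ≠ 0 := by
    intro h
    have := hpair 0 1 (by rw [h]; simp)
    exact one_ne_zero this.2
  have hω1 : ω ≠ 1 := by
    intro h
    have := hpair 1 1 (by rw [h, one_smul]; exact h2 1)
    exact one_ne_zero this.2
  let B : Basis (Fin 2) F L := basisOfLinearIndependentOfCardEqFinrank hli (by simp [hrk])
  have hB0 : B 0 = 1 := by simp [B]
  have hB1 : B 1 = ω := by simp [B]
  have hrepr : ∀ x : L, x = B.repr x 0 • (1 : L) + B.repr x 1 • ω := by
    intro x
    have := B.sum_repr x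
    rw [Fin.sum_univ_two, hB0, hB1] at this
    exact this.symm
  have hL : ∀ x : L, x = 0 ∨ x = 1 ∨ x = ω ∨ x = ω + 1 := by
    intro x
    have hx := hrepr x
    rcases hF (B.repr x 0) with h0 | h0 <;> rcases hF (B.repr x 1) with h1 | h1 <;>
      rw [h0, h1] at hx
    · left; simpa using hx
    · right; right; left; simpa using hx
    · right; left; simpa using hx
    · right; right; right; rw [hx]; simp [add_comm]
  refine ⟨ω, B.coord 1, ?_, h2, hL, ?_, ?_⟩
  · rcases hL (ω * ω) with h | h | h | h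
    · exfalso; exact hω0 (mul_self_eq_zero.mp h)
    · exfalso
      have h3 : (ω + 1) * (ω + 1) = 0 := by
        have : (ω + 1) * (ω + 1) = ω * ω + (ω + ω) + 1 := by ring
        rw [this, h, h2 ω, add_zero, h2 1]
      have h4 : ω + 1 = 0 := mul_self_eq_zero.mp h3
      apply hω1
      have : ω = ω + 1 + 1 := by rw [add_assoc, h2 1, add_zero]
      rw [this, h4, zero_add]
    · exfalso
      have h3 : ω * (ω - 1) = 0 := by rw [mul_sub, h, mul_one, sub_self]
      rcases mul_eq_zero.mp h3 with h4 | h4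
      · exact hω0 h4
      · exact hω1 (sub_eq_zero.mp h4)
    · exact h
  · rw [← hB0, Basis.coord_apply, Basis.repr_self]
    simp
  · rw [← hB1, Basis.coord_apply, Basis.repr_self]
    simp

end field

section word

variable {L : Type*} [Field L]

/-- `(p, s) ↦ (p + t s, s)` -/
def cX (t : L) (z : L × L) : L × L := (z.1 + t * z.2, z.2)

/-- `(p, s) ↦ (p, s + t p)` -/
def cL (t : L) (z : L × L) : L × L := (z.1, z.2 + t * z.1)

/-- `(p, s) ↦ (ω p, s)` -/
def cD (ω : L) (z : L × L) : L × L := (ω * z.1, z.2)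

/-- `(p, s) ↦ (p + T s, s + T p + T s)` -/
def cU (T : L → L) (z : L × L) : L × L := (z.1 + T z.2, z.2 + T z.1 + T z.2)

theorem word_identity (ω : L) (T : L → L) (hω : ω * ω = ω + 1) (h2 : ∀ x : L, x + x = 0)
    (hT0 : T 0 = 0) (hT1 : T 1 = 0) (hTω : T ω = 1) (hTω1 : T (ω + 1) = 1)
    (p s : L) (hp : p = 0 ∨ p = 1 ∨ p = ω ∨ p = ω + 1)
    (hs : s = 0 ∨ s = 1 ∨ s = ω ∨ s = ω + 1) :
    cU T (cL (ω + 1) (cX (ω + 1) (cU T (cL ω (cD ω (cX ω (p, s))))))) = (p, s + T p * ω) := by
  have a1 : (1 : L) + 1 = 0 := h2 1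
  have a2 : (1 : L) + ω = ω + 1 := add_comm _ _
  have a3 : (1 : L) + (ω + 1) = ω := by rw [add_comm, add_assoc, a1, add_zero]
  have a4 : ω + ω = 0 := h2 ω
  have a5 : ω + (ω + 1) = 1 := by rw [← add_assoc, a4, zero_add]
  have a6 : ω + 1 + 1 = ω := by rw [add_assoc, a1, add_zero]
  have a7 : ω + 1 + ω = 1 := by rw [add_comm, a5]
  have a8 : ω + 1 + (ω + 1) = 0 := h2 _
  have m1 : ω * (ω + 1) = 1 := by rw [mul_add, hω, mul_one, a7]
  have m2 : (ω + 1) * ω = 1 := by rw [mul_comm, m1]
  have m3 : (ω + 1) * (ω + 1) = ω := by rw [mul_add, m2, mul_one, a3]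
  rcases hp with hp | hp | hp | hp <;> rcases hs with hs | hs | hs | hs <;>
    simp only [hp, hs, cX, cL, cD, cU, hT0, hT1, hTω, hTω1, a1, a2, a3, a4, a5, a6, a7, a8, hω,
      m1, m2, m3, zero_add, add_zero, mul_zero, zero_mul, one_mul, mul_one]

end word

end Cfsg.Agent.Lib.Helper20.S5886Q222
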