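import Mathlib
import Cfsg.Agent.Lib.Helper17.ExtFDefs
import Cfsg.Agent.Lib.Helper25.ExtFEa
import Cfsg.Agent.Lib.Helper23.S5886FOP3
import Cfsg.Agent.Lib.Helper20.S5886FOQ222a

/-!
# S5886 FO-Q222 : `n = 4`, `r = 2`, `q = 2`
-/

set_option autoImplicit false

namespace Cfsg.Agent.Lib.Helper20.S5886Q222

open Matrix Module Cfsg.Agent.Lib.Helper17.ExtF

variable {F : Type*} [Field F] [Fintype F] {L : Type*} [Field L] [Algebra F L] {n : ℕ}
  (ρ : L →ₐ[F] Matrix (Fin n) (Fin n) F)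

set_option maxHeartbeats 1600000 in
/-- FO-Q222, exact signature -/
theorem hasOneT0_of_config_222 (hrk : finrank F L = 2) (hn : n = 4) (hq : Fintype.card F = 2)
    (H : Subgroup (GL (Fin n) F)) (hE : HasElem ρ H)
    (hN : ∀ g : GL (Fin n) F, Normalizes ρ g → g ∈ H)
    (v₁ v₀ : Fin n → F) (g₀ : GL (Fin n) F)
    (hc : Config ρ H 2 v₁ v₀ g₀) : HasOneT0 ρ H := by
  classical
  obtain ⟨hg₀, hv₁, hv₀, hfr⟩ := hc
  obtain ⟨ω, τ, hωω, h2, hL, hτ1, hτω⟩ := f4_struct (L := L) hrk hq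
  have hF := f2_cases hq
  have h11 := f2_two hq
  have hω0 : ω ≠ 0 := by
    intro h
    rw [h, map_zero] at hτω
    exact zero_ne_one hτω
  have hω1 : ω ≠ 1 := by
    intro h
    rw [h, hτ1] at hτω
    exact zero_ne_one hτω
  have hτ0 : τ ≠ 0 := by
    intro h
    rw [h] at hτω
    exact zero_ne_one hτω
  have hτω1 : τ (ω + 1) = 1 := by rw [map_add, hτω, hτ1, add_zero]
  have h2V : ∀ x : Fin n → F, x + x = 0 := by
    intro x
    have : ((1 : F) + 1) • x = 0 := by rw [h11, zero_smul]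
    rwa [add_smul, one_smul] at this
  have hr0 : 0 < 2 := by norm_num
  -- the point `d` of `D`
  have hfrD : finrank F ↥(pt ρ v₁ ⊓ (pt ρ v₀).map (actL g₀)) = 1 := by omega
  have hposD : 0 < finrank F ↥(pt ρ v₁ ⊓ (pt ρ v₀).map (actL g₀)) := by omega
  obtain ⟨⟨d, hdD⟩, hdne⟩ : ∃ x : ↥(pt ρ v₁ ⊓ (pt ρ v₀).map (actL g₀)), x ≠ 0 :=
    Module.finrank_pos_iff_exists_ne_zero.mp hposD
  have hd0 : d ≠ 0 := fun h => hdne (Subtype.ext h)
  obtain ⟨hd1, hd2⟩ := Submodule.mem_inf.mp hdD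
  obtain ⟨b, hb⟩ := (mem_pt ρ v₁ d).1 hd1
  obtain ⟨y, hy, hyd⟩ := Submodule.mem_map.mp hd2
  obtain ⟨b', hb'⟩ := (mem_pt ρ v₀ y).1 hy
  have hyd' : act g₀ y = d := hyd
  have hy0 : y ≠ 0 := by
    intro h
    rw [h, act_zero] at hyd'
    exact hd0 hyd'.symm
  have horb := Cfsg.Agent.Lib.Helper25.ExtFEa.orb_injective ρ hy0
  -- the second basis vector
  obtain ⟨w, hwdef⟩ : ∃ w, w = act g₀ (ρ ω *ᵥ y) := ⟨_, rfl⟩
  have hw : w ∉ pt ρ d := by
    rintro ⟨a, ha⟩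
    change ρ a *ᵥ d = w at ha
    have hw1 : w ∈ pt ρ v₁ := by
      refine ⟨a * b, ?_⟩
      change ρ (a * b) *ᵥ v₁ = w
      rw [rho_mul_mulVec, hb, ha]
    have hw2 : w ∈ (pt ρ v₀).map (actL g₀) := by
      refine Submodule.mem_map.mpr ⟨ρ ω *ᵥ y, ⟨ω * b', ?_⟩, ?_⟩
      · change ρ (ω * b') *ᵥ v₀ = ρ ω *ᵥ y
        rw [rho_mul_mulVec, hb']
      · rw [hwdef]; rfl
    have hwD : w ∈ pt ρ v₁ ⊓ (pt ρ v₀).map (actL g₀) := Submodule.mem_inf.mpr ⟨hw1, hw2⟩
    obtain ⟨c, hc⟩ := (finrank_eq_one_iff_of_nonzero' (⟨d, hdD⟩ :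
      ↥(pt ρ v₁ ⊓ (pt ρ v₀).map (actL g₀))) hdne).1 hfrD ⟨w, hwD⟩
    have hc' : c • d = w := congrArg Subtype.val hc
    rcases hF c with h | h
    · rw [h, zero_smul] at hc'
      rw [hwdef] at hc'
      have := (act_eq_zero_iff g₀ _).1 hc'.symm
      have h3 : orb ρ y ω = orb ρ y 0 := by
        rw [orb_apply, orb_apply, this, rho_zero_mulVec]
      exact hω0 (horb h3)
    · rw [h, one_smul, ← hyd', hwdef] at hc'
      have := act_injective g₀ hc'
      have h3 : orb ρ y 1 = orb ρ y ω := by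
        rw [orb_apply, orb_apply, ← this, rho_one_mulVec]
      exact hω1 (horb h3).symm
  obtain ⟨π, ψ, hπ, hψ, hco, hπd, hπw, hψd, hψw⟩ :=
    Cfsg.Agent.Lib.Helper25.ExtFEa.exists_coords ρ hrk hr0 (by omega) d w hd0 hw
  -- the map `M`
  obtain ⟨M, hMdef⟩ : ∃ M : L →ₗ[F] (Fin n → F), M = (actL g₀) ∘ₗ (orb ρ y) := ⟨_, rfl⟩
  have hM : ∀ t, M t = act g₀ (ρ t *ᵥ y) := fun t => by rw [hMdef]; rfl
  have hM1 : M 1 = d := by rw [hM, rho_one_mulVec, hyd']
  have hMω : M ω = w := by rw [hM, hwdef]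
  have hMω1 : M (ω + 1) = w + d := by rw [map_add, hMω, hM1]
  have hMπ : ∀ t, π (M t) = 0 ∨ π (M t) = 1 := by
    intro t
    rcases hL t with h | h | h | h
    · left; rw [h, map_zero, map_zero]
    · right; rw [h, hM1, hπd]
    · left; rw [h, hMω, hπw]
    · right; rw [h, hMω1, map_add, hπw, hπd, zero_add]
  have hMψ : ∀ t, ψ (M t) = 0 ∨ ψ (M t) = 1 := by
    intro t
    rcases hL t with h | h | h | h
    · left; rw [h, map_zero, map_zero]
    · left; rw [h, hM1, hψd]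
    · right; rw [h, hMω, hψw]
    · right; rw [h, hMω1, map_add, hψw, hψd, add_zero]
  -- coordinates around `y`
  obtain ⟨w₀, hw₀def⟩ : ∃ w₀, w₀ = act g₀⁻¹ (ρ ω *ᵥ d) := ⟨_, rfl⟩
  have hw₀ : w₀ ∉ pt ρ y := by
    rintro ⟨t, ht⟩
    change ρ t *ᵥ y = w₀ at ht
    have h3 : M t = ρ ω *ᵥ d := by rw [hM, ht, hw₀def, act_act_inv]
    have h4 : π (M t) = ω := by rw [h3, hπ, hπd, mul_one]
    rcases hMπ t with h | h
    · rw [h] at h4; exact hω0 h4.symm
    · rw [h] at h4; exact hω1 h4.symm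
  obtain ⟨π₀, ψ₀, hπ₀, hψ₀, hco₀, -, -, hψ₀y, hψ₀w₀⟩ :=
    Cfsg.Agent.Lib.Helper25.ExtFEa.exists_coords ρ hrk hr0 (by omega) y w₀ hy0 hw₀
  obtain ⟨κ, hκdef⟩ : ∃ κ : (Fin n → F) →ₗ[F] L, κ = ψ₀ ∘ₗ (actL g₀⁻¹) := ⟨_, rfl⟩
  have hκ : ∀ v, κ v = ψ₀ (act g₀⁻¹ v) := fun v => by rw [hκdef]; rfl
  have hκM : ∀ t, κ (M t) = 0 := by
    intro t
    rw [hκ, hM, act_inv_act, hψ₀, hψ₀y, mul_zero]
  have hκ0 : ∀ x, κ x = 0 → ∃ t, x = M t := by
    intro x hx
    refine ⟨π₀ (act g₀⁻¹ x), ?_⟩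
    have h3 := hco₀ (act g₀⁻¹ x)
    rw [← hκ, hx, rho_zero_mulVec, add_zero] at h3
    rw [hM, ← h3, act_act_inv]
  have hκd : κ d = 0 := by rw [← hM1]; exact hκM 1
  have hκw : κ w = 0 := by rw [← hMω]; exact hκM ω
  have hκωd : κ (ρ ω *ᵥ d) = 1 := by rw [hκ, ← hw₀def, hψ₀w₀]
  obtain ⟨c₃, hc₃def⟩ : ∃ c₃, c₃ = κ (ρ ω *ᵥ w) := ⟨_, rfl⟩
  have hc₃0 : c₃ ≠ 0 := by
    intro h
    rw [hc₃def] at h
    obtain ⟨t, ht⟩ := hκ0 _ h
    have h4 : ψ (M t) = ω := by rw [← ht, hψ, hψw, mul_one]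
    rcases hMψ t with h' | h'
    · rw [h'] at h4; exact hω0 h4.symm
    · rw [h'] at h4; exact hω1 h4.symm
  have hc₃1 : c₃ ≠ 1 := by
    intro h
    rw [hc₃def] at h
    have h3 : κ (ρ ω *ᵥ d + ρ ω *ᵥ w) = 0 := by rw [map_add, hκωd, h, h2]
    obtain ⟨t, ht⟩ := hκ0 _ h3
    have h4 : π (M t) = ω := by rw [← ht, map_add, hπ, hπ, hπd, hπw, mul_one, mul_zero, add_zero]
    rcases hMπ t with h' | h'
    · rw [h'] at h4; exact hω0 h4.symm
    · rw [h'] at h4; exact hω1 h4.symm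
  -- the formula for `κ`
  have hκA : ∀ p : L, κ (ρ p *ᵥ d) = τ p • (1 : L) := by
    intro p
    rcases hL p with h | h | h | h
    · rw [h, rho_zero_mulVec, map_zero, map_zero, zero_smul]
    · rw [h, rho_one_mulVec, hκd, hτ1, zero_smul]
    · rw [h, hκωd, hτω, one_smul]
    · rw [h, rho_add_mulVec, rho_one_mulVec, map_add, hκωd, hκd, hτω1, one_smul, add_zero]
  have hκB : ∀ s : L, κ (ρ s *ᵥ w) = τ s • c₃ := by
    intro s
    rcases hL s with h | h | h | h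
    · rw [h, rho_zero_mulVec, map_zero, map_zero, zero_smul]
    · rw [h, rho_one_mulVec, hκw, hτ1, zero_smul]
    · rw [h, ← hc₃def, hτω, one_smul]
    · rw [h, rho_add_mulVec, rho_one_mulVec, map_add, ← hc₃def, hκw, hτω1, one_smul, add_zero]
  have hκf : ∀ v, κ v = τ (π v) • (1 : L) + τ (ψ v) • c₃ := by
    intro v
    conv_lhs => rw [hco v]
    rw [map_add, hκA, hκB]
  -- the conjugated root elements
  have hY : ∀ a : L, ∃ g : GL (Fin n) F, g ∈ H ∧ ∀ v, act g v = v + M (a * κ v) := by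
    intro a
    obtain ⟨x, hxH, hx, -⟩ := Cfsg.Agent.Lib.Helper23.S5886P3.exists_elem ρ H hE
      ((LinearMap.mulLeft F a) ∘ₗ ψ₀) (hψ₀.mulLeft a) y
      (by simp only [LinearMap.comp_apply, LinearMap.mulLeft_apply, hψ₀y, mul_zero])
    refine ⟨g₀ * x * g₀⁻¹, H.mul_mem (H.mul_mem hg₀ hxH) (H.inv_mem hg₀), ?_⟩
    intro v
    rw [act_mul, act_mul, hx, act_add, act_act_inv, hM, hκ]
    rfl
  have hc₃ : c₃ = ω ∨ c₃ = ω + 1 := by
    rcases hL c₃ with h | h | h | h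
    · exact absurd h hc₃0
    · exact absurd h hc₃1
    · left; exact h
    · right; exact h
  have hcdinj : ∀ x x' : Fin n → F, π x = π x' → ψ x = ψ x' → x = x' := by
    intro x x' h1 h2'
    rw [hco x, hco x', h1, h2']
  have m3 : (ω + 1) * (ω + 1) = ω := by
    have : (ω + 1) * (ω + 1) = ω * ω + (ω + ω) + 1 := by ring
    rw [this, hωω, h2 ω, add_zero, add_assoc, h2 1, add_zero]
  rcases hc₃ with hc₃ | hc₃
  · -- Case C
    have : FiniteDimensional F L := Module.finite_of_finrank_pos (by omega)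
    obtain ⟨u, huH, hu⟩ := hY ω
    have hu' : ∀ v, act u v = v + (τ (π v) • w + τ (ψ v) • (w + d)) := by
      intro v
      rw [hu, hκf, hc₃, mul_add, mul_smul_comm, mul_smul_comm, mul_one, hωω, map_add, map_smul,
        map_smul, hMω, hMω1]
    have hπu : ∀ v, π (act u v) = π v + τ (ψ v) • (1 : L) := by
      intro v
      rw [hu', map_add, map_add, map_smul, map_smul, map_add, hπw, hπd, smul_zero, zero_add,
        zero_add]
    have hψu : ∀ v, ψ (act u v) = ψ v + τ (π v) • (1 : L) + τ (ψ v) • (1 : L) := by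
      intro v
      rw [hu', map_add, map_add, map_smul, map_smul, map_add, hψw, hψd, add_zero, add_assoc]
    have hX : ∀ t : L, ∃ g : GL (Fin n) F, g ∈ H ∧ ∀ v, act g v = v + ρ (t * ψ v) *ᵥ d := by
      intro t
      obtain ⟨x, hxH, hx, -⟩ := Cfsg.Agent.Lib.Helper23.S5886P3.exists_elem ρ H hE
        ((LinearMap.mulLeft F t) ∘ₗ ψ) (hψ.mulLeft t) d
        (by simp only [LinearMap.comp_apply, LinearMap.mulLeft_apply, hψd, mul_zero])
      exact ⟨x, hxH, fun v => by rw [hx]; rfl⟩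
    have hLt : ∀ t : L, ∃ g : GL (Fin n) F, g ∈ H ∧ ∀ v, act g v = v + ρ (t * π v) *ᵥ w := by
      intro t
      obtain ⟨x, hxH, hx, -⟩ := Cfsg.Agent.Lib.Helper23.S5886P3.exists_elem ρ H hE
        ((LinearMap.mulLeft F t) ∘ₗ π) (hπ.mulLeft t) w
        (by simp only [LinearMap.comp_apply, LinearMap.mulLeft_apply, hπw, mul_zero])
      exact ⟨x, hxH, fun v => by rw [hx]; rfl⟩
    have hDil : ∃ g : GL (Fin n) F, g ∈ H ∧ ∀ v, act g v = v + ρ ((ω + 1) * π v) *ᵥ d := by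
      obtain ⟨f, hfdef⟩ : ∃ f : (Fin n → F) →ₗ[F] (Fin n → F),
          f = LinearMap.id + (orb ρ d) ∘ₗ (LinearMap.mulLeft F (ω + 1)) ∘ₗ π := ⟨_, rfl⟩
      obtain ⟨f', hf'def⟩ : ∃ f' : (Fin n → F) →ₗ[F] (Fin n → F),
          f' = LinearMap.id + (orb ρ d) ∘ₗ (LinearMap.mulLeft F ω) ∘ₗ π := ⟨_, rfl⟩
      have hf : ∀ v, f v = v + ρ ((ω + 1) * π v) *ᵥ d := fun v => by rw [hfdef]; rfl
      have hf' : ∀ v, f' v = v + ρ (ω * π v) *ᵥ d := fun v => by rw [hf'def]; rfl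
      have h1 : ∀ v, f (f' v) = v := by
        intro v
        rw [hf, hf', map_add, hπ, hπd, mul_one, add_assoc, ← rho_add_mulVec]
        have e : ω * π v + (ω + 1) * (π v + ω * π v) = 0 := by
          have : (ω + 1) * (π v + ω * π v) = ((ω + 1) * (ω + 1)) * π v := by ring
          rw [this, m3, h2]
        rw [e, rho_zero_mulVec, add_zero]
      have h2' : ∀ v, f' (f v) = v := by
        intro v
        rw [hf', hf, map_add, hπ, hπd, mul_one, add_assoc, ← rho_add_mulVec]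
        have e : (ω + 1) * π v + ω * (π v + (ω + 1) * π v) = 0 := by
          have : ω * (π v + (ω + 1) * π v) = (ω * ω + (ω + ω)) * π v := by ring
          rw [this, hωω, h2 ω, add_zero, h2]
        rw [e, rho_zero_mulVec, add_zero]
      obtain ⟨g, hg, -⟩ := exists_gl f f' h1 h2'
      refine ⟨g, ?_, fun v => by rw [hg, hf]⟩
      apply hE ((LinearMap.mulLeft F (ω + 1)) ∘ₗ π) d (hπ.mulLeft _) _ g
        (fun v => by rw [hg, hf]; rfl)
      have e : (1 : L) + ((LinearMap.mulLeft F (ω + 1)) ∘ₗ π) d = ω := by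
        simp only [LinearMap.comp_apply, LinearMap.mulLeft_apply, hπd, mul_one]
        rw [add_comm, add_assoc, h2 1, add_zero]
      rw [e]
      have hne : Algebra.norm F ω ≠ 0 := Algebra.norm_ne_zero_iff.mpr hω0
      rcases hF (Algebra.norm F ω) with h | h
      · exact absurd h hne
      · exact h
    obtain ⟨x1, hx1H, hx1⟩ := hX ω
    obtain ⟨dl, hdlH, hdl⟩ := hDil
    obtain ⟨l1, hl1H, hl1⟩ := hLt ω
    obtain ⟨x2, hx2H, hx2⟩ := hX (ω + 1)
    obtain ⟨l2, hl2H, hl2⟩ := hLt (ω + 1)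
    obtain ⟨T, hTdef⟩ : ∃ T : L → L, T = fun x => τ x • (1 : L) := ⟨_, rfl⟩
    have hT : ∀ x, T x = τ x • (1 : L) := fun x => by rw [hTdef]
    have hT0 : T 0 = 0 := by rw [hT, map_zero, zero_smul]
    have hT1 : T 1 = 0 := by rw [hT, hτ1, zero_smul]
    have hTω : T ω = 1 := by rw [hT, hτω, one_smul]
    have hTω1 : T (ω + 1) = 1 := by rw [hT, hτω1, one_smul]
    have cdX : ∀ (t : L) (g : GL (Fin n) F), (∀ v, act g v = v + ρ (t * ψ v) *ᵥ d) →
        ∀ v, ((π (act g v), ψ (act g v)) : L × L) = cX t (π v, ψ v) := by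
      intro t g hg v
      rw [hg, map_add, map_add, hπ, hψ, hπd, hψd, mul_one, mul_zero, add_zero]
      rfl
    have cdL : ∀ (t : L) (g : GL (Fin n) F), (∀ v, act g v = v + ρ (t * π v) *ᵥ w) →
        ∀ v, ((π (act g v), ψ (act g v)) : L × L) = cL t (π v, ψ v) := by
      intro t g hg v
      rw [hg, map_add, map_add, hπ, hψ, hπw, hψw, mul_one, mul_zero, add_zero]
      rfl
    have cdD : ∀ v, ((π (act dl v), ψ (act dl v)) : L × L) = cD ω (π v, ψ v) := by
      intro v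
      rw [hdl, map_add, map_add, hπ, hψ, hπd, hψd, mul_one, mul_zero, add_zero]
      have e : π v + (ω + 1) * π v = ω * π v := by
        have : π v + (ω + 1) * π v = ω * π v + (π v + π v) := by ring
        rw [this, h2, add_zero]
      rw [e]
      rfl
    have cdU : ∀ v, ((π (act u v), ψ (act u v)) : L × L) = cU T (π v, ψ v) := by
      intro v
      rw [hπu, hψu]
      simp only [cU, hT]
    have hW : ∀ v, ((π (act (u * l2 * x2 * u * l1 * dl * x1) v),
        ψ (act (u * l2 * x2 * u * l1 * dl * x1) v)) : L × L) = (π v, ψ v + T (π v) * ω) := by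
      intro v
      simp only [act_mul]
      rw [cdU, cdL _ _ hl2, cdX _ _ hx2, cdU, cdL _ _ hl1, cdD, cdX _ _ hx1]
      exact word_identity ω T hωω h2 hT0 hT1 hTω hTω1 (π v) (ψ v) (hL _) (hL _)
    refine ⟨π, τ, ρ ω *ᵥ w, hπ, ⟨d, hπd⟩, hτ0, ?_, ?_, ?_⟩
    · intro h
      have h3 := congrArg ψ h
      rw [hψ, hψw, mul_one, map_zero] at h3
      exact hω0 h3
    · rw [hπ, hπw, mul_zero]
    · intro g hg
      have hgeq : g = u * l2 * x2 * u * l1 * dl * x1 := gl_ext (fun v => by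
        have h3 := hW v
        rw [Prod.mk.injEq] at h3
        rw [hg]
        apply hcdinj
        · rw [h3.1, map_add, map_smul, hπ, hπw, mul_zero, smul_zero, add_zero]
        · rw [h3.2, map_add, map_smul, hψ, hψw, mul_one, hT, smul_mul_assoc, one_mul]
          rfl)
      rw [hgeq]
      exact H.mul_mem (H.mul_mem (H.mul_mem (H.mul_mem (H.mul_mem (H.mul_mem huH hl2H) hx2H) huH)
        hl1H) hdlH) hx1H
  · -- Case J
    have hsq : ∀ p : L, p + τ p • (1 : L) = p * p := by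
      intro p
      rcases hL p with h | h | h | h
      · rw [h, map_zero, zero_smul, add_zero, mul_zero]
      · rw [h, hτ1, zero_smul, add_zero, mul_one]
      · rw [h, hτω, one_smul, hωω]
      · rw [h, hτω1, one_smul, m3, add_assoc, h2 1, add_zero]
    have hτsq : ∀ p : L, τ (p * p) = τ p := by
      intro p
      rw [← hsq, map_add, map_smul, hτ1, smul_zero, add_zero]
    obtain ⟨S, hSdef⟩ : ∃ S : (Fin n → F) →ₗ[F] (Fin n → F),
        S = LinearMap.id + (LinearMap.toSpanSingleton F (Fin n → F) d) ∘ₗ τ ∘ₗ π +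
          (LinearMap.toSpanSingleton F (Fin n → F) w) ∘ₗ τ ∘ₗ ψ := ⟨_, rfl⟩
    have hS : ∀ v, S v = v + τ (π v) • d + τ (ψ v) • w := fun v => by
      rw [hSdef]
      simp only [LinearMap.add_apply, LinearMap.id_apply, LinearMap.comp_apply,
        LinearMap.toSpanSingleton_apply]
    have hπS : ∀ v, π (S v) = π v * π v := by
      intro v
      rw [hS, map_add, map_add, map_smul, map_smul, hπd, hπw, smul_zero, add_zero, hsq]
    have hψS : ∀ v, ψ (S v) = ψ v * ψ v := by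
      intro v
      rw [hS, map_add, map_add, map_smul, map_smul, hψd, hψw, smul_zero, add_zero, hsq]
    have hSS : ∀ v, S (S v) = v := by
      intro v
      rw [hS (S v), hπS, hψS, hτsq, hτsq, hS]
      have e : v + τ (π v) • d + τ (ψ v) • w + τ (π v) • d + τ (ψ v) • w =
          v + (τ (π v) • d + τ (π v) • d) + (τ (ψ v) • w + τ (ψ v) • w) := by abel
      rw [e, h2V, h2V, add_zero, add_zero]
    obtain ⟨σ, hσ, -⟩ := exists_gl S S hSS hSS
    have hσN : Normalizes ρ σ := by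
      intro a
      refine ⟨a * a, ?_⟩
      apply Matrix.toLin'.injective
      apply LinearMap.ext
      intro v
      rw [Matrix.toLin'_apply, Matrix.toLin'_apply, ← Matrix.mulVec_mulVec,
        ← Matrix.mulVec_mulVec]
      change act σ (ρ a *ᵥ v) = ρ (a * a) *ᵥ act σ v
      rw [hσ, hσ]
      apply hcdinj
      · rw [hπS, hπ, hπ, hπS]; ring
      · rw [hψS, hψ, hψ, hψS]; ring
    have hσH : σ ∈ H := hN σ hσN
    obtain ⟨ya, hyaH, hya⟩ := hY 1
    have hκS : ∀ v, κ (S v) = κ v := by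
      intro v
      rw [hS, map_add, map_add, map_smul, map_smul, hκd, hκw, smul_zero, smul_zero, add_zero,
        add_zero]
    have hact : ∀ v, act (ya * σ) v = v + τ (ψ v) • d := by
      intro v
      rw [act_mul, hσ, hya, one_mul, hκS, hκf, hc₃, map_add, map_smul, map_smul, hM1, hMω1, hS,
        smul_add]
      have e : v + τ (π v) • d + τ (ψ v) • w + (τ (π v) • d + (τ (ψ v) • w + τ (ψ v) • d)) =
          v + τ (ψ v) • d + (τ (π v) • d + τ (π v) • d) + (τ (ψ v) • w + τ (ψ v) • w) := by abel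
      rw [e, h2V, h2V, add_zero, add_zero]
    refine ⟨ψ, τ, d, hψ, ⟨w, hψw⟩, hτ0, hd0, hψd, ?_⟩
    intro g hg
    have hgeq : g = ya * σ := gl_ext (fun v => by
      rw [hg, hact]; rfl)
    rw [hgeq]
    exact H.mul_mem hyaH hσH

end Cfsg.Agent.Lib.Helper20.S5886Q222
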