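import Mathlib
import Cfsg.Agent.H5.Replacement
import Cfsg.Agent.H5.Cores
import Cfsg.Agent.Lib.Helper1.ThompsonPQ
import Cfsg.Agent.Lib.Helper1.NoncyclicAbelian
import Cfsg.Agent.Lib.Helper1.Coprime
import Cfsg.Agent.Lib.Helper11.Semidirect
import Cfsg.Agent.H5.Quadratic
import Cfsg.Agent.H5.Thompson
import Cfsg.Prelude.Def_PLocal

/-!
# Best offenders on a faithful module with a self-centralizing `p'`-core

Abstract setting: `V` a `p`-subgroup, `Q` a `p'`-subgroup normalizing `V` and acting faithfully on it,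
`A` an elementary abelian `p`-subgroup normalizing `V` and `Q`, acting faithfully on `Q`, and maximizing
`mm V X = |X| |C_V(X)|` among its subgroups.

* `le_of_hyperplane_centralizers`: coprime generation by the centralizers of hyperplanes.
* `mm_hyperplane`: a hyperplane `B` of `A` with `[C_Q(B), A] ≠ 1` has `mm V B = mm V A`.
* `mm_eq_card`: `|A| |C_V(A)| = |V|` for `A ≠ 1`.
* `exists_decomp`: `A = B × C` with `B` a hyperplane, `|C| = p`, both of maximal `mm`.
* `exists_family`: `A` is the direct product of subgroups of order `p` of maximal `mm`.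
-/

set_option autoImplicit false

namespace Cfsg.Agent.Lib.Helper20.BO

open Subgroup
open scoped commutatorElement
open Cfsg.H5 (fix mm)

variable {G : Type*} [Group G]

/-- elementwise form of "elementary abelian of exponent `p`" -/
structure EA (p : ℕ) (A : Subgroup G) : Prop where
  comm : ∀ x ∈ A, ∀ y ∈ A, x * y = y * x
  exp : ∀ x ∈ A, x ^ p = 1

theorem EA.mono {p : ℕ} {A B : Subgroup G} (hA : EA p A) (hBA : B ≤ A) : EA p B :=
  ⟨fun x hx y hy => hA.comm x (hBA hx) y (hBA hy), fun x hx => hA.exp x (hBA hx)⟩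

theorem EA.le_centralizer {p : ℕ} {A B C : Subgroup G} (hA : EA p A) (hBA : B ≤ A) (hCA : C ≤ A) :
    B ≤ centralizer (C : Set G) := by
  intro b hb
  rw [mem_centralizer_iff]
  intro c hc
  exact hA.comm c (hCA hc) b (hBA hb)

theorem EA.isPGroup {p : ℕ} {A : Subgroup G} (hA : EA p A) : IsPGroup p A := by
  intro g
  refine ⟨1, ?_⟩
  rw [pow_one]
  exact Subtype.ext (by simpa using hA.exp g g.2)

theorem centralizer_zpowers (a : G) :
    centralizer ((zpowers a : Subgroup G) : Set G) = centralizer {a} := by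
  rw [Subgroup.zpowers_eq_closure, Subgroup.centralizer_closure]

/-- in a group of prime exponent, a nontrivial power generates the same cyclic group -/
theorem mem_zpowers_of_mem_zpowers {p : ℕ} [Fact p.Prime] {x z : G} (hx : x ^ p = 1)
    (hz : z ∈ zpowers x) (hz1 : z ≠ 1) : x ∈ zpowers z := by
  have hx1 : x ≠ 1 := by
    rintro rfl
    rw [Subgroup.zpowers_one_eq_bot, Subgroup.mem_bot] at hz
    exact hz1 hz
  have hzp : z ^ p = 1 := by
    obtain ⟨k, rfl⟩ := hz
    rw [← zpow_natCast, ← zpow_mul, mul_comm, zpow_mul, zpow_natCast, hx, one_zpow]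
  have h1 : Nat.card (zpowers x) = p := by rw [Nat.card_zpowers, orderOf_eq_prime hx hx1]
  have h2 : Nat.card (zpowers z) = p := by rw [Nat.card_zpowers, orderOf_eq_prime hzp hz1]
  have hle : zpowers z ≤ zpowers x := zpowers_le.mpr hz
  haveI : Finite (zpowers x) := Nat.finite_of_card_ne_zero (by rw [h1]; exact (Fact.out : p.Prime).ne_zero)
  have := Subgroup.eq_of_le_of_card_ge hle (by rw [h1, h2])
  rw [this]
  exact mem_zpowers x

theorem card_zpowers_of_exp {p : ℕ} [Fact p.Prime] {a : G} (ha : a ^ p = 1) (ha1 : a ≠ 1) :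
    Nat.card (zpowers a) = p := by rw [Nat.card_zpowers, orderOf_eq_prime ha ha1]

theorem inf_zpowers_eq_bot {p : ℕ} [Fact p.Prime] {B : Subgroup G} {a : G} (ha : a ^ p = 1)
    (haB : a ∉ B) : B ⊓ zpowers a = ⊥ := by
  rw [eq_bot_iff]
  intro g hg
  rw [mem_inf] at hg
  rw [mem_bot]
  by_contra hg1
  exact haB (zpowers_le.mpr hg.1 (mem_zpowers_of_mem_zpowers ha hg.2 hg1))

theorem card_sup_zpowers [Finite G] {p : ℕ} [Fact p.Prime] {B : Subgroup G} {a : G} (ha : a ^ p = 1)
    (haB : a ∉ B) (hc : a ∈ centralizer (B : Set G)) :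
    Nat.card ↥(B ⊔ zpowers a) = p * Nat.card B := by
  have ha1 : a ≠ 1 := fun h => haB (h ▸ B.one_mem)
  have hn : zpowers a ≤ normalizer (B : Set G) := by
    rw [zpowers_le]
    have h1 : a ∈ centralizer (B : Set G) := hc
    have h2 : centralizer (B : Set G) ≤ normalizer (B : Set G) := Subgroup.centralizer_le_normalizer _
    exact h2 h1
  rw [Cfsg.Agent.Lib.Helper11.card_sup_eq B (zpowers a) hn (inf_zpowers_eq_bot ha haB),
    card_zpowers_of_exp ha ha1, mul_comm]

/-- a hyperplane of `A` avoiding a given nontrivial element -/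
theorem exists_hyperplane_not_mem [Finite G] {p : ℕ} [Fact p.Prime] {A : Subgroup G} (hA : EA p A)
    {a : G} (haA : a ∈ A) (ha1 : a ≠ 1) :
    ∃ A₁ : Subgroup G, A₁ ≤ A ∧ a ∉ A₁ ∧ A₁ ⊔ zpowers a = A ∧ Nat.card A = p * Nat.card A₁ := by
  obtain ⟨A₁, ⟨hA₁A, haA₁⟩, hmax⟩ := exists_maximal_of_wellFoundedGT
    (fun X : Subgroup G => X ≤ A ∧ a ∉ X) ⟨⊥, bot_le, by rwa [mem_bot]⟩
  have hsup : A₁ ⊔ zpowers a = A := by
    apply le_antisymm (sup_le hA₁A (zpowers_le.mpr haA))
    intro x hx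
    by_cases hxA₁ : x ∈ A₁
    · exact mem_sup_left hxA₁
    · have hmem : a ∈ A₁ ⊔ zpowers x := by
        by_contra hcon
        have := hmax ⟨sup_le hA₁A (zpowers_le.mpr hx), hcon⟩ le_sup_left
        exact hxA₁ (this (mem_sup_right (mem_zpowers x)))
      have hn : zpowers x ≤ normalizer (A₁ : Set G) := by
        rw [zpowers_le]
        exact (Subgroup.centralizer_le_normalizer _) (hA.le_centralizer (zpowers_le.mpr hx) hA₁A
          (mem_zpowers x))
      obtain ⟨y, hy, z, hz, hyz⟩ :=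
        (Cfsg.Agent.Lib.Helper11.mem_sup_iff_exists_mul A₁ (zpowers x) hn a).mp hmem
      have hz1 : z ≠ 1 := by
        rintro rfl
        rw [mul_one] at hyz
        exact haA₁ (hyz ▸ hy)
      have hxz : x ∈ zpowers z := mem_zpowers_of_mem_zpowers (hA.exp x hx) hz hz1
      have hzmem : z ∈ A₁ ⊔ zpowers a := by
        have : z = y⁻¹ * a := by rw [hyz]; group
        rw [this]
        exact mul_mem (mem_sup_left (inv_mem hy)) (mem_sup_right (mem_zpowers a))
      exact zpowers_le.mpr hzmem hxz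
  refine ⟨A₁, hA₁A, haA₁, hsup, ?_⟩
  rw [← hsup]
  exact card_sup_zpowers (hA.exp a haA) haA₁ (hA.le_centralizer (zpowers_le.mpr haA) hA₁A
    (mem_zpowers a))


theorem card_lt_of_hyperplane [Finite G] {p : ℕ} [Fact p.Prime] {A B : Subgroup G}
    (h : Nat.card A = p * Nat.card B) : Nat.card B < Nat.card A := by
  have hp : 2 ≤ p := (Fact.out : p.Prime).two_le
  have hB : 0 < Nat.card B := Nat.card_pos
  rw [h]
  nlinarith

/-- **Coprime generation by hyperplanes**: if `C_Q(B) ≤ X` for all hyperplanes `B` of the nontrivial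
elementary abelian `p`-group `A` acting on the `p'`-group `Q`, then `Q ≤ X`. -/
theorem le_of_hyperplane_centralizers [Finite G] {p : ℕ} [Fact p.Prime] :
    ∀ (n : ℕ) (A Q X : Subgroup G), Nat.card A = n → EA p A → A ≠ ⊥ →
      A ≤ normalizer (Q : Set G) → (Nat.card Q).Coprime p →
      (∀ B : Subgroup G, B ≤ A → Nat.card A = p * Nat.card B → Q ⊓ centralizer (B : Set G) ≤ X) →
      Q ≤ X := by
  intro n
  induction n using Nat.strong_induction_on with
  | _ n ih =>
  intro A Q X hn hA hAne hAQ hQ hyp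
  have hp : p.Prime := Fact.out
  obtain ⟨a₀, ha₀1⟩ := (Subgroup.ne_bot_iff_exists_ne_one.mp hAne)
  have ha₀1' : (a₀ : G) ≠ 1 := fun h => ha₀1 (Subtype.ext h)
  obtain ⟨A₀, hA₀A, ha₀A₀, hsup₀, hcard₀⟩ := exists_hyperplane_not_mem hA a₀.2 ha₀1'
  by_cases hA₀ : A₀ = ⊥
  · -- `|A| = p`
    have h1 := hyp ⊥ bot_le (by rw [hcard₀, hA₀])
    intro x hx
    apply h1
    refine mem_inf.mpr ⟨hx, ?_⟩
    rw [mem_centralizer_iff]
    intro h hh
    have : h = 1 := by simpa using hh
    rw [this, one_mul, mul_one]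
  · -- `A` is not cyclic
    have hA₀2 : 2 ≤ Nat.card A₀ := (Subgroup.one_lt_card_iff_ne_bot A₀).mpr hA₀
    have hncyc : ¬ IsCyclic A := by
      intro hcyc
      have h1 : Monoid.exponent A ∣ p := Monoid.exponent_dvd_of_forall_pow_eq_one
        (fun g => Subtype.ext (by simpa using hA.exp g g.2))
      rw [IsCyclic.exponent_eq_card] at h1
      have h2 := Nat.le_of_dvd hp.pos h1
      rw [hcard₀] at h2
      nlinarith [hp.two_le]
    haveI : IsMulCommutative A := ⟨⟨fun x y => Subtype.ext (hA.comm x x.2 y y.2)⟩⟩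
    have hcop : (Nat.card A).Coprime (Nat.card Q) := by
      obtain ⟨k, hk⟩ := IsPGroup.iff_card.mp hA.isPGroup
      rw [hk]
      exact Nat.Coprime.pow_left k hQ.symm
    have hgen := Cfsg.Agent.Lib.Helper1.iSup_inf_centralizer_eq_of_not_isCyclic A Q hncyc hAQ hcop
    rw [← hgen]
    apply iSup₂_le
    rintro a ⟨haA, ha1⟩
    obtain ⟨A₁, hA₁A, haA₁, hsup₁, hcard₁⟩ := exists_hyperplane_not_mem hA haA ha1
    have hA₁card : Nat.card A₁ = Nat.card A₀ := by
      have := hcard₀.symm.trans hcard₁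
      exact (Nat.eq_of_mul_eq_mul_left hp.pos this).symm
    have hA₁ne : A₁ ≠ ⊥ := by
      rw [← Subgroup.one_lt_card_iff_ne_bot, hA₁card]
      exact hA₀2
    have hA₁cent : A₁ ≤ centralizer ({a} : Set G) := by
      rw [← centralizer_zpowers]
      exact hA.le_centralizer hA₁A (zpowers_le.mpr haA)
    have hnorm : A₁ ≤ normalizer ((Q ⊓ centralizer ({a} : Set G) : Subgroup G) : Set G) := by
      intro x hx
      apply Subgroup.inf_normalizer_le_normalizer_inf
      exact mem_inf.mpr ⟨hAQ (hA₁A hx), Subgroup.le_normalizer (hA₁cent hx)⟩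
    have hcopQ₁ : (Nat.card ↥(Q ⊓ centralizer ({a} : Set G))).Coprime p :=
      Nat.Coprime.coprime_dvd_left (Subgroup.card_dvd_of_le inf_le_left) hQ
    refine ih (Nat.card A₁) (by rw [← hn]; exact card_lt_of_hyperplane hcard₁) A₁
      (Q ⊓ centralizer ({a} : Set G)) X rfl (hA.mono hA₁A) hA₁ne hnorm hcopQ₁ ?_
    intro B₁ hB₁ hcardB₁
    have haB₁ : a ∉ B₁ := fun h => haA₁ (hB₁ h)
    have hB₁A : B₁ ≤ A := hB₁.trans hA₁A
    have hac : a ∈ centralizer (B₁ : Set G) :=
      hA.le_centralizer (zpowers_le.mpr haA) hB₁A (mem_zpowers a)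
    have hB := hyp (B₁ ⊔ zpowers a) (sup_le hB₁A (zpowers_le.mpr haA)) (by
      rw [card_sup_zpowers (hA.exp a haA) haB₁ hac, hcard₁, hcardB₁])
    refine le_trans ?_ hB
    intro x hx
    rw [mem_inf, mem_inf] at hx
    rw [mem_inf, Cfsg.H5.centralizer_sup, mem_inf, centralizer_zpowers]
    exact ⟨hx.1.1, hx.2, hx.1.2⟩

/-- if `A` acts nontrivially on `Q`, some hyperplane `B` has `[C_Q(B), A] ≠ 1` -/
theorem exists_hyperplane_not_le [Finite G] {p : ℕ} [Fact p.Prime] {A Q : Subgroup G} (hA : EA p A)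
    (hAQ : A ≤ normalizer (Q : Set G)) (hQ : (Nat.card Q).Coprime p)
    (hnc : ¬ A ≤ centralizer (Q : Set G)) :
    ∃ B : Subgroup G, B ≤ A ∧ Nat.card A = p * Nat.card B ∧
      ¬ Q ⊓ centralizer (B : Set G) ≤ centralizer (A : Set G) := by
  by_contra hcon
  push Not at hcon
  have hAne : A ≠ ⊥ := by
    rintro rfl
    exact hnc bot_le
  have := le_of_hyperplane_centralizers (Nat.card A) A Q (centralizer (A : Set G)) rfl hA hAne hAQ hQ hcon
  exact hnc (Subgroup.le_centralizer_iff.mp this)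

theorem conj_mem_centralizer_of_mem_normalizer {U : Subgroup G} {x z : G}
    (hx : x ∈ normalizer (U : Set G)) (hz : z ∈ centralizer (U : Set G)) :
    x * z * x⁻¹ ∈ centralizer (U : Set G) := by
  rw [mem_centralizer_iff]
  intro u hu
  have hu' : x⁻¹ * u * x ∈ U := by
    have := (mem_normalizer_iff.mp (inv_mem hx) u).mp hu
    simpa using this
  have hc := mem_centralizer_iff.mp hz _ hu'
  calc u * (x * z * x⁻¹) = x * ((x⁻¹ * u * x) * z) * x⁻¹ := by group
    _ = x * (z * (x⁻¹ * u * x)) * x⁻¹ := by rw [hc]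
    _ = x * z * x⁻¹ * u := by group

theorem fix_bot (V : Subgroup G) : fix V ⊥ = V := by
  unfold Cfsg.H5.fix
  rw [inf_eq_left]
  intro x _
  rw [mem_centralizer_iff]
  intro h hh
  have : h = 1 := by simpa using hh
  rw [this, one_mul, mul_one]

theorem mm_bot (V : Subgroup G) : mm V ⊥ = Nat.card V := by
  unfold Cfsg.H5.mm
  rw [fix_bot, Subgroup.card_bot, one_mul]

/-- **Key lemma**: a hyperplane `B` of a best offender `A` with `[C_Q(B), A] ≠ 1` satisfies
`|B| |C_V(B)| = |A| |C_V(A)|`. -/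
theorem mm_hyperplane [Finite G] {p : ℕ} [Fact p.Prime] {V Q A B : Subgroup G}
    (hVp : IsPGroup p V) (hQV : Q ≤ normalizer (V : Set G)) (hQ : (Nat.card Q).Coprime p)
    (hQf : Q ⊓ centralizer (V : Set G) = ⊥)
    (hA : EA p A) (hAV : A ≤ normalizer (V : Set G)) (hAQ : A ≤ normalizer (Q : Set G))
    (hmax : ∀ X : Subgroup G, X ≤ A → mm V X ≤ mm V A)
    (hBA : B ≤ A) (hcard : Nat.card A = p * Nat.card B)
    (hB : ¬ Q ⊓ centralizer (B : Set G) ≤ centralizer (A : Set G)) :
    mm V B = mm V A := by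
  have hp : p.Prime := Fact.out
  set Q₀ : Subgroup G := Q ⊓ centralizer (B : Set G) with hQ₀
  have hB' : ¬ A ≤ centralizer (Q₀ : Set G) := fun h => hB (Subgroup.le_centralizer_iff.mp h)
  obtain ⟨a, haA, haQ₀⟩ := SetLike.not_le_iff_exists.mp hB'
  have hBQ₀ : B ≤ centralizer (Q₀ : Set G) :=
    Subgroup.le_centralizer_iff.mp (inf_le_right : Q₀ ≤ centralizer (B : Set G))
  have haB : a ∉ B := fun h => haQ₀ (hBQ₀ h)
  have hap : a ^ p = 1 := hA.exp a haA
  have hacB : a ∈ centralizer (B : Set G) :=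
    hA.le_centralizer (zpowers_le.mpr haA) hBA (mem_zpowers a)
  set Z : Subgroup G := zpowers a with hZ
  have hZA : Z ≤ A := zpowers_le.mpr haA
  have hsup : B ⊔ Z = A := by
    apply Subgroup.eq_of_le_of_card_ge (sup_le hBA hZA)
    rw [card_sup_zpowers hap haB hacB, hcard]
  -- `Z` normalizes `Q₀`
  have hZQ₀ : Z ≤ normalizer (Q₀ : Set G) := by
    rw [zpowers_le]
    apply Subgroup.inf_normalizer_le_normalizer_inf
    exact mem_inf.mpr ⟨hAQ haA, Subgroup.le_normalizer hacB⟩
  have hcardZ : Nat.card Z = p := card_zpowers_of_exp hap (fun h => haB (h ▸ B.one_mem))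
  have hQ₀cop : (Nat.card Q₀).Coprime p :=
    Nat.Coprime.coprime_dvd_left (Subgroup.card_dvd_of_le inf_le_left) hQ
  have hact : Cfsg.Agent.Lib.Helper1.CoprimeAct Z Q₀ := by
    refine ⟨hZQ₀, ?_, Or.inl ?_⟩
    · rw [hcardZ]; exact hQ₀cop.symm
    · exact Group.isSolvable_of_comm (fun x y =>
        (inferInstance : IsMulCommutative (zpowers a)).is_comm.comm x y)
  set X : Subgroup G := ⁅Q₀, Z⁆ with hX
  have hXX : ⁅X, Z⁆ = X := hact.commutator_commutator_eq
  have hXQ₀ : X ≤ Q₀ := Cfsg.Agent.Lib.Helper1.commutator_le_of_le_normalizer hZQ₀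
  have hXne : X ≠ ⊥ := by
    intro h
    rw [hX, Subgroup.commutator_eq_bot_iff_le_centralizer, Subgroup.le_centralizer_iff] at h
    exact haQ₀ (h (mem_zpowers a))
  set U : Subgroup G := fix V B with hU
  -- (i)
  have hi : Nat.card U ≤ p * Nat.card (fix V A) := by
    have h1 := hmax B hBA
    unfold Cfsg.H5.mm at h1
    rw [hcard] at h1
    have hBpos : 0 < Nat.card B := Nat.card_pos
    have h2 : Nat.card B * Nat.card U ≤ Nat.card B * (p * Nat.card (fix V A)) := by
      calc Nat.card B * Nat.card U ≤ p * Nat.card B * Nat.card (fix V A) := h1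
        _ = Nat.card B * (p * Nat.card (fix V A)) := by ring
    exact Nat.le_of_mul_le_mul_left h2 hBpos
  -- (ii)
  have hii : fix V A = U ⊓ centralizer (Z : Set G) := by
    rw [← hsup, Cfsg.H5.fix_sup, hU]
    unfold Cfsg.H5.fix
    ext x
    simp only [mem_inf]
    tauto
  -- (iii)
  have hiii : ¬ U ≤ centralizer (Z : Set G) := by
    intro hUZ
    have hZU : Z ≤ centralizer (U : Set G) := Subgroup.le_centralizer_iff.mp hUZ
    have hQ₀U : Q₀ ≤ normalizer (U : Set G) := by
      intro x hx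
      apply Subgroup.inf_normalizer_le_normalizer_inf
      exact mem_inf.mpr ⟨hQV (inf_le_left (a := Q) hx), Subgroup.le_normalizer (inf_le_right (a := Q) hx)⟩
    have hXU : X ≤ centralizer (U : Set G) := by
      rw [← hXX, Subgroup.commutator_le]
      intro x hx z hz
      rw [commutatorElement_def]
      exact mul_mem (conj_mem_centralizer_of_mem_normalizer (hQ₀U (hXQ₀ hx)) (hZU hz))
        (inv_mem (hZU hz))
    have hXcop : (Nat.card X).Coprime p :=
      Nat.Coprime.coprime_dvd_left (Subgroup.card_dvd_of_le hXQ₀) hQ₀cop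
    have hBX : B ≤ centralizer (X : Set G) :=
      Subgroup.le_centralizer_iff.mp (hXQ₀.trans inf_le_right)
    have hXV : X ≤ centralizer (V : Set G) :=
      Cfsg.Agent.Lib.Helper1.thompson_PxQ p B X (hA.mono hBA).isPGroup hXcop hBX (Nat.card V) V rfl hVp
        (hBA.trans hAV) ((hXQ₀.trans inf_le_left).trans hQV) (Subgroup.le_centralizer_iff.mp hXU)
    apply hXne
    rw [eq_bot_iff, ← hQf]
    exact le_inf (hXQ₀.trans inf_le_left) hXV
  -- (iv)
  have hle : fix V A ≤ U := by rw [hii]; exact inf_le_left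
  have h1 : Nat.card (fix V A) * (fix V A).relIndex U = Nat.card U :=
    Cfsg.H5.card_mul_relIndex_of_le hle
  have hri1 : (fix V A).relIndex U ≠ 1 := by
    intro h
    rw [Subgroup.relIndex_eq_one] at h
    apply hiii
    rw [hii] at h
    exact h.trans inf_le_right
  have hUp : IsPGroup p U := hVp.to_le (Cfsg.H5.fix_le V B)
  obtain ⟨k, hk⟩ := IsPGroup.iff_card.mp hUp
  have hdvd : (fix V A).relIndex U ∣ p ^ k := by rw [← hk]; exact Subgroup.relIndex_dvd_card _ _
  obtain ⟨l, -, hl⟩ := (Nat.dvd_prime_pow hp).mp hdvd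
  have hl0 : l ≠ 0 := by
    rintro rfl
    rw [pow_zero] at hl
    exact hri1 hl
  have hpri : p ≤ (fix V A).relIndex U := by
    rw [hl]
    calc p = p ^ 1 := (pow_one p).symm
      _ ≤ p ^ l := Nat.pow_le_pow_right hp.pos (Nat.one_le_iff_ne_zero.mpr hl0)
  have hiv : p * Nat.card (fix V A) ≤ Nat.card U := by
    rw [← h1, mul_comm]
    exact Nat.mul_le_mul_left _ hpri
  have hUeq : Nat.card U = p * Nat.card (fix V A) := le_antisymm hi hiv
  unfold Cfsg.H5.mm
  rw [hcard]
  show Nat.card B * Nat.card U = _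
  rw [hUeq]
  ring


/-- the standing hypotheses on `V`, `Q` -/
structure Setup (p : ℕ) (V Q : Subgroup G) : Prop where
  vp : IsPGroup p V
  qv : Q ≤ normalizer (V : Set G)
  qcop : (Nat.card Q).Coprime p
  qf : Q ⊓ centralizer (V : Set G) = ⊥

/-- the standing hypotheses on a best offender `A` -/
structure Off (p : ℕ) (V Q A : Subgroup G) : Prop where
  ea : EA p A
  av : A ≤ normalizer (V : Set G)
  aq : A ≤ normalizer (Q : Set G)
  af : A ⊓ centralizer (Q : Set G) = ⊥
  max : ∀ X : Subgroup G, X ≤ A → mm V X ≤ mm V A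

theorem Off.mono {p : ℕ} {V Q A B : Subgroup G} (h : Off p V Q A) (hBA : B ≤ A)
    (hmm : mm V B = mm V A) : Off p V Q B :=
  ⟨h.ea.mono hBA, hBA.trans h.av, hBA.trans h.aq,
    le_bot_iff.mp (h.af ▸ inf_le_inf_right _ hBA),
    fun X hX => hmm ▸ h.max X (hX.trans hBA)⟩

theorem Off.not_le_centralizer {p : ℕ} {V Q A : Subgroup G} (h : Off p V Q A) (hne : A ≠ ⊥) :
    ¬ A ≤ centralizer (Q : Set G) := by
  intro hle
  apply hne
  rw [eq_bot_iff, ← h.af]
  exact le_inf le_rfl hle

/-- a nontrivial best offender has a hyperplane which is again a best offender of the same value -/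
theorem exists_hyperplane_mm [Finite G] {p : ℕ} [Fact p.Prime] {V Q A : Subgroup G}
    (hS : Setup p V Q) (h : Off p V Q A) (hne : A ≠ ⊥) :
    ∃ B : Subgroup G, B ≤ A ∧ Nat.card A = p * Nat.card B ∧ mm V B = mm V A := by
  obtain ⟨B, hBA, hcard, hB⟩ := exists_hyperplane_not_le h.ea h.aq hS.qcop (h.not_le_centralizer hne)
  exact ⟨B, hBA, hcard, mm_hyperplane hS.vp hS.qv hS.qcop hS.qf h.ea h.av h.aq h.max hBA hcard hB⟩

/-- `|A| |C_V(A)| = |V|` for a nontrivial best offender. -/
theorem mm_eq_card [Finite G] {p : ℕ} [Fact p.Prime] {V Q : Subgroup G} (hS : Setup p V Q) :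
    ∀ (n : ℕ) (A : Subgroup G), Nat.card A = n → Off p V Q A → A ≠ ⊥ → mm V A = Nat.card V := by
  intro n
  induction n using Nat.strong_induction_on with
  | _ n ih =>
  intro A hn h hne
  obtain ⟨B, hBA, hcard, hmm⟩ := exists_hyperplane_mm hS h hne
  by_cases hB : B = ⊥
  · rw [← hmm, hB, mm_bot]
  · rw [← hmm]
    exact ih (Nat.card B) (by rw [← hn]; exact card_lt_of_hyperplane hcard) B rfl (h.mono hBA hmm) hB

/-- the hyperplanes of maximal value intersect trivially -/
theorem eq_bot_of_le_hyperplanes [Finite G] {p : ℕ} [Fact p.Prime] {V Q A D : Subgroup G}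
    (hS : Setup p V Q) (h : Off p V Q A) (hDA : D ≤ A)
    (hD : ∀ B : Subgroup G, B ≤ A → Nat.card A = p * Nat.card B → mm V B = mm V A → D ≤ B) :
    D = ⊥ := by
  by_cases hne : A = ⊥
  · rw [eq_bot_iff, ← hne]; exact hDA
  have hQD : Q ≤ centralizer (D : Set G) := by
    apply le_of_hyperplane_centralizers (Nat.card A) A Q _ rfl h.ea hne h.aq hS.qcop
    intro B hBA hcard
    by_cases hB : Q ⊓ centralizer (B : Set G) ≤ centralizer (A : Set G)
    · exact hB.trans (Subgroup.centralizer_le (by exact_mod_cast hDA))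
    · have hmm := mm_hyperplane hS.vp hS.qv hS.qcop hS.qf h.ea h.av h.aq h.max hBA hcard hB
      have hDB := hD B hBA hcard hmm
      exact inf_le_right.trans (Subgroup.centralizer_le (by exact_mod_cast hDB))
  rw [eq_bot_iff, ← h.af]
  exact le_inf hDA (Subgroup.le_centralizer_iff.mp hQD)

/-- `A = B × C` with `B` a hyperplane and `C` of order `p`, both of maximal value. -/
theorem exists_decomp [Finite G] {p : ℕ} [Fact p.Prime] {V Q A : Subgroup G} [hVc : IsMulCommutative V]
    (hS : Setup p V Q) (h : Off p V Q A) (hne : A ≠ ⊥) :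
    ∃ B C : Subgroup G, B ≤ A ∧ C ≤ A ∧ Nat.card A = p * Nat.card B ∧ mm V B = mm V A ∧
      Nat.card C = p ∧ mm V C = mm V A ∧ B ⊓ C = ⊥ ∧ B ⊔ C = A := by
  have hp : p.Prime := Fact.out
  obtain ⟨C, ⟨hCA, hCne, hCmm⟩, hmin⟩ := exists_minimal_of_wellFoundedLT
    (fun C : Subgroup G => C ≤ A ∧ C ≠ ⊥ ∧ mm V C = mm V A) ⟨A, le_rfl, hne, rfl⟩
  have hex : ∃ B : Subgroup G, B ≤ A ∧ Nat.card A = p * Nat.card B ∧ mm V B = mm V A ∧ ¬ C ≤ B := by
    by_contra hcon
    push Not at hcon
    exact hCne (eq_bot_of_le_hyperplanes hS h hCA hcon)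
  obtain ⟨B, hBA, hcard, hBmm, hCB⟩ := hex
  have hinf := (Cfsg.H5.mm_inf_of_max V A h.max hBA hCA hBmm hCmm).1
  have hBC : B ⊓ C = ⊥ := by
    by_contra hne'
    have := hmin ⟨inf_le_right.trans hCA, hne', hinf⟩ inf_le_right
    exact hCB (this.trans inf_le_left)
  have hnorm : B ≤ normalizer (C : Set G) :=
    (h.ea.le_centralizer hBA hCA).trans (Subgroup.centralizer_le_normalizer _)
  have hprod := Cfsg.H5.card_sup_mul_card_inf hnorm
  rw [hBC, Subgroup.card_bot, mul_one] at hprod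
  have hsupA : B ⊔ C ≤ A := sup_le hBA hCA
  have hdvd : Nat.card ↥(B ⊔ C) ∣ Nat.card A := Subgroup.card_dvd_of_le hsupA
  rw [hprod, hcard, mul_comm p] at hdvd
  have hBpos : 0 < Nat.card B := Nat.card_pos
  have hCp : Nat.card C ∣ p := Nat.dvd_of_mul_dvd_mul_left hBpos hdvd
  have hC1 : Nat.card C ≠ 1 := by
    intro h1
    exact hCne ((Subgroup.card_eq_one).mp h1)
  have hCcard : Nat.card C = p := by
    rcases (Nat.dvd_prime hp).mp hCp with h1 | h1
    · exact absurd h1 hC1
    · exact h1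
  refine ⟨B, C, hBA, hCA, hcard, hBmm, hCcard, hCmm, hBC, ?_⟩
  apply Subgroup.eq_of_le_of_card_ge hsupA
  rw [hprod, hcard, hCcard, mul_comm]

/-- adding an independent factor to an independent family inside a commutative subgroup -/
theorem iSupIndep_cases {A : Subgroup G} (hcomm : ∀ x ∈ A, ∀ y ∈ A, x * y = y * x) {k : ℕ}
    (f : Fin k → Subgroup G) (C : Subgroup G) (hf : ∀ i, f i ≤ A) (hC : C ≤ A) (hind : iSupIndep f)
    (hdisj : Disjoint C (⨆ i, f i)) :
    iSupIndep (fun i : Fin (k + 1) => (Fin.cases C f i : Subgroup G)) ∧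
      (⨆ i : Fin (k + 1), (Fin.cases C f i : Subgroup G)) = C ⊔ ⨆ i, f i := by
  constructor
  · rw [iSupIndep_def]
    intro i
    refine Fin.cases ?_ (fun i' => ?_) i
    · -- index `0`
      refine hdisj.mono_right ?_
      apply iSup₂_le
      intro j hj
      obtain ⟨j', rfl⟩ := Fin.exists_succ_eq.mpr hj
      exact le_iSup f j'
    · -- index `succ i'`
      set Y : Subgroup G := ⨆ (j' : Fin k) (_ : j' ≠ i'), f j' with hY
      have hYle : Y ≤ ⨆ i, f i := iSup₂_le fun j' _ => le_iSup f j'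
      have hYA : Y ≤ A := hYle.trans (iSup_le hf)
      have hle : (⨆ (j : Fin (k + 1)) (_ : j ≠ i'.succ), (Fin.cases C f j : Subgroup G)) ≤ C ⊔ Y := by
        apply iSup₂_le
        intro j hj
        revert hj
        refine Fin.cases ?_ (fun j' => ?_) j
        · intro _
          exact le_sup_left
        · intro hj
          have hj' : j' ≠ i' := fun h => hj (by rw [h])
          exact le_trans (le_iSup₂ (f := fun (j' : Fin k) (_ : j' ≠ i') => f j') j' hj') le_sup_right
      refine Disjoint.mono_right hle ?_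
      show Disjoint (f i') (C ⊔ Y)
      rw [Subgroup.disjoint_def]
      intro x hx1 hx2
      have hn : Y ≤ normalizer (C : Set G) := by
        intro y hy
        apply Subgroup.centralizer_le_normalizer
        rw [mem_centralizer_iff]
        intro c hc
        exact hcomm c (hC hc) y (hYA hy)
      obtain ⟨c, hc, y, hy, hxy⟩ := (Cfsg.Agent.Lib.Helper11.mem_sup_iff_exists_mul C Y hn x).mp hx2
      have hc1 : c = 1 := by
        apply Subgroup.disjoint_def.mp hdisj hc
        have : c = x * y⁻¹ := by rw [hxy]; group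
        rw [this]
        exact mul_mem (le_iSup f i' hx1) (inv_mem (hYle hy))
      rw [hc1, one_mul] at hxy
      have := (iSupIndep_def.mp hind) i'
      exact Subgroup.disjoint_def.mp this hx1 (hxy ▸ hy)
  · apply le_antisymm
    · apply iSup_le
      intro i
      refine Fin.cases ?_ (fun i' => ?_) i
      · exact le_sup_left
      · exact le_trans (le_iSup f i') le_sup_right
    · apply sup_le
      · exact le_iSup (fun i : Fin (k + 1) => (Fin.cases C f i : Subgroup G)) 0
      · apply iSup_le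
        intro i'
        exact le_iSup (fun i : Fin (k + 1) => (Fin.cases C f i : Subgroup G)) i'.succ

/-- a nontrivial best offender is the direct product of subgroups of order `p` of the same value -/
theorem exists_family [Finite G] {p : ℕ} [Fact p.Prime] {V Q : Subgroup G} [hVc : IsMulCommutative V]
    (hS : Setup p V Q) :
    ∀ (n : ℕ) (A : Subgroup G), Nat.card A = n → Off p V Q A → A ≠ ⊥ →
      ∃ (k : ℕ) (f : Fin k → Subgroup G),
        (∀ i, f i ≤ A ∧ Nat.card (f i) = p ∧ mm V (f i) = mm V A) ∧ iSupIndep f ∧ ⨆ i, f i = A := by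
  intro n
  induction n using Nat.strong_induction_on with
  | _ n ih =>
  intro A hn h hne
  obtain ⟨B, C, hBA, hCA, hcard, hBmm, hCcard, hCmm, hBC, hsup⟩ := exists_decomp hS h hne
  by_cases hB : B = ⊥
  · refine ⟨1, fun _ => C, fun _ => ⟨hCA, hCcard, hCmm⟩, iSupIndep_subsingleton _, ?_⟩
    rw [iSup_const, ← hsup, hB, bot_sup_eq]
  · obtain ⟨k, f, hf, hind, hfsup⟩ := ih (Nat.card B) (by rw [← hn]; exact card_lt_of_hyperplane hcard)
      B rfl (h.mono hBA hBmm) hB
    have hdisj : Disjoint C (⨆ i, f i) := by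
      rw [hfsup, disjoint_iff, inf_comm]
      exact hBC
    obtain ⟨h1, h2⟩ := iSupIndep_cases h.ea.comm f C (fun i => (hf i).1.trans hBA) hCA hind hdisj
    refine ⟨k + 1, fun i => (Fin.cases C f i : Subgroup G), ?_, h1, ?_⟩
    · intro i
      refine Fin.cases ?_ (fun i' => ?_) i
      · exact ⟨hCA, hCcard, hCmm⟩
      · exact ⟨(hf i').1.trans hBA, (hf i').2.1, (hf i').2.2.trans hBmm⟩
    · rw [h2, hfsup, sup_comm]
      exact hsup


/-! ### `|[V, a]| |C_V(a)| = |V|` -/

theorem card_commutator_zpowers [Finite G] {V : Subgroup G} [hVc : IsMulCommutative V] {a : G}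
    (ha : a ∈ normalizer (V : Set G)) :
    Nat.card ↥(⁅V, zpowers a⁆) * Nat.card (fix V (zpowers a)) = Nat.card V := by
  set φ := Cfsg.H5.commHom V a ha with hφ
  set R : Subgroup G := φ.range.map V.subtype with hR
  have memR : ∀ r : G, r ∈ R ↔ ∃ v : V, ((φ v : V) : G) = r := by
    intro r
    rw [hR, Subgroup.mem_map]
    constructor
    · rintro ⟨y, ⟨v, rfl⟩, rfl⟩
      exact ⟨v, rfl⟩
    · rintro ⟨v, rfl⟩
      exact ⟨φ v, ⟨v, rfl⟩, rfl⟩
  have hker : φ.ker = (fix V (zpowers a)).subgroupOf V := by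
    ext v
    rw [MonoidHom.mem_ker, Subgroup.mem_subgroupOf]
    unfold Cfsg.H5.fix
    rw [Subgroup.mem_inf, Cfsg.H5.mem_centralizer_zpowers_iff, Subtype.ext_iff, Cfsg.H5.commHom_apply]
    constructor
    · intro h
      refine ⟨v.2, ?_⟩
      have : (v : G) * a = v * ((v : G)⁻¹ * a * v * a⁻¹) * a := by rw [h]; simp
      rw [this]; group
    · rintro ⟨-, h⟩
      have : (v : G)⁻¹ * a * v * a⁻¹ = (v : G)⁻¹ * (a * v) * a⁻¹ := by group
      rw [this, ← h]
      simp
  -- `R` is normalized by `a`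
  have hRa : ∀ r ∈ R, a * r * a⁻¹ ∈ R := by
    intro r hr
    obtain ⟨w, rfl⟩ := (memR r).mp hr
    have hw : a * (w : G) * a⁻¹ ∈ V := (mem_normalizer_iff.mp ha w).mp w.2
    refine (memR _).mpr ⟨⟨a * w * a⁻¹, hw⟩, ?_⟩
    rw [Cfsg.H5.commHom_apply, Cfsg.H5.commHom_apply]
    group
  have hva : ∀ v ∈ V, ⁅v, a⁆ ∈ R := by
    intro v hv
    refine (memR _).mpr ⟨⟨v⁻¹, V.inv_mem hv⟩, ?_⟩
    rw [Cfsg.H5.commHom_apply, commutatorElement_def]
    simp
  have hpow : ∀ n : ℕ, ∀ v ∈ V, ⁅v, a ^ n⁆ ∈ R := by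
    intro n
    induction n with
    | zero =>
      intro v _
      rw [pow_zero, commutatorElement_one_right]
      exact R.one_mem
    | succ n ih =>
      intro v hv
      have h1 := Cfsg.H5.comm_mul_right v a (a ^ n)
      have h2 : ⁅v, a ^ (n + 1)⁆ = ⁅v, a⁆ * (a * ⁅v, a ^ n⁆ * a⁻¹) := by
        rw [pow_succ', ← h1]; group
      rw [h2]
      exact R.mul_mem (hva v hv) (hRa _ (ih v hv))
  have hcomm : ⁅V, zpowers a⁆ = R := by
    apply le_antisymm
    · rw [Subgroup.commutator_le]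
      intro v hv z hz
      have hz' := ((isOfFinOrder_of_finite a).mem_powers_iff_mem_zpowers).mpr hz
      obtain ⟨n, rfl⟩ := hz'
      exact hpow n v hv
    · intro r hr
      obtain ⟨v, rfl⟩ := (memR r).mp hr
      have : ((φ v : V) : G) = ⁅(v : G)⁻¹, a⁆ := by
        rw [Cfsg.H5.commHom_apply, commutatorElement_def]; simp
      rw [this]
      exact Subgroup.commutator_mem_commutator (V.inv_mem v.2) (mem_zpowers a)
  rw [hcomm, hR, Subgroup.card_map_of_injective V.subtype_injective]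
  have h1 : Nat.card φ.range = Nat.card (V ⧸ φ.ker) :=
    (Nat.card_congr (QuotientGroup.quotientKerEquivRange φ).toEquiv).symm
  have h2 := Subgroup.card_eq_card_quotient_mul_card_subgroup φ.ker
  have h3 : Nat.card φ.ker = Nat.card (fix V (zpowers a)) := by
    rw [hker]
    exact Nat.card_congr (Subgroup.subgroupOfEquivOfLe (Cfsg.H5.fix_le V _)).toEquiv
  rw [h1, ← h3, ← h2]

/-! ### Bridge from the hypotheses of the statements -/

section Bridge

variable [Finite G] {p : ℕ} [Fact p.Prime] {V H : Subgroup G}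

/-- the image in `G` of `O_{p'}(H)` -/
def Qof (p : ℕ) (H : Subgroup G) : Subgroup G := (Cfsg.pPrimeCore p ↥H).map H.subtype

theorem Qof_le (p : ℕ) (H : Subgroup G) : Qof p H ≤ H := Subgroup.map_subtype_le _

theorem Qof_coprime (p : ℕ) (H : Subgroup G) : (Nat.card (Qof p H)).Coprime p := by
  unfold Qof
  rw [Subgroup.card_map_of_injective H.subtype_injective]
  exact Cfsg.H5.coprime_card_pPrimeCore p ↥H

theorem le_normalizer_Qof (p : ℕ) (H : Subgroup G) : H ≤ normalizer (Qof p H : Set G) := by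
  have h1 := Subgroup.le_normalizer_map (H := Cfsg.pPrimeCore p ↥H) H.subtype
  haveI := Cfsg.H5.pPrimeCore_normal p ↥H
  rw [Subgroup.normalizer_eq_top_iff.mpr inferInstance, ← MonoidHom.range_eq_map,
    Subgroup.range_subtype] at h1
  exact h1

theorem setup_of (hV : Cfsg.IsElementaryAbelian p V) (hHV : H ≤ normalizer (V : Set G))
    (hf : H ⊓ centralizer (V : Set G) = ⊥) : Setup p V (Qof p H) :=
  ⟨Cfsg.H5.isPGroup_of_isElementaryAbelian hV, (Qof_le p H).trans hHV, Qof_coprime p H,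
    le_bot_iff.mp (hf ▸ inf_le_inf_right _ (Qof_le p H))⟩

theorem ea_of (hf : H ⊓ centralizer (V : Set G) = ⊥) {A : Subgroup G} (hAH : A ≤ H)
    (hA : Cfsg.IsBestOffenderOn p V A) : EA p A := by
  constructor
  · intro x hx y hy
    have h1 : ⁅x, y⁆ ∈ H ⊓ centralizer (V : Set G) :=
      mem_inf.mpr ⟨H.mul_mem (H.mul_mem (H.mul_mem (hAH hx) (hAH hy)) (H.inv_mem (hAH hx)))
        (H.inv_mem (hAH hy)), hA.2.1 (Subgroup.commutator_mem_commutator hx hy)⟩
    rw [hf, mem_bot] at h1
    exact commutatorElement_eq_one_iff_mul_comm.mp h1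
  · intro x hx
    have h1 : x ^ p ∈ H ⊓ centralizer (V : Set G) :=
      mem_inf.mpr ⟨H.pow_mem (hAH hx) p, hA.2.2 x hx⟩
    rw [hf, mem_bot] at h1
    exact h1

theorem off_of (hHV : H ≤ normalizer (V : Set G))
    (hf : H ⊓ centralizer (V : Set G) = ⊥)
    (hS1 : centralizer (Cfsg.pPrimeCore p ↥H : Set ↥H) ≤ Cfsg.pPrimeCore p ↥H)
    {A : Subgroup G} (hAH : A ≤ H) (hA : Cfsg.IsBestOffenderOn p V A) : Off p V (Qof p H) A := by
  have hea := ea_of hf hAH hA
  refine ⟨hea, hAH.trans hHV, hAH.trans (le_normalizer_Qof p H), ?_, fun X hX => hA.1 X hX⟩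
  rw [eq_bot_iff]
  intro x hx
  rw [mem_inf] at hx
  have hxH : x ∈ H := hAH hx.1
  have h1 : (⟨x, hxH⟩ : ↥H) ∈ centralizer (Cfsg.pPrimeCore p ↥H : Set ↥H) := by
    rw [mem_centralizer_iff]
    intro k hk
    have hkQ : (k : G) ∈ Qof p H := ⟨k, hk, rfl⟩
    exact Subtype.ext (mem_centralizer_iff.mp hx.2 (k : G) hkQ)
  have h2 : x ∈ Qof p H := ⟨⟨x, hxH⟩, hS1 h1, rfl⟩
  have h3 : orderOf x ∣ p := orderOf_dvd_of_pow_eq_one (hea.exp x hx.1)
  have h4 : orderOf x ∣ Nat.card (Qof p H) := Subgroup.orderOf_dvd_natCard _ h2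
  have h5 : orderOf x = 1 :=
    Nat.Coprime.eq_one_of_dvd ((Qof_coprime p H).symm.coprime_dvd_left h3) h4
  rw [mem_bot]
  exact orderOf_eq_one_iff.mp h5

/-- a subgroup of a best offender with the same value is a best offender -/
theorem isBestOffenderOn_of_mm {A C : Subgroup G} (hA : Cfsg.IsBestOffenderOn p V A) (hCA : C ≤ A)
    (hmm : mm V C = mm V A) : Cfsg.IsBestOffenderOn p V C := by
  refine ⟨fun B hB => ?_, (Subgroup.commutator_mono hCA hCA).trans hA.2.1, fun a ha => hA.2.2 a (hCA ha)⟩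
  have := hA.1 B (hB.trans hCA)
  have h2 : Nat.card C * Nat.card ↥(V ⊓ centralizer (C : Set G)) = mm V A := hmm
  rw [h2]
  exact this

theorem commutator_ne_bot_of_ne_bot (hf : H ⊓ centralizer (V : Set G) = ⊥) {C : Subgroup G}
    (hCH : C ≤ H) (hC : C ≠ ⊥) : ⁅V, C⁆ ≠ ⊥ := by
  intro h
  rw [Subgroup.commutator_eq_bot_iff_le_centralizer, Subgroup.le_centralizer_iff] at h
  apply hC
  rw [eq_bot_iff, ← hf]
  exact le_inf hCH h

end Bridge

end Cfsg.Agent.Lib.Helper20.BO
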