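import Mathlib
import Cfsg.Agent.Lib.Helper20.BestOff
import Cfsg.Agent.Lib.Helper27.RankTwoSL
import Cfsg.Agent.H5.NilAct

/-!
# Two transvection groups generating `SL(2, p)`

* `sl2_of_two`: two automorphisms of order `p` of an elementary abelian group of order `p ^ 2`
  with different fixed points generate a copy of `SL(2, p)`.
-/

set_option autoImplicit false

namespace Cfsg.Agent.Lib.Helper20.BO

open Subgroup Matrix
open scoped commutatorElement
open Cfsg.Agent.Lib.Helper27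
open Cfsg.H5 (fix mm)

section TwoAut

variable {W : Type*} [Group W] {p : ℕ} [Fact p.Prime]

/-- Two automorphisms of order `p` of `C_p × C_p` with distinct fixed point subgroups generate
`SL(2, p)`, the first one corresponding to an upper transvection. -/
theorem sl2_of_two [Finite W] (hcomm : ∀ x y : W, x * y = y * x) (hexp : ∀ x : W, x ^ p = 1)
    (hcard : Nat.card W = p ^ 2) (a b : MulAut W) (ha1 : a ≠ 1) (hb1 : b ≠ 1) (hap : a ^ p = 1)
    (hbp : b ^ p = 1) (hab : fixSub a ≠ fixSub b) :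
    ∃ (ρ : SpecialLinearGroup (Fin 2) (ZMod p) →* MulAut W) (lam : ZMod p),
      Function.Injective ρ ∧ lam ≠ 0 ∧
      ρ (SpecialLinearGroup.transvection (show (0 : Fin 2) ≠ 1 by decide) lam) = a ∧
      ρ.range = Subgroup.closure {a, b} := by
  have hp : p.Prime := Fact.out
  have hLa := fixSub_card hcard a ha1 hap
  have hLb := fixSub_card hcard b hb1 hbp
  -- `e2 ∈ fixSub b`, `e2 ∉ fixSub a`
  have hnle : ¬ fixSub b ≤ fixSub a := by
    intro hle
    apply hab
    exact (Subgroup.eq_of_le_of_card_ge hle (by rw [hLa, hLb])).symm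
  obtain ⟨e2, he2b, he2a⟩ := SetLike.not_le_iff_exists.mp hnle
  have he2 : e2 ≠ 1 := fun h => he2a (h ▸ (fixSub a).one_mem)
  -- `e1 ∈ fixSub a`, `e1 ≠ 1`
  have hane : fixSub a ≠ ⊥ := by
    intro h
    rw [h, Subgroup.card_bot] at hLa
    exact hp.one_lt.ne hLa
  obtain ⟨e1', he1'⟩ := Subgroup.ne_bot_iff_exists_ne_one.mp hane
  obtain ⟨e1, he1L⟩ := e1'
  have he1 : e1 ≠ 1 := fun h => he1' (Subtype.ext h)
  have hbe2 : b e2 = e2 := (mem_fixSub b e2).mp he2b
  obtain ⟨lam, hlam⟩ := exists_zp_of_mem hexp (fixSub a) hLa e1 he1L he1 (e2⁻¹ * a e2)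
    (fixSub_comm_mem hcomm hcard a ha1 hap e2)
  have hae2 : a e2 = e2 * e1 ^ lam.val := by rw [← hlam, mul_inv_cancel_left]
  have hlam0 : lam ≠ 0 := by
    intro h
    rw [h, ZMod.val_zero, pow_zero, inv_mul_eq_one] at hlam
    exact he2a ((mem_fixSub a _).mpr hlam.symm)
  obtain ⟨mu, hmu⟩ := exists_zp_of_mem hexp (fixSub b) hLb e2 he2b he2
    (e1⁻¹ * b e1) (fixSub_comm_mem hcomm hcard _ hb1 hbp e1)
  have hbe1 : b e1 = e1 * e2 ^ mu.val := by rw [← hmu, mul_inv_cancel_left]
  have hmu0 : mu ≠ 0 := by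
    intro h
    rw [h, ZMod.val_zero, pow_zero, inv_mul_eq_one] at hmu
    have h1 : e1 ∈ fixSub b := (mem_fixSub _ _).mpr hmu.symm
    obtain ⟨c, hc⟩ := exists_zp_of_mem hexp (fixSub b) hLb e2 he2b he2 e1 h1
    have hc0 : c = 0 := zp_eq_zero_of_mem (hexp e2) (fixSub a) he2a c (by rw [← hc]; exact he1L)
    rw [hc0, ZMod.val_zero, pow_zero] at hc
    exact he1 hc
  have hbij := coordHom_bijective hcomm hexp hcard e1 e2 (fixSub a) he1L he1 he2a
  have hT01 := rhoOf_T01 hcomm hexp e1 e2 hbij a lam ((mem_fixSub a e1).mp he1L) hae2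
  have hT10 := rhoOf_T10 hcomm hexp e1 e2 hbij b mu hbe2 hbe1
  refine ⟨rhoOf (MulEquiv.ofBijective (coordHom hcomm hexp e1 e2) hbij), lam, rhoOf_injective _,
    hlam0, hT01, ?_⟩
  apply le_antisymm
  · rintro _ ⟨M, rfl⟩
    refine Helper15.SLn_transvection_induction
      (fun M => rhoOf (MulEquiv.ofBijective (coordHom hcomm hexp e1 e2) hbij) M ∈
        Subgroup.closure {a, b}) ?_ ?_ M
    · intro i j hij c
      rcases fin2_cases i j hij with ⟨rfl, rfl⟩ | ⟨rfl, rfl⟩
      · obtain ⟨n, rfl⟩ := exists_nsmul_eq hlam0 c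
        show rhoOf _ _ ∈ Subgroup.closure {a, b}
        rw [transvection_nsmul, map_pow, hT01]
        exact Subgroup.pow_mem _ (Subgroup.subset_closure (by simp)) n
      · obtain ⟨n, rfl⟩ := exists_nsmul_eq hmu0 c
        show rhoOf _ _ ∈ Subgroup.closure {a, b}
        rw [transvection_nsmul, map_pow, hT10]
        exact Subgroup.pow_mem _ (Subgroup.subset_closure (by simp)) n
    · intro M N hM hN
      show rhoOf _ (M * N) ∈ Subgroup.closure {a, b}
      rw [map_mul]
      exact Subgroup.mul_mem _ hM hN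
  · rw [Subgroup.closure_le]
    rintro y hy
    rcases hy with rfl | rfl
    · exact ⟨_, hT01⟩
    · exact ⟨_, hT10⟩

/-- conjugating an upper transvection by `diag(2, 2⁻¹)` -/
theorem exists_conj_transvection (hp2 : p ≠ 2) (lam : ZMod p) :
    ∃ t : SpecialLinearGroup (Fin 2) (ZMod p),
      t * SpecialLinearGroup.transvection (show (0 : Fin 2) ≠ 1 by decide) lam * t⁻¹ =
        (SpecialLinearGroup.transvection (show (0 : Fin 2) ≠ 1 by decide) lam) ^ 4 := by
  have hp : p.Prime := Fact.out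
  have h2 : (2 : ZMod p) ≠ 0 := by
    intro h
    have h' : ((2 : ℕ) : ZMod p) = 0 := by exact_mod_cast h
    rw [ZMod.natCast_eq_zero_iff] at h'
    exact hp2 ((Nat.prime_dvd_prime_iff_eq hp Nat.prime_two).mp h')
  have hdet : (!![2, 0; 0, (2 : ZMod p)⁻¹]).det = 1 := by
    rw [Matrix.det_fin_two_of]; simp [h2]
  set t : SpecialLinearGroup (Fin 2) (ZMod p) := ⟨!![2, 0; 0, (2 : ZMod p)⁻¹], hdet⟩ with ht
  refine ⟨t, ?_⟩
  rw [← transvection_nsmul, mul_inv_eq_iff_eq_mul]
  have ht' : t.1 = !![2, 0; 0, (2 : ZMod p)⁻¹] := rfl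
  ext i j
  show (t.1 * (SpecialLinearGroup.transvection (show (0 : Fin 2) ≠ 1 by decide) lam).1) i j =
    ((SpecialLinearGroup.transvection (show (0 : Fin 2) ≠ 1 by decide) (4 • lam)).1 * t.1) i j
  rw [ht']
  fin_cases i <;> fin_cases j <;>
  simp [SpecialLinearGroup.transvection_coe, Matrix.mul_apply, Fin.sum_univ_two,
    Matrix.add_apply, Matrix.one_apply, Matrix.single_apply]
  · field_simp
    ring

end TwoAut


section Pair

variable {G : Type*} [Group G]

/-- `[V, A ⊔ B] = [V, A] [V, B]` when `A` and `B` normalize `V`. -/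
theorem commutator_sup_eq {V A B : Subgroup G} (hAV : A ≤ normalizer (V : Set G))
    (hBV : B ≤ normalizer (V : Set G)) : ⁅V, A ⊔ B⁆ = ⁅V, A⁆ ⊔ ⁅V, B⁆ := by
  apply le_antisymm
  · set W₀ : Subgroup G := ⁅V, A⁆ ⊔ ⁅V, B⁆ with hW₀
    have hW₀V : W₀ ≤ V := sup_le (Cfsg.Agent.Lib.Helper1.commutator_le_of_le_normalizer hAV)
      (Cfsg.Agent.Lib.Helper1.commutator_le_of_le_normalizer hBV)
    let T : Subgroup G :=
      { carrier := {e | (∀ w ∈ W₀, e * w * e⁻¹ ∈ W₀) ∧ (∀ w ∈ W₀, e⁻¹ * w * e ∈ W₀) ∧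
          (∀ v ∈ V, ⁅v, e⁆ ∈ W₀) ∧ (∀ v ∈ V, ⁅v, e⁻¹⁆ ∈ W₀)}
        one_mem' := by
          refine ⟨fun w hw => by simpa using hw, fun w hw => by simpa using hw,
            fun v _ => by simp, fun v _ => by simp⟩
        mul_mem' := by
          rintro e₁ e₂ ⟨h1, h2, h3, h4⟩ ⟨k1, k2, k3, k4⟩
          refine ⟨fun w hw => ?_, fun w hw => ?_, fun v hv => ?_, fun v hv => ?_⟩
          · have : e₁ * e₂ * w * (e₁ * e₂)⁻¹ = e₁ * (e₂ * w * e₂⁻¹) * e₁⁻¹ := by group
            rw [this]; exact h1 _ (k1 w hw)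
          · have : (e₁ * e₂)⁻¹ * w * (e₁ * e₂) = e₂⁻¹ * (e₁⁻¹ * w * e₁) * e₂ := by group
            rw [this]; exact k2 _ (h2 w hw)
          · have : ⁅v, e₁ * e₂⁆ = ⁅v, e₁⁆ * (e₁ * ⁅v, e₂⁆ * e₁⁻¹) := by
              simp only [commutatorElement_def]; group
            rw [this]; exact W₀.mul_mem (h3 v hv) (h1 _ (k3 v hv))
          · have : ⁅v, (e₁ * e₂)⁻¹⁆ = ⁅v, e₂⁻¹⁆ * (e₂⁻¹ * ⁅v, e₁⁻¹⁆ * e₂) := by
              simp only [commutatorElement_def]; group
            rw [this]; exact W₀.mul_mem (k4 v hv) (k2 _ (h4 v hv))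
        inv_mem' := by
          rintro e ⟨h1, h2, h3, h4⟩
          refine ⟨fun w hw => by simpa using h2 w hw, fun w hw => by simpa using h1 w hw, h4,
            fun v hv => by simpa using h3 v hv⟩ }
    have key : ∀ (C : Subgroup G), C ≤ normalizer (V : Set G) → ⁅V, C⁆ ≤ W₀ → C ≤ T := by
      intro C _ hCW s hs
      have hconj : ∀ s ∈ C, ∀ w ∈ W₀, s * w * s⁻¹ ∈ W₀ := by
        intro s hs w hw
        have : s * w * s⁻¹ = (⁅w, s⁆)⁻¹ * w := by simp only [commutatorElement_def]; group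
        rw [this]
        exact W₀.mul_mem (W₀.inv_mem (hCW (Subgroup.commutator_mem_commutator (hW₀V hw) hs))) hw
      refine ⟨hconj s hs, fun w hw => ?_, fun v hv => hCW (Subgroup.commutator_mem_commutator hv hs),
        fun v hv => hCW (Subgroup.commutator_mem_commutator hv (C.inv_mem hs))⟩
      have := hconj s⁻¹ (C.inv_mem hs) w hw
      simpa using this
    have hAT : A ≤ T := key A hAV le_sup_left
    have hBT : B ≤ T := key B hBV le_sup_right
    rw [Subgroup.commutator_le]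
    intro v hv e he
    exact ((sup_le hAT hBT) he).2.2.1 v hv
  · exact sup_le (Subgroup.commutator_mono le_rfl le_sup_left)
      (Subgroup.commutator_mono le_rfl le_sup_right)

/-- an element of `Q` normalizing `A` centralizes `A` when `A ∩ Q = 1` and `A` normalizes `Q` -/
theorem mem_centralizer_of_normalizes {Q A : Subgroup G} (hAQ : A ≤ normalizer (Q : Set G))
    (hdisj : A ⊓ Q = ⊥) {y : G} (hy : y ∈ Q) (hyA : ∀ a ∈ A, y * a * y⁻¹ ∈ A) :
    y ∈ centralizer (A : Set G) := by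
  rw [mem_centralizer_iff]
  intro a ha
  have h1 : y * a * y⁻¹ * a⁻¹ ∈ A := A.mul_mem (hyA a ha) (A.inv_mem ha)
  have h2 : y * a * y⁻¹ * a⁻¹ ∈ Q := by
    have h3 : a * y⁻¹ * a⁻¹ ∈ Q := (mem_normalizer_iff.mp (hAQ ha) _).mp (Q.inv_mem hy)
    have : y * a * y⁻¹ * a⁻¹ = y * (a * y⁻¹ * a⁻¹) := by group
    rw [this]; exact Q.mul_mem hy h3
  have h4 : y * a * y⁻¹ * a⁻¹ ∈ A ⊓ Q := mem_inf.mpr ⟨h1, h2⟩
  rw [hdisj, mem_bot] at h4
  have : a * y = (y * a * y⁻¹ * a⁻¹)⁻¹ * (y * a) := by group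
  rw [this, h4]; simp

/-- an element of `Q A` normalizing the abelian `A` centralizes it -/
theorem mem_centralizer_of_mem_sup {p : ℕ} {Q A : Subgroup G} (hA : EA p A)
    (hAQ : A ≤ normalizer (Q : Set G)) (hdisj : A ⊓ Q = ⊥) {t : G} (ht : t ∈ Q ⊔ A)
    (htA : ∀ a ∈ A, t * a * t⁻¹ ∈ A) : t ∈ centralizer (A : Set G) := by
  obtain ⟨q, hq, a', ha', rfl⟩ := (Cfsg.Agent.Lib.Helper11.mem_sup_iff_exists_mul Q A hAQ t).mp ht
  have hqA : ∀ a ∈ A, q * a * q⁻¹ ∈ A := by
    intro a ha
    have := htA (a'⁻¹ * a * a') (A.mul_mem (A.mul_mem (A.inv_mem ha') ha) ha')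
    have e : q * a' * (a'⁻¹ * a * a') * (q * a')⁻¹ = q * a * q⁻¹ := by group
    rwa [e] at this
  have h1 := mem_centralizer_of_normalizes hAQ hdisj hq hqA
  have h2 : a' ∈ centralizer (A : Set G) := hA.le_centralizer le_rfl le_rfl ha'
  exact Subgroup.mul_mem _ h1 h2

variable [Finite G] {p : ℕ} [Fact p.Prime]

/-- a `p`-group acting on a group of order `p` which is a commutator `[V, A]` centralizes it -/
theorem le_centralizer_commutator_of_card {V A : Subgroup G} (hAp : IsPGroup p A)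
    (hVp : IsPGroup p V) (hAV : A ≤ normalizer (V : Set G))
    (hcard : Nat.card ↥(⁅V, A⁆) = p) : A ≤ centralizer ((⁅V, A⁆ : Subgroup G) : Set G) := by
  have hp : p.Prime := Fact.out
  set R : Subgroup G := ⁅V, A⁆ with hR
  have hRV : R ≤ V := Cfsg.Agent.Lib.Helper1.commutator_le_of_le_normalizer hAV
  have hAR : A ≤ normalizer (R : Set G) := Cfsg.Agent.Lib.Helper1.le_normalizer_commutator_right
  have hle : ⁅R, A⁆ ≤ R := Cfsg.Agent.Lib.Helper1.commutator_le_of_le_normalizer hAR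
  have hne : ⁅R, A⁆ ≠ R := by
    intro h
    have := Cfsg.Agent.Lib.Helper1.eq_bot_of_commutator_eq_of_isPGroup hAp (hVp.to_le hRV) hAR h
    rw [this, Subgroup.card_bot] at hcard
    exact hp.one_lt.ne hcard
  have hdvd : Nat.card ↥(⁅R, A⁆) ∣ p := hcard ▸ Subgroup.card_dvd_of_le hle
  rcases (Nat.dvd_prime hp).mp hdvd with h1 | h1
  · have hbot : ⁅R, A⁆ = ⊥ := Subgroup.card_eq_one.mp h1
    rw [Subgroup.commutator_eq_bot_iff_le_centralizer] at hbot
    exact Subgroup.le_centralizer_iff.mp hbot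
  · exact absurd (Subgroup.eq_of_le_of_card_ge hle (by rw [h1, hcard])) hne

/-- in a group of order `m p` with `m` prime to `p`, a subgroup of order `p` normalized by another
subgroup of order `p` equals it -/
theorem eq_of_card_of_le_normalizer {L B K : Subgroup G} {m : ℕ} (hL : Nat.card L = m * p)
    (hm : m.Coprime p) (hBL : B ≤ L) (hKL : K ≤ L) (hB : Nat.card B = p) (hK : Nat.card K = p)
    (hn : B ≤ normalizer (K : Set G)) : K = B := by
  have hp : p.Prime := Fact.out
  have h1 := Cfsg.H5.card_sup_mul_card_inf hn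
  rw [hB, hK] at h1
  have hBp : IsPGroup p B := IsPGroup.of_card (n := 1) (by rw [hB, pow_one])
  have hKp : IsPGroup p K := IsPGroup.of_card (n := 1) (by rw [hK, pow_one])
  have hsp : IsPGroup p ↥(B ⊔ K) := IsPGroup.to_sup_of_normal_right' hBp hKp hn
  obtain ⟨j, hj⟩ := IsPGroup.iff_card.mp hsp
  have hdvd : Nat.card ↥(B ⊔ K) ∣ m * p := hL ▸ Subgroup.card_dvd_of_le (sup_le hBL hKL)
  rw [hj] at hdvd
  have hdvd' : p ^ j ∣ p := Nat.Coprime.dvd_of_dvd_mul_left (Nat.Coprime.pow_left j hm.symm) hdvd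
  have hle : Nat.card ↥(B ⊔ K) ≤ p := hj ▸ Nat.le_of_dvd hp.pos hdvd'
  have hBeq : B = B ⊔ K := Subgroup.eq_of_le_of_card_ge le_sup_left (by rw [hB]; exact hle)
  have hKB : K ≤ B := by rw [hBeq]; exact le_sup_right
  exact Subgroup.eq_of_le_of_card_ge hKB (by rw [hB, hK])

end Pair


section Main

variable {G : Type*} [Group G] [Finite G] {p : ℕ} [Fact p.Prime]

/-- data for a minimal best offender: order `p`, `|V| = p |C_V(A)|` -/
structure MinOff (p : ℕ) (V Q A : Subgroup G) : Prop where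
  hoff : Off p V Q A
  hcard : Nat.card A = p
  hmm : mm V A = Nat.card V

theorem MinOff.ne_bot {V Q A : Subgroup G} (h : MinOff p V Q A) : A ≠ ⊥ := by
  intro h0
  have := h.hcard
  rw [h0, Subgroup.card_bot] at this
  exact (Fact.out : p.Prime).one_lt.ne this

theorem MinOff.inf_eq_bot {V Q A : Subgroup G} (hS : Setup p V Q) (h : MinOff p V Q A) :
    A ⊓ Q = ⊥ := by
  have hcop : (Nat.card A).Coprime (Nat.card Q) := by
    rw [h.hcard]; exact hS.qcop.symm
  exact disjoint_iff.mp (Subgroup.disjoint_of_coprime_natCard hcop)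

theorem MinOff.card_commutator {V Q A : Subgroup G} [hVc : IsMulCommutative V]
    (h : MinOff p V Q A) : Nat.card ↥(⁅V, A⁆) = p := by
  have hp : p.Prime := Fact.out
  obtain ⟨a, ha1⟩ := Subgroup.ne_bot_iff_exists_ne_one.mp h.ne_bot
  have ha1' : (a : G) ≠ 1 := fun h' => ha1 (Subtype.ext h')
  have hZ : zpowers (a : G) = A := by
    apply Subgroup.eq_of_le_of_card_ge (zpowers_le.mpr a.2)
    rw [card_zpowers_of_exp (h.hoff.ea.exp a a.2) ha1', h.hcard]
  have h1 := card_commutator_zpowers (V := V) (h.hoff.av a.2)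
  rw [hZ] at h1
  have h2 : Nat.card A * Nat.card (fix V A) = Nat.card V := h.hmm
  rw [h.hcard] at h2
  have hpos : 0 < Nat.card (fix V A) := Nat.card_pos
  exact Nat.eq_of_mul_eq_mul_right hpos (h1.trans h2.symm)

/-- conjugates of a minimal best offender by elements of `Q` -/
theorem MinOff.conj {V Q A : Subgroup G} (hS : Setup p V Q) (h : MinOff p V Q A) {x : G}
    (hx : x ∈ Q) : MinOff p V Q (A.map (MulAut.conj x).toMonoidHom) := by
  have hxV : x ∈ normalizer (V : Set G) := hS.qv hx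
  have hxQ : x ∈ normalizer (Q : Set G) := Subgroup.le_normalizer hx
  set c := (MulAut.conj x).toMonoidHom with hc
  have hcinj : Function.Injective c := (MulAut.conj x).injective
  have hVc : V.map c = V := Cfsg.H5.map_conj_eq_of_mem_normalizer hxV
  have hQc : Q.map c = Q := Cfsg.H5.map_conj_eq_of_mem_normalizer hxQ
  have hfix : ∀ X : Subgroup G, fix V (X.map c) = (fix V X).map c := by
    intro X
    unfold Cfsg.H5.fix
    ext g
    constructor
    · intro hg
      rw [mem_inf] at hg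
      refine ⟨x⁻¹ * g * x, mem_inf.mpr ⟨?_, ?_⟩, ?_⟩
      · have := (mem_normalizer_iff.mp (inv_mem hxV) g).mp hg.1
        simpa using this
      · rw [mem_centralizer_iff]
        intro y hy
        have h1 := mem_centralizer_iff.mp hg.2 (x * y * x⁻¹) ⟨y, hy, rfl⟩
        calc y * (x⁻¹ * g * x) = x⁻¹ * ((x * y * x⁻¹) * g) * x := by group
          _ = x⁻¹ * (g * (x * y * x⁻¹)) * x := by rw [h1]
          _ = x⁻¹ * g * x * y := by group
      · show x * (x⁻¹ * g * x) * x⁻¹ = g
        group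
    · rintro ⟨g', hg'', rfl⟩
      have hg' := mem_inf.mp hg''
      refine mem_inf.mpr ⟨(mem_normalizer_iff.mp hxV g').mp hg'.1, ?_⟩
      rw [mem_centralizer_iff]
      rintro _ ⟨y, hy, rfl⟩
      have h1 := mem_centralizer_iff.mp hg'.2 y hy
      show x * y * x⁻¹ * (x * g' * x⁻¹) = x * g' * x⁻¹ * (x * y * x⁻¹)
      calc x * y * x⁻¹ * (x * g' * x⁻¹) = x * (y * g') * x⁻¹ := by group
        _ = x * (g' * y) * x⁻¹ := by rw [h1]
        _ = x * g' * x⁻¹ * (x * y * x⁻¹) := by group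
  have hmm : ∀ X : Subgroup G, mm V (X.map c) = mm V X := by
    intro X
    unfold Cfsg.H5.mm
    rw [hfix, Subgroup.card_map_of_injective hcinj, Subgroup.card_map_of_injective hcinj]
  refine ⟨⟨?_, ?_, ?_, ?_, ?_⟩, ?_, ?_⟩
  · constructor
    · rintro _ ⟨y, hy, rfl⟩ _ ⟨z, hz, rfl⟩
      show x * y * x⁻¹ * (x * z * x⁻¹) = x * z * x⁻¹ * (x * y * x⁻¹)
      have := h.hoff.ea.comm y hy z hz
      calc x * y * x⁻¹ * (x * z * x⁻¹) = x * (y * z) * x⁻¹ := by group
        _ = x * (z * y) * x⁻¹ := by rw [this]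
        _ = x * z * x⁻¹ * (x * y * x⁻¹) := by group
    · rintro _ ⟨y, hy, rfl⟩
      show (x * y * x⁻¹) ^ p = 1
      rw [conj_pow, h.hoff.ea.exp y hy]; group
  · rintro _ ⟨y, hy, rfl⟩
    exact Subgroup.mul_mem _ (Subgroup.mul_mem _ hxV (h.hoff.av hy)) (Subgroup.inv_mem _ hxV)
  · rintro _ ⟨y, hy, rfl⟩
    exact Subgroup.mul_mem _ (Subgroup.mul_mem _ hxQ (h.hoff.aq hy)) (Subgroup.inv_mem _ hxQ)
  · -- faithful on `Q`
    rw [eq_bot_iff]
    rintro _ ⟨⟨y, hy, rfl⟩, hcent⟩
    have hyc : y ∈ centralizer (Q : Set G) := by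
      rw [mem_centralizer_iff]
      intro q hq
      have hq' : x * q * x⁻¹ ∈ Q := (mem_normalizer_iff.mp hxQ q).mp hq
      have h1 := mem_centralizer_iff.mp hcent _ hq'
      have h1' : x * q * x⁻¹ * (x * y * x⁻¹) = x * y * x⁻¹ * (x * q * x⁻¹) := h1
      have : x * (q * y) * x⁻¹ = x * (y * q) * x⁻¹ := by
        calc x * (q * y) * x⁻¹ = x * q * x⁻¹ * (x * y * x⁻¹) := by group
          _ = x * y * x⁻¹ * (x * q * x⁻¹) := h1'
          _ = x * (y * q) * x⁻¹ := by group
      exact mul_left_cancel (mul_right_cancel this)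
    have : y ∈ A ⊓ centralizer (Q : Set G) := mem_inf.mpr ⟨hy, hyc⟩
    rw [h.hoff.af, mem_bot] at this
    rw [mem_bot, this]
    show x * 1 * x⁻¹ = 1
    group
  · intro X hX
    rw [hmm]
    have hX' : X.map (MulAut.conj x⁻¹).toMonoidHom ≤ A := by
      rintro _ ⟨y, hy, rfl⟩
      obtain ⟨z, hz, hzy⟩ := hX hy
      have : (MulAut.conj x⁻¹).toMonoidHom y = z := by
        rw [← hzy]
        show x⁻¹ * (x * z * x⁻¹) * x⁻¹⁻¹ = z
        group
      rw [this]; exact hz
    have h2 := h.hoff.max _ hX'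
    have h3 : (X.map (MulAut.conj x⁻¹).toMonoidHom).map c = X := by
      rw [Subgroup.map_map]
      have : c.comp (MulAut.conj x⁻¹).toMonoidHom = MonoidHom.id G := by
        ext g
        show x * (x⁻¹ * g * x⁻¹⁻¹) * x⁻¹ = g
        group
      rw [this, Subgroup.map_id]
    rw [← h3, hmm]
    exact h2
  · rw [Subgroup.card_map_of_injective hcinj]; exact h.hcard
  · rw [hmm]; exact h.hmm


/-- **KS 9.3.4**: a minimal best offender `A` and a conjugate `A^x`, `x ∈ Q` not centralizing `A`,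
generate `SL(2, p)` acting faithfully on `[V, ⟨A, A^x⟩]` of order `p²`, and `p ≤ 3`. -/
theorem pair_main {V Q A H : Subgroup G} [hVc : IsMulCommutative V] (hS : Setup p V Q)
    (hVexp : ∀ v ∈ V, v ^ p = 1) (hM : MinOff p V Q A)
    (hQH : Q ≤ H) (hAH : A ≤ H) (hHV : H ≤ normalizer (V : Set G))
    (hf : H ⊓ centralizer (V : Set G) = ⊥) {x : G} (hxQ : x ∈ Q)
    (hxA : x ∉ centralizer (A : Set G)) :
    (p = 2 ∨ p = 3) ∧
    Nat.card ↥(⁅V, A ⊔ A.map (MulAut.conj x).toMonoidHom⁆) = p ^ 2 ∧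
    (A ⊔ A.map (MulAut.conj x).toMonoidHom) ⊓
      centralizer ((⁅V, A ⊔ A.map (MulAut.conj x).toMonoidHom⁆ : Subgroup G) : Set G) = ⊥ ∧
    Nonempty (↥(A ⊔ A.map (MulAut.conj x).toMonoidHom) ≃* SpecialLinearGroup (Fin 2) (ZMod p)) := by
  have hp : p.Prime := Fact.out
  have hO := hM.hoff
  have hAQ : A ≤ normalizer (Q : Set G) := hO.aq
  have hdisj : A ⊓ Q = ⊥ := hM.inf_eq_bot hS
  set Ax : Subgroup G := A.map (MulAut.conj x).toMonoidHom with hAx
  have hMx : MinOff p V Q Ax := hM.conj hS hxQ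
  -- (1) `Ax ≠ A`
  have hAxne : Ax ≠ A := by
    intro h
    apply hxA
    apply mem_centralizer_of_normalizes hAQ hdisj hxQ
    intro a ha
    rw [← h]
    exact ⟨a, ha, rfl⟩
  -- (2)
  set E : Subgroup G := A ⊔ Ax with hE
  have hAxL : Ax ≤ Q ⊔ A := by
    rintro _ ⟨a, ha, rfl⟩
    exact Subgroup.mul_mem _ (Subgroup.mul_mem _ (mem_sup_left hxQ) (mem_sup_right ha))
      (Subgroup.inv_mem _ (mem_sup_left hxQ))
  have hEL : E ≤ Q ⊔ A := sup_le le_sup_right hAxL
  have hAxH : Ax ≤ H := hAxL.trans (sup_le hQH hAH)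
  have hEH : E ≤ H := sup_le hAH hAxH
  have hEV : E ≤ normalizer (V : Set G) := hEH.trans hHV
  have hLcard : Nat.card ↥(Q ⊔ A) = Nat.card Q * p := by
    rw [Cfsg.Agent.Lib.Helper11.card_sup_eq Q A hAQ (by rw [inf_comm]; exact hdisj), hM.hcard]
  -- (3)
  set RA : Subgroup G := ⁅V, A⁆ with hRA
  set RAx : Subgroup G := ⁅V, Ax⁆ with hRAx
  set W : Subgroup G := ⁅V, E⁆ with hW
  have hWsup : W = RA ⊔ RAx := commutator_sup_eq hO.av hMx.hoff.av
  have hWV : W ≤ V := Cfsg.Agent.Lib.Helper1.commutator_le_of_le_normalizer hEV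
  -- (4)
  have hRAcard : Nat.card RA = p := hM.card_commutator
  have hRAxcard : Nat.card RAx = p := hMx.card_commutator
  -- (5)
  have hVp : IsPGroup p V := hS.vp
  have hAcent : A ≤ centralizer (RA : Set G) :=
    le_centralizer_commutator_of_card hO.ea.isPGroup hVp hO.av hRAcard
  have hAxcent : Ax ≤ centralizer (RAx : Set G) :=
    le_centralizer_commutator_of_card hMx.hoff.ea.isPGroup hVp hMx.hoff.av hRAxcard
  -- (6)
  have hEW : E ≤ normalizer (W : Set G) := Cfsg.Agent.Lib.Helper1.le_normalizer_commutator_right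
  set K : Subgroup G := E ⊓ centralizer (W : Set G) with hK
  have hKbot : K = ⊥ := by
    by_contra hKne
    have hKE : K ≤ E := inf_le_left
    have hKexp : ∀ k ∈ K, k ^ p = 1 := by
      intro k hk
      have hq : ⁅⁅V, K⁆, K⁆ = ⊥ := by
        rw [eq_bot_iff]
        have h1 : ⁅V, K⁆ ≤ W := Subgroup.commutator_mono le_rfl hKE
        have h2 : ⁅W, K⁆ = ⊥ := by
          rw [Subgroup.commutator_eq_bot_iff_le_centralizer, Subgroup.le_centralizer_iff]
          exact inf_le_right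
        rw [← h2]
        exact Subgroup.commutator_mono h1 le_rfl
      have h3 := Cfsg.H5.pow_mem_centralizer_of_quadratic hVexp (hKE.trans hEV) hq hk
      have h4 : k ^ p ∈ H ⊓ centralizer (V : Set G) :=
        mem_inf.mpr ⟨H.pow_mem (hEH (hKE hk)) p, h3⟩
      rw [hf, mem_bot] at h4
      exact h4
    have hKp : IsPGroup p K := by
      intro g
      refine ⟨1, ?_⟩
      rw [pow_one]
      exact Subtype.ext (by simpa using hKexp g g.2)
    obtain ⟨j, hj⟩ := IsPGroup.iff_card.mp hKp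
    have hdvd : Nat.card K ∣ Nat.card Q * p := hLcard ▸ Subgroup.card_dvd_of_le (hKE.trans hEL)
    rw [hj] at hdvd
    have hdvd' : p ^ j ∣ p :=
      Nat.Coprime.dvd_of_dvd_mul_left (Nat.Coprime.pow_left j hS.qcop.symm) hdvd
    have hKcard : Nat.card K = p := by
      rcases (Nat.dvd_prime hp).mp hdvd' with h1 | h1
      · exfalso
        apply hKne
        rw [← Subgroup.card_eq_one, hj, h1]
      · rw [hj, h1]
    have hEK : E ≤ normalizer (K : Set G) := by
      intro e he
      apply Subgroup.inf_normalizer_le_normalizer_inf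
      refine mem_inf.mpr ⟨Subgroup.le_normalizer he, ?_⟩
      rw [mem_normalizer_iff]
      intro z
      constructor
      · intro hz
        exact conj_mem_centralizer_of_mem_normalizer (hEW he) hz
      · intro hz
        have := conj_mem_centralizer_of_mem_normalizer (hEW (E.inv_mem he)) hz
        have e1 : e⁻¹ * (e * z * e⁻¹) * e⁻¹⁻¹ = z := by group
        rwa [e1] at this
    have h1 : K = A := eq_of_card_of_le_normalizer hLcard hS.qcop le_sup_right (hKE.trans hEL)
      hM.hcard hKcard (le_sup_left.trans hEK)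
    have h2 : K = Ax := eq_of_card_of_le_normalizer hLcard hS.qcop hAxL (hKE.trans hEL)
      hMx.hcard hKcard (le_sup_right.trans hEK)
    exact hAxne (h2.symm.trans h1)
  -- (7)
  have hRne : RA ≠ RAx := by
    intro h
    have hWRA : W = RA := by rw [hWsup, ← h, sup_idem]
    have hAK : A ≤ K := le_inf le_sup_left (by rw [hWRA]; exact hAcent)
    rw [hKbot] at hAK
    exact hM.ne_bot (le_bot_iff.mp hAK)
  have hRinf : RA ⊓ RAx = ⊥ := by
    have hdvd : Nat.card ↥(RA ⊓ RAx) ∣ p := hRAcard ▸ Subgroup.card_dvd_of_le inf_le_left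
    rcases (Nat.dvd_prime hp).mp hdvd with h1 | h1
    · exact Subgroup.card_eq_one.mp h1
    · exfalso
      have e1 : RA ⊓ RAx = RA := Subgroup.eq_of_le_of_card_ge inf_le_left (by rw [h1, hRAcard])
      have e2 : RA ⊓ RAx = RAx := Subgroup.eq_of_le_of_card_ge inf_le_right (by rw [h1, hRAxcard])
      exact hRne (e1.symm.trans e2)
  have hcomm : ∀ x ∈ V, ∀ y ∈ V, x * y = y * x := fun x hx y hy =>
    congrArg Subtype.val (hVc.is_comm.comm ⟨x, hx⟩ ⟨y, hy⟩)
  have hRAV : RA ≤ V := Cfsg.Agent.Lib.Helper1.commutator_le_of_le_normalizer hO.av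
  have hRAxV : RAx ≤ V := Cfsg.Agent.Lib.Helper1.commutator_le_of_le_normalizer hMx.hoff.av
  have hWcard : Nat.card W = p ^ 2 := by
    have hn : RA ≤ normalizer (RAx : Set G) := by
      intro r hr
      apply Subgroup.centralizer_le_normalizer
      rw [mem_centralizer_iff]
      intro s hs
      exact hcomm s (hRAxV hs) r (hRAV hr)
    have := Cfsg.H5.card_sup_mul_card_inf hn
    rw [hRinf, Subgroup.card_bot, mul_one, hRAcard, hRAxcard] at this
    rw [hWsup, this, pow_two]
  -- generators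
  obtain ⟨a', ha'1⟩ := Subgroup.ne_bot_iff_exists_ne_one.mp hM.ne_bot
  obtain ⟨a, haA⟩ := a'
  have ha1 : a ≠ 1 := fun h' => ha'1 (Subtype.ext h')
  have hap : a ^ p = 1 := hO.ea.exp a haA
  have hZA : zpowers a = A := by
    apply Subgroup.eq_of_le_of_card_ge (zpowers_le.mpr haA)
    rw [card_zpowers_of_exp hap ha1, hM.hcard]
  set b : G := x * a * x⁻¹ with hb
  have hbAx : b ∈ Ax := ⟨a, haA, rfl⟩
  have hZAx : zpowers b = Ax := by
    rw [hAx, ← hZA, MonoidHom.map_zpowers]
    rfl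
  have haE : a ∈ E := le_sup_left (a := A) haA
  have hbE : b ∈ E := le_sup_right (a := A) hbAx
  -- (8) the action on `W`
  have hWcomm : ∀ u v : W, u * v = v * u := fun u v =>
    Subtype.ext (hcomm u (hWV u.2) v (hWV v.2))
  have hWexp : ∀ u : W, u ^ p = 1 := fun u => Subtype.ext (by simpa using hVexp u (hWV u.2))
  set θ : ↥E →* MulAut ↥W := W.normalizerMonoidHom.comp (Subgroup.inclusion hEW) with hθ
  have hθapp : ∀ (e : ↥E) (w : ↥W), ((θ e w : ↥W) : G) = (e : G) * w * (e : G)⁻¹ := by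
    intro e w
    rfl
  have hθinj : Function.Injective θ := by
    rw [injective_iff_map_eq_one]
    intro e he
    have hec : (e : G) ∈ K := by
      refine mem_inf.mpr ⟨e.2, ?_⟩
      rw [mem_centralizer_iff]
      intro w hw
      have h1 := hθapp e ⟨w, hw⟩
      rw [he] at h1
      have h2 : w = (e : G) * w * (e : G)⁻¹ := h1
      calc w * (e : G) = ((e : G) * w * (e : G)⁻¹) * e := by rw [← h2]
        _ = e * w := by group
    rw [hKbot, mem_bot] at hec
    exact Subtype.ext hec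
  set α : MulAut ↥W := θ ⟨a, haE⟩ with hα
  set β : MulAut ↥W := θ ⟨b, hbE⟩ with hβ
  have hb1 : b ≠ 1 := by
    intro h
    apply ha1
    have : a = x⁻¹ * b * x := by rw [hb]; group
    rw [this, h]; group
  have hbp : b ^ p = 1 := hMx.hoff.ea.exp b hbAx
  have hα1 : α ≠ 1 := by
    intro h
    have := hθinj (h.trans (map_one θ).symm)
    exact ha1 (congrArg Subtype.val this)
  have hβ1 : β ≠ 1 := by
    intro h
    have := hθinj (h.trans (map_one θ).symm)
    exact hb1 (congrArg Subtype.val this)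
  have hαp : α ^ p = 1 := by
    rw [hα, ← map_pow]
    have : (⟨a, haE⟩ : ↥E) ^ p = 1 := Subtype.ext (by simpa using hap)
    rw [this, map_one]
  have hβp : β ^ p = 1 := by
    rw [hβ, ← map_pow]
    have : (⟨b, hbE⟩ : ↥E) ^ p = 1 := Subtype.ext (by simpa using hbp)
    rw [this, map_one]
  have hfixne : fixSub α ≠ fixSub β := by
    intro hfix
    -- `RA` is centralized by `b`, `RAx` by `a`
    have h1 : RA ≤ centralizer (Ax : Set G) := by
      intro r hr
      have hrW : r ∈ W := by rw [hWsup]; exact mem_sup_left hr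
      have hra : (⟨r, hrW⟩ : ↥W) ∈ fixSub α := by
        rw [mem_fixSub]
        apply Subtype.ext
        rw [hθapp]
        show a * r * a⁻¹ = r
        have := mem_centralizer_iff.mp (hAcent haA) r hr
        rw [← this]; group
      rw [hfix, mem_fixSub] at hra
      have h2 := congrArg Subtype.val hra
      rw [hθapp] at h2
      have h3 : b * r * b⁻¹ = r := h2
      rw [← hZAx, centralizer_zpowers, mem_centralizer_iff]
      intro y hy
      rw [Set.mem_singleton_iff] at hy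
      rw [hy]
      calc b * r = (b * r * b⁻¹) * b := by group
        _ = r * b := by rw [h3]
    have h1' : RAx ≤ centralizer (A : Set G) := by
      intro r hr
      have hrW : r ∈ W := by rw [hWsup]; exact mem_sup_right hr
      have hrb : (⟨r, hrW⟩ : ↥W) ∈ fixSub β := by
        rw [mem_fixSub]
        apply Subtype.ext
        rw [hθapp]
        show b * r * b⁻¹ = r
        have := mem_centralizer_iff.mp (hAxcent hbAx) r hr
        rw [← this]; group
      rw [← hfix, mem_fixSub] at hrb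
      have h2 := congrArg Subtype.val hrb
      rw [hθapp] at h2
      have h3 : a * r * a⁻¹ = r := h2
      rw [← hZA, centralizer_zpowers, mem_centralizer_iff]
      intro y hy
      rw [Set.mem_singleton_iff] at hy
      rw [hy]
      calc a * r = (a * r * a⁻¹) * a := by group
        _ = r * a := by rw [h3]
    have hEc : E ≤ centralizer (W : Set G) := by
      rw [hWsup, Cfsg.H5.centralizer_sup]
      refine le_inf (sup_le hAcent (Subgroup.le_centralizer_iff.mp h1))
        (sup_le (Subgroup.le_centralizer_iff.mp h1') hAxcent)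
    have hEKK : E ≤ K := le_inf le_rfl hEc
    rw [hKbot] at hEKK
    exact hM.ne_bot (le_bot_iff.mp (le_sup_left.trans hEKK))
  obtain ⟨ρ, lam, hρinj, hlam0, hρa, hρrange⟩ :=
    sl2_of_two hWcomm hWexp hWcard α β hα1 hβ1 hαp hβp hfixne
  have hrange : θ.range = ρ.range := by
    apply le_antisymm
    · rintro _ ⟨e, rfl⟩
      set S : Subgroup G := (ρ.range.comap θ).map E.subtype with hS'
      have hαmem : α ∈ ρ.range := by
        rw [hρrange]; exact Subgroup.subset_closure (Set.mem_insert _ _)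
      have hβmem : β ∈ ρ.range := by
        rw [hρrange]
        exact Subgroup.subset_closure (Set.mem_insert_of_mem _ (Set.mem_singleton _))
      have haS : a ∈ S := ⟨⟨a, haE⟩, hαmem, rfl⟩
      have hbS : b ∈ S := ⟨⟨b, hbE⟩, hβmem, rfl⟩
      have hES : E ≤ S := by
        rw [hE, ← hZA, ← hZAx]
        exact sup_le (zpowers_le.mpr haS) (zpowers_le.mpr hbS)
      obtain ⟨e₂, he₂, he₂e⟩ := hES e.2
      have : e₂ = e := Subtype.ext he₂e
      rw [← this]
      exact he₂
    · rw [hρrange, Subgroup.closure_le]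
      rintro y hy
      rcases hy with rfl | rfl
      · exact ⟨_, rfl⟩
      · exact ⟨_, rfl⟩
  have hiso : ↥E ≃* SpecialLinearGroup (Fin 2) (ZMod p) :=
    (MonoidHom.ofInjective hθinj).trans
      ((MulEquiv.subgroupCongr hrange).trans (MonoidHom.ofInjective hρinj).symm)
  refine ⟨?_, hWcard, hKbot, ⟨hiso⟩⟩
  -- `p ≤ 3`
  by_cases hp2 : p = 2
  · exact Or.inl hp2
  · right
    obtain ⟨t, ht⟩ := exists_conj_transvection hp2 lam
    have htr : ρ t ∈ θ.range := by rw [hrange]; exact ⟨t, rfl⟩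
    obtain ⟨t', ht'⟩ := htr
    have h1 : θ (t' * ⟨a, haE⟩ * t'⁻¹) = θ (⟨a, haE⟩ ^ 4) := by
      rw [map_mul, map_mul, map_inv, map_pow, ht', ← hα, ← hρa, ← map_inv, ← map_mul, ← map_mul,
        ← map_pow, ht]
    have h2 := hθinj h1
    have h3 : (t' : G) * a * (t' : G)⁻¹ = a ^ 4 := by
      have := congrArg Subtype.val h2
      simpa using this
    have htA : ∀ y ∈ A, (t' : G) * y * (t' : G)⁻¹ ∈ A := by
      intro y hy
      rw [← hZA] at hy ⊢
      obtain ⟨k, rfl⟩ := hy
      have : (t' : G) * a ^ k * (t' : G)⁻¹ = ((t' : G) * a * (t' : G)⁻¹) ^ k := by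
        rw [conj_zpow]
      rw [this, h3]
      exact Subgroup.zpow_mem _ (Subgroup.pow_mem _ (mem_zpowers a) 4) k
    have htc := mem_centralizer_of_mem_sup hO.ea hAQ hdisj (hEL t'.2) htA
    have h4 : (t' : G) * a * (t' : G)⁻¹ = a := by
      have := mem_centralizer_iff.mp htc a haA
      rw [← this]; group
    have h5 : a ^ 3 = 1 := by
      have h6 : a ^ 4 = a := h3.symm.trans h4
      have : a ^ 3 * a = 1 * a := by rw [← pow_succ, h6, one_mul]
      exact mul_right_cancel this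
    have h7 : orderOf a ∣ 3 := orderOf_dvd_of_pow_eq_one h5
    rw [orderOf_eq_prime hap ha1] at h7
    exact (Nat.prime_dvd_prime_iff_eq hp Nat.prime_three).mp h7

end Main

section Bridge2

variable {G : Type*} [Group G] [Finite G] {p : ℕ} [Fact p.Prime] {V H : Subgroup G}

/-- a minimal nontrivially acting best offender gives `MinOff` data -/
theorem minOff_of (hV : Cfsg.IsElementaryAbelian p V) (hHV : H ≤ normalizer (V : Set G))
    (hf : H ⊓ centralizer (V : Set G) = ⊥)
    (hS1 : centralizer (Cfsg.pPrimeCore p ↥H : Set ↥H) ≤ Cfsg.pPrimeCore p ↥H)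
    {A : Subgroup G} (hAH : A ≤ H) (hA : Cfsg.IsBestOffenderOn p V A) (hAV : ⁅V, A⁆ ≠ ⊥)
    (hmin : ∀ B : Subgroup G, B ≤ A → Cfsg.IsBestOffenderOn p V B → ⁅V, B⁆ ≠ ⊥ → B = A) :
    MinOff p V (Qof p H) A := by
  have hp : p.Prime := Fact.out
  have hS := setup_of (H := H) hV hHV hf
  have hO := off_of hHV hf hS1 hAH hA
  haveI hVc : IsMulCommutative V := hV.1
  have hA1 : A ≠ ⊥ := by
    rintro rfl
    apply hAV
    rw [Subgroup.commutator_eq_bot_iff_le_centralizer, Subgroup.le_centralizer_iff]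
    exact bot_le
  obtain ⟨B, hBA, hcard, hmm⟩ := exists_hyperplane_mm hS hO hA1
  have hBbo := isBestOffenderOn_of_mm hA hBA hmm
  have hB : B = ⊥ := by
    by_contra hB
    have h1 := commutator_ne_bot_of_ne_bot hf (hBA.trans hAH) hB
    have h2 := hmin B hBA hBbo h1
    have h3 := card_lt_of_hyperplane hcard
    rw [h2] at h3
    exact lt_irrefl _ h3
  rw [hB, Subgroup.card_bot, mul_one] at hcard
  rw [hB, mm_bot] at hmm
  exact ⟨hO, hcard, hmm.symm⟩

end Bridge2

end Cfsg.Agent.Lib.Helper20.BO
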