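import Mathlib
import Cfsg.Agent.Lib.Helper20.BestOffSL
import Cfsg.Agent.Lib.Helper16.SL23
import Cfsg.Agent.Lib.Helper3.CardSL

/-!
# The commutator `[Q, A]` for a minimal best offender `A` (KS 9.3.5)

* `pair_not_le`: distinct `Q`-conjugate minimal offenders do not centralize each other's commutator
* `exists_conj_mem_centralizer`: the covering argument
* `conj_le_pair`: every `Q`-conjugate of `A` lies in `⟨A, A^x⟩`
* `qa_main`: `[Q, A]` is a `3`-group (`p = 2`) or a nonabelian `2`-group (`p = 3`)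
-/

set_option autoImplicit false

namespace Cfsg.Agent.Lib.Helper20.BO

open Subgroup Matrix
open scoped commutatorElement
open Cfsg.H5 (fix mm)
open Cfsg.Agent.Lib.Helper16

section SL23

/-- a normal subgroup of order `8` in a group isomorphic to `SL(2, 3)` is not abelian -/
theorem exists_not_comm_of_SL23 {E : Type*} [Group E] (e : E ≃* SL23) (S : Subgroup E)
    [hSn : S.Normal] (h8 : Nat.card S = 8) : ∃ s ∈ S, ∃ t ∈ S, s * t ≠ t * s := by
  set N : Subgroup SL23 := S.map e.toMonoidHom with hN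
  have hNn : N.Normal := hSn.map e.toMonoidHom e.surjective
  have hNcard : Nat.card N = 8 := by
    rw [hN, Subgroup.card_map_of_injective e.injective, h8]
  have hNeq : N = commutator SL23 := by
    rcases SL23_normal_subgroups N hNn with h | h | h | h
    · rw [h, Subgroup.card_bot] at hNcard; omega
    · rw [h, Subgroup.card_top, natCard_SL23] at hNcard; omega
    · rw [h, natCard_center_SL23] at hNcard; omega
    · exact h
  rw [commutator_SL23] at hNeq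
  have hI : sl23I ∈ N := by rw [hNeq, mem_sl23Q]; decide
  have hJ : sl23J ∈ N := by rw [hNeq, mem_sl23Q]; decide
  obtain ⟨s, hs, hsI⟩ := hI
  obtain ⟨t, ht, htJ⟩ := hJ
  refine ⟨s, hs, t, ht, ?_⟩
  intro h
  have h2 : sl23I * sl23J = sl23J * sl23I := by
    rw [← hsI, ← htJ, ← map_mul, ← map_mul, h]
  revert h2
  decide

end SL23

section QA

variable {G : Type*} [Group G]

theorem map_conj_eq_of_mem_centralizer {A : Subgroup G} {y : G}
    (hy : y ∈ centralizer (A : Set G)) : A.map (MulAut.conj y).toMonoidHom = A := by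
  ext g
  constructor
  · rintro ⟨a, ha, rfl⟩
    have h1 := mem_centralizer_iff.mp hy a ha
    show y * a * y⁻¹ ∈ A
    rw [← h1]; simpa using ha
  · intro hg
    refine ⟨g, hg, ?_⟩
    have h1 := mem_centralizer_iff.mp hy g hg
    show y * g * y⁻¹ = g
    rw [← h1]; group

variable [Finite G] {p : ℕ} [Fact p.Prime]

/-- two distinct `Q`-conjugate minimal offenders do not centralize each other's commutator -/
theorem pair_not_le {V Q A H : Subgroup G} [hVc : IsMulCommutative V] (hS : Setup p V Q)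
    (hVexp : ∀ v ∈ V, v ^ p = 1) (hM : MinOff p V Q A)
    (hQH : Q ≤ H) (hAH : A ≤ H) (hHV : H ≤ normalizer (V : Set G))
    (hf : H ⊓ centralizer (V : Set G) = ⊥) {x : G} (hxQ : x ∈ Q)
    (hxA : x ∉ centralizer (A : Set G)) :
    ¬ ⁅V, A⁆ ≤ centralizer ((A.map (MulAut.conj x).toMonoidHom : Subgroup G) : Set G) ∧
    ¬ ⁅V, A.map (MulAut.conj x).toMonoidHom⁆ ≤ centralizer (A : Set G) := by
  obtain ⟨-, -, hbot, -⟩ := pair_main hS hVexp hM hQH hAH hHV hf hxQ hxA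
  have hMx : MinOff p V Q (A.map (MulAut.conj x).toMonoidHom) := hM.conj hS hxQ
  set Ax : Subgroup G := A.map (MulAut.conj x).toMonoidHom with hAx
  have hsup : ⁅V, A ⊔ Ax⁆ = ⁅V, A⁆ ⊔ ⁅V, Ax⁆ := commutator_sup_eq hM.hoff.av hMx.hoff.av
  have hq1 : A ≤ centralizer ((⁅V, A⁆ : Subgroup G) : Set G) :=
    le_centralizer_commutator_of_card hM.hoff.ea.isPGroup hS.vp hM.hoff.av hM.card_commutator
  have hq2 : Ax ≤ centralizer ((⁅V, Ax⁆ : Subgroup G) : Set G) :=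
    le_centralizer_commutator_of_card hMx.hoff.ea.isPGroup hS.vp hMx.hoff.av hMx.card_commutator
  constructor
  · intro h
    have h1 : Ax ≤ centralizer ((⁅V, A⁆ : Subgroup G) : Set G) := Subgroup.le_centralizer_iff.mp h
    have h2 : Ax ≤ (A ⊔ Ax) ⊓ centralizer ((⁅V, A ⊔ Ax⁆ : Subgroup G) : Set G) := by
      rw [hsup, Cfsg.H5.centralizer_sup]
      exact le_inf le_sup_right (le_inf h1 hq2)
    rw [hbot] at h2
    exact hMx.ne_bot (le_bot_iff.mp h2)
  · intro h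
    have h1 : A ≤ centralizer ((⁅V, Ax⁆ : Subgroup G) : Set G) := Subgroup.le_centralizer_iff.mp h
    have h2 : A ≤ (A ⊔ Ax) ⊓ centralizer ((⁅V, A ⊔ Ax⁆ : Subgroup G) : Set G) := by
      rw [hsup, Cfsg.H5.centralizer_sup]
      exact le_inf le_sup_left (le_inf hq1 h1)
    rw [hbot] at h2
    exact hM.ne_bot (le_bot_iff.mp h2)

/-- the covering argument: every `v ∈ V` not centralized by `A` is centralized by an
`A`-conjugate of `A'` -/
theorem exists_conj_mem_centralizer {V Q A A' : Subgroup G} [hVc : IsMulCommutative V]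
    (hS : Setup p V Q) (hM : MinOff p V Q A) (hM' : MinOff p V Q A')
    (hn : ¬ ⁅V, A⁆ ≤ centralizer (A' : Set G)) {v : G} (hv : v ∈ V)
    (hvA : v ∉ centralizer (A : Set G)) :
    ∃ g ∈ A, g⁻¹ * v * g ∈ centralizer (A' : Set G) := by
  have hp : p.Prime := Fact.out
  have hcommV : ∀ a ∈ V, ∀ b ∈ V, a * b = b * a := fun a ha b hb =>
    congrArg Subtype.val (hVc.is_comm.comm ⟨a, ha⟩ ⟨b, hb⟩)
  have hRcard0 : Nat.card ↥(⁅V, A⁆) = p := hM.card_commutator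
  have hAR0 : A ≤ centralizer ((⁅V, A⁆ : Subgroup G) : Set G) :=
    le_centralizer_commutator_of_card hM.hoff.ea.isPGroup hS.vp hM.hoff.av hM.card_commutator
  have hRV0 : ⁅V, A⁆ ≤ V := Cfsg.Agent.Lib.Helper1.commutator_le_of_le_normalizer hM.hoff.av
  have hF'card0 : p * Nat.card (fix V A') = Nat.card V := by
    have h1 : Nat.card A' * Nat.card (fix V A') = Nat.card V := hM'.hmm
    rw [hM'.hcard] at h1
    exact h1
  have hF'c0 : fix V A' ≤ centralizer (A' : Set G) := by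
    show V ⊓ centralizer (A' : Set G) ≤ _
    exact inf_le_right
  have hF'V0 : fix V A' ≤ V := Cfsg.H5.fix_le V A'
  generalize hR : (⁅V, A⁆ : Subgroup G) = R at hRcard0 hAR0 hRV0 hn
  generalize hF' : fix V A' = F' at hF'card0 hF'c0 hF'V0
  have hRF' : R ⊓ F' = ⊥ := by
    have hdvd : Nat.card ↥(R ⊓ F') ∣ p := by
      rw [← hRcard0]; exact Subgroup.card_dvd_of_le inf_le_left
    rcases (Nat.dvd_prime hp).mp hdvd with h1 | h1
    · exact Subgroup.card_eq_one.mp h1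
    · exfalso
      apply hn
      have h2 : R ⊓ F' = R := Subgroup.eq_of_le_of_card_ge inf_le_left (by rw [h1, hRcard0])
      have h3 : R ≤ F' := by rw [← h2]; exact inf_le_right
      exact h3.trans hF'c0
  have hVcF' : V ≤ centralizer (F' : Set G) := by
    intro a ha
    rw [mem_centralizer_iff]
    intro b hb
    exact hcommV b (hF'V0 hb) a ha
  have hRnF' : R ≤ normalizer (F' : Set G) :=
    hRV0.trans (hVcF'.trans (centralizer_le_normalizer _))
  have hsupV : F' ⊔ R = V := by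
    apply Subgroup.eq_of_le_of_card_ge (sup_le hF'V0 hRV0)
    have h1 := Cfsg.Agent.Lib.Helper11.card_sup_eq F' R hRnF' (by rw [inf_comm]; exact hRF')
    have h2 : Nat.card ↥(F' ⊔ R) = Nat.card V := by
      rw [h1, hRcard0, ← hF'card0, mul_comm]
    exact h2.ge
  have hvsup : v ∈ F' ⊔ R := by rw [hsupV]; exact hv
  obtain ⟨c, hc, r, hr, hvcr⟩ :=
    (Cfsg.Agent.Lib.Helper11.mem_sup_iff_exists_mul F' R hRnF' v).mp hvsup
  have hex : ∃ a ∈ A, a * v ≠ v * a := by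
    by_contra hcon
    push Not at hcon
    exact hvA (mem_centralizer_iff.mpr hcon)
  obtain ⟨a, haA, hav⟩ := hex
  have hwR0 : v⁻¹ * a⁻¹ * v * a ∈ R := by
    have h1 : v⁻¹ * a⁻¹ * v * a = ⁅v⁻¹, a⁻¹⁆ := by rw [commutatorElement_def]; group
    rw [h1, ← hR]
    exact Subgroup.commutator_mem_commutator (V.inv_mem hv) (A.inv_mem haA)
  have hw10 : v⁻¹ * a⁻¹ * v * a ≠ 1 := by
    intro h
    apply hav
    have h2 : a * v * (v⁻¹ * a⁻¹ * v * a) = v * a := by group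
    rw [h, mul_one] at h2
    exact h2
  have h30 : a⁻¹ * v * a = v * (v⁻¹ * a⁻¹ * v * a) := by group
  generalize hw : v⁻¹ * a⁻¹ * v * a = w at hwR0 hw10 h30
  have hwp : w ^ p = 1 := by
    have h1 : orderOf w ∣ Nat.card R := Subgroup.orderOf_dvd_natCard R hwR0
    rw [hRcard0] at h1
    exact orderOf_dvd_iff_pow_eq_one.mp h1
  have hZ : zpowers w = R := by
    apply Subgroup.eq_of_le_of_card_ge (zpowers_le.mpr hwR0)
    rw [card_zpowers_of_exp hwp hw10, hRcard0]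
  have hrinv : r⁻¹ ∈ Submonoid.powers w := by
    rw [mem_powers_iff_mem_zpowers, hZ]; exact R.inv_mem hr
  obtain ⟨n, hn'⟩ := (Submonoid.mem_powers_iff _ _).mp hrinv
  have haw : ∀ m : ℕ, a * w ^ m = w ^ m * a := by
    intro m
    have h1 : w ^ m ∈ R := R.pow_mem hwR0 m
    exact (mem_centralizer_iff.mp (hAR0 haA) _ h1).symm
  have hconj : ∀ m : ℕ, (a ^ m)⁻¹ * v * a ^ m = v * w ^ m := by
    intro m
    induction m with
    | zero => simp
    | succ m ih =>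
      have h1 : (a ^ (m + 1))⁻¹ * v * a ^ (m + 1) = a⁻¹ * ((a ^ m)⁻¹ * v * a ^ m) * a := by
        rw [pow_succ]; group
      rw [h1, ih]
      have h2 : a⁻¹ * (v * w ^ m) * a = (a⁻¹ * v * a) * (a⁻¹ * (w ^ m * a)) := by group
      rw [h2, ← haw m, h30, pow_succ]; group
  refine ⟨a ^ n, A.pow_mem haA n, ?_⟩
  rw [hconj n, hn']
  have h4 : v * r⁻¹ = c := by rw [hvcr]; group
  rw [h4]
  exact hF'c0 hc

/-- if `D^z` has its commutator centralized by `D`, then `D^z = D` -/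
theorem conj_eq_of_commutator_le {V Q D H : Subgroup G} [hVc : IsMulCommutative V]
    (hS : Setup p V Q) (hVexp : ∀ v ∈ V, v ^ p = 1) (hM : MinOff p V Q D)
    (hQH : Q ≤ H) (hDH : D ≤ H) (hHV : H ≤ normalizer (V : Set G))
    (hf : H ⊓ centralizer (V : Set G) = ⊥) {z : G} (hzQ : z ∈ Q)
    (hle : ⁅V, D.map (MulAut.conj z).toMonoidHom⁆ ≤ centralizer (D : Set G)) :
    D.map (MulAut.conj z).toMonoidHom = D := by
  by_cases hz : z ∈ centralizer (D : Set G)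
  · exact map_conj_eq_of_mem_centralizer hz
  · exact absurd hle (pair_not_le hS hVexp hM hQH hDH hHV hf hzQ hz).2

/-- every `Q`-conjugate of `A` lies in `⟨A, A^x⟩` -/
theorem conj_le_pair {V Q A H : Subgroup G} [hVc : IsMulCommutative V] (hS : Setup p V Q)
    (hVexp : ∀ v ∈ V, v ^ p = 1) (hM : MinOff p V Q A)
    (hQH : Q ≤ H) (hAH : A ≤ H) (hHV : H ≤ normalizer (V : Set G))
    (hf : H ⊓ centralizer (V : Set G) = ⊥) {x : G} (hxQ : x ∈ Q)
    (hxA : x ∉ centralizer (A : Set G)) {y : G} (hyQ : y ∈ Q) :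
    A.map (MulAut.conj y).toMonoidHom ≤ A ⊔ A.map (MulAut.conj x).toMonoidHom := by
  have hp : p.Prime := Fact.out
  have hMx : MinOff p V Q (A.map (MulAut.conj x).toMonoidHom) := hM.conj hS hxQ
  have hM₃ : MinOff p V Q (A.map (MulAut.conj y).toMonoidHom) := hM.conj hS hyQ
  have hn : ¬ ⁅V, A⁆ ≤ centralizer ((A.map (MulAut.conj x).toMonoidHom : Subgroup G) : Set G) :=
    (pair_not_le hS hVexp hM hQH hAH hHV hf hxQ hxA).1
  have hR₃card : Nat.card ↥(⁅V, A.map (MulAut.conj y).toMonoidHom⁆) = p := hM₃.card_commutator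
  have hR₃ne : (⁅V, A.map (MulAut.conj y).toMonoidHom⁆ : Subgroup G) ≠ ⊥ := by
    intro h
    rw [h, Subgroup.card_bot] at hR₃card
    exact hp.one_lt.ne hR₃card
  obtain ⟨w', hw'1⟩ := Subgroup.ne_bot_iff_exists_ne_one.mp hR₃ne
  have hw1 : (w' : G) ≠ 1 := fun h => hw'1 (Subtype.ext h)
  have hwR : (w' : G) ∈ ⁅V, A.map (MulAut.conj y).toMonoidHom⁆ := w'.2
  have hwV : (w' : G) ∈ V :=
    (Cfsg.Agent.Lib.Helper1.commutator_le_of_le_normalizer hM₃.hoff.av) hwR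
  have hwp : (w' : G) ^ p = 1 := hVexp _ hwV
  have hZ : zpowers (w' : G) = ⁅V, A.map (MulAut.conj y).toMonoidHom⁆ := by
    apply Subgroup.eq_of_le_of_card_ge (zpowers_le.mpr hwR)
    rw [card_zpowers_of_exp hwp hw1, hR₃card]
  by_cases hwA : (w' : G) ∈ centralizer (A : Set G)
  · have hle : ⁅V, A.map (MulAut.conj y).toMonoidHom⁆ ≤ centralizer (A : Set G) := by
      rw [← hZ]; exact zpowers_le.mpr hwA
    rw [conj_eq_of_commutator_le hS hVexp hM hQH hAH hHV hf hyQ hle]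
    exact le_sup_left
  · obtain ⟨g, hgA, hg⟩ := exists_conj_mem_centralizer hS hM hMx hn hwV hwA
    have hgQ : g ∈ normalizer (Q : Set G) := hM.hoff.aq hgA
    have hy₁Q : g * x * g⁻¹ ∈ Q := (mem_normalizer_iff.mp hgQ x).mp hxQ
    have hMD : MinOff p V Q (A.map (MulAut.conj (g * x * g⁻¹)).toMonoidHom) := hM.conj hS hy₁Q
    have hmemAx : ∀ a ∈ A, x * (g⁻¹ * a * g) * x⁻¹ ∈ A.map (MulAut.conj x).toMonoidHom :=
      fun a ha => ⟨g⁻¹ * a * g, A.mul_mem (A.mul_mem (A.inv_mem hgA) ha) hgA, rfl⟩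
    have hDE : A.map (MulAut.conj (g * x * g⁻¹)).toMonoidHom ≤
        A ⊔ A.map (MulAut.conj x).toMonoidHom := by
      rintro _ ⟨a, ha, rfl⟩
      have h1 : (MulAut.conj (g * x * g⁻¹)).toMonoidHom a =
          g * (x * (g⁻¹ * a * g) * x⁻¹) * g⁻¹ := by
        show g * x * g⁻¹ * a * (g * x * g⁻¹)⁻¹ = _
        group
      rw [h1]
      have hgE : g ∈ A ⊔ A.map (MulAut.conj x).toMonoidHom := (le_sup_left : A ≤ _) hgA
      exact Subgroup.mul_mem _ (Subgroup.mul_mem _ hgE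
        ((le_sup_right : A.map (MulAut.conj x).toMonoidHom ≤ _) (hmemAx a ha)))
        (Subgroup.inv_mem _ hgE)
    have hDH : A.map (MulAut.conj (g * x * g⁻¹)).toMonoidHom ≤ H := by
      rintro _ ⟨a, ha, rfl⟩
      show g * x * g⁻¹ * a * (g * x * g⁻¹)⁻¹ ∈ H
      exact H.mul_mem (H.mul_mem (hQH hy₁Q) (hAH ha)) (H.inv_mem (hQH hy₁Q))
    have hwD : (w' : G) ∈
        centralizer ((A.map (MulAut.conj (g * x * g⁻¹)).toMonoidHom : Subgroup G) : Set G) := by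
      rw [mem_centralizer_iff]
      rintro _ ⟨a, ha, rfl⟩
      show g * x * g⁻¹ * a * (g * x * g⁻¹)⁻¹ * (w' : G) =
        (w' : G) * (g * x * g⁻¹ * a * (g * x * g⁻¹)⁻¹)
      have h1 := mem_centralizer_iff.mp hg _ (hmemAx a ha)
      calc g * x * g⁻¹ * a * (g * x * g⁻¹)⁻¹ * (w' : G)
          = g * ((x * (g⁻¹ * a * g) * x⁻¹) * (g⁻¹ * (w' : G) * g)) * g⁻¹ := by group
        _ = g * ((g⁻¹ * (w' : G) * g) * (x * (g⁻¹ * a * g) * x⁻¹)) * g⁻¹ := by rw [h1]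
        _ = (w' : G) * (g * x * g⁻¹ * a * (g * x * g⁻¹)⁻¹) := by group
    have hzQ : y * (g * x * g⁻¹)⁻¹ ∈ Q := Q.mul_mem hyQ (Q.inv_mem hy₁Q)
    have hcomp : (MulAut.conj (y * (g * x * g⁻¹)⁻¹)).toMonoidHom.comp
        (MulAut.conj (g * x * g⁻¹)).toMonoidHom = (MulAut.conj y).toMonoidHom := by
      ext t
      show y * (g * x * g⁻¹)⁻¹ * (g * x * g⁻¹ * t * (g * x * g⁻¹)⁻¹) * (y * (g * x * g⁻¹)⁻¹)⁻¹ =
        y * t * y⁻¹
      group
    have hD₃' : (A.map (MulAut.conj (g * x * g⁻¹)).toMonoidHom).map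
        (MulAut.conj (y * (g * x * g⁻¹)⁻¹)).toMonoidHom = A.map (MulAut.conj y).toMonoidHom := by
      rw [Subgroup.map_map, hcomp]
    have hleD : ⁅V, (A.map (MulAut.conj (g * x * g⁻¹)).toMonoidHom).map
        (MulAut.conj (y * (g * x * g⁻¹)⁻¹)).toMonoidHom⁆ ≤
        centralizer ((A.map (MulAut.conj (g * x * g⁻¹)).toMonoidHom : Subgroup G) : Set G) := by
      rw [hD₃', ← hZ]; exact zpowers_le.mpr hwD
    have h5 := conj_eq_of_commutator_le hS hVexp hMD hQH hDH hHV hf hzQ hleD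
    rw [← hD₃', h5]
    exact hDE

/-- `[Q, A] ≤ ⟨A, A^x⟩` -/
theorem commutator_le_pair {V Q A H : Subgroup G} [hVc : IsMulCommutative V] (hS : Setup p V Q)
    (hVexp : ∀ v ∈ V, v ^ p = 1) (hM : MinOff p V Q A)
    (hQH : Q ≤ H) (hAH : A ≤ H) (hHV : H ≤ normalizer (V : Set G))
    (hf : H ⊓ centralizer (V : Set G) = ⊥) {x : G} (hxQ : x ∈ Q)
    (hxA : x ∉ centralizer (A : Set G)) :
    ⁅Q, A⁆ ≤ A ⊔ A.map (MulAut.conj x).toMonoidHom := by
  rw [Subgroup.commutator_le]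
  intro q hq a ha
  have h1 : q * a * q⁻¹ ∈ A ⊔ A.map (MulAut.conj x).toMonoidHom :=
    conj_le_pair hS hVexp hM hQH hAH hHV hf hxQ hxA hq ⟨a, ha, rfl⟩
  rw [commutatorElement_def]
  exact Subgroup.mul_mem _ h1 (Subgroup.inv_mem _ ((le_sup_left : A ≤ _) ha))

/-- a minimal offender does not centralize `Q` -/
theorem MinOff.exists_not_mem_centralizer {V Q A : Subgroup G} (hM : MinOff p V Q A) :
    ∃ x ∈ Q, x ∉ centralizer (A : Set G) := by
  obtain ⟨a0, ha01⟩ := Subgroup.ne_bot_iff_exists_ne_one.mp hM.ne_bot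
  have ha0 : (a0 : G) ∉ centralizer (Q : Set G) := by
    intro h
    have : (a0 : G) ∈ A ⊓ centralizer (Q : Set G) := mem_inf.mpr ⟨a0.2, h⟩
    rw [hM.hoff.af, mem_bot] at this
    exact ha01 (Subtype.ext this)
  have hex : ∃ x ∈ Q, x * (a0 : G) ≠ (a0 : G) * x := by
    by_contra hcon
    push Not at hcon
    exact ha0 (mem_centralizer_iff.mpr hcon)
  obtain ⟨x, hxQ, hxa⟩ := hex
  refine ⟨x, hxQ, fun h => hxa (mem_centralizer_iff.mp h _ a0.2).symm⟩

/-- **KS 9.3.5**: `[Q, A]` is a `3`-group (`p = 2`) or a nonabelian `2`-group (`p = 3`). -/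
theorem qa_main {V Q A H : Subgroup G} [hVc : IsMulCommutative V] (hS : Setup p V Q)
    (hVexp : ∀ v ∈ V, v ^ p = 1) (hM : MinOff p V Q A)
    (hQH : Q ≤ H) (hAH : A ≤ H) (hHV : H ≤ normalizer (V : Set G))
    (hf : H ⊓ centralizer (V : Set G) = ⊥) :
    (p = 2 ∧ IsPGroup 3 ↥(⁅Q, A⁆)) ∨
      (p = 3 ∧ IsPGroup 2 ↥(⁅Q, A⁆) ∧ ¬ IsMulCommutative ↥(⁅Q, A⁆)) := by
  have hp : p.Prime := Fact.out
  obtain ⟨x, hxQ, hxA⟩ := hM.exists_not_mem_centralizer
  obtain ⟨hp23, -, -, ⟨e⟩⟩ := pair_main hS hVexp hM hQH hAH hHV hf hxQ hxA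
  have hSE : ⁅Q, A⁆ ≤ A ⊔ A.map (MulAut.conj x).toMonoidHom :=
    commutator_le_pair hS hVexp hM hQH hAH hHV hf hxQ hxA
  have hSQ : ⁅Q, A⁆ ≤ Q := Cfsg.Agent.Lib.Helper1.commutator_le_of_le_normalizer hM.hoff.aq
  have hEcard : Nat.card ↥(A ⊔ A.map (MulAut.conj x).toMonoidHom) = p * (p ^ 2 - 1) := by
    rw [Nat.card_congr e.toEquiv, Cfsg.Agent.Lib.Helper3.CardSL.card_SL2, ZMod.card]
  have hcop : (Nat.card ↥(⁅Q, A⁆)).Coprime p :=
    Nat.Coprime.coprime_dvd_left (Subgroup.card_dvd_of_le hSQ) hS.qcop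
  have hdvd : Nat.card ↥(⁅Q, A⁆) ∣ p * (p ^ 2 - 1) := by
    rw [← hEcard]; exact Subgroup.card_dvd_of_le hSE
  have hdvd' : Nat.card ↥(⁅Q, A⁆) ∣ p ^ 2 - 1 := hcop.dvd_of_dvd_mul_left hdvd
  have hAS : A ≤ normalizer ((⁅Q, A⁆ : Subgroup G) : Set G) :=
    Cfsg.Agent.Lib.Helper1.le_normalizer_commutator_right
  have hQS : Q ≤ normalizer ((⁅Q, A⁆ : Subgroup G) : Set G) :=
    Cfsg.Agent.Lib.Helper1.le_normalizer_commutator_left
  have hAcard : Nat.card A = p := hM.hcard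
  rcases hp23 with rfl | rfl
  · left
    refine ⟨rfl, ?_⟩
    have h3 : Nat.card ↥(⁅Q, A⁆) ∣ 3 := by simpa using hdvd'
    rcases (Nat.dvd_prime Nat.prime_three).mp h3 with h | h
    · exact IsPGroup.of_card (n := 0) (by rw [h, pow_zero])
    · exact IsPGroup.of_card (n := 1) (by rw [h, pow_one])
  · right
    have h8 : Nat.card ↥(⁅Q, A⁆) ∣ 8 := by simpa using hdvd'
    have h2grp : IsPGroup 2 ↥(⁅Q, A⁆) := by
      have h8' : Nat.card ↥(⁅Q, A⁆) ∣ 2 ^ 3 := by simpa using h8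
      obtain ⟨m, -, hm⟩ := (Nat.dvd_prime_pow Nat.prime_two).mp h8'
      exact IsPGroup.of_card hm
    refine ⟨rfl, h2grp, ?_⟩
    have hE₀SA : A ⊔ A.map (MulAut.conj x).toMonoidHom ≤ A ⊔ ⁅Q, A⁆ := by
      apply sup_le le_sup_left
      rintro _ ⟨a, ha, rfl⟩
      show x * a * x⁻¹ ∈ A ⊔ ⁅Q, A⁆
      have h1 : x * a * x⁻¹ = ⁅x, a⁆ * a := by rw [commutatorElement_def]; group
      rw [h1]
      exact Subgroup.mul_mem _
        ((le_sup_right : ⁅Q, A⁆ ≤ A ⊔ ⁅Q, A⁆) (Subgroup.commutator_mem_commutator hxQ ha))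
        ((le_sup_left : A ≤ A ⊔ ⁅Q, A⁆) ha)
    have h1 := Cfsg.H5.card_sup_mul_card_inf hAS
    have h24 : Nat.card ↥(A ⊔ A.map (MulAut.conj x).toMonoidHom) = 24 := by rw [hEcard]; norm_num
    have hle : Nat.card ↥(A ⊔ A.map (MulAut.conj x).toMonoidHom) ≤ Nat.card ↥(A ⊔ ⁅Q, A⁆) :=
      Subgroup.card_le_of_le hE₀SA
    have hpos : 0 < Nat.card ↥(A ⊓ ⁅Q, A⁆) := Nat.card_pos
    have hS8 : Nat.card ↥(⁅Q, A⁆) = 8 := by
      have h2 : Nat.card ↥(A ⊔ ⁅Q, A⁆) ≤ 3 * Nat.card ↥(⁅Q, A⁆) := by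
        calc Nat.card ↥(A ⊔ ⁅Q, A⁆) ≤ Nat.card ↥(A ⊔ ⁅Q, A⁆) * Nat.card ↥(A ⊓ ⁅Q, A⁆) :=
              Nat.le_mul_of_pos_right _ hpos
          _ = 3 * Nat.card ↥(⁅Q, A⁆) := by rw [h1, hAcard]
      have h3 : Nat.card ↥(⁅Q, A⁆) ≤ 8 := Nat.le_of_dvd (by norm_num) h8
      omega
    intro hcomm
    have hEn : A ⊔ A.map (MulAut.conj x).toMonoidHom ≤
        normalizer ((⁅Q, A⁆ : Subgroup G) : Set G) := by
      apply sup_le hAS
      rintro _ ⟨a, ha, rfl⟩
      show x * a * x⁻¹ ∈ normalizer ((⁅Q, A⁆ : Subgroup G) : Set G)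
      exact Subgroup.mul_mem _ (Subgroup.mul_mem _ (hQS hxQ) (hAS ha))
        (Subgroup.inv_mem _ (hQS hxQ))
    haveI hSn : ((⁅Q, A⁆ : Subgroup G).subgroupOf
        (A ⊔ A.map (MulAut.conj x).toMonoidHom)).Normal :=
      (Subgroup.normal_subgroupOf_iff_le_normalizer hSE).mpr hEn
    have hcard' : Nat.card ((⁅Q, A⁆ : Subgroup G).subgroupOf
        (A ⊔ A.map (MulAut.conj x).toMonoidHom)) = 8 := by
      rw [Nat.card_congr (Subgroup.subgroupOfEquivOfLe hSE).toEquiv, hS8]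
    obtain ⟨s, hs, t, ht, hst⟩ := exists_not_comm_of_SL23 e _ hcard'
    apply hst
    have h5 := hcomm.is_comm.comm (⟨(s : G), hs⟩ : ↥(⁅Q, A⁆)) ⟨(t : G), ht⟩
    have h6 : (s : G) * (t : G) = (t : G) * (s : G) := congrArg Subtype.val h5
    apply Subtype.ext
    exact h6

end QA

end Cfsg.Agent.Lib.Helper20.BO
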