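import Mathlib
import Cfsg.Agent.Lib.Helper20.BestOffQA

/-!
# The components `E_A = [Q, A] A` of a faithful group generated by best offenders (KS 9.3.7)
-/

set_option autoImplicit false

namespace Cfsg.Agent.Lib.Helper20.BO

open Subgroup
open scoped commutatorElement
open Cfsg.H5 (fix mm)

section Helpers

variable {G : Type*} [Group G]

theorem le_normalizer_of_map_conj_le {X K : Subgroup G}
    (h : ∀ q ∈ X, K.map (MulAut.conj q).toMonoidHom ≤ K) : X ≤ normalizer (K : Set G) := by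
  apply Cfsg.Agent.Lib.Helper1.le_normalizer_of_forall_conj_mem
  intro q hq n hn
  exact h q hq ⟨n, hn, rfl⟩

theorem le_normalizer_commutator_of_le {X V E : Subgroup G} (hXV : X ≤ normalizer (V : Set G))
    (hXE : X ≤ normalizer (E : Set G)) : X ≤ normalizer ((⁅V, E⁆ : Subgroup G) : Set G) := by
  intro a ha
  apply Cfsg.H5.mem_normalizer_of_map_conj_eq
  rw [Subgroup.map_commutator, Cfsg.H5.map_conj_eq_of_mem_normalizer (hXV ha),
    Cfsg.H5.map_conj_eq_of_mem_normalizer (hXE ha)]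

theorem le_normalizer_inf' {X A B : Subgroup G} (hA : X ≤ normalizer (A : Set G))
    (hB : X ≤ normalizer (B : Set G)) : X ≤ normalizer ((A ⊓ B : Subgroup G) : Set G) := by
  intro h hh
  rw [mem_normalizer_iff]
  intro n
  rw [mem_inf, mem_inf, ← mem_normalizer_iff.mp (hA hh) n, ← mem_normalizer_iff.mp (hB hh) n]

theorem le_normalizer_of_comm {V X Y : Subgroup G} [hVc : IsMulCommutative V] (hX : X ≤ V)
    (hY : Y ≤ V) : X ≤ normalizer (Y : Set G) := by
  have hVcY : V ≤ centralizer (Y : Set G) := by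
    intro a ha
    rw [mem_centralizer_iff]
    intro b hb
    exact congrArg Subtype.val (hVc.is_comm.comm ⟨b, hY hb⟩ ⟨a, ha⟩)
  exact hX.trans (hVcY.trans (centralizer_le_normalizer _))

/-- iterated conjugation when `a` commutes with `v⁻¹ (a v a⁻¹)` -/
theorem conj_pow_eq {a v : G} (hcomm : a * (v⁻¹ * (a * v * a⁻¹)) = (v⁻¹ * (a * v * a⁻¹)) * a)
    (m : ℕ) : a ^ m * v * (a ^ m)⁻¹ = v * (v⁻¹ * (a * v * a⁻¹)) ^ m := by
  have h30 : a * v * a⁻¹ = v * (v⁻¹ * (a * v * a⁻¹)) := by group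
  generalize v⁻¹ * (a * v * a⁻¹) = w at hcomm h30
  have haw : ∀ m : ℕ, a * w ^ m = w ^ m * a := fun m => (Commute.pow_right hcomm m)
  induction m with
  | zero => simp
  | succ m ih =>
    have h1 : a ^ (m + 1) * v * (a ^ (m + 1))⁻¹ = a * (a ^ m * v * (a ^ m)⁻¹) * a⁻¹ := by
      rw [pow_succ']; group
    rw [h1, ih]
    have h2 : a * (v * w ^ m) * a⁻¹ = (a * v * a⁻¹) * ((a * w ^ m) * a⁻¹) := by group
    rw [h2, haw m, h30, pow_succ]; group

variable [Finite G] {p : ℕ} [Fact p.Prime]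

/-- a `p`-group normalizing a group of order `p` centralizes it -/
theorem le_centralizer_of_card_eq_prime {Y D : Subgroup G} (hD : IsPGroup p D)
    (hY : Nat.card Y = p) (hDY : D ≤ normalizer (Y : Set G)) : Y ≤ centralizer (D : Set G) := by
  have hp : p.Prime := Fact.out
  have hYp : IsPGroup p Y := IsPGroup.of_card (n := 1) (by rw [hY, pow_one])
  have hle : ⁅Y, D⁆ ≤ Y := Cfsg.Agent.Lib.Helper1.commutator_le_of_le_normalizer hDY
  have hne : ⁅Y, D⁆ ≠ Y := by
    intro h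
    have := Cfsg.Agent.Lib.Helper1.eq_bot_of_commutator_eq_of_isPGroup hD hYp hDY h
    rw [this, Subgroup.card_bot] at hY
    exact hp.one_lt.ne hY
  have hdvd : Nat.card ↥(⁅Y, D⁆) ∣ p := by rw [← hY]; exact Subgroup.card_dvd_of_le hle
  rcases (Nat.dvd_prime hp).mp hdvd with h1 | h1
  · have hbot : ⁅Y, D⁆ = ⊥ := Subgroup.card_eq_one.mp h1
    exact Subgroup.commutator_eq_bot_iff_le_centralizer.mp hbot
  · exact absurd (Subgroup.eq_of_le_of_card_ge hle (by rw [h1, hY])) hne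

/-- an element normalizing a group of order `p` has its `(p-1)`-th power centralizing it -/
theorem pow_pred_comm {X : Subgroup G} (hX : Nat.card X = p) {q : G}
    (hq : q ∈ normalizer (X : Set G)) {x : G} (hx : x ∈ X) :
    q ^ (p - 1) * x = x * q ^ (p - 1) := by
  have hp : p.Prime := Fact.out
  by_cases hx1 : x = 1
  · rw [hx1]; simp
  have hxp : x ^ p = 1 := by
    have h1 : orderOf x ∣ Nat.card X := Subgroup.orderOf_dvd_natCard X hx
    rw [hX] at h1
    exact orderOf_dvd_iff_pow_eq_one.mp h1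
  have hord : orderOf x = p := orderOf_eq_prime hxp hx1
  have hZ : zpowers x = X := by
    apply Subgroup.eq_of_le_of_card_ge (zpowers_le.mpr hx)
    rw [card_zpowers_of_exp hxp hx1, hX]
  have hqx : q * x * q⁻¹ ∈ Submonoid.powers x := by
    rw [mem_powers_iff_mem_zpowers, hZ]
    exact (mem_normalizer_iff.mp hq x).mp hx
  obtain ⟨k, hk⟩ := (Submonoid.mem_powers_iff _ _).mp hqx
  have hiter : ∀ m : ℕ, q ^ m * x * (q ^ m)⁻¹ = x ^ (k ^ m) := by
    intro m
    induction m with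
    | zero => simp
    | succ m ih =>
      have h1 : q ^ (m + 1) * x * (q ^ (m + 1))⁻¹ = q * (q ^ m * x * (q ^ m)⁻¹) * q⁻¹ := by
        rw [pow_succ']; group
      rw [h1, ih, ← conj_pow, ← hk, ← pow_mul, pow_succ']
  have hkp : ¬ p ∣ k := by
    rintro ⟨j, rfl⟩
    rw [pow_mul, hxp, one_pow] at hk
    apply hx1
    have : x = q⁻¹ * (q * x * q⁻¹) * q := by group
    rw [this, ← hk]; group
  have hcop : Nat.Coprime k p := (Nat.Coprime.symm ((Nat.Prime.coprime_iff_not_dvd hp).mpr hkp))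
  have hfermat : k ^ (p - 1) ≡ 1 [MOD p] := by
    have := Nat.ModEq.pow_totient hcop
    rwa [Nat.totient_prime hp] at this
  have h2 : x ^ (k ^ (p - 1)) = x ^ 1 := by
    rw [pow_eq_pow_iff_modEq, hord]; exact hfermat
  have h3 := hiter (p - 1)
  rw [h2, pow_one] at h3
  have : q ^ (p - 1) * x = (q ^ (p - 1) * x * (q ^ (p - 1))⁻¹) * q ^ (p - 1) := by group
  rw [this, h3]

theorem EA_zpowers {t : G} (ht : t ^ p = 1) : EA p (zpowers t) := by
  constructor
  · rintro x ⟨i, rfl⟩ y ⟨j, rfl⟩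
    exact (Commute.zpow_zpow_self t i j)
  · rintro x ⟨i, rfl⟩
    show (t ^ i) ^ p = 1
    rw [← zpow_natCast, ← zpow_mul, mul_comm, zpow_mul, zpow_natCast, ht, one_zpow]

end Helpers

section Comp

variable {G : Type*} [Group G] [Finite G] {p : ℕ} [Fact p.Prime]

/-- the standing hypotheses of the structure theorem -/
structure Ctx (p : ℕ) (V Q H : Subgroup G) : Prop where
  hS : Setup p V Q
  vexp : ∀ v ∈ V, v ^ p = 1
  hQH : Q ≤ H
  hHV : H ≤ normalizer (V : Set G)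
  hHQ : H ≤ normalizer (Q : Set G)
  hf : H ⊓ centralizer (V : Set G) = ⊥
  hcq : H ⊓ centralizer (Q : Set G) ≤ Q

/-- `E_D = [Q, D] D` -/
def EE (Q D : Subgroup G) : Subgroup G := ⁅Q, D⁆ ⊔ D

/-- `W_D = [V, E_D]` -/
def WW (V Q D : Subgroup G) : Subgroup G := ⁅V, EE Q D⁆

theorem EE_eq_pair {V Q H D : Subgroup G} [hVc : IsMulCommutative V] (hC : Ctx p V Q H)
    (hM : MinOff p V Q D) (hDH : D ≤ H) {x : G} (hxQ : x ∈ Q)
    (hxD : x ∉ centralizer (D : Set G)) :
    EE Q D = D ⊔ D.map (MulAut.conj x).toMonoidHom := by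
  unfold EE
  apply le_antisymm
  · exact sup_le (commutator_le_pair hC.hS hC.vexp hM hC.hQH hDH hC.hHV hC.hf hxQ hxD) le_sup_left
  · apply sup_le le_sup_right
    rintro _ ⟨a, ha, rfl⟩
    show x * a * x⁻¹ ∈ ⁅Q, D⁆ ⊔ D
    have h1 : x * a * x⁻¹ = ⁅x, a⁆ * a := by rw [commutatorElement_def]; group
    rw [h1]
    exact Subgroup.mul_mem _
      ((le_sup_left : ⁅Q, D⁆ ≤ ⁅Q, D⁆ ⊔ D) (Subgroup.commutator_mem_commutator hxQ ha))
      ((le_sup_right : D ≤ ⁅Q, D⁆ ⊔ D) ha)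

theorem comp_basic {V Q H D : Subgroup G} [hVc : IsMulCommutative V] (hC : Ctx p V Q H)
    (hM : MinOff p V Q D) (hDH : D ≤ H) :
    (p = 2 ∨ p = 3) ∧ Nat.card (WW V Q D) = p ^ 2 ∧
      EE Q D ⊓ centralizer (WW V Q D : Set G) = ⊥ ∧
      Nonempty (↥(EE Q D) ≃* Matrix.SpecialLinearGroup (Fin 2) (ZMod p)) := by
  obtain ⟨x, hxQ, hxD⟩ := hM.exists_not_mem_centralizer
  have h := pair_main hC.hS hC.vexp hM hC.hQH hDH hC.hHV hC.hf hxQ hxD
  unfold WW
  rw [EE_eq_pair hC hM hDH hxQ hxD]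
  exact h

theorem D_le_EE (Q D : Subgroup G) : D ≤ EE Q D := le_sup_right

theorem EE_le_H {V Q H D : Subgroup G} (hC : Ctx p V Q H)
    (hM : MinOff p V Q D) (hDH : D ≤ H) : EE Q D ≤ H :=
  sup_le ((Cfsg.Agent.Lib.Helper1.commutator_le_of_le_normalizer hM.hoff.aq).trans hC.hQH) hDH

theorem Q_le_normalizer_EE (Q D : Subgroup G) : Q ≤ normalizer (EE Q D : Set G) := by
  apply le_normalizer_of_map_conj_le
  intro q hq
  unfold EE
  rw [Subgroup.map_sup]
  apply sup_le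
  · rw [Cfsg.H5.map_conj_eq_of_mem_normalizer
      (Cfsg.Agent.Lib.Helper1.le_normalizer_commutator_left hq)]
    exact le_sup_left
  · rintro _ ⟨d, hd, rfl⟩
    show q * d * q⁻¹ ∈ ⁅Q, D⁆ ⊔ D
    have h1 : q * d * q⁻¹ = ⁅q, d⁆ * d := by rw [commutatorElement_def]; group
    rw [h1]
    exact Subgroup.mul_mem _
      ((le_sup_left : ⁅Q, D⁆ ≤ ⁅Q, D⁆ ⊔ D) (Subgroup.commutator_mem_commutator hq hd))
      ((le_sup_right : D ≤ ⁅Q, D⁆ ⊔ D) hd)

theorem EE_le_normalizer_comm (Q D : Subgroup G) :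
    EE Q D ≤ normalizer ((⁅Q, D⁆ : Subgroup G) : Set G) :=
  sup_le Subgroup.le_normalizer Cfsg.Agent.Lib.Helper1.le_normalizer_commutator_right

theorem WW_le_V {V Q H D : Subgroup G} (hC : Ctx p V Q H)
    (hM : MinOff p V Q D) (hDH : D ≤ H) : WW V Q D ≤ V :=
  Cfsg.Agent.Lib.Helper1.commutator_le_of_le_normalizer ((EE_le_H hC hM hDH).trans hC.hHV)

theorem EE_le_normalizer_WW {V Q H D : Subgroup G} (hC : Ctx p V Q H)
    (hM : MinOff p V Q D) (hDH : D ≤ H) : EE Q D ≤ normalizer (WW V Q D : Set G) :=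
  Cfsg.H5.le_normalizer_commutator ((EE_le_H hC hM hDH).trans hC.hHV)

theorem Q_le_normalizer_WW {V Q H D : Subgroup G} (hC : Ctx p V Q H) :
    Q ≤ normalizer (WW V Q D : Set G) :=
  le_normalizer_commutator_of_le hC.hS.qv (Q_le_normalizer_EE Q D)

/-- the fixed points on a plane `W` of a minimal offender acting nontrivially on it -/
theorem fixW_eq_of {V Q W T : Subgroup G} [hVc : IsMulCommutative V] (hS : Setup p V Q)
    (hWcard : Nat.card W = p ^ 2) (hT : MinOff p V Q T) (hTW : ⁅V, T⁆ ≤ W)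
    (hn : ¬ T ≤ centralizer (W : Set G)) : W ⊓ centralizer (T : Set G) = ⁅V, T⁆ := by
  have hp : p.Prime := Fact.out
  have hRcard : Nat.card ↥(⁅V, T⁆) = p := hT.card_commutator
  have hq : T ≤ centralizer ((⁅V, T⁆ : Subgroup G) : Set G) :=
    le_centralizer_commutator_of_card hT.hoff.ea.isPGroup hS.vp hT.hoff.av hT.card_commutator
  have hle : ⁅V, T⁆ ≤ W ⊓ centralizer (T : Set G) :=
    le_inf hTW (Subgroup.le_centralizer_iff.mp hq)
  have hne : W ⊓ centralizer (T : Set G) ≠ W := by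
    intro h
    apply hn
    have h1 : W ≤ centralizer (T : Set G) := by rw [← h]; exact inf_le_right
    exact Subgroup.le_centralizer_iff.mp h1
  have hdvd : Nat.card ↥(W ⊓ centralizer (T : Set G)) ∣ p ^ 2 := by
    rw [← hWcard]; exact Subgroup.card_dvd_of_le inf_le_left
  obtain ⟨m, hm2, hm⟩ := (Nat.dvd_prime_pow hp).mp hdvd
  have hge : p ≤ Nat.card ↥(W ⊓ centralizer (T : Set G)) := by
    rw [← hRcard]; exact Subgroup.card_le_of_le hle
  interval_cases m
  · rw [hm, pow_zero] at hge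
    exact absurd hge (by have := hp.one_lt; omega)
  · symm
    exact Subgroup.eq_of_le_of_card_ge hle (by rw [hm, pow_one, hRcard])
  · exact absurd (Subgroup.eq_of_le_of_card_ge inf_le_left (by rw [hm, hWcard])) hne

theorem WW_inf_centralizer_EE {V Q H D : Subgroup G} [hVc : IsMulCommutative V]
    (hC : Ctx p V Q H) (hM : MinOff p V Q D) (hDH : D ≤ H) :
    WW V Q D ⊓ centralizer (EE Q D : Set G) = ⊥ := by
  have hp : p.Prime := Fact.out
  obtain ⟨x, hxQ, hxD⟩ := hM.exists_not_mem_centralizer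
  obtain ⟨-, hWcard, hbot, -⟩ := comp_basic hC hM hDH
  have hMx : MinOff p V Q (D.map (MulAut.conj x).toMonoidHom) := hM.conj hC.hS hxQ
  have hE := EE_eq_pair hC hM hDH hxQ hxD
  have hW : WW V Q D = ⁅V, D⁆ ⊔ ⁅V, D.map (MulAut.conj x).toMonoidHom⁆ := by
    unfold WW; rw [hE]; exact commutator_sup_eq hM.hoff.av hMx.hoff.av
  have hDE : D ≤ EE Q D := le_sup_right
  have hDxE : D.map (MulAut.conj x).toMonoidHom ≤ EE Q D := by rw [hE]; exact le_sup_right
  have hn1 : ¬ D ≤ centralizer (WW V Q D : Set G) := by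
    intro h
    have : D ≤ EE Q D ⊓ centralizer (WW V Q D : Set G) := le_inf hDE h
    rw [hbot] at this
    exact hM.ne_bot (le_bot_iff.mp this)
  have hn2 : ¬ D.map (MulAut.conj x).toMonoidHom ≤ centralizer (WW V Q D : Set G) := by
    intro h
    have : D.map (MulAut.conj x).toMonoidHom ≤ EE Q D ⊓ centralizer (WW V Q D : Set G) :=
      le_inf hDxE h
    rw [hbot] at this
    exact hMx.ne_bot (le_bot_iff.mp this)
  have h1 := fixW_eq_of hC.hS hWcard hM (by rw [hW]; exact le_sup_left) hn1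
  have h2 := fixW_eq_of hC.hS hWcard hMx (by rw [hW]; exact le_sup_right) hn2
  have hRR : ⁅V, D⁆ ⊓ ⁅V, D.map (MulAut.conj x).toMonoidHom⁆ = ⊥ := by
    have hdvd : Nat.card ↥(⁅V, D⁆ ⊓ ⁅V, D.map (MulAut.conj x).toMonoidHom⁆) ∣ p := by
      rw [← hM.card_commutator]; exact Subgroup.card_dvd_of_le inf_le_left
    rcases (Nat.dvd_prime hp).mp hdvd with h | h
    · exact Subgroup.card_eq_one.mp h
    · exfalso
      have e1 : ⁅V, D⁆ ⊓ ⁅V, D.map (MulAut.conj x).toMonoidHom⁆ = ⁅V, D⁆ :=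
        Subgroup.eq_of_le_of_card_ge inf_le_left (by rw [h, hM.card_commutator])
      have e2 : ⁅V, D⁆ ⊓ ⁅V, D.map (MulAut.conj x).toMonoidHom⁆ =
          ⁅V, D.map (MulAut.conj x).toMonoidHom⁆ :=
        Subgroup.eq_of_le_of_card_ge inf_le_right (by rw [h, hMx.card_commutator])
      have e3 : ⁅V, D.map (MulAut.conj x).toMonoidHom⁆ = ⁅V, D⁆ := e2.symm.trans e1
      rw [hW, e3, sup_idem, hM.card_commutator] at hWcard
      have := hp.one_lt
      nlinarith
  have key : WW V Q D ⊓ centralizer (EE Q D : Set G) ≤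
      ⁅V, D⁆ ⊓ ⁅V, D.map (MulAut.conj x).toMonoidHom⁆ := by
    apply le_inf
    · rw [← h1]
      exact inf_le_inf_left _ (Subgroup.centralizer_le (by exact_mod_cast hDE))
    · rw [← h2]
      exact inf_le_inf_left _ (Subgroup.centralizer_le (by exact_mod_cast hDxE))
  rw [eq_bot_iff, ← hRR]
  exact key

theorem WW_sup_fix {V Q H D : Subgroup G} [hVc : IsMulCommutative V]
    (hC : Ctx p V Q H) (hM : MinOff p V Q D) (hDH : D ≤ H) :
    WW V Q D ⊔ (V ⊓ centralizer (EE Q D : Set G)) = V := by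
  have hp : p.Prime := Fact.out
  obtain ⟨x, hxQ, hxD⟩ := hM.exists_not_mem_centralizer
  obtain ⟨-, hWcard, hbot, -⟩ := comp_basic hC hM hDH
  have hMx : MinOff p V Q (D.map (MulAut.conj x).toMonoidHom) := hM.conj hC.hS hxQ
  have hE := EE_eq_pair hC hM hDH hxQ hxD
  have hnl := (pair_not_le hC.hS hC.vexp hM hC.hQH hDH hC.hHV hC.hf hxQ hxD).1
  generalize D.map (MulAut.conj x).toMonoidHom = Dx at hMx hE hnl
  have hF1 : p * Nat.card (fix V D) = Nat.card V := by
    have h1 : Nat.card D * Nat.card (fix V D) = Nat.card V := hM.hmm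
    rwa [hM.hcard] at h1
  have hF2 : p * Nat.card (fix V Dx) = Nat.card V := by
    have h1 : Nat.card Dx * Nat.card (fix V Dx) = Nat.card V := hMx.hmm
    rwa [hMx.hcard] at h1
  have hfixE : V ⊓ centralizer (EE Q D : Set G) = fix V D ⊓ fix V Dx := by
    rw [hE]; exact Cfsg.H5.fix_sup V D Dx
  have hq : D ≤ centralizer ((⁅V, D⁆ : Subgroup G) : Set G) :=
    le_centralizer_commutator_of_card hM.hoff.ea.isPGroup hC.hS.vp hM.hoff.av hM.card_commutator
  have hR1 : ⁅V, D⁆ ≤ fix V D :=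
    le_inf (Cfsg.Agent.Lib.Helper1.commutator_le_of_le_normalizer hM.hoff.av)
      (Subgroup.le_centralizer_iff.mp hq)
  have hF2c : fix V Dx ≤ centralizer (Dx : Set G) := by
    show V ⊓ centralizer (Dx : Set G) ≤ _
    exact inf_le_right
  have hR2 : ¬ ⁅V, D⁆ ≤ fix V Dx := fun h => hnl (h.trans hF2c)
  have hne : ¬ fix V D ≤ fix V Dx := fun h => hR2 (hR1.trans h)
  have hF1V : fix V D ≤ V := Cfsg.H5.fix_le V D
  have hF2V : fix V Dx ≤ V := Cfsg.H5.fix_le V Dx
  have hnorm : fix V D ≤ normalizer (fix V Dx : Set G) := le_normalizer_of_comm hF1V hF2V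
  have hprod := Cfsg.H5.card_sup_mul_card_inf hnorm
  have hsup : fix V D ⊔ fix V Dx = V := by
    apply Subgroup.eq_of_le_of_card_ge (sup_le hF1V hF2V)
    obtain ⟨j, hj⟩ := Subgroup.card_dvd_of_le (le_sup_right : fix V Dx ≤ fix V D ⊔ fix V Dx)
    have hdvd : Nat.card ↥(fix V D ⊔ fix V Dx) ∣ Nat.card V :=
      Subgroup.card_dvd_of_le (sup_le hF1V hF2V)
    rw [hj, ← hF2, mul_comm p] at hdvd
    have hpos : 0 < Nat.card (fix V Dx) := Nat.card_pos
    have hjp : j ∣ p := Nat.dvd_of_mul_dvd_mul_left hpos hdvd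
    rcases (Nat.dvd_prime hp).mp hjp with h | h
    · exfalso
      apply hne
      have h3 : fix V Dx = fix V D ⊔ fix V Dx :=
        Subgroup.eq_of_le_of_card_ge le_sup_right (by rw [hj, h, mul_one])
      rw [h3]; exact le_sup_left
    · exact le_of_eq (by rw [hj, h, ← hF2, mul_comm])
  have hcardfix : Nat.card ↥(fix V D ⊓ fix V Dx) * p ^ 2 = Nat.card V := by
    rw [hsup] at hprod
    have hVpos : 0 < Nat.card V := Nat.card_pos
    apply Nat.eq_of_mul_eq_mul_left hVpos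
    calc Nat.card V * (Nat.card ↥(fix V D ⊓ fix V Dx) * p ^ 2)
        = (Nat.card V * Nat.card ↥(fix V D ⊓ fix V Dx)) * p ^ 2 := by ring
      _ = (Nat.card (fix V D) * Nat.card (fix V Dx)) * p ^ 2 := by rw [hprod]
      _ = (p * Nat.card (fix V D)) * (p * Nat.card (fix V Dx)) := by ring
      _ = Nat.card V * Nat.card V := by rw [hF1, hF2]
  have hWV : WW V Q D ≤ V := WW_le_V hC hM hDH
  have hdisj : (V ⊓ centralizer (EE Q D : Set G)) ⊓ WW V Q D = ⊥ := by
    rw [eq_bot_iff, ← WW_inf_centralizer_EE hC hM hDH]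
    exact le_inf inf_le_right (inf_le_left.trans inf_le_right)
  have hnorm2 : WW V Q D ≤
      normalizer ((V ⊓ centralizer (EE Q D : Set G) : Subgroup G) : Set G) :=
    le_normalizer_of_comm hWV inf_le_left
  have hc := Cfsg.Agent.Lib.Helper11.card_sup_eq (V ⊓ centralizer (EE Q D : Set G)) (WW V Q D)
    hnorm2 hdisj
  rw [sup_comm]
  apply Subgroup.eq_of_le_of_card_ge (sup_le inf_le_left hWV)
  exact le_of_eq (by rw [hc, hWcard, hfixE, hcardfix])

/-- `E_D` is irreducible on `W_D` -/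
theorem EE_irred {V Q H D : Subgroup G} [hVc : IsMulCommutative V]
    (hC : Ctx p V Q H) (hM : MinOff p V Q D) (hDH : D ≤ H) {Y : Subgroup G}
    (hYW : Y ≤ WW V Q D) (hEY : EE Q D ≤ normalizer (Y : Set G)) : Y = ⊥ ∨ Y = WW V Q D := by
  have hp : p.Prime := Fact.out
  obtain ⟨x, hxQ, hxD⟩ := hM.exists_not_mem_centralizer
  obtain ⟨-, hWcard, hbot, -⟩ := comp_basic hC hM hDH
  have hMx : MinOff p V Q (D.map (MulAut.conj x).toMonoidHom) := hM.conj hC.hS hxQ
  have hE := EE_eq_pair hC hM hDH hxQ hxD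
  have hdvd : Nat.card Y ∣ p ^ 2 := by rw [← hWcard]; exact Subgroup.card_dvd_of_le hYW
  obtain ⟨m, hm2, hm⟩ := (Nat.dvd_prime_pow hp).mp hdvd
  interval_cases m
  · left; exact Subgroup.card_eq_one.mp (by rw [hm, pow_zero])
  · exfalso
    rw [pow_one] at hm
    have hDE : D ≤ EE Q D := le_sup_right
    have hDxE : D.map (MulAut.conj x).toMonoidHom ≤ EE Q D := by rw [hE]; exact le_sup_right
    have h1 : Y ≤ centralizer (D : Set G) :=
      le_centralizer_of_card_eq_prime hM.hoff.ea.isPGroup hm (hDE.trans hEY)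
    have h2 : Y ≤ centralizer ((D.map (MulAut.conj x).toMonoidHom : Subgroup G) : Set G) :=
      le_centralizer_of_card_eq_prime hMx.hoff.ea.isPGroup hm (hDxE.trans hEY)
    have h3 : Y ≤ WW V Q D ⊓ centralizer (EE Q D : Set G) := by
      rw [hE, Cfsg.H5.centralizer_sup]
      exact le_inf hYW (le_inf h1 h2)
    rw [WW_inf_centralizer_EE hC hM hDH] at h3
    have h4 : Y = ⊥ := le_bot_iff.mp h3
    rw [h4, Subgroup.card_bot] at hm
    exact hp.one_lt.ne hm
  · right; exact Subgroup.eq_of_le_of_card_ge hYW (by rw [hm, hWcard])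

/-- `[Q, D]` is irreducible on `W_D` -/
theorem WW_irred {V Q H D : Subgroup G} [hVc : IsMulCommutative V]
    (hC : Ctx p V Q H) (hM : MinOff p V Q D) (hDH : D ≤ H) {X : Subgroup G}
    (hXW : X ≤ WW V Q D) (hQX : ⁅Q, D⁆ ≤ normalizer (X : Set G)) : X = ⊥ ∨ X = WW V Q D := by
  have hp : p.Prime := Fact.out
  obtain ⟨-, hWcard, hbot, -⟩ := comp_basic hC hM hDH
  have hdvd : Nat.card X ∣ p ^ 2 := by rw [← hWcard]; exact Subgroup.card_dvd_of_le hXW
  obtain ⟨m, hm2, hm⟩ := (Nat.dvd_prime_pow hp).mp hdvd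
  interval_cases m
  · left; exact Subgroup.card_eq_one.mp (by rw [hm, pow_zero])
  · exfalso
    rw [pow_one] at hm
    have hXY : X ≤ WW V Q D ⊓ centralizer {g | ∃ q ∈ ⁅Q, D⁆, q ^ (p - 1) = g} := by
      intro x hx
      refine mem_inf.mpr ⟨hXW hx, ?_⟩
      rw [mem_centralizer_iff]
      rintro g ⟨q, hq, rfl⟩
      exact pow_pred_comm hm (hQX hq) hx
    have hES : EE Q D ≤ normalizer ((⁅Q, D⁆ : Subgroup G) : Set G) := EE_le_normalizer_comm Q D
    have hEW := EE_le_normalizer_WW hC hM hDH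
    have hEY : EE Q D ≤ normalizer ((WW V Q D ⊓
        centralizer {g | ∃ q ∈ ⁅Q, D⁆, q ^ (p - 1) = g} : Subgroup G) : Set G) := by
      apply Cfsg.Agent.Lib.Helper1.le_normalizer_of_forall_conj_mem
      intro e he y hy
      rw [mem_inf] at hy ⊢
      refine ⟨(mem_normalizer_iff.mp (hEW he) y).mp hy.1, ?_⟩
      rw [mem_centralizer_iff]
      rintro g ⟨q, hq, rfl⟩
      have hq' : e⁻¹ * q * e ∈ ⁅Q, D⁆ := by
        have := (mem_normalizer_iff.mp (Subgroup.inv_mem _ (hES he)) q).mp hq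
        simpa using this
      have hg' : (e⁻¹ * q * e) ^ (p - 1) ∈ {g | ∃ q ∈ ⁅Q, D⁆, q ^ (p - 1) = g} :=
        ⟨e⁻¹ * q * e, hq', rfl⟩
      have hc := mem_centralizer_iff.mp hy.2 _ hg'
      have hpow : (e⁻¹ * q * e) ^ (p - 1) = e⁻¹ * q ^ (p - 1) * e := by
        have := conj_pow (a := e⁻¹) (b := q) (i := p - 1)
        simpa using this
      rw [hpow] at hc
      generalize q ^ (p - 1) = g at hc
      calc g * (e * y * e⁻¹) = e * ((e⁻¹ * g * e) * y) * e⁻¹ := by group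
        _ = e * (y * (e⁻¹ * g * e)) * e⁻¹ := by rw [hc]
        _ = e * y * e⁻¹ * g := by group
    rcases EE_irred hC hM hDH inf_le_left hEY with hY0 | hYW'
    · have h4 : X = ⊥ := le_bot_iff.mp (hY0 ▸ hXY)
      rw [h4, Subgroup.card_bot] at hm
      exact hp.one_lt.ne hm
    · have hpow1 : ∀ q ∈ ⁅Q, D⁆, q ^ (p - 1) = 1 := by
        intro q hq
        have h1 : q ^ (p - 1) ∈ centralizer (WW V Q D : Set G) := by
          rw [mem_centralizer_iff]
          intro w hw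
          have hwY : w ∈ WW V Q D ⊓ centralizer {g | ∃ q ∈ ⁅Q, D⁆, q ^ (p - 1) = g} := by
            rw [hYW']; exact hw
          have := mem_centralizer_iff.mp (mem_inf.mp hwY).2 (q ^ (p - 1)) ⟨q, hq, rfl⟩
          exact this.symm
        have h2 : q ^ (p - 1) ∈ EE Q D :=
          Subgroup.pow_mem _ ((le_sup_left : ⁅Q, D⁆ ≤ EE Q D) hq) _
        have h3 : q ^ (p - 1) ∈ EE Q D ⊓ centralizer (WW V Q D : Set G) := mem_inf.mpr ⟨h2, h1⟩
        rw [hbot, mem_bot] at h3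
        exact h3
      rcases qa_main hC.hS hC.vexp hM hC.hQH hDH hC.hHV hC.hf with ⟨rfl, -⟩ | ⟨rfl, -, hnc⟩
      · have hS0 : ⁅Q, D⁆ = ⊥ := by
          rw [eq_bot_iff]
          intro q hq
          have := hpow1 q hq
          rw [mem_bot]
          simpa using this
        have h1 : Q ≤ centralizer (D : Set G) :=
          Subgroup.commutator_eq_bot_iff_le_centralizer.mp hS0
        have h2 : D ≤ D ⊓ centralizer (Q : Set G) :=
          le_inf le_rfl (Subgroup.le_centralizer_iff.mp h1)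
        rw [hM.hoff.af] at h2
        exact hM.ne_bot (le_bot_iff.mp h2)
      · apply hnc
        refine ⟨⟨fun a b => ?_⟩⟩
        have ha : (a : G) ^ 2 = 1 := hpow1 a a.2
        have hb : (b : G) ^ 2 = 1 := hpow1 b b.2
        have hab : ((a : G) * b) ^ 2 = 1 := hpow1 _ (Subgroup.mul_mem _ a.2 b.2)
        rw [pow_two] at ha hb hab
        apply Subtype.ext
        show (a : G) * b = b * a
        have h1 : (a : G) * ((a : G) * b * (a * b)) * b = a * b := by rw [hab]; group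
        have h2 : (a : G) * ((a : G) * b * (a * b)) * b = (a * a) * (b * a) * (b * b) := by group
        rw [h2, ha, hb] at h1
        simpa using h1.symm
  · right; exact Subgroup.eq_of_le_of_card_ge hXW (by rw [hm, hWcard])

/-- two planes `W_D`, `W_D'` are equal or meet trivially -/
theorem WW_dichotomy {V Q H D D' : Subgroup G} [hVc : IsMulCommutative V]
    (hC : Ctx p V Q H) (hM : MinOff p V Q D) (hDH : D ≤ H) (hM' : MinOff p V Q D')
    (hD'H : D' ≤ H) : WW V Q D ⊓ WW V Q D' = ⊥ ∨ WW V Q D = WW V Q D' := by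
  have hQX : Q ≤ normalizer ((WW V Q D ⊓ WW V Q D' : Subgroup G) : Set G) :=
    le_normalizer_inf' (Q_le_normalizer_WW hC) (Q_le_normalizer_WW hC)
  have hS : ⁅Q, D⁆ ≤ Q := Cfsg.Agent.Lib.Helper1.commutator_le_of_le_normalizer hM.hoff.aq
  have hS' : ⁅Q, D'⁆ ≤ Q := Cfsg.Agent.Lib.Helper1.commutator_le_of_le_normalizer hM'.hoff.aq
  rcases WW_irred hC hM hDH inf_le_left (hS.trans hQX) with h | h
  · left; exact h
  · rcases WW_irred hC hM' hD'H inf_le_right (hS'.trans hQX) with h' | h'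
    · left; exact h'
    · right; exact h.symm.trans h'

/-- conjugates of a minimal best offender by elements normalizing `V` and `Q` -/
theorem MinOff.conj_of_mem {V Q A : Subgroup G} (h : MinOff p V Q A) {x : G}
    (hxV : x ∈ normalizer (V : Set G)) (hxQ : x ∈ normalizer (Q : Set G)) :
    MinOff p V Q (A.map (MulAut.conj x).toMonoidHom) := by
  set c := (MulAut.conj x).toMonoidHom with hc
  have hcinj : Function.Injective c := (MulAut.conj x).injective
  have hVc : V.map c = V := Cfsg.H5.map_conj_eq_of_mem_normalizer hxV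
  have hQc : Q.map c = Q := Cfsg.H5.map_conj_eq_of_mem_normalizer hxQ
  have hfix : ∀ X : Subgroup G, fix V (X.map c) = (fix V X).map c := by
    intro X
    unfold Cfsg.H5.fix
    ext g
    constructor
    · intro hg
      rw [mem_inf] at hg
      refine ⟨x⁻¹ * g * x, mem_inf.mpr ⟨?_, ?_⟩, ?_⟩
      · have := (mem_normalizer_iff.mp (inv_mem hxV) g).mp hg.1
        simpa using this
      · rw [mem_centralizer_iff]
        intro y hy
        have h1 := mem_centralizer_iff.mp hg.2 (x * y * x⁻¹) ⟨y, hy, rfl⟩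
        calc y * (x⁻¹ * g * x) = x⁻¹ * ((x * y * x⁻¹) * g) * x := by group
          _ = x⁻¹ * (g * (x * y * x⁻¹)) * x := by rw [h1]
          _ = x⁻¹ * g * x * y := by group
      · show x * (x⁻¹ * g * x) * x⁻¹ = g
        group
    · rintro ⟨g', hg'', rfl⟩
      have hg' := mem_inf.mp hg''
      refine mem_inf.mpr ⟨(mem_normalizer_iff.mp hxV g').mp hg'.1, ?_⟩
      rw [mem_centralizer_iff]
      rintro _ ⟨y, hy, rfl⟩
      have h1 := mem_centralizer_iff.mp hg'.2 y hy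
      show x * y * x⁻¹ * (x * g' * x⁻¹) = x * g' * x⁻¹ * (x * y * x⁻¹)
      calc x * y * x⁻¹ * (x * g' * x⁻¹) = x * (y * g') * x⁻¹ := by group
        _ = x * (g' * y) * x⁻¹ := by rw [h1]
        _ = x * g' * x⁻¹ * (x * y * x⁻¹) := by group
  have hmm : ∀ X : Subgroup G, mm V (X.map c) = mm V X := by
    intro X
    unfold Cfsg.H5.mm
    rw [hfix, Subgroup.card_map_of_injective hcinj, Subgroup.card_map_of_injective hcinj]
  refine ⟨⟨?_, ?_, ?_, ?_, ?_⟩, ?_, ?_⟩
  · constructor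
    · rintro _ ⟨y, hy, rfl⟩ _ ⟨z, hz, rfl⟩
      show x * y * x⁻¹ * (x * z * x⁻¹) = x * z * x⁻¹ * (x * y * x⁻¹)
      have := h.hoff.ea.comm y hy z hz
      calc x * y * x⁻¹ * (x * z * x⁻¹) = x * (y * z) * x⁻¹ := by group
        _ = x * (z * y) * x⁻¹ := by rw [this]
        _ = x * z * x⁻¹ * (x * y * x⁻¹) := by group
    · rintro _ ⟨y, hy, rfl⟩
      show (x * y * x⁻¹) ^ p = 1
      rw [conj_pow, h.hoff.ea.exp y hy]; group
  · rintro _ ⟨y, hy, rfl⟩
    exact Subgroup.mul_mem _ (Subgroup.mul_mem _ hxV (h.hoff.av hy)) (Subgroup.inv_mem _ hxV)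
  · rintro _ ⟨y, hy, rfl⟩
    exact Subgroup.mul_mem _ (Subgroup.mul_mem _ hxQ (h.hoff.aq hy)) (Subgroup.inv_mem _ hxQ)
  · -- faithful on `Q`
    rw [eq_bot_iff]
    rintro _ ⟨⟨y, hy, rfl⟩, hcent⟩
    have hyc : y ∈ centralizer (Q : Set G) := by
      rw [mem_centralizer_iff]
      intro q hq
      have hq' : x * q * x⁻¹ ∈ Q := (mem_normalizer_iff.mp hxQ q).mp hq
      have h1 := mem_centralizer_iff.mp hcent _ hq'
      have h1' : x * q * x⁻¹ * (x * y * x⁻¹) = x * y * x⁻¹ * (x * q * x⁻¹) := h1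
      have : x * (q * y) * x⁻¹ = x * (y * q) * x⁻¹ := by
        calc x * (q * y) * x⁻¹ = x * q * x⁻¹ * (x * y * x⁻¹) := by group
          _ = x * y * x⁻¹ * (x * q * x⁻¹) := h1'
          _ = x * (y * q) * x⁻¹ := by group
      exact mul_left_cancel (mul_right_cancel this)
    have : y ∈ A ⊓ centralizer (Q : Set G) := mem_inf.mpr ⟨hy, hyc⟩
    rw [h.hoff.af, mem_bot] at this
    rw [mem_bot, this]
    show x * 1 * x⁻¹ = 1
    group
  · intro X hX
    rw [hmm]
    have hX' : X.map (MulAut.conj x⁻¹).toMonoidHom ≤ A := by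
      rintro _ ⟨y, hy, rfl⟩
      obtain ⟨z, hz, hzy⟩ := hX hy
      have : (MulAut.conj x⁻¹).toMonoidHom y = z := by
        rw [← hzy]
        show x⁻¹ * (x * z * x⁻¹) * x⁻¹⁻¹ = z
        group
      rw [this]; exact hz
    have h2 := h.hoff.max _ hX'
    have h3 : (X.map (MulAut.conj x⁻¹).toMonoidHom).map c = X := by
      rw [Subgroup.map_map]
      have : c.comp (MulAut.conj x⁻¹).toMonoidHom = MonoidHom.id G := by
        ext g
        show x * (x⁻¹ * g * x⁻¹⁻¹) * x⁻¹ = g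
        group
      rw [this, Subgroup.map_id]
    rw [← h3, hmm]
    exact h2
  · rw [Subgroup.card_map_of_injective hcinj]; exact h.hcard
  · rw [hmm]; exact h.hmm

theorem EE_map_conj {Q D : Subgroup G} {h : G} (hQ : h ∈ normalizer (Q : Set G)) :
    EE Q (D.map (MulAut.conj h).toMonoidHom) = (EE Q D).map (MulAut.conj h).toMonoidHom := by
  unfold EE
  rw [Subgroup.map_sup, Subgroup.map_commutator, Cfsg.H5.map_conj_eq_of_mem_normalizer hQ]

theorem WW_map_conj {V Q D : Subgroup G} {h : G} (hV : h ∈ normalizer (V : Set G))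
    (hQ : h ∈ normalizer (Q : Set G)) :
    WW V Q (D.map (MulAut.conj h).toMonoidHom) = (WW V Q D).map (MulAut.conj h).toMonoidHom := by
  unfold WW
  rw [EE_map_conj hQ, Subgroup.map_commutator, Cfsg.H5.map_conj_eq_of_mem_normalizer hV]

/-- every minimal offender normalizes every plane `W_A` -/
theorem minOff_le_normalizer_WW {V Q H A B : Subgroup G} [hVc : IsMulCommutative V]
    (hC : Ctx p V Q H) (hMA : MinOff p V Q A) (hAH : A ≤ H) (hMB : MinOff p V Q B)
    (hBH : B ≤ H) : B ≤ normalizer (WW V Q A : Set G) := by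
  have hp : p.Prime := Fact.out
  intro b hb
  have hbH : b ∈ H := hBH hb
  have hbV := hC.hHV hbH
  have hbQ := hC.hHQ hbH
  have hMAb : MinOff p V Q (A.map (MulAut.conj b).toMonoidHom) := hMA.conj_of_mem hbV hbQ
  have hAbH : A.map (MulAut.conj b).toMonoidHom ≤ H := by
    rintro _ ⟨a, ha, rfl⟩
    show b * a * b⁻¹ ∈ H
    exact H.mul_mem (H.mul_mem hbH (hAH ha)) (H.inv_mem hbH)
  have hWb := WW_map_conj (V := V) (D := A) hbV hbQ
  rcases WW_dichotomy hC hMA hAH hMAb hAbH with h | h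
  · exfalso
    rw [hWb] at h
    obtain ⟨-, hWcard, -, -⟩ := comp_basic hC hMA hAH
    have hWV := WW_le_V hC hMA hAH
    let f : ↥(WW V Q A) → ↥(⁅V, B⁆) := fun w => ⟨(w : G)⁻¹ * (b * w * b⁻¹), by
      have : (w : G)⁻¹ * (b * w * b⁻¹) = ⁅(w : G)⁻¹, b⁆ := by
        rw [commutatorElement_def]; group
      rw [this]
      exact Subgroup.commutator_mem_commutator (V.inv_mem (hWV w.2)) hb⟩
    have hinj : Function.Injective f := by
      intro w w' hww
      have h1 : (w : G)⁻¹ * (b * w * b⁻¹) = (w' : G)⁻¹ * (b * w' * b⁻¹) :=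
        congrArg Subtype.val hww
      have hu1 : (w' : G) * (w : G)⁻¹ ∈ WW V Q A :=
        Subgroup.mul_mem _ w'.2 (Subgroup.inv_mem _ w.2)
      have hu2 : b * ((w' : G) * (w : G)⁻¹) * b⁻¹ = (w' : G) * (w : G)⁻¹ := by
        have h2 : b * (w' : G) * b⁻¹ = (w' : G) * ((w : G)⁻¹ * (b * w * b⁻¹)) := by
          rw [h1]; group
        calc b * ((w' : G) * (w : G)⁻¹) * b⁻¹ = (b * w' * b⁻¹) * (b * w * b⁻¹)⁻¹ := by group
          _ = (w' : G) * ((w : G)⁻¹ * (b * w * b⁻¹)) * (b * w * b⁻¹)⁻¹ := by rw [h2]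
          _ = (w' : G) * (w : G)⁻¹ := by group
      have hu3 : (w' : G) * (w : G)⁻¹ ∈ (WW V Q A).map (MulAut.conj b).toMonoidHom :=
        ⟨_, hu1, hu2⟩
      have hu4 : (w' : G) * (w : G)⁻¹ ∈
          WW V Q A ⊓ (WW V Q A).map (MulAut.conj b).toMonoidHom := mem_inf.mpr ⟨hu1, hu3⟩
      rw [h, mem_bot] at hu4
      apply Subtype.ext
      exact (mul_inv_eq_one.mp hu4).symm
    have hle := Nat.card_le_card_of_injective f hinj
    rw [hWcard, hMB.card_commutator] at hle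
    have := hp.one_lt
    nlinarith
  · apply Cfsg.H5.mem_normalizer_of_map_conj_eq
    rw [← hWb]; exact h.symm

theorem H_le_normalizer_WW {V Q H A : Subgroup G} [hVc : IsMulCommutative V]
    (hC : Ctx p V Q H)
    (hgen : ∀ K : Subgroup G, (∀ B, MinOff p V Q B → B ≤ H → B ≤ K) → H ≤ K)
    (hMA : MinOff p V Q A) (hAH : A ≤ H) : H ≤ normalizer (WW V Q A : Set G) :=
  hgen _ (fun _ hMB hBH => minOff_le_normalizer_WW hC hMA hAH hMB hBH)

theorem WW_inf_eq_bot_of_le_centralizer {V Q H A B : Subgroup G} [hVc : IsMulCommutative V]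
    (hC : Ctx p V Q H) (hMA : MinOff p V Q A) (hAH : A ≤ H) (hMB : MinOff p V Q B)
    (hBH : B ≤ H) (hBW : B ≤ centralizer (WW V Q A : Set G)) : WW V Q B ⊓ WW V Q A = ⊥ := by
  rcases WW_dichotomy hC hMB hBH hMA hAH with h | h
  · exact h
  · exfalso
    obtain ⟨-, -, hbot, -⟩ := comp_basic hC hMB hBH
    have h1 : B ≤ EE Q B ⊓ centralizer (WW V Q B : Set G) :=
      le_inf (D_le_EE Q B) (by rw [h]; exact hBW)
    rw [hbot] at h1
    exact hMB.ne_bot (le_bot_iff.mp h1)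

/-- a minimal offender centralizing `W_A` centralizes `E_A` -/
theorem commutator_EE_eq_bot {V Q H A B : Subgroup G} [hVc : IsMulCommutative V]
    (hC : Ctx p V Q H)
    (hgen : ∀ K : Subgroup G, (∀ B, MinOff p V Q B → B ≤ H → B ≤ K) → H ≤ K)
    (hMA : MinOff p V Q A) (hAH : A ≤ H) (hMB : MinOff p V Q B)
    (hBH : B ≤ H) (hBW : B ≤ centralizer (WW V Q A : Set G)) : ⁅EE Q A, B⁆ = ⊥ := by
  have hdisj := WW_inf_eq_bot_of_le_centralizer hC hMA hAH hMB hBH hBW
  have hEAH := EE_le_H hC hMA hAH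
  have h2 : ⁅⁅V, EE Q A⁆, B⁆ = ⊥ := by
    rw [Subgroup.commutator_eq_bot_iff_le_centralizer]
    exact Subgroup.le_centralizer_iff.mp hBW
  have h1 : ⁅⁅B, V⁆, EE Q A⁆ = ⊥ := by
    rw [Subgroup.commutator_comm B V, eq_bot_iff, ← hdisj]
    have hVB : ⁅V, B⁆ ≤ WW V Q B := Subgroup.commutator_mono le_rfl (D_le_EE Q B)
    apply le_inf
    · have hN : EE Q A ≤ normalizer (WW V Q B : Set G) :=
        hEAH.trans (H_le_normalizer_WW hC hgen hMB hBH)
      exact (Subgroup.commutator_mono hVB le_rfl).trans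
        (Cfsg.Agent.Lib.Helper1.commutator_le_of_le_normalizer hN)
    · exact Subgroup.commutator_mono
        (Cfsg.Agent.Lib.Helper1.commutator_le_of_le_normalizer hMB.hoff.av) le_rfl
  have h3 : ⁅⁅EE Q A, B⁆, V⁆ = ⊥ := Subgroup.commutator_commutator_eq_bot_of_rotate h1 h2
  rw [Subgroup.commutator_eq_bot_iff_le_centralizer] at h3
  have h4 : ⁅EE Q A, B⁆ ≤ H := by
    rw [Subgroup.commutator_le]
    intro e he b hb
    rw [commutatorElement_def]
    exact H.mul_mem (H.mul_mem (H.mul_mem (hEAH he) (hBH hb)) (H.inv_mem (hEAH he)))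
      (H.inv_mem (hBH hb))
  rw [eq_bot_iff, ← hC.hf]
  exact le_inf h4 h3

/-- every `v ∈ V` is centralized by a `Q`-conjugate of `A` inside `⟨A, A^x⟩` -/
theorem exists_conj_centralizing {V Q A H : Subgroup G} [hVc : IsMulCommutative V]
    (hS : Setup p V Q) (hVexp : ∀ v ∈ V, v ^ p = 1) (hM : MinOff p V Q A)
    (hQH : Q ≤ H) (hAH : A ≤ H) (hHV : H ≤ normalizer (V : Set G))
    (hf : H ⊓ centralizer (V : Set G) = ⊥) {x : G} (hxQ : x ∈ Q)
    (hxA : x ∉ centralizer (A : Set G)) {v : G} (hv : v ∈ V) :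
    ∃ y₁ ∈ Q, A.map (MulAut.conj y₁).toMonoidHom ≤ A ⊔ A.map (MulAut.conj x).toMonoidHom ∧
      v ∈ centralizer ((A.map (MulAut.conj y₁).toMonoidHom : Subgroup G) : Set G) := by
  by_cases hvA : v ∈ centralizer (A : Set G)
  · refine ⟨1, Q.one_mem, ?_, ?_⟩
    · rw [map_conj_eq_of_mem_centralizer (Subgroup.one_mem _)]; exact le_sup_left
    · rw [map_conj_eq_of_mem_centralizer (Subgroup.one_mem _)]; exact hvA
  · have hMx : MinOff p V Q (A.map (MulAut.conj x).toMonoidHom) := hM.conj hS hxQ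
    have hn := (pair_not_le hS hVexp hM hQH hAH hHV hf hxQ hxA).1
    obtain ⟨g, hgA, hg⟩ := exists_conj_mem_centralizer hS hM hMx hn hv hvA
    have hgQ : g ∈ normalizer (Q : Set G) := hM.hoff.aq hgA
    have hy₁Q : g * x * g⁻¹ ∈ Q := (mem_normalizer_iff.mp hgQ x).mp hxQ
    have hmemAx : ∀ a ∈ A, x * (g⁻¹ * a * g) * x⁻¹ ∈ A.map (MulAut.conj x).toMonoidHom :=
      fun a ha => ⟨g⁻¹ * a * g, A.mul_mem (A.mul_mem (A.inv_mem hgA) ha) hgA, rfl⟩
    refine ⟨g * x * g⁻¹, hy₁Q, ?_, ?_⟩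
    · rintro _ ⟨a, ha, rfl⟩
      have h1 : (MulAut.conj (g * x * g⁻¹)).toMonoidHom a =
          g * (x * (g⁻¹ * a * g) * x⁻¹) * g⁻¹ := by
        show g * x * g⁻¹ * a * (g * x * g⁻¹)⁻¹ = _
        group
      rw [h1]
      have hgE : g ∈ A ⊔ A.map (MulAut.conj x).toMonoidHom := (le_sup_left : A ≤ _) hgA
      exact Subgroup.mul_mem _ (Subgroup.mul_mem _ hgE
        ((le_sup_right : A.map (MulAut.conj x).toMonoidHom ≤ _) (hmemAx a ha)))
        (Subgroup.inv_mem _ hgE)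
    · rw [mem_centralizer_iff]
      rintro _ ⟨a, ha, rfl⟩
      show g * x * g⁻¹ * a * (g * x * g⁻¹)⁻¹ * v = v * (g * x * g⁻¹ * a * (g * x * g⁻¹)⁻¹)
      have h1 := mem_centralizer_iff.mp hg _ (hmemAx a ha)
      calc g * x * g⁻¹ * a * (g * x * g⁻¹)⁻¹ * v
          = g * ((x * (g⁻¹ * a * g) * x⁻¹) * (g⁻¹ * v * g)) * g⁻¹ := by group
        _ = g * ((g⁻¹ * v * g) * (x * (g⁻¹ * a * g) * x⁻¹)) * g⁻¹ := by rw [h1]
        _ = v * (g * x * g⁻¹ * a * (g * x * g⁻¹)⁻¹) := by group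

/-- a minimal offender not centralizing `W_A` lies in `E_A` -/
theorem minOff_le_EE {V Q H A B : Subgroup G} [hVc : IsMulCommutative V]
    (hC : Ctx p V Q H) (hMA : MinOff p V Q A) (hAH : A ≤ H) (hMB : MinOff p V Q B)
    (hBH : B ≤ H) (hBW : ¬ B ≤ centralizer (WW V Q A : Set G)) : B ≤ EE Q A := by
  have hp : p.Prime := Fact.out
  obtain ⟨x, hxQ, hxA⟩ := hMA.exists_not_mem_centralizer
  obtain ⟨-, hWcard, hbot, -⟩ := comp_basic hC hMA hAH
  have hE := EE_eq_pair hC hMA hAH hxQ hxA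
  have hWV := WW_le_V hC hMA hAH
  have hBnW : B ≤ normalizer (WW V Q A : Set G) := minOff_le_normalizer_WW hC hMA hAH hMB hBH
  have hlcard : Nat.card ↥(⁅V, B⁆) = p := hMB.card_commutator
  have hlW : ⁅V, B⁆ ≤ WW V Q A := by
    have h1 : ⁅WW V Q A, B⁆ ≤ ⁅V, B⁆ := Subgroup.commutator_mono hWV le_rfl
    have h2 : ⁅WW V Q A, B⁆ ≤ WW V Q A :=
      Cfsg.Agent.Lib.Helper1.commutator_le_of_le_normalizer hBnW
    have h3 : ⁅WW V Q A, B⁆ ≠ ⊥ := by
      intro h
      apply hBW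
      rw [Subgroup.commutator_eq_bot_iff_le_centralizer] at h
      exact Subgroup.le_centralizer_iff.mp h
    have hdvd : Nat.card ↥(⁅WW V Q A, B⁆) ∣ p := by
      rw [← hlcard]; exact Subgroup.card_dvd_of_le h1
    rcases (Nat.dvd_prime hp).mp hdvd with h | h
    · exact absurd (Subgroup.card_eq_one.mp h) h3
    · have h4 : ⁅WW V Q A, B⁆ = ⁅V, B⁆ :=
        Subgroup.eq_of_le_of_card_ge h1 (by rw [h, hlcard])
      rw [← h4]; exact h2
  have hlne : (⁅V, B⁆ : Subgroup G) ≠ ⊥ := by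
    intro h
    rw [h, Subgroup.card_bot] at hlcard
    exact hp.one_lt.ne hlcard
  obtain ⟨⟨w, hwl⟩, hw'1⟩ := Subgroup.ne_bot_iff_exists_ne_one.mp hlne
  have hw1 : w ≠ 1 := fun h => hw'1 (Subtype.ext h)
  have hwV : w ∈ V := hWV (hlW hwl)
  obtain ⟨y₁, hy₁Q, hDE', hwD⟩ :=
    exists_conj_centralizing hC.hS hC.vexp hMA hC.hQH hAH hC.hHV hC.hf hxQ hxA hwV
  have hMD : MinOff p V Q (A.map (MulAut.conj y₁).toMonoidHom) := hMA.conj hC.hS hy₁Q
  generalize A.map (MulAut.conj y₁).toMonoidHom = D at hDE' hwD hMD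
  have hDE : D ≤ EE Q A := by rw [hE]; exact hDE'
  have hDH : D ≤ H := hDE.trans (EE_le_H hC hMA hAH)
  have hDnW : ¬ D ≤ centralizer (WW V Q A : Set G) := by
    intro h
    have h1 : D ≤ EE Q A ⊓ centralizer (WW V Q A : Set G) := le_inf hDE h
    rw [hbot] at h1
    exact hMD.ne_bot (le_bot_iff.mp h1)
  have hlDW : ⁅V, D⁆ ≤ WW V Q A := Subgroup.commutator_mono le_rfl hDE
  have hfD := fixW_eq_of hC.hS hWcard hMD hlDW hDnW
  have hfB := fixW_eq_of hC.hS hWcard hMB hlW hBW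
  have hll : ⁅V, B⁆ = ⁅V, D⁆ := by
    have hZ : zpowers w = ⁅V, B⁆ := by
      apply Subgroup.eq_of_le_of_card_ge (zpowers_le.mpr hwl)
      rw [card_zpowers_of_exp (hC.vexp _ hwV) hw1, hlcard]
    have h1 : ⁅V, B⁆ ≤ ⁅V, D⁆ := by
      rw [← hZ, zpowers_le, ← hfD]
      exact mem_inf.mpr ⟨hlW hwl, hwD⟩
    exact Subgroup.eq_of_le_of_card_ge h1 (by rw [hMD.card_commutator, hlcard])
  have hBl : B ≤ centralizer ((⁅V, B⁆ : Subgroup G) : Set G) :=
    le_centralizer_commutator_of_card hMB.hoff.ea.isPGroup hC.hS.vp hMB.hoff.av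
      hMB.card_commutator
  have hDl : D ≤ centralizer ((⁅V, B⁆ : Subgroup G) : Set G) := by
    rw [hll]
    exact le_centralizer_commutator_of_card hMD.hoff.ea.isPGroup hC.hS.vp hMD.hoff.av
      hMD.card_commutator
  have hlt : ⁅V, B⁆ < WW V Q A := by
    refine lt_of_le_of_ne hlW ?_
    intro h
    rw [← h, hlcard] at hWcard
    have := hp.one_lt
    nlinarith
  obtain ⟨f, hfW, hfl⟩ := SetLike.exists_of_lt hlt
  obtain ⟨⟨b, hbB⟩, hb'1⟩ := Subgroup.ne_bot_iff_exists_ne_one.mp hMB.ne_bot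
  obtain ⟨⟨d, hdD⟩, hd'1⟩ := Subgroup.ne_bot_iff_exists_ne_one.mp hMD.ne_bot
  have hb1 : b ≠ 1 := fun h => hb'1 (Subtype.ext h)
  have hd1 : d ≠ 1 := fun h => hd'1 (Subtype.ext h)
  have hZB : zpowers b = B := by
    apply Subgroup.eq_of_le_of_card_ge (zpowers_le.mpr hbB)
    rw [card_zpowers_of_exp (hMB.hoff.ea.exp _ hbB) hb1, hMB.hcard]
  have hZD : zpowers d = D := by
    apply Subgroup.eq_of_le_of_card_ge (zpowers_le.mpr hdD)
    rw [card_zpowers_of_exp (hMD.hoff.ea.exp _ hdD) hd1, hMD.hcard]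
  have hκb_mem : f⁻¹ * (b * f * b⁻¹) ∈ ⁅V, B⁆ := by
    have h1 : f⁻¹ * (b * f * b⁻¹) = ⁅f⁻¹, b⁆ := by rw [commutatorElement_def]; group
    rw [h1]
    exact Subgroup.commutator_mem_commutator (V.inv_mem (hWV hfW)) hbB
  have hκd_mem : f⁻¹ * (d * f * d⁻¹) ∈ ⁅V, B⁆ := by
    rw [hll]
    have h1 : f⁻¹ * (d * f * d⁻¹) = ⁅f⁻¹, d⁆ := by rw [commutatorElement_def]; group
    rw [h1]
    exact Subgroup.commutator_mem_commutator (V.inv_mem (hWV hfW)) hdD
  have hcomm_of : ∀ c : G, f⁻¹ * (c * f * c⁻¹) = 1 → c * f = f * c := by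
    intro c h
    have h2 : f * (f⁻¹ * (c * f * c⁻¹)) = f * 1 := by rw [h]
    have h3 : c * f * c⁻¹ = f := by simpa using h2
    calc c * f = (c * f * c⁻¹) * c := by group
      _ = f * c := by rw [h3]
  have hκb1 : f⁻¹ * (b * f * b⁻¹) ≠ 1 := by
    intro h
    apply hfl
    rw [← hfB]
    refine mem_inf.mpr ⟨hfW, ?_⟩
    rw [← hZB, centralizer_zpowers, mem_centralizer_iff]
    intro g hg
    rw [Set.mem_singleton_iff] at hg
    rw [hg]
    exact hcomm_of b h
  have hκd1 : f⁻¹ * (d * f * d⁻¹) ≠ 1 := by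
    intro h
    apply hfl
    rw [hll, ← hfD]
    refine mem_inf.mpr ⟨hfW, ?_⟩
    rw [← hZD, centralizer_zpowers, mem_centralizer_iff]
    intro g hg
    rw [Set.mem_singleton_iff] at hg
    rw [hg]
    exact hcomm_of d h
  have hbκ : b * (f⁻¹ * (b * f * b⁻¹)) = (f⁻¹ * (b * f * b⁻¹)) * b :=
    (mem_centralizer_iff.mp (hBl hbB) _ hκb_mem).symm
  have hκbp : (f⁻¹ * (b * f * b⁻¹)) ^ p = 1 := hC.vexp _ (hWV (hlW hκb_mem))
  have hZκ : zpowers (f⁻¹ * (b * f * b⁻¹)) = ⁅V, B⁆ := by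
    apply Subgroup.eq_of_le_of_card_ge (zpowers_le.mpr hκb_mem)
    rw [card_zpowers_of_exp hκbp hκb1, hlcard]
  have hκd_pow : f⁻¹ * (d * f * d⁻¹) ∈ Submonoid.powers (f⁻¹ * (b * f * b⁻¹)) := by
    rw [mem_powers_iff_mem_zpowers, hZκ]; exact hκd_mem
  obtain ⟨k, hk⟩ := (Submonoid.mem_powers_iff _ _).mp hκd_pow
  have hbk := conj_pow_eq hbκ k
  rw [hk] at hbk
  have hbk' : b ^ k * f * (b ^ k)⁻¹ = d * f * d⁻¹ := by rw [hbk]; group
  have htf : (d⁻¹ * b ^ k) * f = f * (d⁻¹ * b ^ k) := by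
    have h1 : (d⁻¹ * b ^ k) * f * (d⁻¹ * b ^ k)⁻¹ = f := by
      calc d⁻¹ * b ^ k * f * (d⁻¹ * b ^ k)⁻¹ = d⁻¹ * (b ^ k * f * (b ^ k)⁻¹) * d := by group
        _ = d⁻¹ * (d * f * d⁻¹) * d := by rw [hbk']
        _ = f := by group
    calc (d⁻¹ * b ^ k) * f = ((d⁻¹ * b ^ k) * f * (d⁻¹ * b ^ k)⁻¹) * (d⁻¹ * b ^ k) := by group
      _ = f * (d⁻¹ * b ^ k) := by rw [h1]
  have htB : d⁻¹ * b ^ k ∈ D ⊔ B :=
    Subgroup.mul_mem _ ((le_sup_left : D ≤ D ⊔ B) (D.inv_mem hdD))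
      ((le_sup_right : B ≤ D ⊔ B) (B.pow_mem hbB k))
  have hdt : d * (d⁻¹ * b ^ k) = b ^ k := by group
  generalize d⁻¹ * b ^ k = t at htf htB hdt
  have htl : t ∈ centralizer ((⁅V, B⁆ : Subgroup G) : Set G) := (sup_le hDl hBl) htB
  have htH : t ∈ H := (sup_le hDH hBH) htB
  have htW : t ∈ centralizer (WW V Q A : Set G) := by
    have hsup : ⁅V, B⁆ ⊔ zpowers f = WW V Q A := by
      have hle : ⁅V, B⁆ ⊔ zpowers f ≤ WW V Q A := sup_le hlW (zpowers_le.mpr hfW)
      have hdvd : Nat.card ↥(⁅V, B⁆ ⊔ zpowers f) ∣ p ^ 2 := by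
        rw [← hWcard]; exact Subgroup.card_dvd_of_le hle
      obtain ⟨m, hm2, hm⟩ := (Nat.dvd_prime_pow hp).mp hdvd
      have hne : ⁅V, B⁆ ⊔ zpowers f ≠ ⁅V, B⁆ := by
        intro h
        apply hfl
        rw [← h]
        exact (le_sup_right : zpowers f ≤ _) (mem_zpowers f)
      have hge : p ≤ Nat.card ↥(⁅V, B⁆ ⊔ zpowers f) := by
        rw [← hlcard]; exact Subgroup.card_le_of_le le_sup_left
      interval_cases m
      · rw [hm, pow_zero] at hge
        exact absurd hge (by have := hp.one_lt; omega)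
      · exfalso
        apply hne
        symm
        exact Subgroup.eq_of_le_of_card_ge le_sup_left (by rw [hm, pow_one, hlcard])
      · exact Subgroup.eq_of_le_of_card_ge hle (by rw [hm, hWcard])
    rw [← hsup, Cfsg.H5.centralizer_sup, mem_inf]
    refine ⟨htl, ?_⟩
    rw [centralizer_zpowers, mem_centralizer_iff]
    intro g hg
    rw [Set.mem_singleton_iff] at hg
    rw [hg]; exact htf.symm
  by_cases ht1 : t = 1
  · have hdb : d = b ^ k := by rw [ht1, mul_one] at hdt; exact hdt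
    have hDB : D ≤ B := by rw [← hZD, zpowers_le, hdb]; exact B.pow_mem hbB k
    have hDeq : D = B := Subgroup.eq_of_le_of_card_ge hDB (by rw [hMB.hcard, hMD.hcard])
    rw [← hDeq]; exact hDE
  · exfalso
    have hTle : zpowers t ≤ D ⊔ B := zpowers_le.mpr htB
    have hTH : zpowers t ≤ H := zpowers_le.mpr htH
    have hVT : ⁅V, zpowers t⁆ ≤ ⁅V, B⁆ := by
      have h1 := Subgroup.commutator_mono (le_refl V) hTle
      rw [commutator_sup_eq hMD.hoff.av hMB.hoff.av, ← hll, sup_idem] at h1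
      exact h1
    have hTne : zpowers t ≠ ⊥ := by
      intro h
      apply ht1
      have h2 := mem_zpowers t
      rw [h, mem_bot] at h2
      exact h2
    have hVTne : ⁅V, zpowers t⁆ ≠ ⊥ := commutator_ne_bot_of_ne_bot hC.hf hTH hTne
    have hVTeq : ⁅V, zpowers t⁆ = ⁅V, B⁆ := by
      have hdvd : Nat.card ↥(⁅V, zpowers t⁆) ∣ p := by
        rw [← hlcard]; exact Subgroup.card_dvd_of_le hVT
      rcases (Nat.dvd_prime hp).mp hdvd with h | h
      · exact absurd (Subgroup.card_eq_one.mp h) hVTne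
      · exact Subgroup.eq_of_le_of_card_ge hVT (by rw [h, hlcard])
    have htV : t ∈ normalizer (V : Set G) := hC.hHV htH
    have htp : t ^ p = 1 := by
      have h1 : t ^ p ∈ H ⊓ centralizer (V : Set G) := by
        refine mem_inf.mpr ⟨H.pow_mem htH p, ?_⟩
        rw [mem_centralizer_iff]
        intro v hv
        have hκ : v⁻¹ * (t * v * t⁻¹) ∈ ⁅V, B⁆ := by
          rw [← hVTeq]
          have h2 : v⁻¹ * (t * v * t⁻¹) = ⁅v⁻¹, t⁆ := by rw [commutatorElement_def]; group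
          rw [h2]
          exact Subgroup.commutator_mem_commutator (V.inv_mem hv) (mem_zpowers t)
        have hcomm : t * (v⁻¹ * (t * v * t⁻¹)) = (v⁻¹ * (t * v * t⁻¹)) * t :=
          (mem_centralizer_iff.mp htl _ hκ).symm
        have h2 := conj_pow_eq hcomm p
        have h3 : (v⁻¹ * (t * v * t⁻¹)) ^ p = 1 := hC.vexp _ (hWV (hlW hκ))
        rw [h3, mul_one] at h2
        calc v * t ^ p = (t ^ p * v * (t ^ p)⁻¹) * t ^ p := by rw [h2]
          _ = t ^ p * v := by group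
      rw [hC.hf, mem_bot] at h1
      exact h1
    have hTcard : Nat.card (zpowers t) = p := card_zpowers_of_exp htp ht1
    have hTea : EA p (zpowers t) := EA_zpowers htp
    have hTmm : mm V (zpowers t) = Nat.card V := by
      have h1 := card_commutator_zpowers (V := V) htV
      rw [hVTeq, hlcard] at h1
      have h2 : mm V (zpowers t) = Nat.card (zpowers t) * Nat.card (fix V (zpowers t)) := rfl
      rw [h2, hTcard]; exact h1
    have hMT : MinOff p V Q (zpowers t) := by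
      refine ⟨⟨hTea, hTH.trans hC.hHV, hTH.trans hC.hHQ, ?_, ?_⟩, hTcard, hTmm⟩
      · rw [eq_bot_iff]
        intro g hg
        rw [mem_inf] at hg
        have hgQ : g ∈ Q := hC.hcq (mem_inf.mpr ⟨hTH hg.1, hg.2⟩)
        have h3 : orderOf g ∣ p := orderOf_dvd_of_pow_eq_one (hTea.exp g hg.1)
        have h4 : orderOf g ∣ Nat.card Q := Subgroup.orderOf_dvd_natCard _ hgQ
        have h5 : orderOf g = 1 :=
          Nat.Coprime.eq_one_of_dvd (hC.hS.qcop.symm.coprime_dvd_left h3) h4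
        rw [mem_bot]
        exact orderOf_eq_one_iff.mp h5
      · intro X hX
        have hdvd : Nat.card X ∣ p := by rw [← hTcard]; exact Subgroup.card_dvd_of_le hX
        rcases (Nat.dvd_prime hp).mp hdvd with h | h
        · rw [Subgroup.card_eq_one.mp h, mm_bot, hTmm]
        · rw [Subgroup.eq_of_le_of_card_ge hX (by rw [h, hTcard])]
    have hTW : zpowers t ≤ centralizer (WW V Q A : Set G) := zpowers_le.mpr htW
    have hdisj := WW_inf_eq_bot_of_le_centralizer hC hMA hAH hMT hTH hTW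
    have h6 : ⁅V, B⁆ ≤ WW V Q (zpowers t) ⊓ WW V Q A := by
      refine le_inf ?_ hlW
      rw [← hVTeq]
      exact Subgroup.commutator_mono le_rfl (D_le_EE Q (zpowers t))
    rw [hdisj] at h6
    exact hlne (le_bot_iff.mp h6)

theorem WW_inf_fix {V Q H D : Subgroup G} [hVc : IsMulCommutative V]
    (hC : Ctx p V Q H) (hM : MinOff p V Q D) (hDH : D ≤ H) :
    WW V Q D ⊓ (V ⊓ centralizer (EE Q D : Set G)) = ⊥ := by
  rw [eq_bot_iff, ← WW_inf_centralizer_EE hC hM hDH]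
  exact le_inf inf_le_left (inf_le_right.trans inf_le_right)

/-- **KS 9.3.7**: `H = E_A × C_H(W_A)`. -/
theorem struct_main {V Q H A : Subgroup G} [hVc : IsMulCommutative V] (hC : Ctx p V Q H)
    (hgen : ∀ K : Subgroup G, (∀ B, MinOff p V Q B → B ≤ H → B ≤ K) → H ≤ K)
    (hMA : MinOff p V Q A) (hAH : A ≤ H) :
    ⁅EE Q A, H ⊓ centralizer (WW V Q A : Set G)⁆ = ⊥ ∧
    EE Q A ⊓ (H ⊓ centralizer (WW V Q A : Set G)) = ⊥ ∧
    EE Q A ⊔ (H ⊓ centralizer (WW V Q A : Set G)) = H ∧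
    ⁅V, H ⊓ centralizer (WW V Q A : Set G)⁆ ≤ V ⊓ centralizer (EE Q A : Set G) := by
  obtain ⟨-, -, hbot, -⟩ := comp_basic hC hMA hAH
  have hEH := EE_le_H hC hMA hAH
  have hHle : H ≤ EE Q A ⊔
      (H ⊓ centralizer (WW V Q A : Set G) ⊓ centralizer (EE Q A : Set G)) := by
    apply hgen
    intro B hMB hBH
    by_cases hBW : B ≤ centralizer (WW V Q A : Set G)
    · have h1 := commutator_EE_eq_bot hC hgen hMA hAH hMB hBH hBW
      rw [Subgroup.commutator_eq_bot_iff_le_centralizer] at h1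
      have h2 : B ≤ centralizer (EE Q A : Set G) := Subgroup.le_centralizer_iff.mp h1
      exact (le_inf (le_inf hBH hBW) h2).trans le_sup_right
    · exact (minOff_le_EE hC hMA hAH hMB hBH hBW).trans le_sup_left
  have hF'n : H ⊓ centralizer (WW V Q A : Set G) ⊓ centralizer (EE Q A : Set G) ≤
      normalizer (EE Q A : Set G) := inf_le_right.trans (centralizer_le_normalizer _)
  have hFE : H ⊓ centralizer (WW V Q A : Set G) ≤ centralizer (EE Q A : Set G) := by
    intro f hf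
    have hfH : f ∈ H := (mem_inf.mp hf).1
    obtain ⟨e, he, f', hf', rfl⟩ :=
      (Cfsg.Agent.Lib.Helper11.mem_sup_iff_exists_mul (EE Q A) _ hF'n f).mp (hHle hfH)
    have hf'F : f' ∈ H ⊓ centralizer (WW V Q A : Set G) := (mem_inf.mp hf').1
    have heF : e ∈ H ⊓ centralizer (WW V Q A : Set G) := by
      have h1 : e = (e * f') * f'⁻¹ := by group
      rw [h1]
      exact Subgroup.mul_mem _ hf (Subgroup.inv_mem _ hf'F)
    have he1 : e ∈ EE Q A ⊓ centralizer (WW V Q A : Set G) :=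
      mem_inf.mpr ⟨he, (mem_inf.mp heF).2⟩
    rw [hbot, mem_bot] at he1
    rw [he1, one_mul]
    exact (mem_inf.mp hf').2
  refine ⟨?_, ?_, ?_, ?_⟩
  · rw [Subgroup.commutator_eq_bot_iff_le_centralizer]
    exact Subgroup.le_centralizer_iff.mp hFE
  · rw [eq_bot_iff, ← hbot]
    exact le_inf inf_le_left (inf_le_right.trans inf_le_right)
  · apply le_antisymm (sup_le hEH inf_le_left)
    exact hHle.trans (sup_le_sup_left inf_le_left _)
  · have hFV : H ⊓ centralizer (WW V Q A : Set G) ≤ normalizer (V : Set G) :=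
      inf_le_left.trans hC.hHV
    apply le_inf (Cfsg.Agent.Lib.Helper1.commutator_le_of_le_normalizer hFV)
    rw [Subgroup.commutator_le]
    intro v hv f hf
    have hsup := WW_sup_fix hC hMA hAH
    have hWV := WW_le_V hC hMA hAH
    have hUn : (V ⊓ centralizer (EE Q A : Set G)) ≤ normalizer (WW V Q A : Set G) :=
      le_normalizer_of_comm inf_le_left hWV
    have hv' : v ∈ WW V Q A ⊔ (V ⊓ centralizer (EE Q A : Set G)) := by rw [hsup]; exact hv
    obtain ⟨w, hw, u, hu, rfl⟩ :=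
      (Cfsg.Agent.Lib.Helper11.mem_sup_iff_exists_mul (WW V Q A) _ hUn v).mp hv'
    have hfw : w * f = f * w := mem_centralizer_iff.mp (mem_inf.mp hf).2 w hw
    have huV : u ∈ V := (mem_inf.mp hu).1
    have huE : u ∈ centralizer (EE Q A : Set G) := (mem_inf.mp hu).2
    have hfE : f ∈ centralizer (EE Q A : Set G) := hFE hf
    have hcV : ⁅u, f⁆ ∈ V :=
      (Cfsg.Agent.Lib.Helper1.commutator_le_of_le_normalizer hFV)
        (Subgroup.commutator_mem_commutator huV hf)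
    have hcE : ⁅u, f⁆ ∈ centralizer (EE Q A : Set G) := by
      rw [commutatorElement_def]
      exact Subgroup.mul_mem _ (Subgroup.mul_mem _ (Subgroup.mul_mem _ huE hfE)
        (Subgroup.inv_mem _ huE)) (Subgroup.inv_mem _ hfE)
    have heq : ⁅w * u, f⁆ = w * ⁅u, f⁆ * w⁻¹ := by
      rw [commutatorElement_def, commutatorElement_def]
      have h1 : w⁻¹ * f⁻¹ = f⁻¹ * w⁻¹ := by rw [← mul_inv_rev, ← mul_inv_rev, hfw]
      calc w * u * f * (w * u)⁻¹ * f⁻¹ = w * u * f * u⁻¹ * (w⁻¹ * f⁻¹) := by group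
        _ = w * u * f * u⁻¹ * (f⁻¹ * w⁻¹) := by rw [h1]
        _ = w * (u * f * u⁻¹ * f⁻¹) * w⁻¹ := by group
    rw [heq]
    have hcw : w * ⁅u, f⁆ * w⁻¹ = ⁅u, f⁆ := by
      have h1 : w * ⁅u, f⁆ = ⁅u, f⁆ * w :=
        congrArg Subtype.val (hVc.is_comm.comm ⟨w, hWV hw⟩ ⟨⁅u, f⁆, hcV⟩)
      rw [h1]; group
    rw [hcw]
    exact hcE

end Comp

section Bridge3

variable {G : Type*} [Group G] [Finite G] {p : ℕ} [Fact p.Prime] {V H : Subgroup G}

theorem ctx_of (hV : Cfsg.IsElementaryAbelian p V) (hHV : H ≤ normalizer (V : Set G))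
    (hf : H ⊓ centralizer (V : Set G) = ⊥)
    (hS1 : centralizer (Cfsg.pPrimeCore p ↥H : Set ↥H) ≤ Cfsg.pPrimeCore p ↥H) :
    Ctx p V (Qof p H) H := by
  refine ⟨setup_of hV hHV hf, hV.2, Qof_le p H, hHV, le_normalizer_Qof p H, hf, ?_⟩
  intro x hx
  rw [mem_inf] at hx
  have hxH : x ∈ H := hx.1
  have h1 : (⟨x, hxH⟩ : ↥H) ∈ centralizer (Cfsg.pPrimeCore p ↥H : Set ↥H) := by
    rw [mem_centralizer_iff]
    intro k hk
    have hkQ : (k : G) ∈ Qof p H := ⟨k, hk, rfl⟩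
    exact Subtype.ext (mem_centralizer_iff.mp hx.2 (k : G) hkQ)
  exact ⟨⟨x, hxH⟩, hS1 h1, rfl⟩

theorem gen_of (hV : Cfsg.IsElementaryAbelian p V) (hHV : H ≤ normalizer (V : Set G))
    (hf : H ⊓ centralizer (V : Set G) = ⊥)
    (hS1 : centralizer (Cfsg.pPrimeCore p ↥H : Set ↥H) ≤ Cfsg.pPrimeCore p ↥H)
    (hS3 : H = ⨆ A : {A : Subgroup G // A ≤ H ∧ Cfsg.IsBestOffenderOn p V A}, (A : Subgroup G)) :
    ∀ K : Subgroup G, (∀ B, MinOff p V (Qof p H) B → B ≤ H → B ≤ K) → H ≤ K := by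
  intro K hK
  haveI hVc : IsMulCommutative V := hV.1
  have hS := setup_of (H := H) hV hHV hf
  refine hS3.le.trans (iSup_le ?_)
  rintro ⟨A', hA'H, hA'⟩
  show A' ≤ K
  by_cases hne : A' = ⊥
  · rw [hne]; exact bot_le
  have hO := off_of hHV hf hS1 hA'H hA'
  obtain ⟨k, f, hfam, -, hsup⟩ := exists_family hS (Nat.card A') A' rfl hO hne
  rw [← hsup]
  apply iSup_le
  intro i
  obtain ⟨hfA, hfcard, hfmm⟩ := hfam i
  have hmmA : mm V A' = Nat.card V := mm_eq_card hS (Nat.card A') A' rfl hO hne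
  exact hK (f i) ⟨hO.mono hfA hfmm, hfcard, hfmm.trans hmmA⟩ (hfA.trans hA'H)

end Bridge3

end Cfsg.Agent.Lib.Helper20.BO
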