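import Mathlib
import Cfsg.Agent.Lib.Helper20.BestOffComp
import Cfsg.Agent.Lib.Helper1.CoprimeAbelian

/-!
# The structure theorem for groups generated by best offenders (KS 9.3.8)
-/

set_option autoImplicit false

namespace Cfsg.Agent.Lib.Helper20.BO

open Subgroup
open scoped commutatorElement
open Cfsg.H5 (fix mm)

section Struct

variable {G : Type*} [Group G]

/-- `[V, ⨆ S i] = ⨆ [V, S i]` when all `S i` normalize `V`. -/
theorem commutator_iSup_eq {ι : Sort*} {V : Subgroup G} (S : ι → Subgroup G)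
    (hS : ∀ i, S i ≤ normalizer (V : Set G)) : ⁅V, ⨆ i, S i⁆ = ⨆ i, ⁅V, S i⁆ := by
  apply le_antisymm
  · set W₀ : Subgroup G := ⨆ i, ⁅V, S i⁆ with hW₀
    have hW₀V : W₀ ≤ V :=
      iSup_le (fun i => Cfsg.Agent.Lib.Helper1.commutator_le_of_le_normalizer (hS i))
    let T : Subgroup G :=
      { carrier := {e | (∀ w ∈ W₀, e * w * e⁻¹ ∈ W₀) ∧ (∀ w ∈ W₀, e⁻¹ * w * e ∈ W₀) ∧
          (∀ v ∈ V, ⁅v, e⁆ ∈ W₀) ∧ (∀ v ∈ V, ⁅v, e⁻¹⁆ ∈ W₀)}
        one_mem' := by
          refine ⟨fun w hw => by simpa using hw, fun w hw => by simpa using hw,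
            fun v _ => by simp, fun v _ => by simp⟩
        mul_mem' := by
          rintro e₁ e₂ ⟨h1, h2, h3, h4⟩ ⟨k1, k2, k3, k4⟩
          refine ⟨fun w hw => ?_, fun w hw => ?_, fun v hv => ?_, fun v hv => ?_⟩
          · have : e₁ * e₂ * w * (e₁ * e₂)⁻¹ = e₁ * (e₂ * w * e₂⁻¹) * e₁⁻¹ := by group
            rw [this]; exact h1 _ (k1 w hw)
          · have : (e₁ * e₂)⁻¹ * w * (e₁ * e₂) = e₂⁻¹ * (e₁⁻¹ * w * e₁) * e₂ := by group
            rw [this]; exact k2 _ (h2 w hw)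
          · have : ⁅v, e₁ * e₂⁆ = ⁅v, e₁⁆ * (e₁ * ⁅v, e₂⁆ * e₁⁻¹) := by
              simp only [commutatorElement_def]; group
            rw [this]; exact W₀.mul_mem (h3 v hv) (h1 _ (k3 v hv))
          · have : ⁅v, (e₁ * e₂)⁻¹⁆ = ⁅v, e₂⁻¹⁆ * (e₂⁻¹ * ⁅v, e₁⁻¹⁆ * e₂) := by
              simp only [commutatorElement_def]; group
            rw [this]; exact W₀.mul_mem (k4 v hv) (k2 _ (h4 v hv))
        inv_mem' := by
          rintro e ⟨h1, h2, h3, h4⟩
          refine ⟨fun w hw => by simpa using h2 w hw, fun w hw => by simpa using h1 w hw, h4,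
            fun v hv => by simpa using h3 v hv⟩ }
    have key : ∀ (C : Subgroup G), ⁅V, C⁆ ≤ W₀ → C ≤ T := by
      intro C hCW s hs
      have hconj : ∀ s ∈ C, ∀ w ∈ W₀, s * w * s⁻¹ ∈ W₀ := by
        intro s hs w hw
        have : s * w * s⁻¹ = (⁅w, s⁆)⁻¹ * w := by simp only [commutatorElement_def]; group
        rw [this]
        exact W₀.mul_mem (W₀.inv_mem (hCW (Subgroup.commutator_mem_commutator (hW₀V hw) hs))) hw
      refine ⟨hconj s hs, fun w hw => ?_, fun v hv => hCW (Subgroup.commutator_mem_commutator hv hs),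
        fun v hv => hCW (Subgroup.commutator_mem_commutator hv (C.inv_mem hs))⟩
      have := hconj s⁻¹ (C.inv_mem hs) w hw
      simpa using this
    have hST : ⨆ i, S i ≤ T := iSup_le (fun i => key (S i) (le_iSup (fun i => ⁅V, S i⁆) i))
    rw [Subgroup.commutator_le]
    intro v hv e he
    exact (hST he).2.2.1 v hv
  · exact iSup_le (fun i => Subgroup.commutator_mono le_rfl (le_iSup S i))

variable [Finite G] {p : ℕ} [Fact p.Prime]

theorem EE_conj_eq {Q A : Subgroup G} {x : G} (hx : x ∈ Q) :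
    EE Q (A.map (MulAut.conj x).toMonoidHom) = EE Q A := by
  rw [EE_map_conj (Subgroup.le_normalizer hx),
    Cfsg.H5.map_conj_eq_of_mem_normalizer (Q_le_normalizer_EE Q A hx)]

/-- two components are equal or centralize each other's planes -/
theorem EE_eq_of_not_le {V Q H A A' : Subgroup G} [hVc : IsMulCommutative V] (hC : Ctx p V Q H)
    (hMA : MinOff p V Q A) (hAH : A ≤ H) (hMA' : MinOff p V Q A') (hA'H : A' ≤ H)
    (hn : ¬ EE Q A' ≤ centralizer (WW V Q A : Set G)) : EE Q A' = EE Q A := by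
  obtain ⟨x, hxQ, hxA'⟩ := hMA'.exists_not_mem_centralizer
  have hE' := EE_eq_pair hC hMA' hA'H hxQ hxA'
  have hMx : MinOff p V Q (A'.map (MulAut.conj x).toMonoidHom) := hMA'.conj hC.hS hxQ
  have hxH : A'.map (MulAut.conj x).toMonoidHom ≤ H := by
    rintro _ ⟨a, ha, rfl⟩
    show x * a * x⁻¹ ∈ H
    exact H.mul_mem (H.mul_mem (hC.hQH hxQ) (hA'H ha)) (H.inv_mem (hC.hQH hxQ))
  have key : ∀ B : Subgroup G, MinOff p V Q B → B ≤ H → EE Q B = EE Q A' →
      ¬ B ≤ centralizer (WW V Q A : Set G) → EE Q A' = EE Q A := by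
    intro B hMB hBH hEB hBn
    have hBE : B ≤ EE Q A := minOff_le_EE hC hMA hAH hMB hBH hBn
    have hle : EE Q B ≤ EE Q A := by
      show ⁅Q, B⁆ ⊔ B ≤ EE Q A
      refine sup_le ?_ hBE
      rw [Subgroup.commutator_le]
      intro q hq b hb
      have h1 : q * b * q⁻¹ ∈ EE Q A :=
        (mem_normalizer_iff.mp (Q_le_normalizer_EE Q A hq) b).mp (hBE hb)
      rw [commutatorElement_def]
      exact Subgroup.mul_mem _ h1 (Subgroup.inv_mem _ (hBE hb))
    have hcard : Nat.card (EE Q A) = Nat.card (EE Q B) := by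
      obtain ⟨-, -, -, ⟨e1⟩⟩ := comp_basic hC hMA hAH
      obtain ⟨-, -, -, ⟨e2⟩⟩ := comp_basic hC hMB hBH
      rw [Nat.card_congr e1.toEquiv, Nat.card_congr e2.toEquiv]
    rw [← hEB]
    exact Subgroup.eq_of_le_of_card_ge hle hcard.le
  by_cases h1 : A' ≤ centralizer (WW V Q A : Set G)
  · by_cases h2 : A'.map (MulAut.conj x).toMonoidHom ≤ centralizer (WW V Q A : Set G)
    · exfalso
      apply hn
      rw [hE']
      exact sup_le h1 h2
    · exact key _ hMx hxH (EE_conj_eq hxQ) h2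
  · exact key A' hMA' hA'H rfl h1

theorem MinOff.comm_ne_bot {V Q A : Subgroup G} (hM : MinOff p V Q A) : ⁅Q, A⁆ ≠ ⊥ := by
  intro h
  have h1 : Q ≤ centralizer (A : Set G) := Subgroup.commutator_eq_bot_iff_le_centralizer.mp h
  have h2 : A ≤ A ⊓ centralizer (Q : Set G) := le_inf le_rfl (Subgroup.le_centralizer_iff.mp h1)
  rw [hM.hoff.af] at h2
  exact hM.ne_bot (le_bot_iff.mp h2)

theorem commutator_comm_eq_WW {V Q H D : Subgroup G} [hVc : IsMulCommutative V]
    (hC : Ctx p V Q H) (hM : MinOff p V Q D) (hDH : D ≤ H) : ⁅V, ⁅Q, D⁆⁆ = WW V Q D := by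
  have hSQ : ⁅Q, D⁆ ≤ Q := Cfsg.Agent.Lib.Helper1.commutator_le_of_le_normalizer hM.hoff.aq
  have hSV : ⁅Q, D⁆ ≤ normalizer (V : Set G) := hSQ.trans hC.hS.qv
  have hX : ⁅V, ⁅Q, D⁆⁆ ≤ WW V Q D := Subgroup.commutator_mono le_rfl le_sup_left
  have hN : ⁅Q, D⁆ ≤ normalizer ((⁅V, ⁅Q, D⁆⁆ : Subgroup G) : Set G) :=
    Cfsg.H5.le_normalizer_commutator hSV
  rcases WW_irred hC hM hDH hX hN with h | h
  · exact absurd h (commutator_ne_bot_of_ne_bot hC.hf (hSQ.trans hC.hQH) hM.comm_ne_bot)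
  · exact h

theorem fix_comm_le {V Q H D : Subgroup G} [hVc : IsMulCommutative V]
    (hC : Ctx p V Q H) (hM : MinOff p V Q D) (hDH : D ≤ H) :
    V ⊓ centralizer ((⁅Q, D⁆ : Subgroup G) : Set G) ≤ centralizer (EE Q D : Set G) := by
  intro v hv
  rw [mem_inf] at hv
  obtain ⟨-, -, hbot, -⟩ := comp_basic hC hM hDH
  have hsup := WW_sup_fix hC hM hDH
  have hWV := WW_le_V hC hM hDH
  have hUn : (V ⊓ centralizer (EE Q D : Set G)) ≤ normalizer (WW V Q D : Set G) :=
    le_normalizer_of_comm inf_le_left hWV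
  have hv' : v ∈ WW V Q D ⊔ (V ⊓ centralizer (EE Q D : Set G)) := by rw [hsup]; exact hv.1
  obtain ⟨w, hw, u, hu, rfl⟩ :=
    (Cfsg.Agent.Lib.Helper11.mem_sup_iff_exists_mul (WW V Q D) _ hUn v).mp hv'
  have huE : u ∈ centralizer (EE Q D : Set G) := (mem_inf.mp hu).2
  have hSE : ⁅Q, D⁆ ≤ EE Q D := le_sup_left
  have huS : u ∈ centralizer ((⁅Q, D⁆ : Subgroup G) : Set G) :=
    Subgroup.centralizer_le (by exact_mod_cast hSE) huE
  have hwS : w ∈ centralizer ((⁅Q, D⁆ : Subgroup G) : Set G) := by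
    have h1 : w = (w * u) * u⁻¹ := by group
    rw [h1]
    exact Subgroup.mul_mem _ hv.2 (Subgroup.inv_mem _ huS)
  have hYle : WW V Q D ⊓ centralizer ((⁅Q, D⁆ : Subgroup G) : Set G) ≤ WW V Q D := inf_le_left
  have hYn : ⁅Q, D⁆ ≤ normalizer ((WW V Q D ⊓
      centralizer ((⁅Q, D⁆ : Subgroup G) : Set G) : Subgroup G) : Set G) :=
    (Subgroup.le_centralizer_iff.mp inf_le_right).trans (centralizer_le_normalizer _)
  rcases WW_irred hC hM hDH hYle hYn with h | h
  · have h1 : w ∈ WW V Q D ⊓ centralizer ((⁅Q, D⁆ : Subgroup G) : Set G) :=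
      mem_inf.mpr ⟨hw, hwS⟩
    rw [h, mem_bot] at h1
    rw [h1, one_mul]
    exact huE
  · exfalso
    have h1 : WW V Q D ≤ centralizer ((⁅Q, D⁆ : Subgroup G) : Set G) := by
      rw [← h]; exact inf_le_right
    have h2 : ⁅Q, D⁆ ≤ EE Q D ⊓ centralizer (WW V Q D : Set G) :=
      le_inf hSE (Subgroup.le_centralizer_iff.mp h1)
    rw [hbot] at h2
    exact hM.comm_ne_bot (le_bot_iff.mp h2)

/-- **KS 9.3.8**, for an injective family `e` of components generating `H`. -/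
theorem struct_family {V Q H : Subgroup G} [hVc : IsMulCommutative V] (hC : Ctx p V Q H)
    (hgen : ∀ K : Subgroup G, (∀ B, MinOff p V Q B → B ≤ H → B ≤ K) → H ≤ K)
    (hH1 : H ≠ ⊥) {ι : Type*} (e : ι → Subgroup G)
    (he : ∀ i, ∃ A, MinOff p V Q A ∧ A ≤ H ∧ e i = EE Q A)
    (hinj : Function.Injective e)
    (hgenE : ∀ K : Subgroup G, (∀ i, e i ≤ K) → H ≤ K) :
    (p = 2 ∨ p = 3) ∧
    (∀ i, H ≤ normalizer (e i : Set G) ∧
      Nonempty (↥(e i) ≃* Matrix.SpecialLinearGroup (Fin 2) (ZMod p)) ∧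
      Nat.card ↥(⁅V, e i⁆) = p ^ 2) ∧
    iSupIndep e ∧ (⨆ i, e i) = H ∧
    iSupIndep (fun o : Option ι => o.elim (V ⊓ centralizer (H : Set G)) (fun i => ⁅V, e i⁆)) ∧
    (V ⊓ centralizer (H : Set G)) ⊔ (⨆ i, ⁅V, e i⁆) = V := by
  choose A hMA hAH heq using he
  have heH : ∀ i, e i ≤ H := fun i => by rw [heq i]; exact EE_le_H hC (hMA i) (hAH i)
  have hsupH : (⨆ i, e i) = H := le_antisymm (iSup_le heH) (hgenE _ (le_iSup e))
  have hWi : ∀ i, ⁅V, e i⁆ = WW V Q (A i) := fun i => by rw [heq i]; rfl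
  have hcross : ∀ i j, i ≠ j → e i ≤ centralizer ((⁅V, e j⁆ : Subgroup G) : Set G) := by
    intro i j hij
    by_contra hn
    rw [hWi j, heq i] at hn
    have h1 := EE_eq_of_not_le hC (hMA j) (hAH j) (hMA i) (hAH i) hn
    apply hij
    apply hinj
    rw [heq i, heq j, h1]
  have hF : ∀ i, ⁅e i, H ⊓ centralizer ((⁅V, e i⁆ : Subgroup G) : Set G)⁆ = ⊥ ∧
      e i ⊓ (H ⊓ centralizer ((⁅V, e i⁆ : Subgroup G) : Set G)) = ⊥ ∧
      e i ⊔ (H ⊓ centralizer ((⁅V, e i⁆ : Subgroup G) : Set G)) = H := by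
    intro i
    obtain ⟨h6, h7, h8, -⟩ := struct_main hC hgen (hMA i) (hAH i)
    rw [hWi i, heq i]
    exact ⟨h6, h7, h8⟩
  -- the coprime part
  have hSQ : ∀ i, ⁅Q, A i⁆ ≤ Q := fun i =>
    Cfsg.Agent.Lib.Helper1.commutator_le_of_le_normalizer (hMA i).hoff.aq
  have hQ₀Q : (⨆ i, ⁅Q, A i⁆) ≤ Q := iSup_le hSQ
  have hQ₀V : (⨆ i, ⁅Q, A i⁆) ≤ normalizer (V : Set G) := hQ₀Q.trans hC.hS.qv
  have hcop : (Nat.card ↥(⨆ i, ⁅Q, A i⁆)).Coprime (Nat.card V) := by
    obtain ⟨n, hn⟩ := IsPGroup.iff_card.mp hC.hS.vp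
    rw [hn]
    apply Nat.Coprime.pow_right
    exact Nat.Coprime.coprime_dvd_left (Subgroup.card_dvd_of_le hQ₀Q) hC.hS.qcop
  have hcomm : ⁅V, ⨆ i, ⁅Q, A i⁆⁆ = ⨆ i, ⁅V, e i⁆ := by
    rw [commutator_iSup_eq (fun i => ⁅Q, A i⁆) (fun i => (hSQ i).trans hC.hS.qv)]
    apply iSup_congr
    intro i
    rw [hWi i]
    exact commutator_comm_eq_WW hC (hMA i) (hAH i)
  have hfixeq : V ⊓ centralizer ((⨆ i, ⁅Q, A i⁆ : Subgroup G) : Set G) =
      V ⊓ centralizer (H : Set G) := by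
    apply le_antisymm
    · intro v hv
      rw [mem_inf] at hv ⊢
      refine ⟨hv.1, ?_⟩
      have hle : H ≤ centralizer ({v} : Set G) := by
        apply hgenE
        intro i g hg
        rw [mem_centralizer_iff]
        intro y hy
        rw [Set.mem_singleton_iff] at hy
        rw [hy]
        have hvS : v ∈ V ⊓ centralizer ((⁅Q, A i⁆ : Subgroup G) : Set G) :=
          mem_inf.mpr ⟨hv.1, Subgroup.centralizer_le
            (by exact_mod_cast (le_iSup (fun i => ⁅Q, A i⁆) i)) hv.2⟩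
        have hvE := fix_comm_le hC (hMA i) (hAH i) hvS
        rw [heq i] at hg
        exact (mem_centralizer_iff.mp hvE g hg).symm
      rw [mem_centralizer_iff]
      intro h hh
      have h1 := mem_centralizer_iff.mp (hle hh) v (Set.mem_singleton v)
      exact h1.symm
    · exact inf_le_inf_left _ (Subgroup.centralizer_le (by exact_mod_cast (hQ₀Q.trans hC.hQH)))
  have hd := Cfsg.Agent.Lib.Helper1.abelian_centralizer_inf_commutator_eq_bot
    (⨆ i, ⁅Q, A i⁆) V hQ₀V hcop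
  have hs := Cfsg.Agent.Lib.Helper1.abelian_centralizer_sup_commutator_eq
    (⨆ i, ⁅Q, A i⁆) V hQ₀V hcop
  rw [hfixeq, hcomm] at hd hs
  refine ⟨?_, ?_, ?_, hsupH, ?_, hs⟩
  · have hne : Nonempty ι := by
      by_contra hemp
      rw [not_nonempty_iff] at hemp
      apply hH1
      rw [← hsupH, iSup_of_empty]
    obtain ⟨i⟩ := hne
    exact (comp_basic hC (hMA i) (hAH i)).1
  · intro i
    obtain ⟨hp23, hWcard, hbot, hiso⟩ := comp_basic hC (hMA i) (hAH i)
    obtain ⟨h6, h7, h8⟩ := hF i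
    refine ⟨?_, ?_, ?_⟩
    · have hFn : H ⊓ centralizer ((⁅V, e i⁆ : Subgroup G) : Set G) ≤
          normalizer (e i : Set G) := by
        rw [Subgroup.commutator_eq_bot_iff_le_centralizer] at h6
        exact (Subgroup.le_centralizer_iff.mp h6).trans (centralizer_le_normalizer _)
      calc H = e i ⊔ (H ⊓ centralizer ((⁅V, e i⁆ : Subgroup G) : Set G)) := h8.symm
        _ ≤ normalizer (e i : Set G) := sup_le Subgroup.le_normalizer hFn
    · rw [heq i]; exact hiso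
    · rw [hWi i]; exact hWcard
  · intro i
    obtain ⟨h6, h7, h8⟩ := hF i
    rw [disjoint_iff, eq_bot_iff, ← h7]
    apply le_inf inf_le_left
    exact inf_le_right.trans (iSup₂_le (fun j hj => le_inf (heH j) (hcross j i hj)))
  · intro o
    cases o with
    | none =>
      show Disjoint (V ⊓ centralizer (H : Set G)) (⨆ (o' : Option ι) (_ : o' ≠ none),
        o'.elim (V ⊓ centralizer (H : Set G)) (fun i => ⁅V, e i⁆))
      rw [disjoint_iff, eq_bot_iff, ← hd]
      apply le_inf inf_le_left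
      refine inf_le_right.trans (iSup₂_le ?_)
      intro o' ho'
      cases o' with
      | none => exact absurd rfl ho'
      | some j =>
        show ⁅V, e j⁆ ≤ _
        exact le_iSup (fun i => ⁅V, e i⁆) j
    | some i =>
      show Disjoint (⁅V, e i⁆) (⨆ (o' : Option ι) (_ : o' ≠ some i),
        o'.elim (V ⊓ centralizer (H : Set G)) (fun i => ⁅V, e i⁆))
      have hfix := WW_inf_fix hC (hMA i) (hAH i)
      rw [← hWi i, ← heq i] at hfix
      rw [disjoint_iff, eq_bot_iff, ← hfix]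
      apply le_inf inf_le_left
      refine inf_le_right.trans (iSup₂_le ?_)
      intro o' ho'
      cases o' with
      | none =>
        show V ⊓ centralizer (H : Set G) ≤ _
        exact inf_le_inf_left _ (Subgroup.centralizer_le (by exact_mod_cast heH i))
      | some j =>
        show ⁅V, e j⁆ ≤ _
        have hji : j ≠ i := fun h => ho' (by rw [h])
        apply le_inf
        · exact Cfsg.Agent.Lib.Helper1.commutator_le_of_le_normalizer ((heH j).trans hC.hHV)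
        · exact Subgroup.le_centralizer_iff.mp (hcross i j (Ne.symm hji))

end Struct

section Bridge4

variable {G : Type*} [Group G] [Finite G] {p : ℕ} [Fact p.Prime] {V H : Subgroup G}

theorem gen_of' (hV : Cfsg.IsElementaryAbelian p V) (hHV : H ≤ normalizer (V : Set G))
    (hf : H ⊓ centralizer (V : Set G) = ⊥)
    (hS1 : centralizer (Cfsg.pPrimeCore p ↥H : Set ↥H) ≤ Cfsg.pPrimeCore p ↥H)
    (hS3 : H = ⨆ A : {A : Subgroup G // A ≤ H ∧ Cfsg.IsBestOffenderOn p V A}, (A : Subgroup G)) :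
    ∀ K : Subgroup G, (∀ B : Subgroup G, B ≤ H → Cfsg.IsBestOffenderOn p V B → ⁅V, B⁆ ≠ ⊥ →
      (∀ C : Subgroup G, C ≤ B → Cfsg.IsBestOffenderOn p V C → ⁅V, C⁆ ≠ ⊥ → C = B) → B ≤ K) →
      H ≤ K := by
  intro K hK
  have hp : p.Prime := Fact.out
  haveI hVc : IsMulCommutative V := hV.1
  have hS := setup_of (H := H) hV hHV hf
  refine hS3.le.trans (iSup_le ?_)
  rintro ⟨A', hA'H, hA'⟩
  show A' ≤ K
  by_cases hne : A' = ⊥
  · rw [hne]; exact bot_le
  have hO := off_of hHV hf hS1 hA'H hA'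
  obtain ⟨k, f, hfam, -, hsup⟩ := exists_family hS (Nat.card A') A' rfl hO hne
  rw [← hsup]
  apply iSup_le
  intro i
  obtain ⟨hfA, hfcard, hfmm⟩ := hfam i
  have hfne : f i ≠ ⊥ := by
    intro h
    rw [h, Subgroup.card_bot] at hfcard
    exact hp.one_lt.ne hfcard
  refine hK (f i) (hfA.trans hA'H) (isBestOffenderOn_of_mm hA' hfA hfmm)
    (commutator_ne_bot_of_ne_bot hf (hfA.trans hA'H) hfne) ?_
  intro C hC _ hCV
  have hCne : C ≠ ⊥ := by
    rintro rfl
    apply hCV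
    rw [Subgroup.commutator_eq_bot_iff_le_centralizer, Subgroup.le_centralizer_iff]
    exact bot_le
  have hdvd : Nat.card C ∣ p := hfcard ▸ Subgroup.card_dvd_of_le hC
  rcases (Nat.dvd_prime hp).mp hdvd with h1 | h1
  · exact absurd (Subgroup.card_eq_one.mp h1) hCne
  · exact Subgroup.eq_of_le_of_card_ge hC (by rw [h1, hfcard])

end Bridge4

end Cfsg.Agent.Lib.Helper20.BO
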