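import Mathlib
import Cfsg.Agent.Lib.Helper20.BestOffStruct
import Cfsg.Agent.Lib.Helper1.Hall
import Cfsg.Agent.H5.Cores
import Cfsg.Agent.H5.PSolvable
import Cfsg.Agent.H5.PSolvable2
import Cfsg.Agent.H5.Thompson
import Cfsg.Agent.S0606

/-!
# Bridge from a normal elementary abelian subgroup to the faithful setting

For a normal subgroup `V` of `G` we form the holomorph `V ⋊ Aut V`; the group `G` maps to it by
conjugation with kernel `C_G(V)`, and the image acts faithfully on the image of `V`.  The failure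
of factorization data (best offenders from the Thompson subgroup) transfers to this setting.
-/

set_option autoImplicit false

namespace Cfsg.Agent.Lib.Helper20.FFB

open Subgroup

section Misc

variable {G : Type*} [Group G]

/-- the centralizer of a union of subgroups is the centralizer of their join -/
theorem centralizer_iSup_set {ι : Sort*} (K : ι → Subgroup G) :
    centralizer (⨆ i, (K i : Set G)) = centralizer ((⨆ i, K i : Subgroup G) : Set G) := by
  apply le_antisymm
  · intro x hx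
    have h1 : (⨆ i, K i) ≤ centralizer ({x} : Set G) := by
      apply iSup_le
      intro i y hy
      rw [mem_centralizer_iff]
      intro z hz
      rw [Set.mem_singleton_iff] at hz
      rw [hz]
      have hy' : y ∈ (⨆ i, (K i : Set G)) := by
        rw [Set.iSup_eq_iUnion, Set.mem_iUnion]
        exact ⟨i, hy⟩
      exact (mem_centralizer_iff.mp hx y hy').symm
    rw [mem_centralizer_iff]
    intro y hy
    exact (mem_centralizer_iff.mp (h1 hy) x rfl).symm
  · apply Subgroup.centralizer_le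
    intro y hy
    rw [Set.iSup_eq_iUnion, Set.mem_iUnion] at hy
    obtain ⟨i, hi⟩ := hy
    exact (le_iSup K i) hi

end Misc

section Hol

variable {G : Type*} [Group G] (V : Subgroup G) [hVn : V.Normal]

/-- the holomorph of `V` -/
abbrev Hol : Type _ := ↥V ⋊[MonoidHom.id (MulAut ↥V)] MulAut ↥V

instance hol_finite [Finite G] : Finite (Hol V) :=
  Finite.of_equiv _ (SemidirectProduct.equivProd (φ := MonoidHom.id (MulAut ↥V))).symm

/-- the conjugation map into the holomorph -/
def psi : G →* Hol V := (SemidirectProduct.inr).comp (MulAut.conjNormal (H := V))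

/-- the embedding of `V` into the holomorph -/
def iota : ↥V →* Hol V := SemidirectProduct.inl

theorem iota_injective : Function.Injective (iota V) := SemidirectProduct.inl_injective

/-- the image of `V` in the holomorph -/
def Vimg : Subgroup (Hol V) := (iota V).range

theorem psi_conj (g : G) (v : ↥V) :
    psi V g * iota V v * (psi V g)⁻¹ = iota V ⟨g * v * g⁻¹, hVn.conj_mem v v.2 g⟩ := by
  have h := SemidirectProduct.inl_aut (φ := MonoidHom.id (MulAut ↥V))
    (MulAut.conjNormal g : MulAut ↥V) v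
  have h2 : (MonoidHom.id (MulAut ↥V) (MulAut.conjNormal g)) v =
      ⟨g * v * g⁻¹, hVn.conj_mem v v.2 g⟩ :=
    Subtype.ext (MulAut.conjNormal_apply g v)
  rw [h2] at h
  unfold psi iota
  rw [MonoidHom.comp_apply, ← map_inv]
  exact h.symm

theorem mem_ker_psi {g : G} : g ∈ (psi V).ker ↔ g ∈ centralizer (V : Set G) := by
  rw [MonoidHom.mem_ker, mem_centralizer_iff]
  constructor
  · intro h v hv
    have h1 : (MulAut.conjNormal g : MulAut ↥V) = 1 := by
      apply SemidirectProduct.inr_injective (φ := MonoidHom.id (MulAut ↥V))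
      rw [map_one]
      exact h
    have h2 : ((MulAut.conjNormal g : MulAut ↥V) ⟨v, hv⟩ : ↥V) = ⟨v, hv⟩ := by rw [h1]; rfl
    have h3 : g * v * g⁻¹ = v := by
      have := congrArg Subtype.val h2
      rwa [MulAut.conjNormal_apply] at this
    calc v * g = (g * v * g⁻¹) * g := by rw [h3]
      _ = g * v := by group
  · intro h
    have h1 : (MulAut.conjNormal g : MulAut ↥V) = 1 := by
      apply MulEquiv.ext
      intro v
      apply Subtype.ext
      rw [MulAut.conjNormal_apply, MulAut.one_apply]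
      have h2 := h v v.2
      calc g * v * g⁻¹ = (v * g) * g⁻¹ := by rw [h2]
        _ = v := by group
    unfold psi
    rw [MonoidHom.comp_apply, h1, map_one]

theorem ker_psi : (psi V).ker = centralizer (V : Set G) := Subgroup.ext fun _ => mem_ker_psi V

theorem psi_eq_one {g : G} (hg : g ∈ centralizer (V : Set G)) : psi V g = 1 :=
  MonoidHom.mem_ker.mp ((mem_ker_psi V).mpr hg)

theorem vimg_normal : (Vimg V).Normal := by
  unfold Vimg iota
  rw [SemidirectProduct.range_inl_eq_ker_rightHom]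
  exact MonoidHom.normal_ker _

theorem vimg_ea {p : ℕ} (hV : Cfsg.IsElementaryAbelian p V) :
    Cfsg.IsElementaryAbelian p (Vimg V) := by
  have h1 : Cfsg.IsElementaryAbelian p (⊤ : Subgroup ↥V) := by
    have hc := hV.1
    refine ⟨?_, ?_⟩
    · apply IsMulCommutative.of_setLike_mul_comm
      intro a _ b _
      exact hc.is_comm.comm a b
    · intro a _
      apply Subtype.ext
      rw [Subgroup.coe_pow]
      exact hV.2 a a.2
  have h2 := Cfsg.H5.isElementaryAbelian_map (iota V) h1
  rwa [← MonoidHom.range_eq_map] at h2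

theorem faithful : (psi V).range ⊓ centralizer (Vimg V : Set (Hol V)) = ⊥ := by
  rw [eq_bot_iff]
  rintro y ⟨⟨g, rfl⟩, hy⟩
  rw [mem_bot]
  have hg : g ∈ centralizer (V : Set G) := by
    rw [mem_centralizer_iff]
    intro v hv
    have h1 : iota V ⟨v, hv⟩ * psi V g = psi V g * iota V ⟨v, hv⟩ :=
      mem_centralizer_iff.mp hy _ ⟨⟨v, hv⟩, rfl⟩
    have h2 := psi_conj V g ⟨v, hv⟩
    rw [← h1, mul_inv_cancel_right] at h2
    have h3 := congrArg Subtype.val (iota_injective V h2)
    simp only at h3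
    calc v * g = (g * v * g⁻¹) * g := by rw [← h3]
      _ = g * v := by group
  exact psi_eq_one V hg

theorem fix_map (A : Subgroup G) :
    Vimg V ⊓ centralizer ((A.map (psi V) : Subgroup (Hol V)) : Set (Hol V)) =
      ((V ⊓ centralizer (A : Set G)).subgroupOf V).map (iota V) := by
  ext y
  rw [mem_inf, mem_map]
  constructor
  · rintro ⟨⟨v, rfl⟩, hy⟩
    refine ⟨v, ?_, rfl⟩
    rw [mem_subgroupOf, mem_inf]
    refine ⟨v.2, ?_⟩
    rw [mem_centralizer_iff]
    intro a ha
    have h1 : psi V a * iota V v = iota V v * psi V a :=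
      mem_centralizer_iff.mp hy _ (mem_map_of_mem _ ha)
    have h2 := psi_conj V a v
    rw [h1, mul_inv_cancel_right] at h2
    have h3 := congrArg Subtype.val (iota_injective V h2)
    simp only at h3
    calc a * (v : G) = (a * v * a⁻¹) * a := by group
      _ = v * a := by rw [← h3]
  · rintro ⟨v, hv, rfl⟩
    rw [mem_subgroupOf, mem_inf] at hv
    refine ⟨⟨v, rfl⟩, ?_⟩
    rw [mem_centralizer_iff]
    rintro _ ⟨a, ha, rfl⟩
    have h1 : a * (v : G) = v * a := mem_centralizer_iff.mp hv.2 a ha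
    have h2 := psi_conj V a v
    have h3 : (⟨a * v * a⁻¹, hVn.conj_mem v v.2 a⟩ : ↥V) = v := by
      apply Subtype.ext
      show a * (v : G) * a⁻¹ = v
      rw [h1]; group
    rw [h3] at h2
    calc psi V a * iota V v = (psi V a * iota V v * (psi V a)⁻¹) * psi V a := by group
      _ = iota V v * psi V a := by rw [h2]

theorem card_fix_map [Finite G] (A : Subgroup G) :
    Nat.card ↥(Vimg V ⊓ centralizer ((A.map (psi V) : Subgroup (Hol V)) : Set (Hol V))) =
      Nat.card ↥(V ⊓ centralizer (A : Set G)) := by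
  rw [fix_map, Subgroup.card_map_of_injective (iota_injective V)]
  exact Nat.card_congr (Subgroup.subgroupOfEquivOfLe inf_le_left).toEquiv

theorem bestOffender_map [Finite G] {p : ℕ} {A : Subgroup G}
    (hA : Cfsg.IsBestOffenderOn p V A) (hAe : Cfsg.IsElementaryAbelian p A) :
    Cfsg.IsBestOffenderOn p (Vimg V) (A.map (psi V)) := by
  refine ⟨?_, ?_, ?_⟩
  · intro B' hB'
    obtain ⟨B, hB⟩ : ∃ B : Subgroup G, B = A ⊓ B'.comap (psi V) := ⟨_, rfl⟩
    have hBA : B ≤ A := by rw [hB]; exact inf_le_left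
    have hBmap : B.map (psi V) = B' := by
      apply le_antisymm
      · rintro _ ⟨b, hb, rfl⟩
        rw [hB] at hb
        exact (mem_inf.mp hb).2
      · intro y hy
        obtain ⟨a, ha, rfl⟩ := hB' hy
        refine ⟨a, ?_, rfl⟩
        rw [hB]
        exact mem_inf.mpr ⟨ha, hy⟩
    have hker : B ⊓ (psi V).ker = A ⊓ (psi V).ker := by
      apply le_antisymm
      · exact inf_le_inf_right _ hBA
      · intro x hx
        rw [mem_inf] at hx
        refine mem_inf.mpr ⟨?_, hx.2⟩
        rw [hB]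
        refine mem_inf.mpr ⟨hx.1, ?_⟩
        rw [mem_comap, MonoidHom.mem_ker.mp hx.2]
        exact one_mem _
    have h1 := Cfsg.Agent.Lib.Helper1.card_map_mul_card_inf_ker (psi V) B
    have h2 := Cfsg.Agent.Lib.Helper1.card_map_mul_card_inf_ker (psi V) A
    rw [hker, hBmap] at h1
    have hx := card_fix_map V B
    rw [hBmap] at hx
    have hy := card_fix_map V A
    have h3 := hA.1 B hBA
    rw [← h1, ← h2, ← hx, ← hy] at h3
    have hc : 0 < Nat.card ↥(A ⊓ (psi V).ker) := Nat.card_pos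
    apply Nat.le_of_mul_le_mul_right _ hc
    calc Nat.card ↥B' * Nat.card ↥(Vimg V ⊓ centralizer (B' : Set (Hol V))) *
          Nat.card ↥(A ⊓ (psi V).ker)
        = Nat.card ↥B' * Nat.card ↥(A ⊓ (psi V).ker) *
          Nat.card ↥(Vimg V ⊓ centralizer (B' : Set (Hol V))) := by ring
      _ ≤ _ := h3
      _ = _ := by ring
  · have h0 : ⁅A.map (psi V), A.map (psi V)⁆ = ⊥ := by
      rw [Subgroup.commutator_eq_bot_iff_le_centralizer]
      rintro _ ⟨a, ha, rfl⟩
      rw [mem_centralizer_iff]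
      rintro _ ⟨b, hb, rfl⟩
      rw [← map_mul, ← map_mul]
      congr 1
      exact congrArg Subtype.val (hAe.1.is_comm.comm ⟨b, hb⟩ ⟨a, ha⟩)
    rw [h0]
    exact bot_le
  · rintro _ ⟨a, ha, rfl⟩
    rw [← map_pow, hAe.2 a ha, map_one]
    exact one_mem _

theorem gen_bestOffenders [Finite G] {p : ℕ} [Fact p.Prime]
    (hV : Cfsg.IsElementaryAbelian p V) :
    (Cfsg.thompsonSubgroup p G).map (psi V) =
      ⨆ A : {A : Subgroup (Hol V) // A ≤ (Cfsg.thompsonSubgroup p G).map (psi V) ∧
        Cfsg.IsBestOffenderOn p (Vimg V) A}, (A : Subgroup (Hol V)) := by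
  apply le_antisymm
  · rw [Subgroup.map_le_iff_le_comap]
    change sSup (Cfsg.maxElementaryAbelianSubgroups p G) ≤ _
    apply sSup_le
    intro A hA
    rw [← Subgroup.map_le_iff_le_comap]
    have h1 : A.map (psi V) ≤ (Cfsg.thompsonSubgroup p G).map (psi V) :=
      Subgroup.map_mono (le_sSup hA)
    have h2 : Cfsg.IsBestOffenderOn p (Vimg V) (A.map (psi V)) :=
      bestOffender_map V (Cfsg.Agent.S0606.result V hV A hA) hA.1
    exact le_iSup_of_le ⟨A.map (psi V), h1, h2⟩ le_rfl
  · apply iSup_le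
    rintro ⟨A, hA, -⟩
    exact hA

end Hol

section Cores

variable {G : Type*} [Group G] [Finite G]

theorem map_pCore_le_of_normal' (p : ℕ) (N : Subgroup G) [N.Normal] :
    (Cfsg.pCore p ↥N).map N.subtype ≤ Cfsg.pCore p G := by
  haveI : (Cfsg.pCore p ↥N).Characteristic := Cfsg.H5.pCore_characteristic p ↥N
  apply Cfsg.H5.le_pCore inferInstance
  exact (Cfsg.H5.pCore_isPGroup p ↥N).map _

theorem pCore_eq_bot_of_equiv {G' : Type*} [Group G'] (p : ℕ) (e : G ≃* G')
    (h : Cfsg.pCore p G = ⊥) : Cfsg.pCore p G' = ⊥ := by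
  rw [eq_bot_iff]
  have h1 : (Cfsg.pCore p G').map e.symm.toMonoidHom ≤ Cfsg.pCore p G := by
    apply Cfsg.H5.le_pCore
    · exact (Cfsg.H5.pCore_normal p G').map _ e.symm.surjective
    · exact (Cfsg.H5.pCore_isPGroup p G').map _
  rw [h] at h1
  intro x hx
  have h2 : e.symm x ∈ (⊥ : Subgroup G) := h1 ⟨x, hx, rfl⟩
  rw [mem_bot] at h2 ⊢
  have h3 := congrArg e h2
  rwa [MulEquiv.apply_symm_apply, map_one] at h3

end Cores

section Bridge

variable {G : Type*} [Group G] [Finite G] {p : ℕ} [Fact p.Prime] (V : Subgroup G) [hVn : V.Normal]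

/-- Hypothesis (S1) for the image of the Thompson subgroup. -/
theorem s1_of (hsep : Cfsg.IsPSolvable p G)
    (hOp : Cfsg.pCore p (G ⧸ centralizer (V : Set G)) = ⊥) :
    centralizer (Cfsg.pPrimeCore p ↥((Cfsg.thompsonSubgroup p G).map (psi V)) :
      Set ↥((Cfsg.thompsonSubgroup p G).map (psi V))) ≤
      Cfsg.pPrimeCore p ↥((Cfsg.thompsonSubgroup p G).map (psi V)) := by
  have hle : centralizer (V : Set G) ≤ (psi V).ker := fun x hx => (mem_ker_psi V).mpr hx
  obtain ⟨θ, hθ⟩ : ∃ θ : G ⧸ centralizer (V : Set G) →* Hol V,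
      θ = QuotientGroup.lift (centralizer (V : Set G)) (psi V) hle := ⟨_, rfl⟩
  have hθmk : ∀ g : G, θ (QuotientGroup.mk g) = psi V g := by
    intro g
    rw [hθ]
    exact QuotientGroup.lift_mk _ hle g
  have hθinj : Function.Injective θ := by
    rw [injective_iff_map_eq_one]
    intro q
    induction q using QuotientGroup.induction_on with
    | H g =>
      intro h
      rw [hθmk] at h
      exact (QuotientGroup.eq_one_iff g).mpr ((mem_ker_psi V).mp (MonoidHom.mem_ker.mpr h))
  have hJn : (Cfsg.thompsonSubgroup p G).Normal := by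
    haveI := Cfsg.H5.thompsonSubgroup_characteristic (G := G) p
    infer_instance
  obtain ⟨JQ, hJQ⟩ : ∃ JQ : Subgroup (G ⧸ centralizer (V : Set G)),
      JQ = (Cfsg.thompsonSubgroup p G).map (QuotientGroup.mk' (centralizer (V : Set G))) :=
    ⟨_, rfl⟩
  haveI hJQn : JQ.Normal := by
    rw [hJQ]
    exact hJn.map _ (QuotientGroup.mk'_surjective _)
  have hmapeq : (Cfsg.thompsonSubgroup p G).map (psi V) = JQ.map θ := by
    rw [hJQ, Subgroup.map_map]
    congr 1
    apply MonoidHom.ext
    intro g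
    rw [MonoidHom.comp_apply]
    exact (hθmk g).symm
  have hcore : Cfsg.pCore p ↥JQ = ⊥ := by
    have h1 := map_pCore_le_of_normal' p JQ
    rw [hOp] at h1
    exact (Subgroup.map_eq_bot_iff_of_injective _ JQ.subtype_injective).mp (le_bot_iff.mp h1)
  have hsolQ : Cfsg.IsPSolvable p (G ⧸ centralizer (V : Set G)) :=
    Cfsg.H5.isPSolvable_quotient _ hsep
  have hsolJQ : Cfsg.IsPSolvable p ↥JQ := Cfsg.H5.isPSolvable_subgroup hsolQ JQ
  have e : ↥JQ ≃* ↥(JQ.map θ) := JQ.equivMapOfInjective θ hθinj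
  have hsol' : Cfsg.IsPSolvable p ↥(JQ.map θ) :=
    Cfsg.H5.isPSolvable_of_surjective e.toMonoidHom e.surjective hsolJQ
  have hcore' : Cfsg.pCore p ↥(JQ.map θ) = ⊥ := pCore_eq_bot_of_equiv p e hcore
  rw [hmapeq]
  exact Cfsg.H5.centralizer_pPrimeCore_le_of_isPSolvable hsol' hcore'

/-- The bridge: the image of the Thompson subgroup in the holomorph of `V` satisfies the
hypotheses of the structure theorem for failure of factorization. -/
theorem bridge (hsep : Cfsg.IsPSolvable p G) (hV : Cfsg.IsElementaryAbelian p V)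
    (hOp : Cfsg.pCore p (G ⧸ centralizer (V : Set G)) = ⊥) :
    Cfsg.IsElementaryAbelian p (Vimg V) ∧
    (Cfsg.thompsonSubgroup p G).map (psi V) ≤ normalizer (Vimg V : Set (Hol V)) ∧
    (Cfsg.thompsonSubgroup p G).map (psi V) ⊓ centralizer (Vimg V : Set (Hol V)) = ⊥ ∧
    centralizer (Cfsg.pPrimeCore p ↥((Cfsg.thompsonSubgroup p G).map (psi V)) :
      Set ↥((Cfsg.thompsonSubgroup p G).map (psi V))) ≤
      Cfsg.pPrimeCore p ↥((Cfsg.thompsonSubgroup p G).map (psi V)) ∧
    (Cfsg.thompsonSubgroup p G).map (psi V) =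
      ⨆ A : {A : Subgroup (Hol V) // A ≤ (Cfsg.thompsonSubgroup p G).map (psi V) ∧
        Cfsg.IsBestOffenderOn p (Vimg V) A}, (A : Subgroup (Hol V)) := by
  refine ⟨vimg_ea V hV, ?_, ?_, s1_of V hsep hOp, gen_bestOffenders V hV⟩
  · haveI := vimg_normal V
    rw [Subgroup.normalizer_eq_top]
    exact le_top
  · rw [eq_bot_iff, ← faithful V]
    exact inf_le_inf_right _ (Subgroup.map_le_range _ _)

end Bridge

section Faithful

variable {G : Type*} [Group G] [Finite G] {p : ℕ} [Fact p.Prime]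

/-- in the faithful setting there is a normal subgroup isomorphic to `SL(2, p)` -/
theorem exists_sl2 (V H : Subgroup G) (hV : Cfsg.IsElementaryAbelian p V)
    (hHV : H ≤ normalizer (V : Set G)) (hf : H ⊓ centralizer (V : Set G) = ⊥)
    (hS1 : centralizer (Cfsg.pPrimeCore p ↥H : Set ↥H) ≤ Cfsg.pPrimeCore p ↥H)
    (hS3 : H = ⨆ A : {A : Subgroup G // A ≤ H ∧ Cfsg.IsBestOffenderOn p V A}, (A : Subgroup G))
    (hH1 : H ≠ ⊥) :
    (p = 2 ∨ p = 3) ∧ ∃ E : Subgroup G, E ≤ H ∧ H ≤ normalizer (E : Set G) ∧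
      Nonempty (↥E ≃* Matrix.SpecialLinearGroup (Fin 2) (ZMod p)) := by
  haveI hVc : IsMulCommutative V := hV.1
  have hC := BO.ctx_of hV hHV hf hS1
  have hgen := BO.gen_of hV hHV hf hS1 hS3
  have hex : ∃ A, BO.MinOff p V (BO.Qof p H) A ∧ A ≤ H := by
    by_contra hno
    push Not at hno
    apply hH1
    rw [eq_bot_iff]
    apply hgen ⊥
    intro B hMB hBH
    exact absurd hBH (hno B hMB)
  obtain ⟨A, hMA, hAH⟩ := hex
  obtain ⟨hp23, -, -, hiso⟩ := BO.comp_basic hC hMA hAH
  obtain ⟨hcomm, -, hsup, -⟩ := BO.struct_main hC hgen hMA hAH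
  refine ⟨hp23, BO.EE (BO.Qof p H) A, BO.EE_le_H hC hMA hAH, ?_, hiso⟩
  have h1 : BO.EE (BO.Qof p H) A ≤ normalizer (BO.EE (BO.Qof p H) A : Set G) :=
    Subgroup.le_normalizer
  have h2 : H ⊓ centralizer (BO.WW V (BO.Qof p H) A : Set G) ≤
      normalizer (BO.EE (BO.Qof p H) A : Set G) := by
    rw [Subgroup.commutator_eq_bot_iff_le_centralizer] at hcomm
    exact (Subgroup.le_centralizer_iff.mp hcomm).trans (Subgroup.centralizer_le_normalizer _)
  calc H = BO.EE (BO.Qof p H) A ⊔ (H ⊓ centralizer (BO.WW V (BO.Qof p H) A : Set G)) :=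
        hsup.symm
    _ ≤ normalizer (BO.EE (BO.Qof p H) A : Set G) := sup_le h1 h2

end Faithful

end Cfsg.Agent.Lib.Helper20.FFB
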