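import Mathlib

/-!
The Baer trick: a group of class at most two in which every element has odd order carries an
abelian group structure `x + y = x y [y, x]^(1/2)` with the same automorphisms.
-/

set_option autoImplicit false

namespace Cfsg.Agent.Lib.Helper20

open scoped commutatorElement

/-- hypotheses for the Baer construction: class at most two, exponent dividing `n`,
`h` is a half modulo `n` -/
structure BaerHyp (K : Type*) [Group K] (n h : ℕ) : Prop where
  central : ∀ x y z : K, ⁅x, y⁆ * z = z * ⁅x, y⁆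
  exp : ∀ x : K, x ^ n = 1
  half : 2 * h = n + 1

section comm

variable {K : Type*} [Group K]

lemma comm_mul_left (hc : ∀ x y z : K, ⁅x, y⁆ * z = z * ⁅x, y⁆) (x y z : K) :
    ⁅x * y, z⁆ = ⁅x, z⁆ * ⁅y, z⁆ := by
  have h1 : ⁅x * y, z⁆ = x * ⁅y, z⁆ * (z * x⁻¹ * z⁻¹) := by
    simp only [commutatorElement_def]; group
  have h2 : ⁅y, z⁆ * (x * z * x⁻¹ * z⁻¹) = ⁅y, z⁆ * ⁅x, z⁆ := by
    rw [commutatorElement_def x z]
  rw [h1, ← hc y z x, (hc x z ⁅y, z⁆), ← h2]
  group

lemma comm_mul_right (hc : ∀ x y z : K, ⁅x, y⁆ * z = z * ⁅x, y⁆) (x y z : K) :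
    ⁅x, y * z⁆ = ⁅x, y⁆ * ⁅x, z⁆ := by
  have h1 : ⁅x, y * z⁆ = (⁅y * z, x⁆)⁻¹ := (commutatorElement_inv _ _).symm
  rw [h1, comm_mul_left hc, mul_inv_rev, commutatorElement_inv, commutatorElement_inv]
  -- `⁅x, z⁆ * ⁅x, y⁆ = ⁅x, y⁆ * ⁅x, z⁆`
  exact hc x z ⁅x, y⁆

lemma comm_central_right (hc : ∀ x y z : K, ⁅x, y⁆ * z = z * ⁅x, y⁆) (x a b : K) :
    ⁅x, ⁅a, b⁆⁆ = 1 := by
  rw [commutatorElement_eq_one_iff_mul_comm]
  exact (hc a b x).symm

lemma comm_central_left (hc : ∀ x y z : K, ⁅x, y⁆ * z = z * ⁅x, y⁆) (x a b : K) :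
    ⁅⁅a, b⁆, x⁆ = 1 := by
  rw [commutatorElement_eq_one_iff_mul_comm]
  exact hc a b x

lemma comm_pow_central_right (hc : ∀ x y z : K, ⁅x, y⁆ * z = z * ⁅x, y⁆) (x a b : K) (k : ℕ) :
    ⁅x, ⁅a, b⁆ ^ k⁆ = 1 := by
  rw [commutatorElement_eq_one_iff_mul_comm]
  have : Commute x ⁅a, b⁆ := (hc a b x).symm
  exact (this.pow_right k).eq

lemma comm_pow_central_left (hc : ∀ x y z : K, ⁅x, y⁆ * z = z * ⁅x, y⁆) (x a b : K) (k : ℕ) :
    ⁅⁅a, b⁆ ^ k, x⁆ = 1 := by
  rw [commutatorElement_eq_one_iff_mul_comm]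
  have : Commute ⁅a, b⁆ x := hc a b x
  exact (this.pow_left k).eq

lemma pow_central (hc : ∀ x y z : K, ⁅x, y⁆ * z = z * ⁅x, y⁆) (a b z : K) (k : ℕ) :
    ⁅a, b⁆ ^ k * z = z * ⁅a, b⁆ ^ k := by
  have : Commute ⁅a, b⁆ z := hc a b z
  exact (this.pow_left k).eq

end comm

/-- the Baer group: a type synonym -/
def Baer (K : Type*) (_n _h : ℕ) := K

namespace Baer

variable {K : Type*} [Group K] {n h : ℕ}

/-- into the Baer group -/
def mk (x : K) : Baer K n h := x

/-- out of the Baer group -/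
def val (v : Baer K n h) : K := v

@[simp] lemma val_mk (x : K) : (mk x : Baer K n h).val = x := rfl
@[simp] lemma mk_val (v : Baer K n h) : mk v.val = v := rfl

lemma ext {u v : Baer K n h} (huv : u.val = v.val) : u = v := huv

instance : Add (Baer K n h) := ⟨fun u v => mk (u.val * v.val * ⁅v.val, u.val⁆ ^ h)⟩
instance : Zero (Baer K n h) := ⟨mk 1⟩
instance : Neg (Baer K n h) := ⟨fun u => mk u.val⁻¹⟩

lemma val_add (u v : Baer K n h) : (u + v).val = u.val * v.val * ⁅v.val, u.val⁆ ^ h := rfl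
@[simp] lemma val_zero : (0 : Baer K n h).val = 1 := rfl
@[simp] lemma val_neg (u : Baer K n h) : (-u).val = u.val⁻¹ := rfl

instance [Finite K] : Finite (Baer K n h) := inferInstanceAs (Finite K)

lemma card_eq : Nat.card (Baer K n h) = Nat.card K := rfl

instance instAddCommGroup [hyp : Fact (BaerHyp K n h)] : AddCommGroup (Baer K n h) :=
  { AddGroup.ofLeftAxioms
      (by
        intro u v w
        have hc := hyp.out.central
        apply ext
        simp only [val_add]
        set x := u.val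
        set y := v.val
        set z := w.val
        -- left side
        have e1 : ⁅z, x * y * ⁅y, x⁆ ^ h⁆ = ⁅z, x⁆ * ⁅z, y⁆ := by
          rw [comm_mul_right hc, comm_mul_right hc, comm_pow_central_right hc, mul_one]
        have e2 : ⁅y * z * ⁅z, y⁆ ^ h, x⁆ = ⁅y, x⁆ * ⁅z, x⁆ := by
          rw [comm_mul_left hc, comm_mul_left hc, comm_pow_central_left hc, mul_one]
        rw [e1, e2]
        have c1 : Commute ⁅z, x⁆ ⁅z, y⁆ := hc z x _
        have c2 : Commute ⁅y, x⁆ ⁅z, x⁆ := hc y x _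
        rw [c1.mul_pow, c2.mul_pow]
        -- now move central powers around
        have m1 : x * y * ⁅y, x⁆ ^ h * z = x * y * z * ⁅y, x⁆ ^ h := by
          rw [mul_assoc (x * y), pow_central hc, ← mul_assoc]
        rw [m1]
        have m2 : x * (y * z * ⁅z, y⁆ ^ h) = x * y * z * ⁅z, y⁆ ^ h := by group
        rw [m2]
        have k1 : Commute (⁅y, x⁆ ^ h) (⁅z, x⁆ ^ h) := pow_central hc y x _ h
        have k2 : Commute (⁅y, x⁆ ^ h) (⁅z, y⁆ ^ h) := pow_central hc y x _ h
        have k3 : Commute (⁅z, x⁆ ^ h) (⁅z, y⁆ ^ h) := pow_central hc z x _ h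
        have key : ⁅y, x⁆ ^ h * (⁅z, x⁆ ^ h * ⁅z, y⁆ ^ h) = ⁅z, y⁆ ^ h * (⁅y, x⁆ ^ h * ⁅z, x⁆ ^ h) := by
          rw [k3.eq, ← mul_assoc, k2.eq, mul_assoc]
        calc x * y * z * ⁅y, x⁆ ^ h * (⁅z, x⁆ ^ h * ⁅z, y⁆ ^ h)
            = x * y * z * (⁅y, x⁆ ^ h * (⁅z, x⁆ ^ h * ⁅z, y⁆ ^ h)) := by group
          _ = x * y * z * (⁅z, y⁆ ^ h * (⁅y, x⁆ ^ h * ⁅z, x⁆ ^ h)) := by rw [key]
          _ = x * y * z * ⁅z, y⁆ ^ h * (⁅y, x⁆ ^ h * ⁅z, x⁆ ^ h) := by group)
      (by
        intro u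
        apply ext
        simp only [val_add, val_zero]
        simp)
      (by
        intro u
        apply ext
        simp only [val_add, val_zero, val_neg]
        have : ⁅u.val, u.val⁻¹⁆ = 1 := by
          rw [commutatorElement_eq_one_iff_mul_comm]; group
        rw [this]; simp) with
    add_comm := by
      intro u v
      have hc := hyp.out.central
      apply ext
      simp only [val_add]
      set x := u.val
      set y := v.val
      set d := ⁅x, y⁆ with hd
      have hdinv : ⁅y, x⁆ = d⁻¹ := (commutatorElement_inv x y).symm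
      have hxy : x * y = d * (y * x) := by rw [hd, commutatorElement_def]; group
      have hdn : d ^ n = 1 := hyp.out.exp d
      have hd2 : d ^ h * d ^ h = d := by
        rw [← pow_add, ← two_mul, hyp.out.half, pow_succ, hdn, one_mul]
      rw [hdinv, hxy, inv_pow]
      have c : d * (y * x) = (y * x) * d := hc x y _
      rw [c, mul_assoc]
      congr 1
      -- `d * (d ^ h)⁻¹ = d ^ h`
      calc d * (d ^ h)⁻¹ = (d ^ h * d ^ h) * (d ^ h)⁻¹ := by rw [hd2]
        _ = d ^ h := by group }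

/-- a group endomorphism is additive for the Baer structure -/
def map [Fact (BaerHyp K n h)] (φ : K →* K) : Baer K n h →+ Baer K n h where
  toFun v := mk (φ v.val)
  map_zero' := by
    apply ext
    simp
  map_add' u v := by
    apply ext
    simp only [val_add, val_mk, map_mul, map_pow, map_commutatorElement]

@[simp] lemma val_map [Fact (BaerHyp K n h)] (φ : K →* K) (v : Baer K n h) :
    (map φ v).val = φ v.val := rfl

lemma map_comp [Fact (BaerHyp K n h)] (φ ψ : K →* K) (v : Baer K n h) :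
    map (φ.comp ψ) v = map φ (map ψ v) := rfl

lemma map_id [Fact (BaerHyp K n h)] (v : Baer K n h) : map (MonoidHom.id K) v = v := rfl

end Baer

end Cfsg.Agent.Lib.Helper20
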