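import Mathlib

/-!
# Diagonal subgroups of an orbit of commuting conjugates

Let `Y` act by conjugation on `G`, and let `M` be a subgroup with trivial centre such that every
`Y`-conjugate of `M` either equals `M` or commutes with `M`, and such that the stabilizer of `M`
in `Y` centralizes `M`.  Then the "diagonal" map `m ↦ ∏ t m t⁻¹` (product over the distinct
conjugates) is an injective homomorphism `M → C_G(Y)`.
-/

set_option autoImplicit false

namespace Cfsg.Agent.Lib.Helper20.DG

open Subgroup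

theorem multiset_noncommProd_congr {α : Type*} [Monoid α] {s t : Multiset α} (h : s = t)
    (c1 : {x | x ∈ s}.Pairwise Commute) (c2 : {x | x ∈ t}.Pairwise Commute) :
    s.noncommProd c1 = t.noncommProd c2 := by
  subst h
  rfl

/-- reindexing a noncommutative product over `univ` by a permutation -/
theorem noncommProd_univ_equiv {ι α : Type*} [Fintype ι] [Monoid α] (σ : ι ≃ ι) (g : ι → α)
    (comm1 : ((Finset.univ : Finset ι) : Set ι).Pairwise
      (Function.onFun Commute (fun i => g (σ i))))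
    (comm2 : ((Finset.univ : Finset ι) : Set ι).Pairwise (Function.onFun Commute g)) :
    Finset.univ.noncommProd (fun i => g (σ i)) comm1 = Finset.univ.noncommProd g comm2 := by
  unfold Finset.noncommProd
  apply multiset_noncommProd_congr
  have h1 : Multiset.map g (Multiset.map σ Finset.univ.val) = Multiset.map g Finset.univ.val := by
    rw [Multiset.map_univ_val_equiv]
  rw [Multiset.map_map] at h1
  exact h1

variable {G : Type*} [Group G]

theorem map_conj_mul (M : Subgroup G) (a b : G) :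
    M.map (MulAut.conj (a * b)).toMonoidHom =
      (M.map (MulAut.conj b).toMonoidHom).map (MulAut.conj a).toMonoidHom := by
  rw [Subgroup.map_map]
  congr 1
  ext x
  simp [mul_assoc]

theorem map_conj_one (M : Subgroup G) : M.map (MulAut.conj (1 : G)).toMonoidHom = M := by
  ext x
  simp

theorem map_conj_injective (a : G) :
    Function.Injective (fun M : Subgroup G => M.map (MulAut.conj a).toMonoidHom) :=
  Subgroup.map_injective (MulAut.conj a).injective

theorem exists_diag [Finite G] (Y M : Subgroup G)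
    (d1 : ∀ y ∈ Y, M.map (MulAut.conj y).toMonoidHom = M ∨
      M.map (MulAut.conj y).toMonoidHom ≤ centralizer (M : Set G))
    (d2 : ∀ y ∈ Y, M.map (MulAut.conj y).toMonoidHom = M → y ∈ centralizer (M : Set G))
    (d3 : M ⊓ centralizer (M : Set G) = ⊥) :
    ∃ δ : ↥M →* G, Function.Injective δ ∧ (∀ m, δ m ∈ centralizer (Y : Set G)) ∧
      (∀ m : ↥M, ∃ r ∈ centralizer (M : Set G), δ m = (m : G) * r) ∧
      (∀ L : Subgroup G, Y ≤ normalizer (L : Set G) → ∀ m : ↥M, (m : G) ∈ L → δ m ∈ L) := by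
  classical
  let ι := {F : Subgroup G // ∃ y ∈ Y, F = M.map (MulAut.conj y).toMonoidHom}
  haveI : Fintype ι := Fintype.ofFinite ι
  have hex : ∀ F : ι, ∃ y ∈ Y, F.val = M.map (MulAut.conj y).toMonoidHom := fun F => F.2
  choose t htY htF using hex
  let F₀ : ι := ⟨M, 1, one_mem Y, (map_conj_one M).symm⟩
  let ϕ : ι → (↥M →* G) := fun F => (MulAut.conj (t F)).toMonoidHom.comp M.subtype
  have hϕ : ∀ (F : ι) (m : ↥M), ϕ F m = t F * (m : G) * (t F)⁻¹ := fun F m => rfl
  have hpair : ∀ F F' : ι, F ≠ F' → ∀ m m' : ↥M, Commute (ϕ F m) (ϕ F' m') := by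
    intro F F' hne m m'
    have hy : (t F)⁻¹ * t F' ∈ Y := mul_mem (inv_mem (htY F)) (htY F')
    rcases d1 _ hy with h | h
    · exfalso
      apply hne
      apply Subtype.ext
      rw [htF F, htF F']
      have e : t F' = t F * ((t F)⁻¹ * t F') := by group
      rw [e, map_conj_mul, h]
    · have hc : (t F)⁻¹ * t F' * m' * ((t F)⁻¹ * t F')⁻¹ ∈ centralizer (M : Set G) :=
        h ⟨m', m'.2, rfl⟩
      have hcm := mem_centralizer_iff.mp hc m m.2
      rw [hϕ, hϕ]
      have e1 : t F' * (m' : G) * (t F')⁻¹ =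
          t F * ((t F)⁻¹ * t F' * m' * ((t F)⁻¹ * t F')⁻¹) * (t F)⁻¹ := by group
      rw [e1]
      show t F * (m : G) * (t F)⁻¹ *
          (t F * ((t F)⁻¹ * t F' * m' * ((t F)⁻¹ * t F')⁻¹) * (t F)⁻¹) =
          t F * ((t F)⁻¹ * t F' * m' * ((t F)⁻¹ * t F')⁻¹) * (t F)⁻¹ *
          (t F * (m : G) * (t F)⁻¹)
      calc t F * (m : G) * (t F)⁻¹ *
          (t F * ((t F)⁻¹ * t F' * m' * ((t F)⁻¹ * t F')⁻¹) * (t F)⁻¹)
          = t F * ((m : G) * ((t F)⁻¹ * t F' * m' * ((t F)⁻¹ * t F')⁻¹)) * (t F)⁻¹ := by group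
        _ = t F * (((t F)⁻¹ * t F' * m' * ((t F)⁻¹ * t F')⁻¹) * (m : G)) * (t F)⁻¹ := by
            rw [hcm]
        _ = _ := by group
  have hcomm : Pairwise fun F F' : ι => ∀ m m' : ↥M, Commute (ϕ F m) (ϕ F' m') :=
    fun F F' hne => hpair F F' hne
  have hcm : ∀ m : ↥M, ((Finset.univ : Finset ι) : Set ι).Pairwise
      (Function.onFun Commute (fun F => ϕ F m)) := fun m F _ F' _ h => hcomm h m m
  let δ : ↥M →* G := (MonoidHom.noncommPiCoprod ϕ hcomm).comp (Pi.constMonoidHom ι ↥M)
  have hδ : ∀ m, δ m = Finset.univ.noncommProd (fun F => ϕ F m) (hcm m) := by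
    intro m
    exact MonoidHom.noncommPiCoprod_apply (hcomm := hcomm) ϕ (Pi.constMonoidHom ι ↥M m)
  have ht₀ : t F₀ ∈ centralizer (M : Set G) := d2 _ (htY F₀) (htF F₀).symm
  have hϕ₀ : ∀ m : ↥M, ϕ F₀ m = m := by
    intro m
    rw [hϕ]
    have h1 := mem_centralizer_iff.mp ht₀ m m.2
    rw [← h1]
    group
  have hK1 : ∀ m : ↥M, ∃ r ∈ centralizer (M : Set G), δ m = (m : G) * r := by
    intro m
    refine ⟨(Finset.univ.erase F₀).noncommProd (fun F => ϕ F m)
      (fun F _ F' _ h => hcomm h m m), ?_, ?_⟩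
    · apply Subgroup.noncommProd_mem
      intro F hF
      have hne : F ≠ F₀ := (Finset.mem_erase.mp hF).1
      rw [mem_centralizer_iff]
      intro m' hm'
      have h1 := hpair F₀ F hne.symm ⟨m', hm'⟩ m
      rw [hϕ₀] at h1
      exact h1
    · rw [hδ]
      have h1 := Finset.mul_noncommProd_erase Finset.univ (Finset.mem_univ F₀)
        (fun F => ϕ F m) (hcm m)
      rw [← h1]
      show ϕ F₀ m * _ = _
      rw [hϕ₀]
  have hinj : Function.Injective δ := by
    rw [injective_iff_map_eq_one]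
    intro m hm
    obtain ⟨r, hr, hmr⟩ := hK1 m
    rw [hm] at hmr
    have h1 : (m : G) = r⁻¹ := eq_inv_of_mul_eq_one_left hmr.symm
    have hmc : (m : G) ∈ M ⊓ centralizer (M : Set G) :=
      mem_inf.mpr ⟨m.2, by rw [h1]; exact inv_mem hr⟩
    rw [d3, mem_bot] at hmc
    exact Subtype.ext hmc
  have hK3 : ∀ L : Subgroup G, Y ≤ normalizer (L : Set G) → ∀ m : ↥M, (m : G) ∈ L →
      δ m ∈ L := by
    intro L hL m hm
    rw [hδ]
    apply Subgroup.noncommProd_mem
    intro F _
    show ϕ F m ∈ L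
    rw [hϕ]
    exact (mem_normalizer_iff.mp (hL (htY F)) _).mp hm
  have hK2 : ∀ m, δ m ∈ centralizer (Y : Set G) := by
    intro m
    rw [mem_centralizer_iff]
    intro y hy
    have hσex : ∀ F : ι, ∃ y' ∈ Y, (F.val.map (MulAut.conj y).toMonoidHom) =
        M.map (MulAut.conj y').toMonoidHom := by
      intro F
      refine ⟨y * t F, mul_mem hy (htY F), ?_⟩
      rw [map_conj_mul, ← htF F]
    let σ : ι → ι := fun F => ⟨F.val.map (MulAut.conj y).toMonoidHom, hσex F⟩
    have hσinj : Function.Injective σ := by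
      intro F F' h
      have h1 : F.val.map (MulAut.conj y).toMonoidHom = F'.val.map (MulAut.conj y).toMonoidHom :=
        congrArg Subtype.val h
      exact Subtype.ext (map_conj_injective y h1)
    have hσbij : Function.Bijective σ := Finite.injective_iff_bijective.mp hσinj
    have hσϕ : ∀ F : ι, y * ϕ F m * y⁻¹ = ϕ (σ F) m := by
      intro F
      have hbY : (t (σ F))⁻¹ * (y * t F) ∈ Y :=
        mul_mem (inv_mem (htY (σ F))) (mul_mem hy (htY F))
      have hbM : M.map (MulAut.conj ((t (σ F))⁻¹ * (y * t F))).toMonoidHom = M := by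
        apply map_conj_injective (t (σ F))
        show (M.map (MulAut.conj ((t (σ F))⁻¹ * (y * t F))).toMonoidHom).map
          (MulAut.conj (t (σ F))).toMonoidHom = M.map (MulAut.conj (t (σ F))).toMonoidHom
        rw [← map_conj_mul, ← htF (σ F)]
        have e : t (σ F) * ((t (σ F))⁻¹ * (y * t F)) = y * t F := by group
        rw [e, map_conj_mul, ← htF F]
      have hb := d2 _ hbY hbM
      have hbm := mem_centralizer_iff.mp hb m m.2
      rw [hϕ, hϕ]
      calc y * (t F * (m : G) * (t F)⁻¹) * y⁻¹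
          = t (σ F) * (((t (σ F))⁻¹ * (y * t F)) * (m : G)) *
            ((t (σ F))⁻¹ * (y * t F))⁻¹ * (t (σ F))⁻¹ := by group
        _ = t (σ F) * ((m : G) * ((t (σ F))⁻¹ * (y * t F))) *
            ((t (σ F))⁻¹ * (y * t F))⁻¹ * (t (σ F))⁻¹ := by rw [hbm]
        _ = t (σ F) * (m : G) * (t (σ F))⁻¹ := by group
    have key : y * δ m * y⁻¹ = δ m := by
      have h1 : y * δ m * y⁻¹ = (MulAut.conj y) (δ m) := rfl
      rw [h1, hδ, Finset.map_noncommProd]
      have h2 : ∀ F ∈ (Finset.univ : Finset ι),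
          (MulAut.conj y) (ϕ F m) = ϕ ((Equiv.ofBijective σ hσbij) F) m := by
        intro F _
        exact hσϕ F
      refine (Finset.noncommProd_congr rfl h2 _).trans ?_
      exact noncommProd_univ_equiv (Equiv.ofBijective σ hσbij) (fun F => ϕ F m) _ (hcm m)
    calc y * δ m = (y * δ m * y⁻¹) * y := by group
      _ = δ m * y := by rw [key]
  exact ⟨δ, hinj, hK2, hK1, hK3⟩

end Cfsg.Agent.Lib.Helper20.DG
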