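import Mathlib
import Cfsg.Agent.Lib.Helper20.BestOffStruct
import Cfsg.Agent.Lib.Helper20.Diag
import Cfsg.Agent.Lib.Helper11.Semidirect
import Cfsg.Agent.Lib.Helper3.CardSL
import Cfsg.Agent.H5.PSolvable

/-!
# Fixed points of a coprime operator group on the `SL(2,p)`-components

In the setting of the structure theorem for failure of factorization (`H` faithful on `V`,
generated by best offenders), let a `q`-group `Y` normalize `V` and `H`, with `q` not dividing
`|H|`.  For every component `E = [Q, A] A` with plane `W = [V, E]` there is an injective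
"diagonal" homomorphism `W E → C(Y)`.
-/

set_option autoImplicit false

namespace Cfsg.Agent.Lib.Helper20.FFX

open Subgroup
open Cfsg.Agent.Lib.Helper20.BO

section General

variable {G : Type*} [Group G]

/-- conjugation by an element of the normalizer, as an automorphism -/
def conjEquiv (H : Subgroup G) (y : G) (hy : y ∈ normalizer (H : Set G)) : ↥H ≃* ↥H where
  toFun h := ⟨y * h * y⁻¹, (mem_normalizer_iff.mp hy h).mp h.2⟩
  invFun h := ⟨y⁻¹ * h * y, by
    apply (mem_normalizer_iff.mp hy (y⁻¹ * h * y)).mpr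
    have e : y * (y⁻¹ * (h : G) * y) * y⁻¹ = h := by group
    rw [e]
    exact h.2⟩
  left_inv h := by
    apply Subtype.ext
    show y⁻¹ * (y * (h : G) * y⁻¹) * y = h
    group
  right_inv h := by
    apply Subtype.ext
    show y * (y⁻¹ * (h : G) * y) * y⁻¹ = h
    group
  map_mul' a b := by
    apply Subtype.ext
    show y * ((a : G) * b) * y⁻¹ = (y * a * y⁻¹) * (y * b * y⁻¹)
    group

theorem conjEquiv_coe (H : Subgroup G) (y : G) (hy : y ∈ normalizer (H : Set G)) (h : ↥H) :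
    ((conjEquiv H y hy h : ↥H) : G) = y * h * y⁻¹ := rfl

theorem normalizer_le_normalizer_Qof (p : ℕ) (H : Subgroup G) :
    normalizer (H : Set G) ≤ normalizer (Qof p H : Set G) := by
  apply Cfsg.Agent.Lib.Helper1.le_normalizer_of_forall_conj_mem
  intro y hy n hn
  obtain ⟨k, hk, rfl⟩ := hn
  have hchar := Cfsg.H5.pPrimeCore_characteristic' p ↥H
  have hmap := (Subgroup.characteristic_iff_map_eq.mp hchar) (conjEquiv H y hy)
  have hk' : conjEquiv H y hy k ∈ Cfsg.pPrimeCore p ↥H := by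
    rw [← hmap]
    exact ⟨k, hk, rfl⟩
  exact ⟨conjEquiv H y hy k, hk', rfl⟩

/-- a `q`-group (`q ≥ 5`) normalizing a group of order `p ^ 2` (`p = 2, 3`) centralizes it -/
theorem le_centralizer_of_card_sq [Finite G] {q p : ℕ} [hq : Fact q.Prime] (hp : p = 2 ∨ p = 3)
    (hq5 : 5 ≤ q) {Y W : Subgroup G} (hY : IsPGroup q Y) (hYW : Y ≤ normalizer (W : Set G))
    (hW : Nat.card W = p ^ 2) : Y ≤ centralizer (W : Set G) := by
  letI : MulAction ↥Y ↥W :=
    { smul := fun y w => ⟨y * w * (y : G)⁻¹, (mem_normalizer_iff.mp (hYW y.2) w).mp w.2⟩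
      one_smul := fun w => by
        apply Subtype.ext
        show ((1 : ↥Y) : G) * w * ((1 : ↥Y) : G)⁻¹ = w
        simp
      mul_smul := fun a b w => by
        apply Subtype.ext
        show ((a * b : ↥Y) : G) * w * ((a * b : ↥Y) : G)⁻¹ = a * (b * w * (b : G)⁻¹) * (a : G)⁻¹
        rw [Subgroup.coe_mul]
        group }
  have hsmul : ∀ (y : ↥Y) (w : ↥W), ((y • w : ↥W) : G) = y * w * (y : G)⁻¹ := fun _ _ => rfl
  have h1 := hY.card_modEq_card_fixedPoints (↥W)
  have hfix : Nat.card (MulAction.fixedPoints ↥Y ↥W) = Nat.card ↥(W ⊓ centralizer (Y : Set G)) := by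
    apply Nat.card_congr
    refine ⟨fun w => ⟨w.1.1, mem_inf.mpr ⟨w.1.2, ?_⟩⟩, fun w => ⟨⟨w.1, (mem_inf.mp w.2).1⟩, ?_⟩,
      fun w => rfl, fun w => rfl⟩
    · rw [mem_centralizer_iff]
      intro y hy
      have h2 := congrArg Subtype.val (w.2 ⟨y, hy⟩)
      rw [hsmul] at h2
      calc y * (w.1 : G) = (y * (w.1 : G) * y⁻¹) * y := by group
        _ = (w.1 : G) * y := by rw [h2]
    · intro y
      apply Subtype.ext
      rw [hsmul]
      have h2 := mem_centralizer_iff.mp (mem_inf.mp w.2).2 y y.2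
      show (y : G) * (w : G) * (y : G)⁻¹ = w
      rw [h2]
      group
  rw [hfix, hW] at h1
  have hdvd : Nat.card ↥(W ⊓ centralizer (Y : Set G)) ∣ p ^ 2 := by
    rw [← hW]
    exact Subgroup.card_dvd_of_le inf_le_left
  have hq' : q.Prime := hq.out
  have hcard : Nat.card ↥(W ⊓ centralizer (Y : Set G)) = p ^ 2 := by
    have hle : Nat.card ↥(W ⊓ centralizer (Y : Set G)) ≤ p ^ 2 :=
      Nat.le_of_dvd (by rcases hp with rfl | rfl <;> norm_num) hdvd
    have h2 := (Nat.modEq_iff_dvd' hle).mp h1.symm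
    rcases hp with rfl | rfl
    · have hd : Nat.card ↥(W ⊓ centralizer (Y : Set G)) ∣ 4 := by simpa using hdvd
      have hle4 : Nat.card ↥(W ⊓ centralizer (Y : Set G)) ≤ 4 := by simpa using hle
      have hpos : 0 < Nat.card ↥(W ⊓ centralizer (Y : Set G)) := Nat.card_pos
      by_contra hne
      have hlt : 2 ^ 2 - Nat.card ↥(W ⊓ centralizer (Y : Set G)) ≤ 3 := by omega
      have hpos2 : 0 < 2 ^ 2 - Nat.card ↥(W ⊓ centralizer (Y : Set G)) := by omega
      have := Nat.le_of_dvd hpos2 h2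
      omega
    · have hd : Nat.card ↥(W ⊓ centralizer (Y : Set G)) ∣ 9 := by simpa using hdvd
      have hle9 : Nat.card ↥(W ⊓ centralizer (Y : Set G)) ≤ 9 := by simpa using hle
      have hpos : 0 < Nat.card ↥(W ⊓ centralizer (Y : Set G)) := Nat.card_pos
      by_contra hne
      have hcases : Nat.card ↥(W ⊓ centralizer (Y : Set G)) = 1 ∨
          Nat.card ↥(W ⊓ centralizer (Y : Set G)) = 3 := by
        have h3 : Nat.card ↥(W ⊓ centralizer (Y : Set G)) ∈ Nat.divisors 9 :=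
          Nat.mem_divisors.mpr ⟨hd, by norm_num⟩
        have h4 : Nat.divisors 9 = {1, 3, 9} := by decide
        rw [h4] at h3
        simp only [Finset.mem_insert, Finset.mem_singleton] at h3
        rcases h3 with h3 | h3 | h3
        · exact Or.inl h3
        · exact Or.inr h3
        · exact absurd (by simpa using h3) hne
      rcases hcases with hc | hc
      · rw [hc] at h2
        have h5 : q ∣ 2 ^ 3 := by simpa using h2
        have h6 := hq'.dvd_of_dvd_pow h5
        have := Nat.le_of_dvd (by norm_num) h6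
        omega
      · rw [hc] at h2
        have h5 : q ∣ 2 * 3 := by simpa using h2
        rcases (Nat.Prime.dvd_mul hq').mp h5 with h6 | h6
        · have := Nat.le_of_dvd (by norm_num) h6
          omega
        · have := Nat.le_of_dvd (by norm_num) h6
          omega
  have heq : W ⊓ centralizer (Y : Set G) = W :=
    Subgroup.eq_of_le_of_card_ge inf_le_left (by rw [hcard, hW])
  rw [Subgroup.le_centralizer_iff]
  rw [← heq]
  exact inf_le_right

end General

section Struct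

variable {G : Type*} [Group G] [Finite G] {p : ℕ} [Fact p.Prime]

theorem sup_le_centralizer_sup {A B C D : Subgroup G}
    (h1 : A ≤ centralizer (C : Set G)) (h2 : A ≤ centralizer (D : Set G))
    (h3 : B ≤ centralizer (C : Set G)) (h4 : B ≤ centralizer (D : Set G)) :
    A ⊔ B ≤ centralizer ((C ⊔ D : Subgroup G) : Set G) := by
  rw [Cfsg.H5.centralizer_sup]
  exact sup_le (le_inf h1 h2) (le_inf h3 h4)

/-- distinct components: the groups `W_B E_B` and `W_A E_A` centralize each other -/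
theorem WE_le_centralizer {V Q H A B : Subgroup G} [hVc : IsMulCommutative V] (hC : Ctx p V Q H)
    (hgen : ∀ K : Subgroup G, (∀ B, MinOff p V Q B → B ≤ H → B ≤ K) → H ≤ K)
    (hMA : MinOff p V Q A) (hAH : A ≤ H) (hMB : MinOff p V Q B) (hBH : B ≤ H)
    (hne : EE Q B ≠ EE Q A) :
    WW V Q B ⊔ EE Q B ≤ centralizer ((WW V Q A ⊔ EE Q A : Subgroup G) : Set G) := by
  have c1 : EE Q B ≤ centralizer (WW V Q A : Set G) := by
    by_contra hn
    exact hne (EE_eq_of_not_le hC hMA hAH hMB hBH hn)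
  have c2 : EE Q A ≤ centralizer (WW V Q B : Set G) := by
    by_contra hn
    exact hne (EE_eq_of_not_le hC hMB hBH hMA hAH hn).symm
  obtain ⟨hcomm, -, -, -⟩ := struct_main hC hgen hMA hAH
  rw [Subgroup.commutator_eq_bot_iff_le_centralizer] at hcomm
  have c3 : EE Q B ≤ centralizer (EE Q A : Set G) :=
    (le_inf (EE_le_H hC hMB hBH) c1).trans (Subgroup.le_centralizer_iff.mp hcomm)
  have c4 : WW V Q B ≤ centralizer (WW V Q A : Set G) :=
    (WW_le_V hC hMB hBH).trans (by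
      intro v hv
      rw [mem_centralizer_iff]
      intro w hw
      exact congrArg Subtype.val (hVc.is_comm.comm ⟨w, WW_le_V hC hMA hAH hw⟩ ⟨v, hv⟩))
  have c5 : WW V Q B ≤ centralizer (EE Q A : Set G) := Subgroup.le_centralizer_iff.mp c2
  exact sup_le_centralizer_sup c4 c5 c1 c3

/-- `W_A E_A` has trivial centre -/
theorem WE_inf_centralizer {V Q H A : Subgroup G} [hVc : IsMulCommutative V] (hC : Ctx p V Q H)
    (hMA : MinOff p V Q A) (hAH : A ≤ H) :
    (WW V Q A ⊔ EE Q A) ⊓ centralizer ((WW V Q A ⊔ EE Q A : Subgroup G) : Set G) = ⊥ := by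
  obtain ⟨-, -, hbot, -⟩ := comp_basic hC hMA hAH
  rw [eq_bot_iff]
  intro z hz
  rw [mem_inf, Cfsg.H5.centralizer_sup, mem_inf] at hz
  obtain ⟨w, hw, e, he, rfl⟩ := (Cfsg.Agent.Lib.Helper11.mem_sup_iff_exists_mul _ _
    (EE_le_normalizer_WW hC hMA hAH) z).mp hz.1
  have hwc : w ∈ centralizer (WW V Q A : Set G) := by
    rw [mem_centralizer_iff]
    intro u hu
    exact congrArg Subtype.val (hVc.is_comm.comm ⟨u, WW_le_V hC hMA hAH hu⟩
      ⟨w, WW_le_V hC hMA hAH hw⟩)
  have hec : e ∈ centralizer (WW V Q A : Set G) := by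
    have h1 : e = w⁻¹ * (w * e) := by group
    rw [h1]
    exact mul_mem (inv_mem hwc) hz.2.1
  have he1 : e ∈ EE Q A ⊓ centralizer (WW V Q A : Set G) := mem_inf.mpr ⟨he, hec⟩
  rw [hbot, mem_bot] at he1
  rw [he1, mul_one] at hz ⊢
  have hw1 : w ∈ WW V Q A ⊓ centralizer (EE Q A : Set G) := mem_inf.mpr ⟨hw, hz.2.2⟩
  rw [WW_inf_centralizer_EE hC hMA hAH] at hw1
  exact hw1

theorem card_EE_of {V Q H A : Subgroup G} [hVc : IsMulCommutative V] (hC : Ctx p V Q H)
    (hMA : MinOff p V Q A) (hAH : A ≤ H) : 6 ∣ Nat.card (EE Q A) := by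
  obtain ⟨hp23, -, -, ⟨iso⟩⟩ := comp_basic hC hMA hAH
  rw [Nat.card_congr iso.toEquiv, Cfsg.Agent.Lib.Helper3.CardSL.card_SL2, ZMod.card]
  rcases hp23 with rfl | rfl
  · norm_num
  · norm_num

theorem five_le_of_not_dvd {V Q H A : Subgroup G} [hVc : IsMulCommutative V] (hC : Ctx p V Q H)
    (hMA : MinOff p V Q A) (hAH : A ≤ H) {q : ℕ} (hq : q.Prime) (hqH : ¬ q ∣ Nat.card H) :
    5 ≤ q := by
  have h6 : 6 ∣ Nat.card H :=
    (card_EE_of hC hMA hAH).trans (Subgroup.card_dvd_of_le (EE_le_H hC hMA hAH))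
  apply hq.five_le_of_ne_two_of_ne_three
  · rintro rfl
    exact hqH ((by norm_num : 2 ∣ 6).trans h6)
  · rintro rfl
    exact hqH ((by norm_num : 3 ∣ 6).trans h6)

/-- the diagonal homomorphism for a component -/
theorem exists_delta {V Q H A Y : Subgroup G} [hVc : IsMulCommutative V] (hC : Ctx p V Q H)
    (hgen : ∀ K : Subgroup G, (∀ B, MinOff p V Q B → B ≤ H → B ≤ K) → H ≤ K)
    (hMA : MinOff p V Q A) (hAH : A ≤ H)
    (hYV : Y ≤ normalizer (V : Set G)) (hYH : Y ≤ normalizer (H : Set G))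
    (hYQ : Y ≤ normalizer (Q : Set G)) {q : ℕ} [Fact q.Prime] (hYq : IsPGroup q Y)
    (hqH : ¬ q ∣ Nat.card H) :
    ∃ δ : ↥(WW V Q A ⊔ EE Q A) →* G, Function.Injective δ ∧
      (∀ m, δ m ∈ centralizer (Y : Set G)) ∧
      (∀ m : ↥(WW V Q A ⊔ EE Q A),
        ∃ r ∈ centralizer ((WW V Q A ⊔ EE Q A : Subgroup G) : Set G), δ m = (m : G) * r) ∧
      (∀ L : Subgroup G, Y ≤ normalizer (L : Set G) → ∀ m : ↥(WW V Q A ⊔ EE Q A),
        (m : G) ∈ L → δ m ∈ L) := by
  have hq' : q.Prime := Fact.out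
  have hq5 := five_le_of_not_dvd hC hMA hAH hq' hqH
  obtain ⟨hp23, hWcard, hbot, -⟩ := comp_basic hC hMA hAH
  have hd3 := WE_inf_centralizer hC hMA hAH
  -- conjugates of the component
  have hconj : ∀ y ∈ Y, MinOff p V Q (A.map (MulAut.conj y).toMonoidHom) ∧
      A.map (MulAut.conj y).toMonoidHom ≤ H ∧
      (WW V Q A ⊔ EE Q A).map (MulAut.conj y).toMonoidHom =
        WW V Q (A.map (MulAut.conj y).toMonoidHom) ⊔ EE Q (A.map (MulAut.conj y).toMonoidHom) := by
    intro y hy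
    refine ⟨hMA.conj_of_mem (hYV hy) (hYQ hy), ?_, ?_⟩
    · rw [← Cfsg.H5.map_conj_eq_of_mem_normalizer (hYH hy)]
      exact Subgroup.map_mono hAH
    · rw [Subgroup.map_sup, WW_map_conj (hYV hy) (hYQ hy), EE_map_conj (hYQ hy)]
  have hd1' : ∀ y ∈ Y, EE Q (A.map (MulAut.conj y).toMonoidHom) = EE Q A →
      (WW V Q A ⊔ EE Q A).map (MulAut.conj y).toMonoidHom = WW V Q A ⊔ EE Q A := by
    intro y hy heq
    obtain ⟨-, -, h3⟩ := hconj y hy
    rw [h3]
    unfold WW
    rw [heq]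
  have hd1'' : ∀ y ∈ Y, EE Q (A.map (MulAut.conj y).toMonoidHom) ≠ EE Q A →
      (WW V Q A ⊔ EE Q A).map (MulAut.conj y).toMonoidHom ≤
        centralizer ((WW V Q A ⊔ EE Q A : Subgroup G) : Set G) := by
    intro y hy hne
    obtain ⟨h1, h2, h3⟩ := hconj y hy
    rw [h3]
    exact WE_le_centralizer hC hgen hMA hAH h1 h2 hne
  have hMne : WW V Q A ⊔ EE Q A ≠ ⊥ := by
    intro h
    apply hMA.ne_bot
    rw [eq_bot_iff, ← h]
    exact (D_le_EE Q A).trans le_sup_right
  apply Cfsg.Agent.Lib.Helper20.DG.exists_diag Y (WW V Q A ⊔ EE Q A)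
  · intro y hy
    by_cases heq : EE Q (A.map (MulAut.conj y).toMonoidHom) = EE Q A
    · exact Or.inl (hd1' y hy heq)
    · exact Or.inr (hd1'' y hy heq)
  · intro y hy hM
    have heq : EE Q (A.map (MulAut.conj y).toMonoidHom) = EE Q A := by
      by_contra hne
      have h1 := hd1'' y hy hne
      rw [hM] at h1
      apply hMne
      rw [eq_bot_iff, ← hd3]
      exact le_inf le_rfl h1
    obtain ⟨-, -, h3⟩ := hconj y hy
    have hEy : (EE Q A).map (MulAut.conj y).toMonoidHom = EE Q A := by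
      rw [← EE_map_conj (hYQ hy)]
      exact heq
    have hWy : (WW V Q A).map (MulAut.conj y).toMonoidHom = WW V Q A := by
      rw [← WW_map_conj (hYV hy) (hYQ hy)]
      unfold WW
      rw [heq]
    have hyE : y ∈ normalizer (EE Q A : Set G) := Cfsg.H5.mem_normalizer_of_map_conj_eq hEy
    have hyW : y ∈ normalizer (WW V Q A : Set G) := Cfsg.H5.mem_normalizer_of_map_conj_eq hWy
    have hzq : IsPGroup q (zpowers y) := hYq.to_le (zpowers_le.mpr hy)
    have hzW : zpowers y ≤ normalizer (WW V Q A : Set G) := zpowers_le.mpr hyW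
    have hycW : y ∈ centralizer (WW V Q A : Set G) :=
      le_centralizer_of_card_sq hp23 hq5 hzq hzW hWcard (mem_zpowers y)
    have hycE : y ∈ centralizer (EE Q A : Set G) := by
      rw [mem_centralizer_iff]
      intro e he
      have hc : y * e * y⁻¹ * e⁻¹ ∈ EE Q A ⊓ centralizer (WW V Q A : Set G) := by
        refine mem_inf.mpr ⟨mul_mem ((mem_normalizer_iff.mp hyE e).mp he) (inv_mem he), ?_⟩
        rw [mem_centralizer_iff]
        intro w hw
        have hw' : e⁻¹ * w * e ∈ WW V Q A := by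
          have := (mem_normalizer_iff.mp (EE_le_normalizer_WW hC hMA hAH (inv_mem he)) w).mp hw
          rwa [inv_inv] at this
        have h1 : (e⁻¹ * w * e) * y = y * (e⁻¹ * w * e) := mem_centralizer_iff.mp hycW _ hw'
        have h2 : w * y = y * w := mem_centralizer_iff.mp hycW _ hw
        have hu : y⁻¹ * (e⁻¹ * w * e) = (e⁻¹ * w * e) * y⁻¹ := by
          calc y⁻¹ * (e⁻¹ * w * e) = y⁻¹ * ((e⁻¹ * w * e) * y) * y⁻¹ := by group
            _ = y⁻¹ * (y * (e⁻¹ * w * e)) * y⁻¹ := by rw [h1]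
            _ = (e⁻¹ * w * e) * y⁻¹ := by group
        calc w * (y * e * y⁻¹ * e⁻¹) = (w * y) * e * y⁻¹ * e⁻¹ := by group
          _ = (y * w) * e * y⁻¹ * e⁻¹ := by rw [h2]
          _ = y * e * ((e⁻¹ * w * e) * y⁻¹) * e⁻¹ := by group
          _ = y * e * (y⁻¹ * (e⁻¹ * w * e)) * e⁻¹ := by rw [hu]
          _ = y * e * y⁻¹ * e⁻¹ * w := by group
      rw [hbot, mem_bot] at hc
      have h3 : y * e * y⁻¹ = e := by
        have := mul_inv_eq_one.mp hc
        exact this
      calc e * y = (y * e * y⁻¹) * y := by rw [h3]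
        _ = y * e := by group
    rw [Cfsg.H5.centralizer_sup]
    exact mem_inf.mpr ⟨hycW, hycE⟩
  · exact hd3

end Struct

section Pair

variable {G : Type*} [Group G] [Finite G] {p : ℕ} [Fact p.Prime]

/-- existence of a minimal offender in `H ≠ 1` -/
theorem exists_minOff {V H : Subgroup G} (hV : Cfsg.IsElementaryAbelian p V)
    (hHV : H ≤ normalizer (V : Set G)) (hf : H ⊓ centralizer (V : Set G) = ⊥)
    (hS1 : centralizer (Cfsg.pPrimeCore p ↥H : Set ↥H) ≤ Cfsg.pPrimeCore p ↥H)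
    (hS3 : H = ⨆ A : {A : Subgroup G // A ≤ H ∧ Cfsg.IsBestOffenderOn p V A}, (A : Subgroup G))
    (hH1 : H ≠ ⊥) : ∃ A, MinOff p V (Qof p H) A ∧ A ≤ H := by
  have hgen := gen_of hV hHV hf hS1 hS3
  by_contra hno
  push Not at hno
  apply hH1
  rw [eq_bot_iff]
  apply hgen ⊥
  intro B hMB hBH
  exact absurd hBH (hno B hMB)

/-- a plane and an `SL(2,p)` acting on it inside the fixed points of the operator group `Y` -/
theorem exists_fixed_pair {V H Y : Subgroup G} (hV : Cfsg.IsElementaryAbelian p V)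
    (hHV : H ≤ normalizer (V : Set G)) (hf : H ⊓ centralizer (V : Set G) = ⊥)
    (hS1 : centralizer (Cfsg.pPrimeCore p ↥H : Set ↥H) ≤ Cfsg.pPrimeCore p ↥H)
    (hS3 : H = ⨆ A : {A : Subgroup G // A ≤ H ∧ Cfsg.IsBestOffenderOn p V A}, (A : Subgroup G))
    (hH1 : H ≠ ⊥)
    (hYV : Y ≤ normalizer (V : Set G)) (hYH : Y ≤ normalizer (H : Set G))
    {q : ℕ} [Fact q.Prime] (hYq : IsPGroup q Y) (hqH : ¬ q ∣ Nat.card H) :
    (p = 2 ∨ p = 3) ∧ ∃ W D : Subgroup G, W ≤ V ⊓ centralizer (Y : Set G) ∧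
      D ≤ H ⊓ centralizer (Y : Set G) ∧ Cfsg.IsElementaryAbelian p W ∧ Nat.card W = p ^ 2 ∧
      D ≤ normalizer (W : Set G) ∧ D ⊓ centralizer (W : Set G) = ⊥ ∧
      Nonempty (↥D ≃* Matrix.SpecialLinearGroup (Fin 2) (ZMod p)) := by
  haveI hVc : IsMulCommutative V := hV.1
  have hC := ctx_of hV hHV hf hS1
  have hgen := gen_of hV hHV hf hS1 hS3
  obtain ⟨A, hMA, hAH⟩ := exists_minOff hV hHV hf hS1 hS3 hH1
  have hYQ : Y ≤ normalizer (Qof p H : Set G) := hYH.trans (normalizer_le_normalizer_Qof p H)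
  obtain ⟨δ, hinj, hK2, hK1, hK3⟩ := exists_delta hC hgen hMA hAH hYV hYH hYQ hYq hqH
  obtain ⟨hp23, hWcard, hbot, ⟨iso⟩⟩ := comp_basic hC hMA hAH
  have hWV := WW_le_V hC hMA hAH
  have hEH := EE_le_H hC hMA hAH
  have hEW := EE_le_normalizer_WW hC hMA hAH
  refine ⟨hp23, ((WW V (Qof p H) A).subgroupOf (WW V (Qof p H) A ⊔ EE (Qof p H) A)).map δ,
    ((EE (Qof p H) A).subgroupOf (WW V (Qof p H) A ⊔ EE (Qof p H) A)).map δ, ?_, ?_, ?_, ?_, ?_,
    ?_, ?_⟩
  · rintro _ ⟨m, hm, rfl⟩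
    replace hm : (m : G) ∈ WW V (Qof p H) A := mem_subgroupOf.mp hm
    exact mem_inf.mpr ⟨hK3 V hYV m (hWV hm), hK2 m⟩
  · rintro _ ⟨m, hm, rfl⟩
    replace hm : (m : G) ∈ EE (Qof p H) A := mem_subgroupOf.mp hm
    exact mem_inf.mpr ⟨hK3 H hYH m (hEH hm), hK2 m⟩
  · apply Cfsg.H5.isElementaryAbelian_map
    apply Cfsg.H5.isElementaryAbelian_of_map (Subgroup.subtype _) (Subgroup.subtype_injective _)
    rw [Subgroup.subgroupOf_map_subtype, inf_eq_left.mpr le_sup_left]
    exact Cfsg.H5.isElementaryAbelian_mono hV hWV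
  · rw [Subgroup.card_map_of_injective hinj,
      Nat.card_congr (Subgroup.subgroupOfEquivOfLe le_sup_left).toEquiv]
    exact hWcard
  · apply Cfsg.Agent.Lib.Helper1.le_normalizer_of_forall_conj_mem
    rintro _ ⟨e, he, rfl⟩ _ ⟨m, hm, rfl⟩
    replace he : (e : G) ∈ EE (Qof p H) A := mem_subgroupOf.mp he
    replace hm : (m : G) ∈ WW V (Qof p H) A := mem_subgroupOf.mp hm
    refine ⟨e * m * e⁻¹, ?_, ?_⟩
    · apply mem_subgroupOf.mpr
      show (e : G) * (m : G) * ((e⁻¹ : ↥(WW V (Qof p H) A ⊔ EE (Qof p H) A)) : G) ∈ _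
      rw [Subgroup.coe_inv]
      exact (mem_normalizer_iff.mp (hEW he) _).mp hm
    · rw [map_mul, map_mul, map_inv]
  · rw [eq_bot_iff]
    rintro x ⟨⟨e, he, rfl⟩, hx⟩
    replace he : (e : G) ∈ EE (Qof p H) A := mem_subgroupOf.mp he
    have hx' : δ e ∈ centralizer ((((WW V (Qof p H) A).subgroupOf
        (WW V (Qof p H) A ⊔ EE (Qof p H) A)).map δ : Subgroup G) : Set G) := hx
    have he1 : (e : G) ∈ EE (Qof p H) A ⊓ centralizer (WW V (Qof p H) A : Set G) := by
      refine mem_inf.mpr ⟨he, ?_⟩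
      rw [mem_centralizer_iff]
      intro w hw
      have hwM : w ∈ WW V (Qof p H) A ⊔ EE (Qof p H) A :=
        (le_sup_left : WW V (Qof p H) A ≤ WW V (Qof p H) A ⊔ EE (Qof p H) A) hw
      have h1 := mem_centralizer_iff.mp hx' (δ ⟨w, hwM⟩)
        ⟨⟨w, hwM⟩, mem_subgroupOf.mpr hw, rfl⟩
      rw [← map_mul, ← map_mul] at h1
      exact congrArg Subtype.val (hinj h1)
    rw [hbot, mem_bot] at he1
    have he2 : e = 1 := Subtype.ext he1
    rw [mem_bot, he2, map_one]
  · exact ⟨((Subgroup.equivMapOfInjective _ δ hinj).symm.trans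
      (Subgroup.subgroupOfEquivOfLe le_sup_right)).trans iso⟩

end Pair

end Cfsg.Agent.Lib.Helper20.FFX
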