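import Mathlib
import Cfsg.Agent.Lib.Helper20.FFFixed
import Cfsg.Agent.H5.Thompson
import Cfsg.Agent.H5.Card

/-!
# Generation by the normalizer of the Thompson subgroup of a Sylow subgroup

* Frattini argument for the (normal) Thompson subgroup `J(G)`:
  `G = N_G(J(S)) J(G)` for every Sylow `p`-subgroup `S`.
* In the faithful setting of the structure theorem for failure of factorization with a coprime
  operator group `Y`: a subgroup `P` containing the fixed points of `Y` on `H` and one conjugate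
  of a minimal offender `B` contains `B`.
-/

set_option autoImplicit false

namespace Cfsg.Agent.Lib.Helper20.FFG

open Subgroup
open scoped commutatorElement
open Cfsg.Agent.Lib.Helper20.BO

section Frattini

variable {G : Type*} [Group G] [Finite G] {p : ℕ} [Fact p.Prime]

/-- Frattini argument for `S ∩ N` with `S` a Sylow subgroup of `G` and `N` normal -/
theorem normalizer_inf_sup_eq_top (S : Sylow p G) (N : Subgroup G) [N.Normal] :
    normalizer (((S : Subgroup G) ⊓ N : Subgroup G) : Set G) ⊔ N = ⊤ := by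
  have hLE : (S : Subgroup G) ≤ normalizer (N : Set G) := by
    rw [Subgroup.normalizer_eq_top]
    exact le_top
  have h1 := Cfsg.H5.card_sup_mul_card_inf hLE
  have h2 := Cfsg.H5.card_mul_relIndex_of_le (le_sup_left : (S : Subgroup G) ≤ (S : Subgroup G) ⊔ N)
  have h3 := Cfsg.H5.card_mul_relIndex_of_le (inf_le_right : (S : Subgroup G) ⊓ N ≤ N)
  have h4 : (S : Subgroup G).relIndex ((S : Subgroup G) ⊔ N) =
      ((S : Subgroup G) ⊓ N).relIndex N := by
    have hpos1 : 0 < Nat.card (S : Subgroup G) := Nat.card_pos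
    have hpos2 : 0 < Nat.card ↥((S : Subgroup G) ⊓ N) := Nat.card_pos
    apply Nat.eq_of_mul_eq_mul_left (Nat.mul_pos hpos1 hpos2)
    calc Nat.card (S : Subgroup G) * Nat.card ↥((S : Subgroup G) ⊓ N) *
          (S : Subgroup G).relIndex ((S : Subgroup G) ⊔ N)
        = (Nat.card (S : Subgroup G) * (S : Subgroup G).relIndex ((S : Subgroup G) ⊔ N)) *
          Nat.card ↥((S : Subgroup G) ⊓ N) := by ring
      _ = Nat.card ↥((S : Subgroup G) ⊔ N) * Nat.card ↥((S : Subgroup G) ⊓ N) := by rw [h2]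
      _ = Nat.card (S : Subgroup G) * Nat.card N := h1
      _ = Nat.card (S : Subgroup G) *
          (Nat.card ↥((S : Subgroup G) ⊓ N) * ((S : Subgroup G) ⊓ N).relIndex N) := by rw [h3]
      _ = Nat.card (S : Subgroup G) * Nat.card ↥((S : Subgroup G) ⊓ N) *
          ((S : Subgroup G) ⊓ N).relIndex N := by ring
  have hnd : ¬ p ∣ (((S : Subgroup G) ⊓ N).subgroupOf N).index := by
    show ¬ p ∣ ((S : Subgroup G) ⊓ N).relIndex N
    rw [← h4]
    intro hd
    exact S.not_dvd_index (hd.trans (Subgroup.relIndex_dvd_index_of_le le_sup_left))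
  have hpg : IsPGroup p (((S : Subgroup G) ⊓ N).subgroupOf N) :=
    (S.isPGroup'.to_le inf_le_left).comap_subtype
  have h5 := Sylow.normalizer_sup_eq_top (hpg.toSylow hnd)
  have h6 : ((hpg.toSylow hnd : Sylow p N) : Subgroup N).map N.subtype = (S : Subgroup G) ⊓ N := by
    rw [IsPGroup.toSylow_coe, Subgroup.subgroupOf_map_subtype, inf_assoc, inf_idem]
  rw [h6] at h5
  exact h5

theorem normalizer_inf_le_normalizer_thompsonSubgroupOf (S : Sylow p G) :
    normalizer (((S : Subgroup G) ⊓ Cfsg.thompsonSubgroup p G : Subgroup G) : Set G) ≤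
      normalizer (Cfsg.thompsonSubgroupOf p (S : Subgroup G) : Set G) := by
  obtain ⟨A₀, hA₀, hA₀S⟩ := Cfsg.H5.exists_max_le_sylow S
  rw [Cfsg.H5.thompsonSubgroupOf_eq_sSup hA₀ hA₀S]
  apply le_normalizer_of_map_conj_le
  intro g hg
  rw [Subgroup.map_le_iff_le_comap]
  apply sSup_le
  rintro A ⟨hA, hAS⟩
  rw [← Subgroup.map_le_iff_le_comap]
  apply le_sSup
  refine ⟨Cfsg.H5.map_equiv_mem_maxElementaryAbelianSubgroups (MulAut.conj g) hA, ?_⟩
  have hAJ : A ≤ Cfsg.thompsonSubgroup p G := le_sSup hA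
  have h1 : A.map (MulAut.conj g).toMonoidHom ≤
      ((S : Subgroup G) ⊓ Cfsg.thompsonSubgroup p G).map (MulAut.conj g).toMonoidHom :=
    Subgroup.map_mono (le_inf hAS hAJ)
  rw [Cfsg.H5.map_conj_eq_of_mem_normalizer hg] at h1
  exact h1.trans inf_le_left

/-- `G = N_G(J(S)) J(G)` -/
theorem frattini_thompson (S : Sylow p G) :
    normalizer (Cfsg.thompsonSubgroupOf p (S : Subgroup G) : Set G) ⊔
      Cfsg.thompsonSubgroup p G = ⊤ := by
  haveI hJchar := Cfsg.H5.thompsonSubgroup_characteristic (G := G) p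
  haveI hJn : (Cfsg.thompsonSubgroup p G).Normal := inferInstance
  rw [eq_top_iff, ← normalizer_inf_sup_eq_top S (Cfsg.thompsonSubgroup p G)]
  exact sup_le_sup_right (normalizer_inf_le_normalizer_thompsonSubgroupOf S) _

theorem le_normalizer_thompsonSubgroupOf (p : ℕ) (P : Subgroup G) :
    P ≤ normalizer (Cfsg.thompsonSubgroupOf p P : Set G) := by
  have h1 := Subgroup.le_normalizer_map (H := Cfsg.thompsonSubgroup p ↥P) P.subtype
  haveI := Cfsg.H5.thompsonSubgroup_characteristic (G := ↥P) p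
  rw [Subgroup.normalizer_eq_top_iff.mpr inferInstance, ← MonoidHom.range_eq_map,
    Subgroup.range_subtype] at h1
  exact h1

open scoped Pointwise in
/-- a `p`-element is conjugate into a given Sylow `p`-subgroup -/
theorem exists_conj_mem_sylow (S : Sylow p G) {x : G} (hx : IsPGroup p (zpowers x)) :
    ∃ g : G, g * x * g⁻¹ ∈ (S : Subgroup G) := by
  obtain ⟨S', hS'⟩ := hx.exists_le_sylow
  obtain ⟨g, hg⟩ := MulAction.exists_smul_eq G S' S
  refine ⟨g, ?_⟩
  have h1 : (zpowers x).map (MulAut.conj g).toMonoidHom ≤ (S : Subgroup G) := by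
    rw [← hg, Sylow.smul_def, Sylow.pointwise_smul_def, Subgroup.pointwise_smul_def]
    exact Subgroup.map_mono hS'
  exact h1 ⟨x, mem_zpowers x, rfl⟩

/-- the `p'`-power of a preimage of an element of order `p` is a `p`-element not in the kernel -/
theorem exists_p_elt {Γ : Type*} [Group Γ] (f : G →* Γ) (j : G) (hb : (f j) ^ p = 1)
    (hb1 : f j ≠ 1) : ∃ j₁ : G, j₁ ∈ zpowers j ∧ IsPGroup p (zpowers j₁) ∧ f j₁ ≠ 1 := by
  have hp : p.Prime := Fact.out
  have hpos : 0 < orderOf j := orderOf_pos j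
  obtain ⟨e, m, hm, hem⟩ := Nat.exists_eq_pow_mul_and_not_dvd hpos.ne' p hp.ne_one
  refine ⟨j ^ m, Subgroup.pow_mem _ (mem_zpowers j) m, ?_, ?_⟩
  · have h1 : (j ^ m) ^ (p ^ e) = 1 := by
      rw [← pow_mul, mul_comm, ← hem]
      exact pow_orderOf_eq_one j
    intro g
    refine ⟨e, ?_⟩
    obtain ⟨z, hz⟩ := mem_zpowers_iff.mp g.2
    apply Subtype.ext
    rw [Subgroup.coe_pow, ← hz, Subgroup.coe_one, ← zpow_natCast, ← zpow_mul, mul_comm, zpow_mul,
      zpow_natCast, h1, one_zpow]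
  · intro h
    rw [map_pow] at h
    have h2 : orderOf (f j) = p := orderOf_eq_prime hb hb1
    have h3 : orderOf (f j) ∣ m := orderOf_dvd_of_pow_eq_one h
    rw [h2] at h3
    exact hm h3

end Frattini

section Diag

variable {Γ : Type*} [Group Γ] [Finite Γ] {p : ℕ} [Fact p.Prime]

/-- if `P` contains the fixed points of `Y` on `H` and a minimal offender `B`, then `P` contains
the whole component `E_B = [Q, B] B` -/
theorem EE_le_of_fix_le {V Q H B Y P : Subgroup Γ} [hVc : IsMulCommutative V] (hC : Ctx p V Q H)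
    (hgen : ∀ K : Subgroup Γ, (∀ B, MinOff p V Q B → B ≤ H → B ≤ K) → H ≤ K)
    (hMB : MinOff p V Q B) (hBH : B ≤ H)
    (hYV : Y ≤ normalizer (V : Set Γ)) (hYH : Y ≤ normalizer (H : Set Γ))
    (hYQ : Y ≤ normalizer (Q : Set Γ)) {q : ℕ} [Fact q.Prime] (hYq : IsPGroup q Y)
    (hqH : ¬ q ∣ Nat.card H)
    (hPY : H ⊓ centralizer (Y : Set Γ) ≤ P) (hBP : B ≤ P) : EE Q B ≤ P := by
  obtain ⟨δ, -, hK2, hK1, hK3⟩ :=
    Cfsg.Agent.Lib.Helper20.FFX.exists_delta hC hgen hMB hBH hYV hYH hYQ hYq hqH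
  have hEH := EE_le_H hC hMB hBH
  have hstar : ∀ e ∈ EE Q B, ∀ t ∈ B, e * t * e⁻¹ ∈ P := by
    intro e he t ht
    have heM : e ∈ WW V Q B ⊔ EE Q B := (le_sup_right : EE Q B ≤ WW V Q B ⊔ EE Q B) he
    obtain ⟨r, hr, hδ⟩ := hK1 ⟨e, heM⟩
    have hδP : δ ⟨e, heM⟩ ∈ P :=
      hPY (mem_inf.mpr ⟨hK3 H hYH ⟨e, heM⟩ (hEH he), hK2 ⟨e, heM⟩⟩)
    have htM : t ∈ WW V Q B ⊔ EE Q B :=
      (le_sup_right : EE Q B ≤ WW V Q B ⊔ EE Q B) (D_le_EE Q B ht)
    have hrt : t * r = r * t := mem_centralizer_iff.mp hr t htM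
    have h1 : e * t * e⁻¹ = δ ⟨e, heM⟩ * t * (δ ⟨e, heM⟩)⁻¹ := by
      rw [hδ]
      show e * t * e⁻¹ = e * r * t * (e * r)⁻¹
      calc e * t * e⁻¹ = e * (t * r) * r⁻¹ * e⁻¹ := by group
        _ = e * (r * t) * r⁻¹ * e⁻¹ := by rw [hrt]
        _ = e * r * t * (e * r)⁻¹ := by group
    rw [h1]
    exact mul_mem (mul_mem hδP (hBP ht)) (inv_mem hδP)
  have hact : Cfsg.Agent.Lib.Helper1.CoprimeAct B Q := by
    refine ⟨hMB.hoff.aq, ?_, Or.inl ?_⟩
    · rw [hMB.hcard]
      exact hC.hS.qcop.symm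
    · exact Group.isSolvable_of_comm (fun x y => Subtype.ext (hMB.hoff.ea.comm x x.2 y y.2))
  have hcc : ⁅⁅Q, B⁆, B⁆ = ⁅Q, B⁆ := hact.commutator_commutator_eq
  unfold EE
  apply sup_le _ hBP
  rw [← hcc, Subgroup.commutator_le]
  intro x hx t ht
  have hxE : x ∈ EE Q B := (le_sup_left : ⁅Q, B⁆ ≤ ⁅Q, B⁆ ⊔ B) hx
  have h2 : ⁅x, t⁆ = (x * t * x⁻¹) * t⁻¹ := by rw [commutatorElement_def]
  rw [h2]
  exact mul_mem (hstar x hxE t ht) (inv_mem (hBP ht))

/-- if `P` contains the fixed points of `Y` on `H` and an `H`-conjugate of the minimal offender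
`B`, then `P` contains `B` -/
theorem minOff_le_of_conj_le {V Q H B Y P : Subgroup Γ} [hVc : IsMulCommutative V]
    (hC : Ctx p V Q H)
    (hgen : ∀ K : Subgroup Γ, (∀ B, MinOff p V Q B → B ≤ H → B ≤ K) → H ≤ K)
    (hMB : MinOff p V Q B) (hBH : B ≤ H)
    (hYV : Y ≤ normalizer (V : Set Γ)) (hYH : Y ≤ normalizer (H : Set Γ))
    (hYQ : Y ≤ normalizer (Q : Set Γ)) {q : ℕ} [Fact q.Prime] (hYq : IsPGroup q Y)
    (hqH : ¬ q ∣ Nat.card H)
    (hPY : H ⊓ centralizer (Y : Set Γ) ≤ P) {h : Γ} (hh : h ∈ H)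
    (hBP : B.map (MulAut.conj h).toMonoidHom ≤ P) : B ≤ P := by
  have hMB₁ := hMB.conj_of_mem (hC.hHV hh) (hC.hHQ hh)
  have hB₁H : B.map (MulAut.conj h).toMonoidHom ≤ H := by
    rw [← Cfsg.H5.map_conj_eq_of_mem_normalizer (Subgroup.le_normalizer hh)]
    exact Subgroup.map_mono hBH
  obtain ⟨hcomm, -, hsup, -⟩ := struct_main hC hgen hMB hBH
  have hHN : H ≤ normalizer (EE Q B : Set Γ) := by
    have h1 : EE Q B ≤ normalizer (EE Q B : Set Γ) := Subgroup.le_normalizer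
    have h2 : H ⊓ centralizer (WW V Q B : Set Γ) ≤ normalizer (EE Q B : Set Γ) := by
      rw [Subgroup.commutator_eq_bot_iff_le_centralizer] at hcomm
      exact (Subgroup.le_centralizer_iff.mp hcomm).trans (Subgroup.centralizer_le_normalizer _)
    calc H = EE Q B ⊔ (H ⊓ centralizer (WW V Q B : Set Γ)) := hsup.symm
      _ ≤ normalizer (EE Q B : Set Γ) := sup_le h1 h2
  have hEE : EE Q (B.map (MulAut.conj h).toMonoidHom) = EE Q B := by
    rw [EE_map_conj (hC.hHQ hh), Cfsg.H5.map_conj_eq_of_mem_normalizer (hHN hh)]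
  have h3 := EE_le_of_fix_le hC hgen hMB₁ hB₁H hYV hYH hYQ hYq hqH hPY hBP
  rw [hEE] at h3
  exact (D_le_EE Q B).trans h3

end Diag

end Cfsg.Agent.Lib.Helper20.FFG
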