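import Mathlib
import Cfsg.Agent.H5.SL2pStable
import Cfsg.Agent.H5.NPStable
import Cfsg.Agent.Lib.Helper27.Involves
import Cfsg.Agent.Lib.Helper20.FFGen

/-!
# Reduction of `p`-stability of sections to `p`-local subgroups

* `inOp_of_subtype`: the elementwise `p`-stability conclusion computed inside `N(Q)` gives the one
  in the whole group.
* `exists_local_of_surjective`: if a quotient `Y` of `X` has a nontrivial normal `p`-subgroup and a
  section `SL(2, p)`, then some `p`-local subgroup of `X` has a section `SL(2, p)`.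
* `inOp_of_locals`: if no `p`-local subgroup of `G` involves `SL(2, p)`, every section of `G` is
  `p`-stable (elementwise form).
-/

set_option autoImplicit false

namespace Cfsg.Agent.Lib.Helper20.NPR

open Subgroup
open scoped commutatorElement

universe u

theorem inOp_of_subtype {X : Type*} [Group X] {p : ℕ} (Q : Subgroup X) (g : X)
    (hg : g ∈ normalizer (Q : Set X))
    (h : Cfsg.H5.PSt.InOp p (Q.subgroupOf (normalizer (Q : Set X))) ⟨g, hg⟩) :
    Cfsg.H5.PSt.InOp p Q g := by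
  obtain ⟨L', hCL, -, hNL, hpow, hgL⟩ := h
  haveI hQn : (Q.subgroupOf (normalizer (Q : Set X))).Normal := Subgroup.normal_in_normalizer
  refine ⟨L'.map (normalizer (Q : Set X)).subtype, ?_, ?_, ?_, ?_, ?_⟩
  · intro c hc
    have hcN : c ∈ normalizer (Q : Set X) := Subgroup.centralizer_le_normalizer _ hc
    refine ⟨⟨c, hcN⟩, hCL ?_, rfl⟩
    rw [Subgroup.mem_centralizer_iff]
    intro q hq
    apply Subtype.ext
    exact Subgroup.mem_centralizer_iff.1 hc (q : X) (Subgroup.mem_subgroupOf.1 (SetLike.mem_coe.1 hq))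
  · rintro _ ⟨l, -, rfl⟩
    exact l.2
  · intro n hn
    have h1 : (⟨n, hn⟩ : ↥(normalizer (Q : Set X))) ∈
        normalizer ((L' : Subgroup ↥(normalizer (Q : Set X))) : Set ↥(normalizer (Q : Set X))) := by
      have htop : normalizer ((Q.subgroupOf (normalizer (Q : Set X)) :
          Subgroup ↥(normalizer (Q : Set X))) : Set ↥(normalizer (Q : Set X))) = ⊤ :=
        Subgroup.normalizer_eq_top _
      apply hNL
      rw [htop]
      trivial
    exact Subgroup.le_normalizer_map (normalizer (Q : Set X)).subtype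
      (Subgroup.mem_map_of_mem _ h1)
  · rintro _ ⟨l, hl, rfl⟩
    obtain ⟨k, hk⟩ := hpow l hl
    refine ⟨k, ?_⟩
    rw [Subgroup.mem_centralizer_iff]
    intro q hq
    have hqN : q ∈ normalizer (Q : Set X) := Subgroup.le_normalizer (SetLike.mem_coe.1 hq)
    have h2 := Subgroup.mem_centralizer_iff.1 hk ⟨q, hqN⟩
      (SetLike.mem_coe.2 (Subgroup.mem_subgroupOf.2 (SetLike.mem_coe.1 hq)))
    have h3 := congrArg Subtype.val h2
    simpa using h3
  · exact ⟨⟨g, hg⟩, hgL, rfl⟩

theorem quad_subtype {X : Type*} [Group X] (Q : Subgroup X) (g : X)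
    (hg : g ∈ normalizer (Q : Set X))
    (hq : ⁅⁅Q, zpowers g⁆, zpowers g⁆ = ⊥) :
    ⁅⁅Q.subgroupOf (normalizer (Q : Set X)),
        zpowers (⟨g, hg⟩ : ↥(normalizer (Q : Set X)))⁆,
      zpowers (⟨g, hg⟩ : ↥(normalizer (Q : Set X)))⁆ = ⊥ := by
  rw [← Subgroup.map_eq_bot_iff_of_injective _ (normalizer (Q : Set X)).subtype_injective,
    Subgroup.map_commutator, Subgroup.map_commutator, MonoidHom.map_zpowers,
    Subgroup.map_subgroupOf_eq_of_le Subgroup.le_normalizer]
  exact hq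

theorem inOp_bot {X : Type*} [Group X] {p : ℕ} (g : X) :
    Cfsg.H5.PSt.InOp p (⊥ : Subgroup X) g := by
  refine ⟨⊤, le_top, ?_, ?_, ?_, Subgroup.mem_top g⟩
  · rw [Subgroup.normalizer_eq_top]
  · rw [Subgroup.normalizer_eq_top (H := (⊤ : Subgroup X))]
    exact le_top
  · intro l _
    refine ⟨0, ?_⟩
    rw [Subgroup.mem_centralizer_iff]
    intro h hh
    rw [Subgroup.mem_bot.1 (SetLike.mem_coe.1 hh)]
    simp

theorem exists_local_of_surjective {X Y : Type*} [Group X] [Finite X] [Group Y] {p : ℕ}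
    [Fact p.Prime] (ψ : X →* Y) (hψ : Function.Surjective ψ) (Q : Subgroup Y) [hQn : Q.Normal]
    (hQ : IsPGroup p Q) (hQ1 : Q ≠ ⊥) (hY : Cfsg.H5.SL2p.HasSectionP p Y) :
    ∃ P : Subgroup X, IsPGroup p P ∧ P ≠ ⊥ ∧
      Cfsg.H5.SL2p.HasSectionP p ↥(normalizer (P : Set X)) := by
  haveI : Finite Y := Finite.of_surjective ψ hψ
  obtain ⟨S⟩ : Nonempty (Sylow p X) := inferInstance
  haveI hN₀ : (Q.comap ψ).Normal := inferInstance
  have hfr := Cfsg.Agent.Lib.Helper20.FFG.normalizer_inf_sup_eq_top S (Q.comap ψ)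
  have hQS : Q ≤ (S : Subgroup X).map ψ := hQ.le_sylow_of_normal (S.mapSurjective hψ)
  have hSP : (S : Subgroup X) ≤ normalizer ((((S : Subgroup X) ⊓ Q.comap ψ : Subgroup X)) : Set X) := by
    intro s hs
    rw [Subgroup.mem_normalizer_iff]
    intro x
    constructor
    · intro hx
      obtain ⟨hx1, hx2⟩ := Subgroup.mem_inf.1 hx
      exact Subgroup.mem_inf.2 ⟨mul_mem (mul_mem hs hx1) (inv_mem hs), hN₀.conj_mem x hx2 s⟩
    · intro hx
      obtain ⟨hx1, hx2⟩ := Subgroup.mem_inf.1 hx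
      refine Subgroup.mem_inf.2 ⟨?_, ?_⟩
      · have h1 : s⁻¹ * (s * x * s⁻¹) * s ∈ (S : Subgroup X) :=
          mul_mem (mul_mem (inv_mem hs) hx1) hs
        have h2 : s⁻¹ * (s * x * s⁻¹) * s = x := by group
        rwa [h2] at h1
      · have h1 := hN₀.conj_mem _ hx2 s⁻¹
        have h2 : s⁻¹ * (s * x * s⁻¹) * s⁻¹⁻¹ = x := by group
        rwa [h2] at h1
  refine ⟨(S : Subgroup X) ⊓ Q.comap ψ, S.2.to_le inf_le_left, ?_, ?_⟩
  · intro hbot
    apply hQ1
    rw [eq_bot_iff]
    intro q hq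
    obtain ⟨s, hs, rfl⟩ := hQS hq
    have hsP : s ∈ (S : Subgroup X) ⊓ Q.comap ψ := ⟨hs, Subgroup.mem_comap.2 hq⟩
    rw [hbot, Subgroup.mem_bot] at hsP
    rw [hsP, map_one]
    exact one_mem _
  · apply Cfsg.H5.SL2p.hasSectionP_of_surjective
      (ψ.comp (normalizer ((((S : Subgroup X) ⊓ Q.comap ψ : Subgroup X)) : Set X)).subtype) _ hY
    intro y
    obtain ⟨x, rfl⟩ := hψ y
    have hx : x ∈ normalizer ((((S : Subgroup X) ⊓ Q.comap ψ : Subgroup X)) : Set X) ⊔ Q.comap ψ := by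
      rw [hfr]
      trivial
    obtain ⟨a, ha, b, hb, rfl⟩ := Subgroup.mem_sup_of_normal_right.1 hx
    obtain ⟨s, hs, hsb⟩ := hQS (Subgroup.mem_comap.1 hb)
    refine ⟨⟨a * s, mul_mem ha (hSP hs)⟩, ?_⟩
    show ψ (a * s) = ψ (a * b)
    rw [map_mul, map_mul, hsb]

theorem involves_normalizer_map {X G : Type*} [Group X] [Group G] {p : ℕ} (ι : X →* G)
    (hι : Function.Injective ι) (P : Subgroup X)
    (h : Cfsg.H5.SL2p.HasSectionP p ↥(normalizer (P : Set X))) :
    Cfsg.Involves (Matrix.SpecialLinearGroup (Fin 2) (ZMod p))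
      ↥(normalizer ((P.map ι : Subgroup G) : Set G)) := by
  have hmem : ∀ x : ↥(normalizer (P : Set X)),
      (ι.comp (normalizer (P : Set X)).subtype) x ∈ normalizer ((P.map ι : Subgroup G) : Set G) :=
    fun x => Subgroup.le_normalizer_map ι (Subgroup.mem_map_of_mem ι x.2)
  have hj : Function.Injective
      ((ι.comp (normalizer (P : Set X)).subtype).codRestrict _ hmem) := by
    intro a b hab
    have h1 := congrArg Subtype.val hab
    apply Subtype.ext
    apply hι
    exact h1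
  exact Cfsg.Agent.Lib.Helper27.involves_of_injective _ hj
    (Cfsg.Agent.Lib.Helper27.involves_iff.2 h)

/-- if no `p`-local subgroup of `G` involves `SL(2, p)`, then every section of `G` is `p`-stable -/
theorem inOp_of_locals {G : Type u} [Group G] [Finite G] {p : ℕ} [Fact p.Prime] (hp : p ≠ 2)
    (h : ∀ P : Subgroup G, IsPGroup p ↥P → P ≠ ⊥ →
      ¬ Cfsg.Involves (Matrix.SpecialLinearGroup (Fin 2) (ZMod p))
        ↥(normalizer ((P : Subgroup G) : Set G)))
    (K R : Subgroup G) [hR : (R.subgroupOf K).Normal]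
    (Q : Subgroup (↥K ⧸ R.subgroupOf K)) (hQ : IsPGroup p Q)
    (g : ↥K ⧸ R.subgroupOf K) (hg : g ∈ normalizer (Q : Set (↥K ⧸ R.subgroupOf K)))
    (hq : ⁅⁅Q, zpowers g⁆, zpowers g⁆ = ⊥) : Cfsg.H5.PSt.InOp p Q g := by
  by_cases hQ1 : Q = ⊥
  · subst hQ1
    exact inOp_bot g
  haveI hQn' : (Q.subgroupOf (normalizer (Q : Set (↥K ⧸ R.subgroupOf K)))).Normal :=
    Subgroup.normal_in_normalizer
  have hQp' : IsPGroup p ↥(Q.subgroupOf (normalizer (Q : Set (↥K ⧸ R.subgroupOf K)))) :=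
    hQ.comap_subtype
  have hns : ¬ Cfsg.H5.SL2p.HasSectionP p
      ↥(normalizer (Q : Set (↥K ⧸ R.subgroupOf K))) := by
    intro hsec
    have hψ : Function.Surjective
        ((QuotientGroup.mk' (R.subgroupOf K)).subgroupComap
          (normalizer (Q : Set (↥K ⧸ R.subgroupOf K)))) :=
      (QuotientGroup.mk' (R.subgroupOf K)).subgroupComap_surjective_of_surjective _
        (QuotientGroup.mk'_surjective _)
    have hQ1' : Q.subgroupOf (normalizer (Q : Set (↥K ⧸ R.subgroupOf K))) ≠ ⊥ := by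
      intro hbot
      rw [Subgroup.subgroupOf_eq_bot] at hbot
      exact hQ1 (hbot.eq_bot_of_le Subgroup.le_normalizer)
    obtain ⟨P, hPp, hP1, hPsec⟩ := exists_local_of_surjective _ hψ
      (Q.subgroupOf (normalizer (Q : Set (↥K ⧸ R.subgroupOf K)))) hQp' hQ1' hsec
    have hι : Function.Injective (K.subtype.comp
        ((normalizer (Q : Set (↥K ⧸ R.subgroupOf K))).comap
          (QuotientGroup.mk' (R.subgroupOf K))).subtype) := by
      intro a b hab
      exact Subtype.ext (Subtype.ext hab)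
    refine h (P.map _) (hPp.map _) ?_ (involves_normalizer_map _ hι P hPsec)
    intro hbot
    exact hP1 ((Subgroup.map_eq_bot_iff_of_injective P hι).1 hbot)
  exact inOp_of_subtype Q g hg
    (Cfsg.H5.SL2p.inOp_of_not_hasSectionP hp hns
      (Q.subgroupOf (normalizer (Q : Set (↥K ⧸ R.subgroupOf K)))) hQp' ⟨g, hg⟩
      (quad_subtype Q g hg hq))

end Cfsg.Agent.Lib.Helper20.NPR
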