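import Mathlib
import Cfsg.Agent.H5.DicksonSL2

/-!
# Copies of `SL(2, p)` inside `SL(2, F)` are rational

If `K' ≤ SL(2, F)` (`F` a field of odd characteristic `p`) is abstractly isomorphic to `SL(2, p)`
via `e`, then there is an invertible matrix `Q` with `g * Q = Q * (e g)` for all `g ∈ K'`, where
`e g` is read in `F` through the prime field: the columns of `Q` span an invariant `F_p`-form of
`F²` on which `K'` acts as `SL(2, p)` on its natural module.
-/

set_option autoImplicit false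

namespace Cfsg.Agent.Lib.Helper20.QdR

open Matrix Cfsg.Agent.Lib.Helper16 Cfsg.H5.Dickson

section Mat

variable {F : Type*} [Field F]

theorem conj_to_lower {α β γ δ : F} (htr : α + δ = 2) (hdet : α * δ - β * γ = 1) (hγ : γ ≠ 0) :
    !![1, (1 - α) / γ; 0, 1] * !![α, β; γ, δ] * !![1, -((1 - α) / γ); 0, 1] =
      !![1, 0; γ, 1] := by
  rw [Matrix.mul_fin_two, Matrix.mul_fin_two]
  have hδ : δ = 2 - α := by linear_combination htr
  subst hδ
  apply mat_fin_two_congr
  · field_simp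
    ring
  · field_simp
    linear_combination (-1 : F) * hdet
  · ring
  · field_simp
    ring

theorem braid_entry {s γ : F} (hs : s ≠ 0)
    (h : !![1, s; 0, 1] * !![1, 0; -γ, 1] * !![1, s; 0, 1] =
      !![1, 0; -γ, 1] * !![1, s; 0, 1] * !![1, 0; -γ, 1]) : s * γ = 1 := by
  rw [Matrix.mul_fin_two, Matrix.mul_fin_two, Matrix.mul_fin_two, Matrix.mul_fin_two] at h
  obtain ⟨-, h01, -, -⟩ := mat_fin_two_inj h
  have h1 : s * (1 - s * γ) = 0 := by linear_combination h01
  rcases mul_eq_zero.1 h1 with h2 | h2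
  · exact absurd h2 hs
  · linear_combination (-1 : F) * h2

end Mat

section Main

variable {F : Type*} [Field F] {p : ℕ} [hp : Fact p.Prime] [CharP F p]

/-- entrywise cast of a matrix over the prime field -/
noncomputable def castM (F : Type*) [Field F] (p : ℕ) [Fact p.Prime] [CharP F p]
    (M : Matrix (Fin 2) (Fin 2) (ZMod p)) : Matrix (Fin 2) (Fin 2) F :=
  M.map (ZMod.castHom (dvd_refl p) F)

theorem castM_mul (M N : Matrix (Fin 2) (Fin 2) (ZMod p)) :
    castM F p (M * N) = castM F p M * castM F p N := by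
  unfold castM
  exact Matrix.map_mul

theorem castM_one : castM F p (1 : Matrix (Fin 2) (Fin 2) (ZMod p)) = 1 := by
  unfold castM
  exact Matrix.map_one _ (map_zero _) (map_one _)

theorem braid_zmod : upperSL2 (1 : ZMod p) * (lowerSL2 1)⁻¹ * upperSL2 1 =
    (lowerSL2 1)⁻¹ * upperSL2 1 * (lowerSL2 1)⁻¹ := by
  rw [lowerSL2_inv]
  apply Subtype.ext
  simp only [Matrix.SpecialLinearGroup.coe_mul, upperSL2_apply, lowerSL2_apply]
  rw [Matrix.mul_fin_two, Matrix.mul_fin_two, Matrix.mul_fin_two, Matrix.mul_fin_two]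
  apply mat_fin_two_congr <;> ring

theorem upper_lower_not_comm :
    upperSL2 (1 : ZMod p) * lowerSL2 1 ≠ lowerSL2 1 * upperSL2 1 := by
  intro h
  have h1 := congrArg (fun M : SpecialLinearGroup (Fin 2) (ZMod p) =>
    (M : Matrix (Fin 2) (Fin 2) (ZMod p))) h
  simp only [Matrix.SpecialLinearGroup.coe_mul, upperSL2_apply, lowerSL2_apply] at h1
  rw [Matrix.mul_fin_two, Matrix.mul_fin_two] at h1
  obtain ⟨h00, -, -, -⟩ := mat_fin_two_inj h1
  have h2 : (1 : ZMod p) = 0 := by linear_combination h00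
  exact one_ne_zero h2

theorem exists_rational_form (K' : Subgroup (SpecialLinearGroup (Fin 2) F))
    (e : ↥K' ≃* SpecialLinearGroup (Fin 2) (ZMod p)) :
    ∃ Q : Matrix (Fin 2) (Fin 2) F, IsUnit Q.det ∧
      ∀ g : ↥K', ((g : SpecialLinearGroup (Fin 2) F) : Matrix (Fin 2) (Fin 2) F) * Q =
        Q * castM F p ((e g : SpecialLinearGroup (Fin 2) (ZMod p)) :
          Matrix (Fin 2) (Fin 2) (ZMod p)) := by
  obtain ⟨u, hu⟩ : ∃ u : ↥K', u = e.symm (upperSL2 1) := ⟨_, rfl⟩
  obtain ⟨l, hl⟩ : ∃ l : ↥K', l = e.symm (lowerSL2 1) := ⟨_, rfl⟩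
  have heu : e u = upperSL2 1 := by rw [hu, MulEquiv.apply_symm_apply]
  have hel : e l = lowerSL2 1 := by rw [hl, MulEquiv.apply_symm_apply]
  have hup : (u : SpecialLinearGroup (Fin 2) F) ^ p = 1 := by
    have h1 : u ^ p = 1 := by
      apply e.injective
      rw [map_pow, heu, upperSL2_pow, nsmul_eq_mul, CharP.cast_eq_zero (ZMod p) p, zero_mul,
        upperSL2_zero, map_one]
    have h2 := congrArg (fun x : ↥K' => (x : SpecialLinearGroup (Fin 2) F)) h1
    simpa using h2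
  have hlp : (l : SpecialLinearGroup (Fin 2) F) ^ p = 1 := by
    have h1 : l ^ p = 1 := by
      apply e.injective
      rw [map_pow, hel, lowerSL2_pow, nsmul_eq_mul, CharP.cast_eq_zero (ZMod p) p, zero_mul,
        lowerSL2_zero, map_one]
    have h2 := congrArg (fun x : ↥K' => (x : SpecialLinearGroup (Fin 2) F)) h1
    simpa using h2
  have hu1 : (u : SpecialLinearGroup (Fin 2) F) ≠ 1 := by
    intro h
    have h1 : u = 1 := Subtype.ext h
    rw [h1, map_one] at heu
    have h2 := upperSL2_injective (heu.symm.trans upperSL2_zero.symm)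
    exact one_ne_zero h2
  have htru : ((u : SpecialLinearGroup (Fin 2) F) : Matrix (Fin 2) (Fin 2) F).trace = 2 := by
    apply trace_eq_two_of_pow_eq_one (p := p) _ 1
    rw [pow_one, ← Matrix.SpecialLinearGroup.coe_pow, hup, Matrix.SpecialLinearGroup.coe_one]
  obtain ⟨t, s, hs, hts⟩ := exists_conj_upper htru hu1
  -- the conjugate of `l`
  obtain ⟨l₁, hl₁⟩ : ∃ l₁ : SpecialLinearGroup (Fin 2) F,
    l₁ = t * (l : SpecialLinearGroup (Fin 2) F) * t⁻¹ := ⟨_, rfl⟩
  have hl₁p : l₁ ^ p = 1 := by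
    rw [hl₁, conj_pow, hlp, mul_one, mul_inv_cancel]
  have htrl : (l₁ : Matrix (Fin 2) (Fin 2) F).trace = 2 := by
    apply trace_eq_two_of_pow_eq_one (p := p) _ 1
    rw [pow_one, ← Matrix.SpecialLinearGroup.coe_pow, hl₁p, Matrix.SpecialLinearGroup.coe_one]
  obtain ⟨α, hα⟩ : ∃ α : F, α = (l₁ : Matrix (Fin 2) (Fin 2) F) 0 0 := ⟨_, rfl⟩
  obtain ⟨β, hβ⟩ : ∃ β : F, β = (l₁ : Matrix (Fin 2) (Fin 2) F) 0 1 := ⟨_, rfl⟩
  obtain ⟨γ, hγ⟩ : ∃ γ : F, γ = (l₁ : Matrix (Fin 2) (Fin 2) F) 1 0 := ⟨_, rfl⟩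
  obtain ⟨δ, hδ⟩ : ∃ δ : F, δ = (l₁ : Matrix (Fin 2) (Fin 2) F) 1 1 := ⟨_, rfl⟩
  have hl₁m : (l₁ : Matrix (Fin 2) (Fin 2) F) = !![α, β; γ, δ] := by
    rw [hα, hβ, hγ, hδ]
    exact Matrix.eta_fin_two _
  have htr : α + δ = 2 := by
    rw [Matrix.trace_fin_two] at htrl
    rw [hα, hδ]
    exact htrl
  have hdet : α * δ - β * γ = 1 := by
    have h1 := l₁.2
    rw [Matrix.det_fin_two] at h1
    rw [hα, hβ, hγ, hδ]
    exact h1
  -- `u` and `l` do not commute
  have hnc : upperSL2 s * l₁ ≠ l₁ * upperSL2 s := by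
    intro h
    rw [← hts, hl₁] at h
    have h1 : (u : SpecialLinearGroup (Fin 2) F) * l = l * u := by
      have h2 : t * ↑u * t⁻¹ * (t * ↑l * t⁻¹) = t * ((u : SpecialLinearGroup (Fin 2) F) * l) * t⁻¹ := by
        group
      have h3 : t * ↑l * t⁻¹ * (t * ↑u * t⁻¹) = t * ((l : SpecialLinearGroup (Fin 2) F) * u) * t⁻¹ := by
        group
      rw [h2, h3] at h
      exact mul_left_cancel (mul_right_cancel h)
    have h4 : u * l = l * u := Subtype.ext h1
    have h5 := congrArg e h4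
    rw [map_mul, map_mul, heu, hel] at h5
    exact upper_lower_not_comm h5
  have hγ0 : γ ≠ 0 := by
    intro h0
    apply hnc
    have hα1 : α = 1 := by
      rw [h0, mul_zero, sub_zero] at hdet
      have h1 : (α - 1) ^ 2 = 0 := by linear_combination α * htr - hdet
      exact sub_eq_zero.1 (pow_eq_zero_iff two_ne_zero |>.1 h1)
    have hδ1 : δ = 1 := by linear_combination htr - hα1
    have h2 : l₁ = upperSL2 β := by
      apply Subtype.ext
      rw [hl₁m, upperSL2_apply, hα1, h0, hδ1]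
    rw [h2, ← upperSL2_add, ← upperSL2_add, add_comm]
  -- second conjugation
  obtain ⟨r, hr⟩ : ∃ r : F, r = (1 - α) / γ := ⟨_, rfl⟩
  have hl₂ : upperSL2 r * l₁ * (upperSL2 r)⁻¹ = lowerSL2 γ := by
    apply Subtype.ext
    rw [upperSL2_inv, Matrix.SpecialLinearGroup.coe_mul, Matrix.SpecialLinearGroup.coe_mul,
      upperSL2_apply, upperSL2_apply, hl₁m, lowerSL2_apply, hr]
    exact conj_to_lower htr hdet hγ0
  have hu₂ : upperSL2 r * upperSL2 s * (upperSL2 r)⁻¹ = upperSL2 s := by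
    rw [upperSL2_inv, ← upperSL2_add, ← upperSL2_add]
    congr 1
    ring
  obtain ⟨t', ht'⟩ : ∃ t' : SpecialLinearGroup (Fin 2) F, t' = upperSL2 r * t := ⟨_, rfl⟩
  have htu : t' * (u : SpecialLinearGroup (Fin 2) F) * t'⁻¹ = upperSL2 s := by
    rw [← hu₂, ← hts, ht']
    group
  have htl : t' * (l : SpecialLinearGroup (Fin 2) F) * t'⁻¹ = lowerSL2 γ := by
    rw [← hl₂, hl₁, ht']
    group
  -- the braid relation
  have hbr : u * l⁻¹ * u = l⁻¹ * u * l⁻¹ := by
    apply e.injective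
    rw [map_mul, map_mul, map_mul, map_mul, map_inv, heu, hel]
    exact braid_zmod
  have hbr' : upperSL2 s * (lowerSL2 γ)⁻¹ * upperSL2 s =
      (lowerSL2 γ)⁻¹ * upperSL2 s * (lowerSL2 γ)⁻¹ := by
    have h1 := congrArg (fun x : ↥K' => t' * (x : SpecialLinearGroup (Fin 2) F) * t'⁻¹) hbr
    simp only [Subgroup.coe_mul, Subgroup.coe_inv] at h1
    have h2 : t' * (↑u * (↑l)⁻¹ * ↑u) * t'⁻¹ =
        (t' * (u : SpecialLinearGroup (Fin 2) F) * t'⁻¹) *
          (t' * (l : SpecialLinearGroup (Fin 2) F) * t'⁻¹)⁻¹ * (t' * ↑u * t'⁻¹) := by group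
    have h3 : t' * ((↑l)⁻¹ * ↑u * (↑l)⁻¹) * t'⁻¹ =
        (t' * (l : SpecialLinearGroup (Fin 2) F) * t'⁻¹)⁻¹ *
          (t' * (u : SpecialLinearGroup (Fin 2) F) * t'⁻¹) * (t' * ↑l * t'⁻¹)⁻¹ := by group
    rw [h2, h3, htu, htl] at h1
    exact h1
  have hsγ : s * γ = 1 := by
    apply braid_entry hs
    rw [lowerSL2_inv] at hbr'
    have h1 := congrArg (fun M : SpecialLinearGroup (Fin 2) F =>
      (M : Matrix (Fin 2) (Fin 2) F)) hbr'
    simp only [Matrix.SpecialLinearGroup.coe_mul, upperSL2_apply, lowerSL2_apply] at h1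
    exact h1
  -- the diagonal matrix
  obtain ⟨D, hD⟩ : ∃ D : Matrix (Fin 2) (Fin 2) F, D = !![s, 0; 0, 1] := ⟨_, rfl⟩
  -- the conjugation map on `SL(2, p)`
  obtain ⟨f, hf⟩ : ∃ f : SpecialLinearGroup (Fin 2) (ZMod p) → Matrix (Fin 2) (Fin 2) F,
      f = fun m => ((t' * ((e.symm m : ↥K') : SpecialLinearGroup (Fin 2) F) * t'⁻¹ :
        SpecialLinearGroup (Fin 2) F) : Matrix (Fin 2) (Fin 2) F) := ⟨_, rfl⟩
  have hfmul : ∀ m m', f (m * m') = f m * f m' := by
    intro m m'
    rw [hf]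
    simp only
    have h1 : t' * ((e.symm (m * m') : ↥K') : SpecialLinearGroup (Fin 2) F) * t'⁻¹ =
        (t' * ((e.symm m : ↥K') : SpecialLinearGroup (Fin 2) F) * t'⁻¹) *
          (t' * ((e.symm m' : ↥K') : SpecialLinearGroup (Fin 2) F) * t'⁻¹) := by
      rw [map_mul, Subgroup.coe_mul]
      group
    rw [h1, Matrix.SpecialLinearGroup.coe_mul]
  have hfone : f 1 = 1 := by
    rw [hf]
    simp only
    rw [map_one, Subgroup.coe_one, mul_one, mul_inv_cancel, Matrix.SpecialLinearGroup.coe_one]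
  have key : ∀ m : SpecialLinearGroup (Fin 2) (ZMod p),
      f m * D = D * castM F p (m : Matrix (Fin 2) (Fin 2) (ZMod p)) := by
    intro m
    have hm : m ∈ Subgroup.closure {upperSL2 (1 : ZMod p), lowerSL2 (1 : ZMod p)} := by
      rw [closure_upper_lower_zmod]
      trivial
    induction hm using Subgroup.closure_induction with
    | mem x hx =>
      rcases hx with rfl | rfl
      · rw [hf]
        simp only
        rw [← hu, htu, upperSL2_apply, upperSL2_apply, hD, castM]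
        rw [Matrix.mul_fin_two]
        ext i j
        fin_cases i <;> fin_cases j <;> simp [Matrix.mul_apply, Fin.sum_univ_two]
      · rw [hf]
        simp only
        rw [← hl, htl, lowerSL2_apply, lowerSL2_apply, hD, castM]
        rw [Matrix.mul_fin_two]
        ext i j
        fin_cases i <;> fin_cases j <;> simp [Matrix.mul_apply, Fin.sum_univ_two]
        linear_combination hsγ
    | one =>
      rw [hfone, Matrix.SpecialLinearGroup.coe_one, castM_one, one_mul, mul_one]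
    | mul x y _ _ hx hy =>
      rw [hfmul, Matrix.SpecialLinearGroup.coe_mul, castM_mul, Matrix.mul_assoc, hy,
        ← Matrix.mul_assoc, hx, Matrix.mul_assoc]
    | inv x _ hx =>
      have h1 : f x⁻¹ * f x = 1 := by rw [← hfmul, inv_mul_cancel, hfone]
      have h2 : castM F p (x : Matrix (Fin 2) (Fin 2) (ZMod p)) *
          castM F p ((x⁻¹ : SpecialLinearGroup (Fin 2) (ZMod p)) :
            Matrix (Fin 2) (Fin 2) (ZMod p)) = 1 := by
        rw [← castM_mul, ← Matrix.SpecialLinearGroup.coe_mul, mul_inv_cancel,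
          Matrix.SpecialLinearGroup.coe_one, castM_one]
      calc f x⁻¹ * D = f x⁻¹ * D * (castM F p (x : Matrix (Fin 2) (Fin 2) (ZMod p)) *
            castM F p ((x⁻¹ : SpecialLinearGroup (Fin 2) (ZMod p)) :
              Matrix (Fin 2) (Fin 2) (ZMod p))) := by rw [h2, Matrix.mul_one]
        _ = f x⁻¹ * (D * castM F p (x : Matrix (Fin 2) (Fin 2) (ZMod p))) *
            castM F p ((x⁻¹ : SpecialLinearGroup (Fin 2) (ZMod p)) :
              Matrix (Fin 2) (Fin 2) (ZMod p)) := by simp only [Matrix.mul_assoc]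
        _ = (f x⁻¹ * f x) * D * castM F p ((x⁻¹ : SpecialLinearGroup (Fin 2) (ZMod p)) :
              Matrix (Fin 2) (Fin 2) (ZMod p)) := by rw [← hx]; simp only [Matrix.mul_assoc]
        _ = D * castM F p ((x⁻¹ : SpecialLinearGroup (Fin 2) (ZMod p)) :
              Matrix (Fin 2) (Fin 2) (ZMod p)) := by rw [h1, Matrix.one_mul]
  refine ⟨((t'⁻¹ : SpecialLinearGroup (Fin 2) F) : Matrix (Fin 2) (Fin 2) F) * D, ?_, ?_⟩
  · rw [Matrix.det_mul, (t'⁻¹).2, one_mul, hD, Matrix.det_fin_two_of, mul_one, mul_zero, sub_zero]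
    exact isUnit_iff_ne_zero.2 hs
  · intro g
    have h1 := key (e g)
    rw [hf] at h1
    simp only at h1
    rw [MulEquiv.symm_apply_apply] at h1
    have h2 : ((g : SpecialLinearGroup (Fin 2) F) : Matrix (Fin 2) (Fin 2) F) *
        ((t'⁻¹ : SpecialLinearGroup (Fin 2) F) : Matrix (Fin 2) (Fin 2) F) =
        ((t'⁻¹ : SpecialLinearGroup (Fin 2) F) : Matrix (Fin 2) (Fin 2) F) *
          ((t' * (g : SpecialLinearGroup (Fin 2) F) * t'⁻¹ : SpecialLinearGroup (Fin 2) F) :
            Matrix (Fin 2) (Fin 2) F) := by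
      have h3 : (g : SpecialLinearGroup (Fin 2) F) * t'⁻¹ =
          t'⁻¹ * (t' * (g : SpecialLinearGroup (Fin 2) F) * t'⁻¹) := by group
      rw [← Matrix.SpecialLinearGroup.coe_mul, ← Matrix.SpecialLinearGroup.coe_mul, h3]
    rw [← Matrix.mul_assoc, h2, Matrix.mul_assoc, h1, Matrix.mul_assoc]

end Main

end Cfsg.Agent.Lib.Helper20.QdR
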