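import Mathlib
import Cfsg.Agent.H5.DicksonSL2

/-!
# Natural-module sections

`NatSec p N₀ act`: for a group `Γ` acting (through the bare function `act`) on an additive group
`U`, there are a subgroup `Λ ≥ N₀` of `Γ`, a surjection `θ : Λ → SL(2, p)` and an additive
relation `R ⊆ U × F_p²` which is the graph of a `Λ`-equivariant surjection from a `Λ`-invariant
subgroup of `U` onto the natural module.  Transport lemmas and irreducibility of the natural
module.
-/

set_option autoImplicit false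

namespace Cfsg.Agent.Lib.Helper20.QdS

open Matrix Cfsg.Agent.Lib.Helper16 Cfsg.H5.Dickson

/-- natural-module section datum -/
def NatSec (p : ℕ) {Γ : Type*} [Group Γ] {U : Type*} [AddGroup U] (N₀ : Subgroup Γ)
    (act : Γ → U → U) : Prop :=
  ∃ (Λ : Subgroup Γ) (θ : ↥Λ →* Matrix.SpecialLinearGroup (Fin 2) (ZMod p))
    (R : AddSubgroup (U × (Fin 2 → ZMod p))),
    N₀ ≤ Λ ∧ Function.Surjective θ ∧ (∀ c, ((0 : U), c) ∈ R → c = 0) ∧
    (∀ c, ∃ w, (w, c) ∈ R) ∧
    ∀ (l : ↥Λ) (w : U) (c : Fin 2 → ZMod p), (w, c) ∈ R →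
      (act (l : Γ) w, ((θ l : Matrix.SpecialLinearGroup (Fin 2) (ZMod p)) :
        Matrix (Fin 2) (Fin 2) (ZMod p)) *ᵥ c) ∈ R

section transport

variable {p : ℕ} {Γ : Type*} [Group Γ] {U U' : Type*} [AddGroup U] [AddGroup U']

/-- pull back along an equivariant surjection of modules -/
theorem NatSec.pullback {N₀ : Subgroup Γ} {act : Γ → U → U} {act' : Γ → U' → U'}
    (f : U →+ U') (hfs : Function.Surjective f) (hf : ∀ g w, f (act g w) = act' g (f w))
    (h : NatSec p N₀ act') : NatSec p N₀ act := by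
  obtain ⟨Λ, θ, R', hN, hθ, hfunc, hsurj, hequiv⟩ := h
  let R : AddSubgroup (U × (Fin 2 → ZMod p)) :=
    { carrier := {x | (f x.1, x.2) ∈ R'}
      zero_mem' := by
        show (f 0, (0 : Fin 2 → ZMod p)) ∈ R'
        rw [map_zero]
        exact R'.zero_mem
      add_mem' := by
        intro a b ha hb
        show (f (a.1 + b.1), a.2 + b.2) ∈ R'
        rw [map_add]
        exact R'.add_mem ha hb
      neg_mem' := by
        intro a ha
        show (f (-a.1), -a.2) ∈ R'
        rw [map_neg]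
        exact R'.neg_mem ha }
  have hR : ∀ w c, (w, c) ∈ R ↔ (f w, c) ∈ R' := fun w c => Iff.rfl
  refine ⟨Λ, θ, R, hN, hθ, ?_, ?_, ?_⟩
  · intro c hc
    rw [hR, map_zero] at hc
    exact hfunc c hc
  · intro c
    obtain ⟨w', hw'⟩ := hsurj c
    obtain ⟨w, rfl⟩ := hfs w'
    exact ⟨w, (hR w c).2 hw'⟩
  · intro l w c hwc
    rw [hR] at hwc ⊢
    rw [hf]
    exact hequiv l _ c hwc

/-- push forward along an equivariant map whose kernel is killed by the section -/
theorem NatSec.push {N₀ : Subgroup Γ} {act : Γ → U → U} {act' : Γ → U' → U'}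
    (f : U →+ U') (hf : ∀ g w, f (act g w) = act' g (f w))
    (Λ : Subgroup Γ) (θ : ↥Λ →* Matrix.SpecialLinearGroup (Fin 2) (ZMod p))
    (R : AddSubgroup (U × (Fin 2 → ZMod p))) (hN : N₀ ≤ Λ) (hθ : Function.Surjective θ)
    (hsurj : ∀ c, ∃ w, (w, c) ∈ R)
    (hequiv : ∀ (l : ↥Λ) (w : U) (c : Fin 2 → ZMod p), (w, c) ∈ R →
      (act (l : Γ) w, ((θ l : Matrix.SpecialLinearGroup (Fin 2) (ZMod p)) :
        Matrix (Fin 2) (Fin 2) (ZMod p)) *ᵥ c) ∈ R)
    (hker : ∀ w c, (w, c) ∈ R → f w = 0 → c = 0) : NatSec p N₀ act' := by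
  let R' : AddSubgroup (U' × (Fin 2 → ZMod p)) :=
    { carrier := {x | ∃ w, (w, x.2) ∈ R ∧ f w = x.1}
      zero_mem' := ⟨0, R.zero_mem, map_zero f⟩
      add_mem' := by
        rintro a b ⟨w, hw, hwa⟩ ⟨w', hw', hwb⟩
        refine ⟨w + w', ?_, ?_⟩
        · exact R.add_mem hw hw'
        · rw [map_add, hwa, hwb]
          rfl
      neg_mem' := by
        rintro a ⟨w, hw, hwa⟩
        refine ⟨-w, ?_, ?_⟩
        · exact R.neg_mem hw
        · rw [map_neg, hwa]
          rfl }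
  have hR' : ∀ w' c, (w', c) ∈ R' ↔ ∃ w, (w, c) ∈ R ∧ f w = w' := fun w' c => Iff.rfl
  refine ⟨Λ, θ, R', hN, hθ, ?_, ?_, ?_⟩
  · intro c hc
    obtain ⟨w, hw, hw0⟩ := (hR' 0 c).1 hc
    exact hker w c hw hw0
  · intro c
    obtain ⟨w, hw⟩ := hsurj c
    exact ⟨f w, (hR' _ _).2 ⟨w, hw, rfl⟩⟩
  · intro l w' c hwc
    obtain ⟨w, hw, rfl⟩ := (hR' w' c).1 hwc
    exact (hR' _ _).2 ⟨act (l : Γ) w, hequiv l w c hw, hf _ _⟩

/-- push forward along an equivariant injection -/
theorem NatSec.push_injective {N₀ : Subgroup Γ} {act : Γ → U → U} {act' : Γ → U' → U'}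
    (f : U →+ U') (hfi : Function.Injective f) (hf : ∀ g w, f (act g w) = act' g (f w))
    (h : NatSec p N₀ act) : NatSec p N₀ act' := by
  obtain ⟨Λ, θ, R, hN, hθ, hfunc, hsurj, hequiv⟩ := h
  refine NatSec.push f hf Λ θ R hN hθ hsurj hequiv ?_
  intro w c hwc hw0
  have : w = 0 := hfi (hw0.trans (map_zero f).symm)
  subst this
  exact hfunc c hwc

/-- change of group along an injective homomorphism -/
theorem NatSec.map_injective {Γ' : Type*} [Group Γ'] (j : Γ' →* Γ) (hj : Function.Injective j)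
    {N₀ : Subgroup Γ'} {act : Γ → U → U} (h : NatSec p N₀ (fun g' => act (j g'))) :
    NatSec p (⊥ : Subgroup Γ) act := by
  obtain ⟨Λ, θ, R, -, hθ, hfunc, hsurj, hequiv⟩ := h
  refine ⟨Λ.map j, θ.comp (Λ.equivMapOfInjective j hj).symm.toMonoidHom, R, bot_le, ?_,
    hfunc, hsurj, ?_⟩
  · exact hθ.comp (Λ.equivMapOfInjective j hj).symm.surjective
  · intro l w c hwc
    have h1 := hequiv ((Λ.equivMapOfInjective j hj).symm l) w c hwc
    have h2 : j (((Λ.equivMapOfInjective j hj).symm l : ↥Λ) : Γ') = (l : Γ) := by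
      rw [← Subgroup.coe_equivMapOfInjective_apply Λ j hj, MulEquiv.apply_symm_apply]
    simp only at h1
    rw [h2] at h1
    exact h1

/-- change of group along a surjective homomorphism -/
theorem NatSec.comap_surjective {Γ' : Type*} [Group Γ'] (j : Γ →* Γ')
    (hj : Function.Surjective j) {N₀ : Subgroup Γ'} {act : Γ' → U → U} (h : NatSec p N₀ act) :
    NatSec p (N₀.comap j) (fun g => act (j g)) := by
  obtain ⟨Λ, θ, R, hN, hθ, hfunc, hsurj, hequiv⟩ := h
  refine ⟨Λ.comap j, θ.comp (j.subgroupComap Λ), R, Subgroup.comap_mono hN, ?_, hfunc, hsurj, ?_⟩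
  · exact hθ.comp (j.subgroupComap_surjective_of_surjective Λ hj)
  · intro l w c hwc
    exact hequiv (j.subgroupComap Λ l) w c hwc

end transport

section irreducible

variable {p : ℕ} [hp : Fact p.Prime]

theorem upper_mulVec (v : Fin 2 → ZMod p) :
    ((upperSL2 (1 : ZMod p) : Matrix.SpecialLinearGroup (Fin 2) (ZMod p)) :
      Matrix (Fin 2) (Fin 2) (ZMod p)) *ᵥ v = ![v 0 + v 1, v 1] := by
  rw [upperSL2_apply]
  funext i
  fin_cases i <;> simp [Matrix.mulVec, dotProduct, Fin.sum_univ_two]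

theorem lower_mulVec (v : Fin 2 → ZMod p) :
    ((lowerSL2 (1 : ZMod p) : Matrix.SpecialLinearGroup (Fin 2) (ZMod p)) :
      Matrix (Fin 2) (Fin 2) (ZMod p)) *ᵥ v = ![v 0, v 0 + v 1] := by
  rw [lowerSL2_apply]
  funext i
  fin_cases i <;> simp [Matrix.mulVec, dotProduct, Fin.sum_univ_two]

theorem smul_mem_of_mem (B : AddSubgroup (Fin 2 → ZMod p)) (k : ZMod p) {c : Fin 2 → ZMod p}
    (hc : c ∈ B) : k • c ∈ B := by
  have h1 : k • c = k.val • c := by
    rw [← Nat.cast_smul_eq_nsmul (ZMod p), ZMod.natCast_zmod_val]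
  rw [h1]
  exact B.nsmul_mem hc _

/-- the natural module of `SL(2, p)` is irreducible -/
theorem natural_irreducible (B : AddSubgroup (Fin 2 → ZMod p))
    (hB : ∀ (m : Matrix.SpecialLinearGroup (Fin 2) (ZMod p)) (c : Fin 2 → ZMod p), c ∈ B →
      (m : Matrix (Fin 2) (Fin 2) (ZMod p)) *ᵥ c ∈ B) : B = ⊥ ∨ B = ⊤ := by
  by_cases hbot : B = ⊥
  · exact Or.inl hbot
  right
  obtain ⟨⟨v, hvB⟩, hv0'⟩ := (AddSubgroup.ne_bot_iff_exists_ne_zero).1 hbot
  have hv0 : v ≠ 0 := fun h => hv0' (Subtype.ext h)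
  have hup : ∀ c ∈ B, ![c 1, 0] ∈ B := by
    intro c hc
    have h1 := B.sub_mem (hB (upperSL2 1) c hc) hc
    rw [upper_mulVec] at h1
    have h2 : ![c 0 + c 1, c 1] - c = ![c 1, 0] := by
      funext i
      fin_cases i <;> simp
    rwa [h2] at h1
  have hlo : ∀ c ∈ B, ![0, c 0] ∈ B := by
    intro c hc
    have h1 := B.sub_mem (hB (lowerSL2 1) c hc) hc
    rw [lower_mulVec] at h1
    have h2 : ![c 0, c 0 + c 1] - c = ![0, c 0] := by
      funext i
      fin_cases i <;> simp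
    rwa [h2] at h1
  have hboth : (![1, 0] : Fin 2 → ZMod p) ∈ B ∧ (![0, 1] : Fin 2 → ZMod p) ∈ B := by
    by_cases hy : v 1 = 0
    · have hx : v 0 ≠ 0 := by
        intro hx
        apply hv0
        funext i
        fin_cases i
        · exact hx
        · exact hy
      have h1 := smul_mem_of_mem B (v 0)⁻¹ (hlo v hvB)
      have h2 : (v 0)⁻¹ • (![0, v 0] : Fin 2 → ZMod p) = ![0, 1] := by
        funext i
        fin_cases i
        · simp
        · simp [inv_mul_cancel₀ hx]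
      rw [h2] at h1
      have h3 := hup _ h1
      simp only [Matrix.cons_val_one, Matrix.cons_val_zero] at h3
      exact ⟨h3, h1⟩
    · have h1 := smul_mem_of_mem B (v 1)⁻¹ (hup v hvB)
      have h2 : (v 1)⁻¹ • (![v 1, 0] : Fin 2 → ZMod p) = ![1, 0] := by
        funext i
        fin_cases i
        · simp [inv_mul_cancel₀ hy]
        · simp
      rw [h2] at h1
      have h3 := hlo _ h1
      simp only [Matrix.cons_val_zero] at h3
      exact ⟨h1, h3⟩
  rw [eq_top_iff]
  intro c _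
  have h1 := B.add_mem (smul_mem_of_mem B (c 0) hboth.1) (smul_mem_of_mem B (c 1) hboth.2)
  have h2 : c 0 • (![1, 0] : Fin 2 → ZMod p) + c 1 • (![0, 1] : Fin 2 → ZMod p) = c := by
    funext i
    fin_cases i <;> simp
  rwa [h2] at h1

end irreducible

end Cfsg.Agent.Lib.Helper20.QdS
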