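import Mathlib
import Cfsg.Agent.H5.QuadPair
import Cfsg.Agent.H5.Dickson
import Cfsg.Agent.Lib.Helper20.QdRat
import Cfsg.Agent.Lib.Helper20.QdSec

/-!
# Two quadratic generators: a natural-module section

A strengthening of `Cfsg.H5.QP.exists_sl2` (whose proof is followed closely, the irreducible
case being a copy exporting the basis): a group `Γ = ⟨a, b⟩` with a representation over a finite
field of odd characteristic `p` in which `a`, `b` act quadratically and whose image is not a
`p`-group has a subgroup `Λ` mapping onto `SL(2, p)` and a `Λ`-invariant additive section of the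
module which is the natural module.
-/

set_option autoImplicit false
set_option linter.style.haveILetI false

namespace Cfsg.Agent.Lib.Helper20.QdI

open Polynomial Cfsg.H5.QP Cfsg.Agent.Lib.Helper20.QdS Cfsg.Agent.Lib.Helper20.QdR

universe u v

section Main

variable {K : Type*} [Field K] [Fintype K] {p : ℕ} [hp : Fact p.Prime] [CharP K p]
variable {Γ : Type*} [Group Γ]

variable (a b : Γ) (hgen : Subgroup.closure ({a, b} : Set Γ) = ⊤)

include hgen in
/-- the irreducible case, exporting the coordinates -/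
theorem irreducible_case' {U : Type u} [AddCommGroup U] [Module K U] [FiniteDimensional K U]
    (ρ : Representation K Γ U) (hA : (ρ a - 1) * (ρ a - 1) = 0) (hB : (ρ b - 1) * (ρ b - 1) = 0)
    (hnp : ¬ PG p ρ) (e k : ℕ) (hk : k ∣ Fintype.card K - 1) (hk0 : 0 < k)
    (hab : (a * b) ^ (p ^ e * k) = 1)
    (hirr : ∀ U₁ : Submodule K U, (∀ g, U₁ ≤ U₁.comap (ρ g)) → U₁ = ⊥ ∨ U₁ = ⊤) :
    ∃ (E : U ≃ₗ[K] (Fin 2 → K)) (φ : Γ →* Matrix.SpecialLinearGroup (Fin 2) K),
      (∀ g w, E (ρ g w) = Matrix.mulVec ((φ g : Matrix.SpecialLinearGroup (Fin 2) K) :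
        Matrix (Fin 2) (Fin 2) K) (E w)) ∧ ¬ IsPGroup p φ.range := by
  -- `U` is nontrivial
  have hnt : Nontrivial U := by
    by_contra hsub
    rw [not_nontrivial_iff_subsingleton] at hsub
    apply hnp
    intro g
    exact ⟨0, Subsingleton.elim _ _⟩
  have hx : (ρ (a * b)) ^ (p ^ e * k) = 1 := by rw [← map_pow, hab, map_one]
  obtain ⟨μ, u, hu0, hu⟩ := exists_eigenvector (p := p) (ρ (a * b)) e k hk hk0 hx
  rw [map_mul, Module.End.mul_apply] at hu
  obtain ⟨A, hAdef⟩ : ∃ A : Module.End K U, A = ρ a := ⟨_, rfl⟩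
  obtain ⟨B, hBdef⟩ : ∃ B : Module.End K U, B = ρ b := ⟨_, rfl⟩
  rw [← hAdef] at hA hu
  rw [← hBdef] at hB hu
  have htwo : ∀ w : U, (2 : Module.End K U) w = (2 : K) • w := by
    intro w
    rw [show (2 : Module.End K U) = 1 + 1 by norm_num, LinearMap.add_apply, Module.End.one_apply,
      two_smul]
  -- equations
  have hAA' := quad_mul_inv hA
  have hA'A := quad_inv_mul hA
  have hBB' := quad_mul_inv hB
  have hB'B := quad_inv_mul hB
  have e1 : B (B u) = (2 : K) • B u - u := by
    have h := congrArg (fun f : Module.End K U => f u) hB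
    simp only [Module.End.mul_apply, LinearMap.sub_apply, Module.End.one_apply, map_sub,
      LinearMap.zero_apply] at h
    rw [two_smul]
    have h2 : B (B u) = (B (B u) - B u - (B u - u)) + (B u + B u - u) := by abel
    rw [h, zero_add] at h2
    exact h2
  have e2 : B u = μ • ((2 : K) • u - A u) := by
    have h := congrArg (fun f : Module.End K U => f (B u)) hA'A
    simp only [Module.End.mul_apply, LinearMap.sub_apply, Module.End.one_apply] at h
    rw [hu, htwo, map_smul] at h
    rw [← h, smul_sub, smul_comm μ (2 : K) u]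
  have hμ0 : μ ≠ 0 := by
    rintro rfl
    rw [zero_smul] at e2
    have h := congrArg (fun f : Module.End K U => f u) hB'B
    simp only [Module.End.mul_apply, Module.End.one_apply] at h
    rw [e2, map_zero] at h
    exact hu0 h.symm
  have e3 : A u = (2 : K) • u - μ⁻¹ • B u := by
    rw [e2, smul_smul, inv_mul_cancel₀ hμ0, one_smul]; abel
  -- the invariant plane
  set U₀ : Submodule K U := Submodule.span K {u, B u} with hU₀
  have hu_mem : u ∈ U₀ := Submodule.subset_span (by simp)
  have hBu_mem : B u ∈ U₀ := Submodule.subset_span (by simp)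
  have hAinv : ∀ w ∈ U₀, A w ∈ U₀ := by
    have : U₀.map A ≤ U₀ := by
      rw [hU₀, Submodule.map_span_le]
      intro m hm
      rcases hm with rfl | rfl
      · rw [e3]
        exact Submodule.sub_mem _ (Submodule.smul_mem _ _ hu_mem)
          (Submodule.smul_mem _ _ hBu_mem)
      · rw [hu]; exact Submodule.smul_mem _ _ hu_mem
    intro w hw
    exact this (Submodule.mem_map_of_mem hw)
  have hBinv : ∀ w ∈ U₀, B w ∈ U₀ := by
    have : U₀.map B ≤ U₀ := by
      rw [hU₀, Submodule.map_span_le]
      intro m hm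
      rcases hm with rfl | rfl
      · exact hBu_mem
      · rw [e1]
        exact Submodule.sub_mem _ (Submodule.smul_mem _ _ hBu_mem) hu_mem
    intro w hw
    exact this (Submodule.mem_map_of_mem hw)
  have hinvA : ρ a⁻¹ = 2 - A := by
    have h1 : ρ a⁻¹ * A = 1 := by rw [hAdef, ← map_mul, inv_mul_cancel, map_one]
    calc ρ a⁻¹ = ρ a⁻¹ * (A * (2 - A)) := by rw [hAA', mul_one]
      _ = (ρ a⁻¹ * A) * (2 - A) := by rw [mul_assoc]
      _ = 2 - A := by rw [h1, one_mul]
  have hinvB : ρ b⁻¹ = 2 - B := by
    have h1 : ρ b⁻¹ * B = 1 := by rw [hBdef, ← map_mul, inv_mul_cancel, map_one]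
    calc ρ b⁻¹ = ρ b⁻¹ * (B * (2 - B)) := by rw [hBB', mul_one]
      _ = (ρ b⁻¹ * B) * (2 - B) := by rw [mul_assoc]
      _ = 2 - B := by rw [h1, one_mul]
  subst hAdef
  subst hBdef
  have hall : ∀ g : Γ, (∀ w ∈ U₀, ρ g w ∈ U₀) ∧ (∀ w ∈ U₀, ρ g⁻¹ w ∈ U₀) := by
    intro g
    refine gen_induction a b hgen
      (P := fun g => (∀ w ∈ U₀, ρ g w ∈ U₀) ∧ (∀ w ∈ U₀, ρ g⁻¹ w ∈ U₀)) ?_ ?_ ?_ ?_ ?_ g
    · refine ⟨hAinv, fun w hw => ?_⟩
      rw [hinvA, LinearMap.sub_apply, htwo]
      exact Submodule.sub_mem _ (Submodule.smul_mem _ _ hw) (hAinv w hw)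
    · refine ⟨hBinv, fun w hw => ?_⟩
      rw [hinvB, LinearMap.sub_apply, htwo]
      exact Submodule.sub_mem _ (Submodule.smul_mem _ _ hw) (hBinv w hw)
    · simp
    · rintro x y ⟨hx1, hx2⟩ ⟨hy1, hy2⟩
      refine ⟨fun w hw => ?_, fun w hw => ?_⟩
      · rw [map_mul, Module.End.mul_apply]; exact hx1 _ (hy1 w hw)
      · rw [mul_inv_rev, map_mul, Module.End.mul_apply]; exact hy2 _ (hx2 w hw)
    · rintro x ⟨hx1, hx2⟩
      exact ⟨hx2, by rw [inv_inv]; exact hx1⟩
  have hU₀top : U₀ = ⊤ := by
    rcases hirr U₀ (fun g w hw => (hall g).1 w hw) with h | h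
    · exfalso
      rw [h, Submodule.mem_bot] at hu_mem
      exact hu0 hu_mem
    · exact h
  -- the case `ρ b u ∈ span {u}`
  by_cases hdep : ∃ c : K, c • u = ρ b u
  · exfalso
    obtain ⟨c, hc⟩ := hdep
    have hspan : Submodule.span K {u} = ⊤ := by
      rw [← hU₀top, hU₀]
      apply le_antisymm
      · exact Submodule.span_mono (by simp)
      · rw [Submodule.span_le]
        intro m hm
        rcases hm with rfl | rfl
        · exact Submodule.subset_span rfl
        · rw [← hc]; exact Submodule.smul_mem _ _ (Submodule.subset_span rfl)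
    -- `B = 1`
    have hc1 : c = 1 := by
      have h := e1
      rw [← hc, map_smul, ← hc, smul_smul, smul_smul] at h
      have h2 : (c * c - 2 * c + 1) • u = 0 := by
        rw [add_smul, sub_smul, one_smul, h]; abel
      have h3 : c * c - 2 * c + 1 = 0 := (smul_eq_zero.mp h2).resolve_right hu0
      have h4 : (c - 1) * (c - 1) = 0 := by rw [← h3]; ring
      have := mul_self_eq_zero.mp h4
      exact sub_eq_zero.mp this
    have hBu : ρ b u = u := by rw [← hc, hc1, one_smul]
    have hAu : ρ a u = μ • u := by rw [hBu] at hu; exact hu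
    have hμ1 : μ = 1 := by
      have h := e3
      rw [hBu, hAu] at h
      have h2 : (μ * μ - 2 * μ + 1) • u = 0 := by
        have h5 : μ • (μ • u) = μ • ((2 : K) • u - μ⁻¹ • u) := by rw [← h]
        rw [smul_sub, smul_smul, smul_smul, smul_smul, mul_inv_cancel₀ hμ0, one_smul] at h5
        have h6 : (μ * μ - 2 * μ + 1) • u = (μ * μ) • u - (μ * 2) • u + u := by module
        rw [h6, h5]; abel
      have h3 : μ * μ - 2 * μ + 1 = 0 := (smul_eq_zero.mp h2).resolve_right hu0
      have h4 : (μ - 1) * (μ - 1) = 0 := by rw [← h3]; ring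
      exact sub_eq_zero.mp (mul_self_eq_zero.mp h4)
    have hAu' : ρ a u = u := by rw [hAu, hμ1, one_smul]
    have hone : ∀ (f : Module.End K U), f u = u → f = 1 := by
      intro f hf
      apply LinearMap.ext
      intro w
      have hw : w ∈ Submodule.span K {u} := by rw [hspan]; trivial
      obtain ⟨t, rfl⟩ := Submodule.mem_span_singleton.mp hw
      rw [map_smul, hf, Module.End.one_apply]
    have hA1 : ρ a = 1 := hone _ hAu'
    have hB1 : ρ b = 1 := hone _ hBu
    apply hnp
    intro g
    refine ⟨0, ?_⟩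
    rw [pow_zero, pow_one]
    refine gen_induction a b hgen (P := fun g => ρ g = 1) hA1 hB1 (map_one ρ) ?_ ?_ g
    · intro x y hx hy; rw [map_mul, hx, hy, one_mul]
    · intro x hx
      have : ρ x⁻¹ * ρ x = 1 := by rw [← map_mul, inv_mul_cancel, map_one]
      rw [hx, mul_one] at this
      exact this
  · -- the basis `u, ρ b u`
    have hli : LinearIndependent K ![u, ρ b u] := by
      rw [LinearIndependent.pair_iff]
      intro s t hst
      by_cases ht : t = 0
      · subst ht
        rw [zero_smul, add_zero] at hst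
        exact ⟨(smul_eq_zero.mp hst).resolve_right hu0, rfl⟩
      · exfalso
        apply hdep
        refine ⟨-(t⁻¹ * s), ?_⟩
        have h1 : t • ρ b u = -(s • u) := by
          rw [eq_neg_iff_add_eq_zero, add_comm]; exact hst
        have h2 : ρ b u = t⁻¹ • (t • ρ b u) := by rw [smul_smul, inv_mul_cancel₀ ht, one_smul]
        rw [h2, h1, smul_neg, smul_smul, neg_smul]
    have hsp : ⊤ ≤ Submodule.span K (Set.range ![u, ρ b u]) := by
      rw [← hU₀top, hU₀]
      apply Submodule.span_mono
      intro m hm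
      rcases hm with rfl | rfl
      · exact ⟨0, rfl⟩
      · exact ⟨1, rfl⟩
    let bs : Module.Basis (Fin 2) K U := Module.Basis.mk hli hsp
    let ψ : Γ →* Matrix (Fin 2) (Fin 2) K :=
      ((LinearMap.toMatrixAlgEquiv bs : Module.End K U ≃ₐ[K] Matrix (Fin 2) (Fin 2) K) :
        Module.End K U →* Matrix (Fin 2) (Fin 2) K).comp ρ
    have hψ : ∀ g, ψ g = LinearMap.toMatrixAlgEquiv bs (ρ g) := fun g => rfl
    have hψinj : ∀ g, ψ g = 1 → ρ g = 1 := by
      intro g hg
      rw [hψ] at hg
      have := (LinearMap.toMatrixAlgEquiv bs).injective (hg.trans (map_one _).symm)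
      exact this
    -- determinants
    have hdetp : ∀ g : Γ, ρ g ^ p = 1 → (ψ g).det = 1 := by
      intro g hg
      have h1 : (ψ g).det ^ p = 1 := by
        rw [← Matrix.det_pow, ← map_pow, hψ, map_pow, hg, map_one, Matrix.det_one]
      have h2 : ((ψ g).det - 1) ^ p = 0 := by rw [sub_pow_char, h1, one_pow, sub_self]
      exact sub_eq_zero.mp (pow_eq_zero_iff (hp.out.ne_zero) |>.mp h2)
    have hdet : ∀ g : Γ, (ψ g).det = 1 := by
      intro g
      refine gen_induction a b hgen (P := fun g => (ψ g).det = 1)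
        (hdetp a (quad_pow_char hA)) (hdetp b (quad_pow_char hB)) ?_ ?_ ?_ g
      · rw [map_one, Matrix.det_one]
      · intro x y hx hy; rw [map_mul, Matrix.det_mul, hx, hy, one_mul]
      · intro x hx
        have : (ψ x⁻¹).det * (ψ x).det = 1 := by
          rw [← Matrix.det_mul, ← map_mul, inv_mul_cancel, map_one, Matrix.det_one]
        rw [hx, mul_one] at this
        exact this
    let φ : Γ →* Matrix.SpecialLinearGroup (Fin 2) K :=
      { toFun := fun g => ⟨ψ g, hdet g⟩
        map_one' := by
          apply Subtype.ext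
          exact map_one ψ
        map_mul' := fun x y => by
          apply Subtype.ext
          exact map_mul ψ x y }
    refine ⟨bs.equivFun, φ, ?_, ?_⟩
    · intro g w
      show bs.equivFun (ρ g w) = Matrix.mulVec (LinearMap.toMatrix bs bs (ρ g)) (bs.equivFun w)
      rw [Module.Basis.equivFun_apply, Module.Basis.equivFun_apply]
      exact (LinearMap.toMatrix_mulVec_repr bs bs (ρ g) w).symm
    intro hPG
    apply hnp
    intro g
    obtain ⟨j, hj⟩ := hPG ⟨φ g, g, rfl⟩
    refine ⟨j, ?_⟩
    have h1 : φ (g ^ (p ^ j)) = 1 := by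
      have := congrArg Subtype.val hj
      rw [map_pow]
      simpa using this
    have h2 : ψ (g ^ (p ^ j)) = 1 := by
      have := congrArg Subtype.val h1
      exact this
    rw [← map_pow]
    exact hψinj _ h2


include hgen in
/-- from coordinates on a two-dimensional module to a natural-module section -/
theorem natSec_of_coords (hp2 : p ≠ 2) {U : Type u} [AddCommGroup U] [Module K U]
    (ρ : Representation K Γ U) (hA : (ρ a - 1) * (ρ a - 1) = 0) (hB : (ρ b - 1) * (ρ b - 1) = 0)
    (E : U ≃ₗ[K] (Fin 2 → K)) (φ : Γ →* Matrix.SpecialLinearGroup (Fin 2) K)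
    (hE : ∀ g w, E (ρ g w) = Matrix.mulVec ((φ g : Matrix.SpecialLinearGroup (Fin 2) K) :
      Matrix (Fin 2) (Fin 2) K) (E w)) (hnp : ¬ IsPGroup p φ.range) :
    NatSec p (⊥ : Subgroup Γ) (fun g w => ρ g w) := by
  classical
  have hone : ∀ g : Γ, ρ g = 1 → φ g = 1 := by
    intro g hg
    apply Subtype.ext
    apply Matrix.toLin'.injective
    apply LinearMap.ext
    intro v
    obtain ⟨w, rfl⟩ := E.surjective v
    rw [Matrix.toLin'_apply, ← hE, hg, Module.End.one_apply, Matrix.SpecialLinearGroup.coe_one,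
      Matrix.toLin'_one]
    rfl
  have hpa : (φ a) ^ p = 1 := by
    rw [← map_pow]
    apply hone
    rw [map_pow]
    exact quad_pow_char hA
  have hpb : (φ b) ^ p = 1 := by
    rw [← map_pow]
    apply hone
    rw [map_pow]
    exact quad_pow_char hB
  obtain ⟨L, hL⟩ : ∃ L : Subgroup (Matrix.SpecialLinearGroup (Fin 2) K), L = φ.range := ⟨_, rfl⟩
  rw [← hL] at hnp
  obtain ⟨P⟩ : Nonempty (Sylow p L) := inferInstance
  have hPn : ¬ (P : Subgroup L).Normal := by
    intro hn
    apply hnp
    have huniq := Sylow.unique_of_normal P hn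
    have hgen' : ∀ g ∈ ({a, b} : Set Γ), ∀ hg : φ g ∈ L, (⟨φ g, hg⟩ : L) ∈ P := by
      intro g hg hgL
      have hgp : (φ g) ^ (p ^ 1) = 1 := by
        rcases hg with rfl | rfl
        · rw [pow_one]; exact hpa
        · rw [pow_one]; exact hpb
      have hQ : IsPGroup p (Subgroup.zpowers (⟨φ g, hgL⟩ : L)) := by
        apply Cfsg.H5.Dickson.isPGroup_zpowers (k := 1)
        apply Subtype.ext
        rw [Subgroup.coe_pow, Subgroup.coe_one]
        exact hgp
      obtain ⟨P', hP'⟩ := hQ.exists_le_sylow
      have : P' = P := Subsingleton.elim _ _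
      rw [← this]
      exact hP' (Subgroup.mem_zpowers _)
    have hle : L ≤ (P : Subgroup L).map L.subtype := by
      have hL' : L = Subgroup.closure (φ '' {a, b}) := by
        rw [hL, MonoidHom.range_eq_map, ← hgen, MonoidHom.map_closure]
      conv_lhs => rw [hL']
      rw [Subgroup.closure_le]
      rintro _ ⟨g, hg, rfl⟩
      have h1 : φ g ∈ L := by rw [hL]; exact ⟨g, rfl⟩
      exact ⟨⟨φ g, h1⟩, hgen' g hg h1, rfl⟩
    have htop : ∀ y : L, y ∈ P := by
      intro y
      obtain ⟨y', hy', hyy'⟩ := hle y.2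
      have : y' = y := Subtype.ext hyy'
      rw [← this]
      exact hy'
    intro y
    obtain ⟨k, hk⟩ := P.2 ⟨y, htop y⟩
    exact ⟨k, by simpa using congrArg Subtype.val hk⟩
  obtain ⟨K', ⟨e'⟩⟩ := Cfsg.H5.Dickson.exists_copy_of_injective (ι := L.subtype)
    L.subtype_injective hp2 P hPn
  obtain ⟨K'', hK''⟩ : ∃ K'' : Subgroup (Matrix.SpecialLinearGroup (Fin 2) K),
    K'' = K'.map L.subtype := ⟨_, rfl⟩
  have hK''L : K'' ≤ L := by rw [hK'']; exact Subgroup.map_subtype_le K'
  obtain ⟨e''⟩ : Nonempty (↥K'' ≃* Matrix.SpecialLinearGroup (Fin 2) (ZMod p)) :=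
    ⟨(MulEquiv.subgroupCongr hK'').trans
      ((K'.equivMapOfInjective L.subtype L.subtype_injective).symm.trans e')⟩
  obtain ⟨Q, hQdet, hQ⟩ := exists_rational_form K'' e''
  obtain ⟨θ, hθdef⟩ : ∃ θ : ↥(K''.comap φ) →* Matrix.SpecialLinearGroup (Fin 2) (ZMod p),
    θ = e''.toMonoidHom.comp (φ.subgroupComap K'') := ⟨_, rfl⟩
  have hθs : Function.Surjective θ := by
    intro s
    have h1 : ((e''.symm s : ↥K'') : Matrix.SpecialLinearGroup (Fin 2) K) ∈ L :=
      hK''L (e''.symm s).2
    rw [hL] at h1
    obtain ⟨g, hg⟩ := h1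
    have hgΛ : g ∈ K''.comap φ := by
      rw [Subgroup.mem_comap, hg]
      exact (e''.symm s).2
    refine ⟨⟨g, hgΛ⟩, ?_⟩
    have h2 : φ.subgroupComap K'' ⟨g, hgΛ⟩ = e''.symm s := Subtype.ext hg
    rw [hθdef, MonoidHom.comp_apply, h2]
    exact e''.apply_symm_apply s
  have hθl : ∀ l : ↥(K''.comap φ), θ l = e'' ⟨φ (l : Γ), l.2⟩ := by
    intro l
    rw [hθdef]
    rfl
  -- the prime field inside `K`
  obtain ⟨cv, hcv⟩ : ∃ cv : (Fin 2 → ZMod p) →+ (Fin 2 → K),
      ∀ c, cv c = (ZMod.castHom (dvd_refl p) K) ∘ c :=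
    ⟨(ZMod.castHom (dvd_refl p) K).toAddMonoidHom.compLeft (Fin 2), fun c => rfl⟩
  obtain ⟨ι, hι⟩ : ∃ ι : (Fin 2 → ZMod p) →+ U, ∀ c, E (ι c) = Matrix.mulVec Q (cv c) := by
    refine ⟨E.symm.toLinearMap.toAddMonoidHom.comp
      ((Matrix.mulVecLin Q).toAddMonoidHom.comp cv), ?_⟩
    intro c
    simp
  have hQinj : ∀ v : Fin 2 → K, Matrix.mulVec Q v = 0 → v = 0 := by
    intro v hv
    have h1 : Matrix.mulVec Q⁻¹ (Matrix.mulVec Q v) = v := by
      rw [Matrix.mulVec_mulVec, Matrix.nonsing_inv_mul Q hQdet, Matrix.one_mulVec]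
    rw [← h1, hv, Matrix.mulVec_zero]
  let R : AddSubgroup (U × (Fin 2 → ZMod p)) :=
    { carrier := {x | x.1 = ι x.2}
      zero_mem' := by
        show (0 : U) = ι 0
        rw [map_zero]
      add_mem' := by
        intro x y hx hy
        show x.1 + y.1 = ι (x.2 + y.2)
        rw [map_add, ← hx, ← hy]
      neg_mem' := by
        intro x hx
        show -x.1 = ι (-x.2)
        rw [map_neg, ← hx] }
  have hR : ∀ w c, (w, c) ∈ R ↔ w = ι c := fun w c => Iff.rfl
  refine ⟨K''.comap φ, θ, R, bot_le, hθs, ?_, ?_, ?_⟩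
  · intro c hc
    rw [hR] at hc
    have h1 : Matrix.mulVec Q (cv c) = 0 := by rw [← hι, ← hc, map_zero]
    have h2 := hQinj _ h1
    funext i
    have h3 := congrFun h2 i
    rw [hcv] at h3
    exact (ZMod.castHom (dvd_refl p) K).injective (h3.trans (map_zero _).symm)
  · intro c
    exact ⟨ι c, (hR _ _).2 rfl⟩
  · intro l w c hwc
    rw [hR] at hwc ⊢
    subst hwc
    apply E.injective
    simp only
    rw [hE, hι, hι, Matrix.mulVec_mulVec]
    have h1 := hQ ⟨φ (l : Γ), l.2⟩
    simp only at h1
    rw [h1, ← hθl, ← Matrix.mulVec_mulVec]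
    congr 1
    funext i
    rw [hcv, hcv]
    exact (RingHom.map_mulVec (ZMod.castHom (dvd_refl p) K) _ c i).symm

include hgen in
/-- **Main reduction**, with the natural-module section. -/
theorem exists_natSec (hp2 : p ≠ 2) (e k : ℕ) (hk : k ∣ Fintype.card K - 1) (hk0 : 0 < k)
    (hab : (a * b) ^ (p ^ e * k) = 1) :
    ∀ (n : ℕ) (U : Type u) [AddCommGroup U] [Module K U] [FiniteDimensional K U]
      (ρ : Representation K Γ U), Module.finrank K U = n →
      (ρ a - 1) * (ρ a - 1) = 0 → (ρ b - 1) * (ρ b - 1) = 0 → ¬ PG p ρ →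
      NatSec p (⊥ : Subgroup Γ) (fun g w => ρ g w) := by
  intro n
  induction n using Nat.strong_induction_on with
  | _ n ih =>
    intro U _ _ _ ρ hn hA hB hnp
    by_cases hred : ∃ U₁ : Submodule K U, (∀ g, U₁ ≤ U₁.comap (ρ g)) ∧ U₁ ≠ ⊥ ∧ U₁ ≠ ⊤
    · obtain ⟨U₁, hinv, hbot, htop⟩ := hred
      have hlt1 : Module.finrank K U₁ < n := hn ▸ Submodule.finrank_lt htop
      have hlt2 : Module.finrank K (U ⧸ U₁) < n := by
        have h1 := Submodule.finrank_quotient_add_finrank U₁
        have h2 : 0 < Module.finrank K U₁ := by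
          rw [Module.finrank_pos_iff]
          exact (Submodule.nontrivial_iff_ne_bot).mpr hbot
        omega
      let ρ₁ := ρ.subrepresentation U₁ hinv
      let ρ₂ := ρ.quotient U₁ hinv
      by_cases h1 : PG p ρ₁
      · by_cases h2 : PG p ρ₂
        · exfalso
          apply hnp
          intro g
          obtain ⟨j₁, hj₁⟩ := h1 g
          obtain ⟨j₂, hj₂⟩ := h2 g
          refine ⟨j₁ + j₂ + 1, ?_⟩
          set g' := g ^ (p ^ (j₁ + j₂)) with hg'
          have hg1 : ρ₁ g' = 1 := by
            rw [hg', pow_add, pow_mul, map_pow, map_pow, hj₁, one_pow]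
          have hg2 : ρ₂ g' = 1 := by
            rw [hg', pow_add, mul_comm, pow_mul, map_pow, map_pow, hj₂, one_pow]
          have hq : (ρ g' - 1) * (ρ g' - 1) = 0 := by
            apply LinearMap.ext
            intro w
            have hw1 : ρ g' w - w ∈ U₁ := by
              have := congrArg (fun f : Module.End K (U ⧸ U₁) => f (Submodule.Quotient.mk w)) hg2
              simp only [ρ₂, Representation.quotient_apply, Submodule.mapQ_apply,
                Module.End.one_apply] at this
              exact (Submodule.Quotient.eq U₁).mp this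
            have hw2 : ρ g' (ρ g' w - w) = ρ g' w - w := by
              have := congrArg (fun f : Module.End K U₁ => (f ⟨ρ g' w - w, hw1⟩ : U)) hg1
              simpa [ρ₁] using this
            rw [Module.End.mul_apply, LinearMap.sub_apply, LinearMap.sub_apply,
              Module.End.one_apply, Module.End.one_apply, LinearMap.zero_apply, hw2, sub_self]
          have := quad_pow_char (p := p) hq
          rw [← map_pow, hg', ← pow_mul, ← pow_succ] at this
          rw [← map_pow]
          exact this
        · have h3 : NatSec p (⊥ : Subgroup Γ) (fun g w => ρ₂ g w) := by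
            refine ih _ hlt2 (U ⧸ U₁) ρ₂ rfl ?_ ?_ h2
            · apply LinearMap.ext
              intro w
              induction w using Submodule.Quotient.induction_on with
              | _ w =>
                have := congrArg
                  (fun f : Module.End K U => Submodule.Quotient.mk (p := U₁) (f w)) hA
                simpa [ρ₂, Module.End.mul_apply] using this
            · apply LinearMap.ext
              intro w
              induction w using Submodule.Quotient.induction_on with
              | _ w =>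
                have := congrArg
                  (fun f : Module.End K U => Submodule.Quotient.mk (p := U₁) (f w)) hB
                simpa [ρ₂, Module.End.mul_apply] using this
          refine NatSec.pullback (U₁.mkQ.toAddMonoidHom) (Submodule.mkQ_surjective U₁) ?_ h3
          intro g w
          rfl
      · have h3 : NatSec p (⊥ : Subgroup Γ) (fun g w => ρ₁ g w) := by
          refine ih _ hlt1 U₁ ρ₁ rfl ?_ ?_ h1
          · apply LinearMap.ext
            intro w
            apply Subtype.ext
            have := congrArg (fun f : Module.End K U => f (w : U)) hA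
            simpa [ρ₁, Module.End.mul_apply] using this
          · apply LinearMap.ext
            intro w
            apply Subtype.ext
            have := congrArg (fun f : Module.End K U => f (w : U)) hB
            simpa [ρ₁, Module.End.mul_apply] using this
        refine NatSec.push_injective (U₁.subtype.toAddMonoidHom) Subtype.val_injective ?_ h3
        intro g w
        rfl
    · push Not at hred
      obtain ⟨E, φ, hE, hφ⟩ := irreducible_case' a b hgen ρ hA hB hnp e k hk hk0 hab (by
        intro U₁ hinv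
        by_cases hb : U₁ = ⊥
        · exact Or.inl hb
        · exact Or.inr (hred U₁ hinv hb))
      exact natSec_of_coords a b hgen hp2 ρ hA hB E φ hE hφ


end Main

end Cfsg.Agent.Lib.Helper20.QdI
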