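import Mathlib
import Cfsg.Agent.H5.SL2pSection
import Cfsg.Agent.Lib.Helper20.QdIrr

/-!
# A natural-module section from a quadratically acting element

`natSec_of_quadratic`: a finite group `Γ` with a faithful representation over `ZMod p` (`p` odd)
in which an element outside `O_p(Γ)` acts quadratically has a subgroup `Λ` mapping onto
`SL(2, p)` and a `Λ`-invariant additive section of the module which is the natural module.
The proof follows `Cfsg.H5.SL2p.section_of_quadratic`; the descent from the extension field to the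
prime field uses the `F_p`-linear functionals of the field.
-/

set_option autoImplicit false
set_option linter.style.haveILetI false

namespace Cfsg.Agent.Lib.Helper20.QdE

open Cfsg.H5.QP Cfsg.Agent.Lib.Helper20.QdS Cfsg.Agent.Lib.Helper20.QdI

/-- extension of scalars for endomorphisms of `F^n`, compatible with `F`-linear functionals -/
theorem exists_extend' (F K : Type*) [Field F] [Field K] [Algebra F K] (n : ℕ) :
    ∃ Φ : Module.End F (Fin n → F) →+* Module.End K (Fin n → K), Function.Injective Φ ∧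
      ∀ (lam : K →ₗ[F] F) (f : Module.End F (Fin n → F)) (v : Fin n → K),
        (fun i => lam (Φ f v i)) = f (fun i => lam (v i)) := by
  classical
  let e₁ : Module.End F (Fin n → F) ≃+* Matrix (Fin n) (Fin n) F :=
    (LinearMap.toMatrixAlgEquiv' : Module.End F (Fin n → F) ≃ₐ[F] Matrix (Fin n) (Fin n) F)
  let e₂ : Matrix (Fin n) (Fin n) K ≃+* Module.End K (Fin n → K) :=
    (Matrix.toLinAlgEquiv' : Matrix (Fin n) (Fin n) K ≃ₐ[K] Module.End K (Fin n → K))
  let m : Matrix (Fin n) (Fin n) F →+* Matrix (Fin n) (Fin n) K := (algebraMap F K).mapMatrix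
  refine ⟨(e₂ : Matrix (Fin n) (Fin n) K →+* Module.End K (Fin n → K)).comp
    (m.comp (e₁ : Module.End F (Fin n → F) →+* Matrix (Fin n) (Fin n) F)), ?_, ?_⟩
  · intro x y hxy
    simp only [RingHom.coe_comp, RingHom.coe_coe, Function.comp_apply] at hxy
    have h1 := e₂.injective hxy
    have h2 : Function.Injective m := Matrix.map_injective (algebraMap F K).injective
    exact e₁.injective (h2 h1)
  · intro lam f v
    have h1 : ((e₂ : Matrix (Fin n) (Fin n) K →+* Module.End K (Fin n → K)).comp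
        (m.comp (e₁ : Module.End F (Fin n → F) →+* Matrix (Fin n) (Fin n) F))) f v =
        Matrix.mulVec ((LinearMap.toMatrix' f).map (algebraMap F K)) v := by
      show Matrix.toLin' ((LinearMap.toMatrix' f).map (algebraMap F K)) v = _
      rw [Matrix.toLin'_apply]
    rw [h1, ← LinearMap.toMatrix'_mulVec f]
    funext i
    simp only [Matrix.mulVec, dotProduct, Matrix.map_apply, map_sum]
    apply Finset.sum_congr rfl
    intro j _
    rw [← Algebra.smul_def, map_smul, smul_eq_mul]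

section descend

variable {p : ℕ} [hp : Fact p.Prime] {K : Type*} [Field K] [Finite K] [Algebra (ZMod p) K]
  {Γ : Type*} [Group Γ] {n : ℕ}

/-- descent of a natural-module section from `K^n` to `F_p^n` -/
theorem descend (ρ₀ : Representation (ZMod p) Γ (Fin n → ZMod p))
    (ρK : Representation K Γ (Fin n → K))
    (hcompat : ∀ (lam : K →ₗ[ZMod p] ZMod p) (g : Γ) (v : Fin n → K),
      (fun i => lam (ρK g v i)) = ρ₀ g (fun i => lam (v i)))
    {N₀ : Subgroup Γ} (h : NatSec p N₀ (fun g w => ρK g w)) :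
    NatSec p N₀ (fun g w => ρ₀ g w) := by
  classical
  obtain ⟨Λ, θ, R, hN, hθ, hfunc, hsurj, hequiv⟩ := h
  haveI : Finite (K →ₗ[ZMod p] ZMod p) := Finite.of_injective (fun f => (f : K → ZMod p))
    DFunLike.coe_injective
  letI : Fintype (K →ₗ[ZMod p] ZMod p) := Fintype.ofFinite _
  -- the functional applied coordinatewise
  let ls : (K →ₗ[ZMod p] ZMod p) → ((Fin n → K) →+ (Fin n → ZMod p)) :=
    fun lam => lam.toAddMonoidHom.compLeft (Fin n)
  have hls : ∀ lam v, ls lam v = fun i => lam (v i) := fun lam v => rfl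
  have hlsρ : ∀ lam g v, ls lam (ρK g v) = ρ₀ g (ls lam v) := by
    intro lam g v
    rw [hls, hls]
    exact hcompat lam g v
  -- the restricted relations
  let RS : Finset (K →ₗ[ZMod p] ZMod p) → AddSubgroup ((Fin n → K) × (Fin 2 → ZMod p)) :=
    fun S =>
    { carrier := {x | x ∈ R ∧ ∀ lam ∈ S, ls lam x.1 = 0}
      zero_mem' := ⟨R.zero_mem, fun lam _ => map_zero _⟩
      add_mem' := by
        rintro x y ⟨hx, hx'⟩ ⟨hy, hy'⟩
        refine ⟨R.add_mem hx hy, fun lam hlam => ?_⟩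
        show ls lam (x.1 + y.1) = 0
        rw [map_add, hx' lam hlam, hy' lam hlam, add_zero]
      neg_mem' := by
        rintro x ⟨hx, hx'⟩
        refine ⟨R.neg_mem hx, fun lam hlam => ?_⟩
        show ls lam (-x.1) = 0
        rw [map_neg, hx' lam hlam, neg_zero] }
  have hRS : ∀ S w c, (w, c) ∈ RS S ↔ (w, c) ∈ R ∧ ∀ lam ∈ S, ls lam w = 0 :=
    fun S w c => Iff.rfl
  have hRSequiv : ∀ S (l : ↥Λ) (w : Fin n → K) (c : Fin 2 → ZMod p), (w, c) ∈ RS S →
      (ρK (l : Γ) w, Matrix.mulVec ((θ l : Matrix.SpecialLinearGroup (Fin 2) (ZMod p)) :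
        Matrix (Fin 2) (Fin 2) (ZMod p)) c) ∈ RS S := by
    intro S l w c hwc
    rw [hRS] at hwc ⊢
    refine ⟨hequiv l w c hwc.1, fun lam hlam => ?_⟩
    rw [hlsρ, hwc.2 lam hlam, map_zero]
  let CS : Finset (K →ₗ[ZMod p] ZMod p) → AddSubgroup (Fin 2 → ZMod p) :=
    fun S =>
    { carrier := {c | ∃ w, (w, c) ∈ RS S}
      zero_mem' := ⟨0, (RS S).zero_mem⟩
      add_mem' := by
        rintro c c' ⟨w, hw⟩ ⟨w', hw'⟩
        exact ⟨w + w', (RS S).add_mem hw hw'⟩
      neg_mem' := by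
        rintro c ⟨w, hw⟩
        exact ⟨-w, (RS S).neg_mem hw⟩ }
  have hCS : ∀ S c, c ∈ CS S ↔ ∃ w, (w, c) ∈ RS S := fun S c => Iff.rfl
  have hdich : ∀ S, CS S = ⊥ ∨ CS S = ⊤ := by
    intro S
    apply natural_irreducible
    intro m c hc
    obtain ⟨l, rfl⟩ := hθ m
    obtain ⟨w, hw⟩ := (hCS S c).1 hc
    exact (hCS S _).2 ⟨_, hRSequiv S l w c hw⟩
  have hempty : CS ∅ = ⊤ := by
    rw [eq_top_iff]
    intro c _
    obtain ⟨w, hw⟩ := hsurj c
    exact (hCS _ _).2 ⟨w, (hRS _ _ _).2 ⟨hw, fun lam hlam => absurd hlam (Finset.notMem_empty _)⟩⟩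
  have huniv : CS Finset.univ ≠ ⊤ := by
    intro htop
    have h1 : (![1, 0] : Fin 2 → ZMod p) ∈ CS Finset.univ := by rw [htop]; trivial
    obtain ⟨w, hw⟩ := (hCS _ _).1 h1
    obtain ⟨hwR, hw0⟩ := (hRS _ _ _).1 hw
    have hw' : w = 0 := by
      funext i
      show w i = 0
      rw [← Module.forall_dual_apply_eq_zero_iff (ZMod p) (w i)]
      intro lam
      have h2 := congrFun (hw0 lam (Finset.mem_univ _)) i
      rw [hls] at h2
      exact h2
    rw [hw'] at hwR
    have h3 := congrFun (hfunc _ hwR) 0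
    simp at h3
  have hex : ∃ S lam, CS S = ⊤ ∧ CS (insert lam S) = ⊥ := by
    by_contra hcon
    push Not at hcon
    apply huniv
    have hall : ∀ T : Finset (K →ₗ[ZMod p] ZMod p), CS T = ⊤ := by
      intro T
      induction T using Finset.induction_on with
      | empty => exact hempty
      | insert lam T _ ih =>
        rcases hdich (insert lam T) with h1 | h1
        · exact absurd h1 (hcon T lam ih)
        · exact h1
    exact hall _
  obtain ⟨S, lam, hS, hSlam⟩ := hex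
  refine NatSec.push (ls lam) (fun g w => hlsρ lam g w) Λ θ (RS S) hN hθ ?_ (hRSequiv S) ?_
  · intro c
    have h1 : c ∈ CS S := by rw [hS]; trivial
    exact (hCS _ _).1 h1
  · intro w c hwc hw0
    have h1 : c ∈ CS (insert lam S) := by
      refine (hCS _ _).2 ⟨w, (hRS _ _ _).2 ⟨((hRS _ _ _).1 hwc).1, fun lam' hlam' => ?_⟩⟩
      rcases Finset.mem_insert.1 hlam' with rfl | h2
      · exact hw0
      · exact ((hRS _ _ _).1 hwc).2 lam' h2
    rw [hSlam] at h1
    exact (AddSubgroup.mem_bot).1 h1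

end descend

section main

variable {Γ : Type*} [Group Γ] [Finite Γ] {p : ℕ} [Fact p.Prime]

/-- the core argument over an abstract finite field `K` of characteristic `p` -/
theorem rep_natSec_core (hp : p ≠ 2)
    (K : Type) [Field K] [Finite K] [CharP K p] [Algebra (ZMod p) K]
    (a b : Γ) (hgen : Subgroup.closure ({a, b} : Set Γ) = ⊤) (n : ℕ)
    (ρ₀ : Representation (ZMod p) Γ (Fin n → ZMod p)) (hfaith : ∀ h, ρ₀ h = 1 → h = 1)
    (hA₀ : (ρ₀ a - 1) * (ρ₀ a - 1) = 0) (hB₀ : (ρ₀ b - 1) * (ρ₀ b - 1) = 0)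
    (hnp : ¬ IsPGroup p Γ) (e k : ℕ) (hk0 : 0 < k) (hab : (a * b) ^ (p ^ e * k) = 1)
    (hkK : k ∣ Nat.card K - 1) : NatSec p (⊥ : Subgroup Γ) (fun g w => ρ₀ g w) := by
  letI : Fintype K := Fintype.ofFinite K
  rw [Nat.card_eq_fintype_card] at hkK
  obtain ⟨Φ, hΦ, hΦlam⟩ := exists_extend' (ZMod p) K n
  let ρ : Representation K Γ (Fin n → K) := (Φ : _ →* _).comp ρ₀
  have hρ : ∀ g, ρ g = Φ (ρ₀ g) := fun g => rfl
  have hA : (ρ a - 1) * (ρ a - 1) = 0 := by
    rw [hρ, ← map_one Φ, ← map_sub, ← map_mul, hA₀, map_zero]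
  have hB : (ρ b - 1) * (ρ b - 1) = 0 := by
    rw [hρ, ← map_one Φ, ← map_sub, ← map_mul, hB₀, map_zero]
  have hnp' : ¬ Cfsg.H5.QP.PG p ρ := by
    intro hPG
    apply hnp
    intro g
    obtain ⟨j, hj⟩ := hPG g
    refine ⟨j, hfaith _ ?_⟩
    apply hΦ
    rw [map_one, map_pow ρ₀, map_pow Φ, ← hρ]
    exact hj
  have h1 := exists_natSec (K := K) (p := p) a b hgen hp e k hkK hk0 hab
    (Module.finrank K (Fin n → K)) (Fin n → K) ρ rfl hA hB hnp'
  refine descend ρ₀ ρ ?_ h1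
  intro lam g v
  rw [hρ]
  exact hΦlam lam (ρ₀ g) v

/-- two quadratic generators of a group acting faithfully, not a `p`-group -/
theorem rep_natSec (hp : p ≠ 2)
    (a b : Γ) (hgen : Subgroup.closure ({a, b} : Set Γ) = ⊤) (n : ℕ)
    (ρ₀ : Representation (ZMod p) Γ (Fin n → ZMod p)) (hfaith : ∀ h, ρ₀ h = 1 → h = 1)
    (hA₀ : (ρ₀ a - 1) * (ρ₀ a - 1) = 0) (hB₀ : (ρ₀ b - 1) * (ρ₀ b - 1) = 0)
    (hnp : ¬ IsPGroup p Γ) : NatSec p (⊥ : Subgroup Γ) (fun g w => ρ₀ g w) := by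
  have hpp : p.Prime := Fact.out
  obtain ⟨e, k, hkp, hek⟩ := Nat.exists_eq_pow_mul_and_not_dvd
    (orderOf_pos (a * b)).ne' p hpp.ne_one
  have hk0 : 0 < k := by
    rcases Nat.eq_zero_or_pos k with h | h
    · exfalso; exact hkp (h ▸ dvd_zero p)
    · exact h
  have hkc : k.Coprime p := ((Nat.Prime.coprime_iff_not_dvd hpp).2 hkp).symm
  obtain ⟨d, hd0, hkd⟩ := Cfsg.Agent.S0593.exists_dvd_pow_sub_one hpp.pos hkc hk0
  have hab' : (a * b) ^ (p ^ e * k) = 1 := by
    rw [← hek]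
    exact pow_orderOf_eq_one _
  exact rep_natSec_core hp (GaloisField p d) a b hgen n ρ₀
    hfaith hA₀ hB₀ hnp e k hk0 hab' (by rw [GaloisField.card p d hd0]; exact hkd)

/-- a finite group with a faithful representation over `ZMod p`, `p` odd, in which some element
outside `O_p` acts quadratically has a natural-module section -/
theorem natSec_of_quadratic (hp : p ≠ 2) (n : ℕ)
    (ρ : Representation (ZMod p) Γ (Fin n → ZMod p))
    (hfaith : ∀ g, ρ g = 1 → g = 1) (a : Γ) (hA : (ρ a - 1) * (ρ a - 1) = 0)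
    (hna : a ∉ Cfsg.pCore p Γ) : NatSec p (⊥ : Subgroup Γ) (fun g w => ρ g w) := by
  have hBS : ∃ x y : Γ, (∃ h : Γ, x = h * a * h⁻¹) ∧ (∃ h : Γ, y = h * a * h⁻¹) ∧
      ¬ IsPGroup p (Subgroup.closure ({x, y} : Set Γ)) := by
    by_contra hcon
    push Not at hcon
    apply hna
    refine Cfsg.Agent.Lib.Helper1.baer_suzuki (p := p)
      {x : Γ | ∃ h : Γ, x = h * a * h⁻¹} ?_ ?_ _ ⟨1, by simp⟩
    · rintro g x ⟨h, rfl⟩
      exact ⟨g * h, by group⟩
    · intro x hx y hy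
      exact hcon x y hx hy
  obtain ⟨x, y, ⟨h₁, hx⟩, ⟨h₂, hy⟩, hnp⟩ := hBS
  obtain ⟨Δ, hΔ⟩ : ∃ Δ : Subgroup Γ, Δ = Subgroup.closure {x, y} := ⟨_, rfl⟩
  have hxΔ : x ∈ Δ := by rw [hΔ]; exact Subgroup.subset_closure (by simp)
  have hyΔ : y ∈ Δ := by rw [hΔ]; exact Subgroup.subset_closure (by simp)
  rw [← hΔ] at hnp
  have hquad : ∀ h : Γ, (ρ (h * a * h⁻¹) - 1) * (ρ (h * a * h⁻¹) - 1) = 0 := by
    intro h
    have h1 : ρ (h * a * h⁻¹) - 1 = ρ h * (ρ a - 1) * ρ h⁻¹ := by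
      rw [map_mul, map_mul, mul_sub, sub_mul, mul_one, ← map_mul ρ h h⁻¹, mul_inv_cancel, map_one]
    have h2 : ρ h⁻¹ * ρ h = 1 := by rw [← map_mul, inv_mul_cancel, map_one]
    rw [h1]
    calc ρ h * (ρ a - 1) * ρ h⁻¹ * (ρ h * (ρ a - 1) * ρ h⁻¹)
        = ρ h * (ρ a - 1) * (ρ h⁻¹ * ρ h) * (ρ a - 1) * ρ h⁻¹ := by noncomm_ring
      _ = ρ h * ((ρ a - 1) * (ρ a - 1)) * ρ h⁻¹ := by rw [h2]; noncomm_ring
      _ = 0 := by rw [hA, mul_zero, zero_mul]
  let ρΔ : Representation (ZMod p) Δ (Fin n → ZMod p) := ρ.comp Δ.subtype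
  have hρΔ : ∀ g : Δ, ρΔ g = ρ (g : Γ) := fun g => rfl
  have h3 : NatSec p (⊥ : Subgroup ↥Δ) (fun g w => ρΔ g w) := by
    refine rep_natSec hp (⟨x, hxΔ⟩ : Δ) ⟨y, hyΔ⟩
      (Cfsg.H5.SL2S.closure_pair_top x y Δ hΔ hxΔ hyΔ) n ρΔ ?_ ?_ ?_ hnp
    · intro g hg
      exact Subtype.ext (hfaith _ (by rw [← hρΔ]; exact hg))
    · rw [hρΔ]
      simp only
      rw [hx]
      exact hquad h₁
    · rw [hρΔ]
      simp only
      rw [hy]
      exact hquad h₂
  exact NatSec.map_injective (act := fun g w => ρ g w) Δ.subtype Δ.subtype_injective h3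

end main

end Cfsg.Agent.Lib.Helper20.QdE
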