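import Mathlib
import Cfsg.Agent.H5.Linearize
import Cfsg.Agent.Lib.Helper20.QdExt

/-!
# A natural-module section from a quadratic action on an elementary abelian group
-/

set_option autoImplicit false
set_option linter.style.haveILetI false

namespace Cfsg.Agent.Lib.Helper20.QdA

open Cfsg.Agent.Lib.Helper20.QdS Cfsg.Agent.Lib.Helper20.QdE

/-- a group acting on a finite elementary abelian `p`-group `A` (`p` odd) with a quadratically
acting element outside `O_p` modulo the kernel: natural-module section on `A`, with the subgroup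
`Λ` containing the kernel of the action -/
theorem natSec_of_action {Γ : Type*} [Group Γ] [Finite Γ] {p : ℕ} [Fact p.Prime] (hp : p ≠ 2)
    {A : Type*} [Group A] [Finite A] (hcomm : ∀ x y : A, x * y = y * x)
    (hexp : ∀ x : A, x ^ p = 1)
    (σ : Γ →* MulAut A) (a : Γ) (hq : ∀ w : A, σ a (σ a w * w⁻¹) = σ a w * w⁻¹)
    (C : Subgroup Γ) [C.Normal] (hC : C = σ.ker)
    (hna : (QuotientGroup.mk a : Γ ⧸ C) ∉ Cfsg.pCore p (Γ ⧸ C)) :
    NatSec p C (fun g (w : Additive A) => Additive.ofMul (σ g w.toMul)) := by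
  subst hC
  have hinj := QuotientGroup.kerLift_injective σ
  obtain ⟨n, θA, ρ, hρ⟩ := Cfsg.H5.Lin.exists_rep_of_comm hcomm hexp (QuotientGroup.kerLift σ)
  have hfaith : ∀ g, ρ g = 1 → g = 1 := by
    intro g hg
    have h1 := (Cfsg.H5.Lin.rep_eq_one_iff_aux θA ρ _ hρ g).1 hg
    apply hinj
    rw [h1, map_one]
  have hA : (ρ (QuotientGroup.mk a) - 1) * (ρ (QuotientGroup.mk a) - 1) = 0 := by
    apply Cfsg.H5.Lin.rep_quadratic_aux θA ρ _ hρ
    intro w
    rw [QuotientGroup.kerLift_mk]
    exact hq w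
  have h1 := natSec_of_quadratic hp n ρ hfaith _ hA hna
  have h2 : NatSec p (⊥ : Subgroup (Γ ⧸ σ.ker)) (fun (g : Γ ⧸ σ.ker) (w : Additive A) =>
      Additive.ofMul (QuotientGroup.kerLift σ g w.toMul)) := by
    refine NatSec.pullback θA.toAddMonoidHom θA.surjective ?_ h1
    intro g w
    exact (hρ g w.toMul).symm
  have h3 := NatSec.comap_surjective (QuotientGroup.mk' σ.ker) (QuotientGroup.mk'_surjective _) h2
  have h4 : (⊥ : Subgroup (Γ ⧸ σ.ker)).comap (QuotientGroup.mk' σ.ker) = σ.ker := by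
    rw [MonoidHom.comap_bot, QuotientGroup.ker_mk']
  rw [h4] at h3
  exact h3

end Cfsg.Agent.Lib.Helper20.QdA
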