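import Mathlib
import Cfsg.Agent.H5.DicksonP
import Cfsg.Agent.Lib.Helper16.Qd
import Cfsg.Agent.Lib.Helper27.Involves

/-!
# Recognition of `Qd(p)` as a section

`involves_qd_of_datum`: let `Λ ≤ X` map onto `SL(2, p)` by `θ`, let `P ≤ Λ` be a `p`-subgroup
(`p` odd) normalized by `Λ` and killed by `θ`, and let `R ⊆ P × F_p²` be the graph of a
`Λ`-equivariant surjective homomorphism from a subgroup of `P` onto the natural module.  Then `Qd(p)`
is involved in `X`.  (Frattini argument on a Sylow `2`-subgroup of the preimage of `{±1}`: its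
normalizer `L₁` still covers `SL(2, p)` and meets `P` inside the kernel of the section, so the
section splits over `L₁`.)
-/

set_option autoImplicit false
set_option linter.style.haveILetI false

namespace Cfsg.Agent.Lib.Helper20.QdRec

open Cfsg.Agent.Lib.Helper16

section

variable {p : ℕ} [hpF : Fact p.Prime]

/-- the subgroup `{1, -1}` of `SL(2, p)` -/
def pmOne (p : ℕ) : Subgroup (Matrix.SpecialLinearGroup (Fin 2) (ZMod p)) where
  carrier := {s | s = 1 ∨ s = -1}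
  one_mem' := Or.inl rfl
  mul_mem' := by
    rintro a b (rfl | rfl) (rfl | rfl)
    · left; rw [one_mul]
    · right; rw [one_mul]
    · right; rw [mul_one]
    · left; rw [neg_mul_neg, one_mul]
  inv_mem' := by
    rintro a (rfl | rfl)
    · left; rw [inv_one]
    · right
      apply inv_eq_of_mul_eq_one_right
      rw [neg_mul_neg, one_mul]

theorem mem_pmOne {s : Matrix.SpecialLinearGroup (Fin 2) (ZMod p)} :
    s ∈ pmOne p ↔ s = 1 ∨ s = -1 := Iff.rfl

instance pmOne_normal : (pmOne p).Normal := by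
  constructor
  rintro n (rfl | rfl) g
  · left; rw [mul_one, mul_inv_cancel]
  · right; rw [mul_neg, mul_one, neg_mul, mul_inv_cancel]

theorem neg_one_mulVec (c : Fin 2 → ZMod p) :
    Matrix.mulVec (((-1 : Matrix.SpecialLinearGroup (Fin 2) (ZMod p)) :
      Matrix.SpecialLinearGroup (Fin 2) (ZMod p)) : Matrix (Fin 2) (Fin 2) (ZMod p)) c = -c := by
  rw [Matrix.SpecialLinearGroup.coe_neg, Matrix.SpecialLinearGroup.coe_one, Matrix.neg_mulVec,
    Matrix.one_mulVec]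

theorem two_ne_zero_zmod (hp : p ≠ 2) : (2 : ZMod p) ≠ 0 := by
  intro h
  have h1 : ((2 : ℕ) : ZMod p) = 0 := by exact_mod_cast h
  rw [ZMod.natCast_eq_zero_iff] at h1
  have h2 := (Nat.prime_dvd_prime_iff_eq hpF.out Nat.prime_two).1 h1
  exact hp h2

end

theorem involves_qd_of_datum {X : Type*} [Group X] [Finite X] {p : ℕ} [hpF : Fact p.Prime]
    (hp : p ≠ 2) (Λ : Subgroup X)
    (θ : ↥Λ →* Matrix.SpecialLinearGroup (Fin 2) (ZMod p)) (hθ : Function.Surjective θ)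
    (P : Subgroup X) (hP : IsPGroup p P) (hPΛ : P ≤ Λ)
    (hnorm : ∀ l ∈ Λ, ∀ x ∈ P, l * x * l⁻¹ ∈ P)
    (hPker : ∀ x (hx : x ∈ P), θ ⟨x, hPΛ hx⟩ = 1)
    (R : Set (X × (Fin 2 → ZMod p)))
    (hdom : ∀ x c, (x, c) ∈ R → x ∈ P)
    (hone : ((1 : X), (0 : Fin 2 → ZMod p)) ∈ R)
    (hmul : ∀ x c x' c', (x, c) ∈ R → (x', c') ∈ R → (x * x', c + c') ∈ R)
    (hinv : ∀ x c, (x, c) ∈ R → (x⁻¹, -c) ∈ R)
    (hfunc : ∀ c, ((1 : X), c) ∈ R → c = 0)
    (hsurj : ∀ c, ∃ x, (x, c) ∈ R)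
    (hequiv : ∀ (l : ↥Λ) x c, (x, c) ∈ R → ((l : X) * x * (l : X)⁻¹,
      Matrix.mulVec ((θ l : Matrix.SpecialLinearGroup (Fin 2) (ZMod p)) :
        Matrix (Fin 2) (Fin 2) (ZMod p)) c) ∈ R) :
    Cfsg.Involves ↥(Cfsg.qd p) X := by
  classical
  haveI : Fact (Nat.Prime 2) := ⟨Nat.prime_two⟩
  -- a `2`-element mapping to `-1`
  obtain ⟨t₀, ht₀⟩ := hθ (-1)
  obtain ⟨e, m, hm2, hem⟩ := Nat.exists_eq_pow_mul_and_not_dvd (orderOf_pos t₀).ne' 2
    (by norm_num)
  obtain ⟨t, ht⟩ : ∃ t : ↥Λ, t = t₀ ^ m := ⟨_, rfl⟩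
  have hmodd : Odd m := Nat.odd_iff.2 (Nat.mod_two_ne_zero.1 (fun h => hm2 (Nat.dvd_of_mod_eq_zero h)))
  have htθ : θ t = -1 := by
    rw [ht, map_pow, ht₀]
    exact hmodd.neg_one_pow
  have ht2 : t ^ (2 ^ e) = 1 := by
    rw [ht, ← pow_mul, mul_comm, ← hem]
    exact pow_orderOf_eq_one t₀
  -- the preimage of `{±1}`
  obtain ⟨M, hM⟩ : ∃ M : Subgroup ↥Λ, M = (pmOne p).comap θ := ⟨_, rfl⟩
  haveI hMn : M.Normal := by
    rw [hM]
    exact Subgroup.Normal.comap pmOne_normal θ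
  have hmemM : ∀ l : ↥Λ, l ∈ M ↔ θ l = 1 ∨ θ l = -1 := by
    intro l
    rw [hM, Subgroup.mem_comap, mem_pmOne]
  have htM : t ∈ M := (hmemM t).2 (Or.inr htθ)
  have h2grp : IsPGroup 2 (Subgroup.zpowers (⟨t, htM⟩ : ↥M)) := by
    apply Cfsg.H5.Dickson.isPGroup_zpowers (k := e)
    apply Subtype.ext
    rw [Subgroup.coe_pow, Subgroup.coe_one]
    exact ht2
  obtain ⟨T, hT⟩ := h2grp.exists_le_sylow
  have hfr := Sylow.normalizer_sup_eq_top T
  obtain ⟨T', hT'⟩ : ∃ T' : Subgroup ↥Λ, T' = (T : Subgroup ↥M).map M.subtype := ⟨_, rfl⟩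
  rw [← hT'] at hfr
  obtain ⟨L₁, hL₁⟩ : ∃ L₁ : Subgroup ↥Λ, L₁ = Subgroup.normalizer (T' : Set ↥Λ) := ⟨_, rfl⟩
  rw [← hL₁] at hfr
  have htT' : t ∈ T' := by
    rw [hT']
    exact ⟨⟨t, htM⟩, hT (Subgroup.mem_zpowers _), rfl⟩
  have hT'L₁ : T' ≤ L₁ := by
    rw [hL₁]
    exact Subgroup.le_normalizer
  have hT'2 : IsPGroup 2 T' := by
    rw [hT']
    exact T.isPGroup'.map _
  -- `L₁` covers `SL(2, p)`
  have hcover : ∀ s : Matrix.SpecialLinearGroup (Fin 2) (ZMod p), ∃ l ∈ L₁, θ l = s := by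
    intro s
    obtain ⟨l₀, hl₀⟩ := hθ s
    have h1 : l₀ ∈ L₁ ⊔ M := by rw [hfr]; trivial
    obtain ⟨l₁, hl₁, m', hm', rfl⟩ := Subgroup.mem_sup_of_normal_right.1 h1
    rcases (hmemM m').1 hm' with h2 | h2
    · refine ⟨l₁, hl₁, ?_⟩
      rw [← hl₀, map_mul, h2, mul_one]
    · refine ⟨l₁ * t, L₁.mul_mem hl₁ (hT'L₁ htT'), ?_⟩
      rw [← hl₀, map_mul, map_mul, h2, htθ]
  -- elements of `P ∩ L₁` are killed by the section
  have hkey : ∀ x c, (x, c) ∈ R → ∀ hx : x ∈ Λ, (⟨x, hx⟩ : ↥Λ) ∈ L₁ → c = 0 := by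
    intro x c hxc hxΛ hxL
    have hxP : x ∈ P := hdom x c hxc
    -- the commutator with `t`
    obtain ⟨cm, hcm⟩ : ∃ cm : ↥Λ, cm = ⟨x, hxΛ⟩ * t * (⟨x, hxΛ⟩ : ↥Λ)⁻¹ * t⁻¹ := ⟨_, rfl⟩
    have hcmT : cm ∈ T' := by
      rw [hcm]
      rw [hL₁] at hxL
      exact T'.mul_mem ((Subgroup.mem_normalizer_iff.1 hxL t).1 htT') (T'.inv_mem htT')
    have hcmP : (cm : X) ∈ P := by
      have h1 : (cm : X) = x * ((t : X) * x⁻¹ * (t : X)⁻¹) := by
        rw [hcm]
        simp only [Subgroup.coe_mul, Subgroup.coe_inv]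
        group
      rw [h1]
      exact P.mul_mem hxP (hnorm _ t.2 _ (P.inv_mem hxP))
    have hcm1 : cm = 1 := by
      obtain ⟨j, hj⟩ := hT'2 ⟨cm, hcmT⟩
      obtain ⟨i, hi⟩ := hP ⟨(cm : X), hcmP⟩
      have hj' : cm ^ (2 ^ j) = 1 := by
        have := congrArg Subtype.val hj
        simpa using this
      have hi' : cm ^ (p ^ i) = 1 := by
        have h1 := congrArg Subtype.val hi
        apply Subtype.ext
        simpa using h1
      have h1 : orderOf cm ∣ 2 ^ j := orderOf_dvd_of_pow_eq_one hj'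
      have h2 : orderOf cm ∣ p ^ i := orderOf_dvd_of_pow_eq_one hi'
      have hcop : Nat.Coprime (2 ^ j) (p ^ i) := by
        apply Nat.Coprime.pow
        exact (Nat.coprime_primes Nat.prime_two hpF.out).2 (Ne.symm hp)
      have h3 : orderOf cm = 1 := Nat.eq_one_of_dvd_coprimes hcop h1 h2
      exact orderOf_eq_one_iff.1 h3
    have hcomm : (t : X) * x * (t : X)⁻¹ = x := by
      have h1 : (cm : X) = 1 := by rw [hcm1]; rfl
      rw [hcm] at h1
      simp only [Subgroup.coe_mul, Subgroup.coe_inv] at h1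
      have h2 : x * (t : X) = (t : X) * x := by
        calc x * (t : X) = (x * (t : X) * x⁻¹ * (t : X)⁻¹) * ((t : X) * x) := by group
          _ = (t : X) * x := by rw [h1, one_mul]
      rw [← h2, mul_inv_cancel_right]
    have h1 := hequiv t x c hxc
    rw [hcomm, htθ, neg_one_mulVec] at h1
    have h2 := hmul x (-c) x⁻¹ (-c) h1 (hinv x c hxc)
    rw [mul_inv_cancel] at h2
    have h3 := hfunc _ h2
    funext i
    have h4 := congrFun h3 i
    simp only [Pi.add_apply, Pi.neg_apply, Pi.zero_apply] at h4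
    have h5 : (2 : ZMod p) * c i = 0 := by linear_combination (-1 : ZMod p) * h4
    rcases mul_eq_zero.1 h5 with h6 | h6
    · exact absurd h6 (two_ne_zero_zmod hp)
    · exact h6
  -- the graph of the section homomorphism
  let Ξ : Subgroup (X × ↥(affSL3 (ZMod p))) :=
    { carrier := {yq | ∃ (x : X) (l : ↥Λ), l ∈ L₁ ∧ (x, affTr yq.2) ∈ R ∧ yq.1 = x * (l : X) ∧
        affLin yq.2 = θ l}
      one_mem' := by
        refine ⟨1, 1, L₁.one_mem, ?_, ?_, ?_⟩
        · show ((1 : X), affTr (1 : ↥(affSL3 (ZMod p)))) ∈ R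
          rw [affTr_one]
          exact hone
        · show (1 : X) = 1 * ((1 : ↥Λ) : X)
          rw [Subgroup.coe_one, mul_one]
        · show affLin (1 : ↥(affSL3 (ZMod p))) = θ 1
          rw [map_one, map_one]
      mul_mem' := by
        rintro ⟨y, q⟩ ⟨y', q'⟩ ⟨x, l, hl, hxR, hy, hq⟩ ⟨x', l', hl', hxR', hy', hq'⟩
        simp only at hxR hy hq hxR' hy' hq'
        refine ⟨x * ((l : X) * x' * (l : X)⁻¹), l * l', L₁.mul_mem hl hl', ?_, ?_, ?_⟩
        · show (x * ((l : X) * x' * (l : X)⁻¹), affTr (q * q')) ∈ R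
          rw [affTr_mul, hq, add_comm]
          exact hmul _ _ _ _ hxR (hequiv l x' _ hxR')
        · show y * y' = x * ((l : X) * x' * (l : X)⁻¹) * ((l * l' : ↥Λ) : X)
          rw [hy, hy', Subgroup.coe_mul]
          group
        · show affLin (q * q') = θ (l * l')
          rw [map_mul, map_mul, hq, hq']
      inv_mem' := by
        rintro ⟨y, q⟩ ⟨x, l, hl, hxR, hy, hq⟩
        simp only at hxR hy hq
        refine ⟨(l : X)⁻¹ * x⁻¹ * (l : X), l⁻¹, L₁.inv_mem hl, ?_, ?_, ?_⟩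
        · show ((l : X)⁻¹ * x⁻¹ * (l : X), affTr q⁻¹) ∈ R
          have h1 := affTr_mul q⁻¹ q
          rw [inv_mul_cancel, affTr_one, map_inv, hq, ← map_inv] at h1
          have h2 : affTr q⁻¹ = -(Matrix.mulVec ((θ l⁻¹ :
              Matrix.SpecialLinearGroup (Fin 2) (ZMod p)) : Matrix (Fin 2) (Fin 2) (ZMod p))
                (affTr q)) := by
            rw [eq_neg_iff_add_eq_zero, add_comm]
            exact h1.symm
          rw [h2, ← Matrix.mulVec_neg]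
          have h3 := hequiv l⁻¹ x⁻¹ _ (hinv x _ hxR)
          rw [Subgroup.coe_inv, inv_inv] at h3
          exact h3
        · show y⁻¹ = (l : X)⁻¹ * x⁻¹ * (l : X) * ((l⁻¹ : ↥Λ) : X)
          rw [hy, Subgroup.coe_inv]
          group
        · show affLin q⁻¹ = θ l⁻¹
          rw [map_inv, map_inv, hq] }
  have hΞ : ∀ y q, (y, q) ∈ Ξ ↔ ∃ (x : X) (l : ↥Λ), l ∈ L₁ ∧ (x, affTr q) ∈ R ∧
      y = x * (l : X) ∧ affLin q = θ l := fun y q => Iff.rfl
  -- the first projection is injective on `Ξ`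
  have hfst : ∀ q : ↥(affSL3 (ZMod p)), ((1 : X), q) ∈ Ξ → q = 1 := by
    intro q hq
    obtain ⟨x, l, hl, hxR, hy, hqθ⟩ := (hΞ 1 q).1 hq
    have hxP : x ∈ P := hdom _ _ hxR
    have hxl : (⟨x, hPΛ hxP⟩ : ↥Λ) = l⁻¹ := by
      apply Subtype.ext
      rw [Subgroup.coe_inv]
      exact eq_inv_of_mul_eq_one_left hy.symm
    have hc0 : affTr q = 0 := by
      refine hkey x _ hxR (hPΛ hxP) ?_
      rw [hxl]
      exact L₁.inv_mem hl
    have hθl : θ l = 1 := by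
      have h1 := hPker x hxP
      rw [hxl, map_inv, inv_eq_one] at h1
      exact h1
    apply aff_ext
    · rw [hqθ, hθl, map_one]
    · rw [hc0, affTr_one]
  have hinj : Function.Injective ((MonoidHom.fst X ↥(affSL3 (ZMod p))).comp Ξ.subtype) := by
    rw [injective_iff_map_eq_one]
    rintro ⟨⟨y, q⟩, hyq⟩ h1
    have h2 : y = 1 := h1
    subst h2
    have h3 := hfst q hyq
    subst h3
    rfl
  have hsur : Function.Surjective ((MonoidHom.snd X ↥(affSL3 (ZMod p))).comp Ξ.subtype) := by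
    intro q
    obtain ⟨l, hl, hlq⟩ := hcover (affLin q)
    obtain ⟨x, hx⟩ := hsurj (affTr q)
    exact ⟨⟨(x * (l : X), q), (hΞ _ _).2 ⟨x, l, hl, hx, rfl, hlq.symm⟩⟩, rfl⟩
  rw [qd_eq_affSL3]
  exact Cfsg.Agent.Lib.Helper27.involves_of_injective _ hinj
    (Cfsg.Agent.Lib.Helper27.involves_of_surjective _ hsur)

end Cfsg.Agent.Lib.Helper20.QdRec
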