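import Mathlib
import Cfsg.Agent.H5.SL2pStable
import Cfsg.Agent.Lib.Helper20.QdAct
import Cfsg.Agent.Lib.Helper20.QdRec

/-!
# Failure of `p`-stability produces a section `Qd(p)`

`involves_qd_of_not_inOp`: if `P` is a normal `p`-subgroup of the finite group `X` (`p` odd) and
`a` acts quadratically on `P` but does not lie in the preimage of `O_p(X / C_X(P))`, then `Qd(p)`
is involved in `X`.  (The reduction to the Frattini quotient follows
`Cfsg.H5.APS.isPStableOnSection_of_autStable` and `Cfsg.H5.SL2p.inOp_of_not_hasSectionP`.)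
-/

set_option autoImplicit false
set_option linter.style.haveILetI false

namespace Cfsg.Agent.Lib.Helper20.QdSt

open Cfsg Cfsg.H5.APS
open scoped commutatorElement

universe u

theorem involves_qd_of_not_inOp {X : Type u} [Group X] [Finite X] {p : ℕ} [Fact p.Prime]
    (hp : p ≠ 2) (P : Subgroup X) [hPn : P.Normal] (hP : IsPGroup p P) (a : X)
    (hq : ⁅⁅P, Subgroup.zpowers a⁆, Subgroup.zpowers a⁆ = ⊥)
    (hno : ¬ Cfsg.H5.PSt.InOp p P a) : Cfsg.Involves ↥(Cfsg.qd p) X := by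
  have hq' : ⁅⁅P, Subgroup.zpowers a⁆, Subgroup.zpowers a⁆ ≤ (frattini ↥P).map P.subtype := by
    rw [hq]
    exact bot_le
  have hΦmem : ∀ c : P, (c : X) ∈ (frattini ↥P).map P.subtype ↔ c ∈ frattini ↥P := by
    intro c
    exact Subgroup.mem_map_iff_mem P.subtype_injective
  have hcomm : ∀ x y : ↥P ⧸ frattini ↥P, x * y = y * x := by
    intro x y
    obtain ⟨x, rfl⟩ := QuotientGroup.mk_surjective x
    obtain ⟨y, rfl⟩ := QuotientGroup.mk_surjective y
    rw [← QuotientGroup.mk_mul, ← QuotientGroup.mk_mul, QuotientGroup.eq]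
    apply Cfsg.Agent.Lib.Helper1.IsPGroup.commutator_le_frattini hP
    have : (x * y)⁻¹ * (y * x) = ⁅y⁻¹, x⁻¹⁆ := by
      rw [commutatorElement_def]; group
    rw [this]
    exact Subgroup.commutator_mem_commutator (Subgroup.mem_top _) (Subgroup.mem_top _)
  have hexp : ∀ x : ↥P ⧸ frattini ↥P, x ^ p = 1 := by
    intro x
    obtain ⟨x, rfl⟩ := QuotientGroup.mk_surjective x
    rw [← QuotientGroup.mk_pow, QuotientGroup.eq_one_iff]
    exact Cfsg.Agent.Lib.Helper1.IsPGroup.pow_mem_frattini hP x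
  let σ : X →* MulAut (↥P ⧸ frattini ↥P) := (frattiniAut ↥P).comp (MulAut.conjNormal (H := P))
  have hσ : ∀ (g : X) (x : P), σ g (QuotientGroup.mk x) =
      QuotientGroup.mk (MulAut.conjNormal g x) := fun g x => rfl
  haveI hCn : (Cfsg.sectionKernel P ((frattini ↥P).map P.subtype)).Normal :=
    sectionKernel_normal _ _
  have hker : Cfsg.sectionKernel P ((frattini ↥P).map P.subtype) = σ.ker := by
    ext g
    rw [MonoidHom.mem_ker, mem_sectionKernel_iff]
    constructor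
    · intro hg
      apply MulEquiv.ext
      intro q
      obtain ⟨x, rfl⟩ := QuotientGroup.mk_surjective q
      rw [hσ, MulAut.one_apply, QuotientGroup.eq, ← hΦmem]
      have h1 := hg _ (P.inv_mem (P.inv_mem (P.inv_mem x.2)))
      have h2 : ⁅((x : X)⁻¹)⁻¹⁻¹, g⁆ = (((MulAut.conjNormal g x)⁻¹ * x : P) : X)⁻¹ := by
        rw [commutatorElement_def, Subgroup.coe_mul, Subgroup.coe_inv, MulAut.conjNormal_apply]
        group
      rw [h2] at h1
      have h3 := Subgroup.inv_mem _ h1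
      rwa [inv_inv] at h3
    · intro hg v hv
      have h1 := congrArg (fun f : MulAut (↥P ⧸ frattini ↥P) =>
        f (QuotientGroup.mk (⟨v, hv⟩ : P)⁻¹)) hg
      simp only [MulAut.one_apply] at h1
      rw [hσ, QuotientGroup.eq, ← hΦmem] at h1
      have h2 : ⁅v, g⁆ =
          (((MulAut.conjNormal g (⟨v, hv⟩ : P)⁻¹)⁻¹ * (⟨v, hv⟩ : P)⁻¹ : P) : X)⁻¹ := by
        rw [commutatorElement_def, Subgroup.coe_mul, Subgroup.coe_inv, MulAut.conjNormal_apply,
          Subgroup.coe_inv]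
        group
      rw [h2]
      exact Subgroup.inv_mem _ h1
  have hquad : ∀ w : ↥P ⧸ frattini ↥P, σ a (σ a w * w⁻¹) = σ a w * w⁻¹ := by
    intro w
    obtain ⟨x, rfl⟩ := QuotientGroup.mk_surjective w
    rw [hσ, ← QuotientGroup.mk_inv, ← QuotientGroup.mk_mul, hσ, QuotientGroup.eq, ← hΦmem]
    have hc : ⁅a, (x : X)⁆ ∈ ⁅P, Subgroup.zpowers a⁆ := by
      rw [Subgroup.commutator_comm]
      exact Subgroup.commutator_mem_commutator (Subgroup.mem_zpowers a) x.2
    have h1 : ⁅(⁅a, (x : X)⁆)⁻¹, a⁆ ∈ (frattini ↥P).map P.subtype :=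
      hq' (Subgroup.commutator_mem_commutator (Subgroup.inv_mem _ hc) (Subgroup.mem_zpowers a))
    have h2 : ⁅(⁅a, (x : X)⁆)⁻¹, a⁆ = (((MulAut.conjNormal a (MulAut.conjNormal a x * x⁻¹))⁻¹ *
        (MulAut.conjNormal a x * x⁻¹) : P) : X)⁻¹ := by
      simp only [commutatorElement_def, Subgroup.coe_mul, Subgroup.coe_inv,
        MulAut.conjNormal_apply]
      group
    rw [h2] at h1
    have h3 := Subgroup.inv_mem _ h1
    rwa [inv_inv] at h3
  -- the image of `a` is not in `O_p`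
  have hna : (QuotientGroup.mk a : X ⧸ Cfsg.sectionKernel P ((frattini ↥P).map P.subtype)) ∉
      Cfsg.pCore p (X ⧸ Cfsg.sectionKernel P ((frattini ↥P).map P.subtype)) := by
    intro hmem
    apply hno
    obtain ⟨D, hD⟩ : ∃ D : Subgroup X, D =
        (Cfsg.pCore p (X ⧸ Cfsg.sectionKernel P ((frattini ↥P).map P.subtype))).comap
          (QuotientGroup.mk' _) := ⟨_, rfl⟩
    have hDn : D.Normal := by
      rw [hD]
      haveI : (Cfsg.pCore p (X ⧸ Cfsg.sectionKernel P ((frattini ↥P).map P.subtype))).Normal :=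
        Cfsg.H5.pCore_normal _ _
      exact Subgroup.Normal.comap inferInstance _
    have hKD : Cfsg.sectionKernel P ((frattini ↥P).map P.subtype) ≤ D := by
      intro g hg
      rw [hD, Subgroup.mem_comap, QuotientGroup.mk'_apply, (QuotientGroup.eq_one_iff g).2 hg]
      exact Subgroup.one_mem _
    obtain ⟨k, hk⟩ : ∃ k : ℕ,
        (Cfsg.sectionKernel P ((frattini ↥P).map P.subtype)).relIndex D = p ^ k := by
      obtain ⟨k, hk⟩ := IsPGroup.iff_card.1 (Cfsg.H5.pCore_isPGroup (p := p)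
        (G := X ⧸ Cfsg.sectionKernel P ((frattini ↥P).map P.subtype)))
      exact ⟨k, by rw [hD, relIndex_comap_mk, hk]⟩
    have haD : a ∈ D := by
      rw [hD]
      exact hmem
    haveI := hDn
    refine ⟨D, ?_, ?_, ?_, ?_, haD⟩
    · refine le_trans ?_ hKD
      intro c hc
      rw [mem_sectionKernel_iff]
      intro v hv
      have h1 : ⁅v, c⁆ = 1 := by
        rw [commutatorElement_eq_one_iff_mul_comm]
        exact Subgroup.mem_centralizer_iff.1 hc v hv
      rw [h1]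
      exact one_mem _
    · rw [Subgroup.normalizer_eq_top]
      exact le_top
    · rw [Subgroup.normalizer_eq_top (H := D)]
      exact le_top
    · intro l hl
      have h1 : l ^ (p ^ k) ∈ Cfsg.sectionKernel P ((frattini ↥P).map P.subtype) := by
        rw [← hk]
        exact Subgroup.pow_relIndex_mem _ hl
      obtain ⟨e, he⟩ := Cfsg.H5.SL2p.pow_mem_centralizer_of_mem_sectionKernel P hP h1
      exact ⟨k + e, by rw [pow_add, pow_mul]; exact he⟩
  obtain ⟨Λ, θ, R, hKΛ, hθ, hfunc, hsurj, hequiv⟩ :=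
    Cfsg.Agent.Lib.Helper20.QdA.natSec_of_action hp hcomm hexp σ a hquad _ hker hna
  have hPK : P ≤ Cfsg.sectionKernel P ((frattini ↥P).map P.subtype) := by
    intro x hx
    rw [mem_sectionKernel_iff]
    intro v hv
    have h1 : (⁅(⟨v, hv⟩ : P), (⟨x, hx⟩ : P)⁆ : P) ∈ frattini ↥P :=
      Cfsg.Agent.Lib.Helper1.IsPGroup.commutator_le_frattini hP
        (Subgroup.commutator_mem_commutator (Subgroup.mem_top _) (Subgroup.mem_top _))
    rw [← hΦmem] at h1
    exact h1
  have hσP : ∀ x ∈ P, σ x = 1 := by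
    intro x hx
    have h1 := hPK hx
    rw [hker] at h1
    exact h1
  have hmk : ∀ (l : X) (x : X) (hx : x ∈ P),
      σ l (QuotientGroup.mk (⟨x, hx⟩ : P)) =
        QuotientGroup.mk (⟨l * x * l⁻¹, hPn.conj_mem x hx l⟩ : P) := by
    intro l x hx
    rw [hσ]
    congr 1
  refine Cfsg.Agent.Lib.Helper20.QdRec.involves_qd_of_datum hp Λ θ hθ P hP (hPK.trans hKΛ)
    (fun l _ x hx => hPn.conj_mem x hx l) ?_
    {xc | ∃ hx : xc.1 ∈ P,
      (Additive.ofMul (QuotientGroup.mk (⟨xc.1, hx⟩ : P) : ↥P ⧸ frattini ↥P), xc.2) ∈ R}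
    ?_ ?_ ?_ ?_ ?_ ?_ ?_
  · -- `P` is killed by `θ`
    intro x hx
    have h1 : ∀ c : Fin 2 → ZMod p, Matrix.mulVec ((θ ⟨x, (hPK.trans hKΛ) hx⟩ :
        Matrix.SpecialLinearGroup (Fin 2) (ZMod p)) : Matrix (Fin 2) (Fin 2) (ZMod p)) c = c := by
      intro c
      obtain ⟨w, hw⟩ := hsurj c
      have h2 := hequiv ⟨x, (hPK.trans hKΛ) hx⟩ w c hw
      simp only at h2
      rw [hσP x hx, MulAut.one_apply] at h2
      have h3 := R.sub_mem h2 hw
      have h4 : (Additive.ofMul (Additive.toMul w), Matrix.mulVec ((θ ⟨x, (hPK.trans hKΛ) hx⟩ :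
          Matrix.SpecialLinearGroup (Fin 2) (ZMod p)) : Matrix (Fin 2) (Fin 2) (ZMod p)) c) -
          (w, c) = (0, Matrix.mulVec ((θ ⟨x, (hPK.trans hKΛ) hx⟩ :
          Matrix.SpecialLinearGroup (Fin 2) (ZMod p)) : Matrix (Fin 2) (Fin 2) (ZMod p)) c - c) := by
        rw [Prod.mk_sub_mk]
        congr 1
        exact sub_self w
      rw [h4] at h3
      exact sub_eq_zero.1 (hfunc _ h3)
    apply Subtype.ext
    apply Matrix.toLin'.injective
    apply LinearMap.ext
    intro c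
    rw [Matrix.toLin'_apply, h1, Matrix.SpecialLinearGroup.coe_one, Matrix.toLin'_one]
    rfl
  · rintro x c ⟨hx, -⟩
    exact hx
  · exact ⟨P.one_mem, R.zero_mem⟩
  · rintro x c x' c' ⟨hx, hxR⟩ ⟨hx', hxR'⟩
    exact ⟨P.mul_mem hx hx', R.add_mem hxR hxR'⟩
  · rintro x c ⟨hx, hxR⟩
    exact ⟨P.inv_mem hx, R.neg_mem hxR⟩
  · rintro c ⟨hx, hxR⟩
    exact hfunc c hxR
  · intro c
    obtain ⟨w, hw⟩ := hsurj c
    obtain ⟨y, hy⟩ := QuotientGroup.mk_surjective (Additive.toMul w)
    refine ⟨(y : X), y.2, ?_⟩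
    have h1 : (Additive.ofMul (QuotientGroup.mk (⟨(y : X), y.2⟩ : P) : ↥P ⧸ frattini ↥P)) = w := by
      show Additive.ofMul (QuotientGroup.mk y) = w
      rw [hy]
      rfl
    rw [h1]
    exact hw
  · rintro l x c ⟨hx, hxR⟩
    refine ⟨hPn.conj_mem x hx l, ?_⟩
    have h1 := hequiv l _ c hxR
    simp only [toMul_ofMul] at h1
    rw [hmk] at h1
    exact h1

end Cfsg.Agent.Lib.Helper20.QdSt
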