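import Mathlib
import Cfsg.Agent.Lib.Helper19.S3313Defs

/-!
# S3313 FO-Zh (architect helper19): `Q` has exactly 12 elements of square one
(with the facts about `K ≅ A₅` and FO-Ze as hypotheses)
-/

set_option autoImplicit false

namespace Cfsg.Agent.Lib.Helper20.S3313Zh

open Cfsg Cfsg.Agent.Lib.Helper19.S3313

variable {G : Type*} [Group G]

/-- fixed points of conjugation by an element of order dividing five -/
theorem card_modEq_fixed (x : G) (hx5 : x ^ 5 = 1) (p : G → Prop)
    (hp : ∀ a, p a → p (x * a * x⁻¹)) [Finite {a // p a}] :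
    Nat.card {a // p a} ≡ Nat.card {a // p a ∧ x * a * x⁻¹ = a} [MOD 5] := by
  classical
  have : Fintype {a // p a} := Fintype.ofFinite _
  let f : Function.End {a // p a} := fun a => ⟨x * a.1 * x⁻¹, hp a.1 a.2⟩
  have hf : f ^ 5 ^ 1 = 1 := by
    rw [pow_one]
    funext a
    apply Subtype.ext
    have e : ∀ (n : ℕ) (a : {a // p a}),
        (((f ^ n) a : {a // p a}) : G) = x ^ n * a.1 * (x ^ n)⁻¹ := by
      intro n
      induction n with
      | zero =>
        intro a
        rw [pow_zero, pow_zero, one_mul, inv_one, mul_one]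
        rfl
      | succ k ih =>
        intro a
        rw [pow_succ']
        change x * ((f ^ k) a : {a // p a}).1 * x⁻¹ = _
        rw [ih a, pow_succ']
        group
    rw [e 5 a, hx5, one_mul, inv_one, mul_one]
    rfl
  have hfact : Fact (Nat.Prime 5) := ⟨by norm_num⟩
  have key := Equiv.Perm.card_fixedPoints_modEq (p := 5) (n := 1) hf
  rw [Nat.card_eq_fintype_card]
  have e2 : Nat.card {a // p a ∧ x * a * x⁻¹ = a} = Fintype.card (Function.fixedPoints f) := by
    rw [← Nat.card_eq_fintype_card]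
    apply Nat.card_congr
    refine ⟨fun a => ⟨⟨a.1, a.2.1⟩, ?_⟩, fun b => ⟨b.1.1, b.1.2, ?_⟩, ?_, ?_⟩
    · change f ⟨a.1, a.2.1⟩ = ⟨a.1, a.2.1⟩
      apply Subtype.ext
      exact a.2.2
    · have := b.2
      change f b.1 = b.1 at this
      exact congrArg Subtype.val this
    · intro a; rfl
    · intro b; rfl
  rw [e2]
  exact key

variable [Finite G] {z t : G} {Q K V B : Subgroup G}

/-- FO-Zh with its inputs as hypotheses -/
theorem card_invQ_aux (h : HJ z t Q K V B)
    (h5 : ∃ x ∈ K, orderOf x = 5) (h2 : ∃ k ∈ K, orderOf k = 2)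
    (hsimple : ∀ N : Subgroup K, N.Normal → ∀ x ∈ N, x ≠ 1 → N = ⊤)
    (hZe : ∀ v : G, IsConj v t → v * z = z * v →
      Nat.card (Q ⊓ Subgroup.centralizer ({v} : Set G) : Subgroup G) = 4) :
    Nat.card {u : G // u ∈ Q ∧ u ^ 2 = 1} = 12 := by
  classical
  obtain ⟨x, hxK, hxo⟩ := h5
  have hx5 : x ^ 5 = 1 := by rw [← hxo]; exact pow_orderOf_eq_one x
  have hx1 : x ≠ 1 := by
    intro h1
    rw [h1, orderOf_one] at hxo
    omega
  have hKC : K ≤ Subgroup.centralizer ({z} : Set G) := by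
    rw [← h.KQ]; exact le_sup_left
  have hz2 : z ^ 2 = 1 := by rw [← h.hz]; exact pow_orderOf_eq_one z
  have hz1 : z ≠ 1 := by
    intro h1
    have := h.hz
    rw [h1, orderOf_one] at this
    omega
  have hxC : x ∈ Subgroup.centralizer ({z} : Set G) := hKC hxK
  have hxz : x * z = z * x := Subgroup.mem_centralizer_singleton_iff.mp hxC
  have hQx : ∀ a, a ∈ Q → x * a * x⁻¹ ∈ Q := fun a ha => h.Qnorm x hxC a ha
  -- the centralizer of `x` in `Q`
  have hfixeq : ∀ (p : G → Prop), Nat.card {a // p a ∧ x * a * x⁻¹ = a} =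
      Nat.card {a // p a ∧ a ∈ Subgroup.centralizer ({x} : Set G)} := by
    intro p
    apply Nat.card_congr
    apply Equiv.subtypeEquivRight
    intro a
    rw [Subgroup.mem_centralizer_singleton_iff, mul_inv_eq_iff_eq_mul, eq_comm]
  have hstep1 := card_modEq_fixed x hx5 (fun a => a ∈ Q) hQx
  rw [hfixeq] at hstep1
  have hcQ : Nat.card {a // a ∈ Q} = 32 := h.Qcard
  have hcinf : Nat.card {a // a ∈ Q ∧ a ∈ Subgroup.centralizer ({x} : Set G)} =
      Nat.card (Q ⊓ Subgroup.centralizer ({x} : Set G) : Subgroup G) := by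
    apply Nat.card_congr
    apply Equiv.subtypeEquivRight
    intro a
    rw [Subgroup.mem_inf]
  rw [hcQ, hcinf] at hstep1
  obtain ⟨c, hcdef⟩ : ∃ c, c = Nat.card (Q ⊓ Subgroup.centralizer ({x} : Set G) : Subgroup G) :=
    ⟨_, rfl⟩
  rw [← hcdef] at hstep1
  have hcdvd : c ∣ 32 := by
    rw [hcdef, ← h.Qcard]
    exact Subgroup.card_dvd_of_le inf_le_left
  have hc : c = 2 ∨ c = 32 := by
    have h32 : (32 : ℕ) = 2 ^ 5 := by norm_num
    rw [h32] at hcdvd
    obtain ⟨k, hk, hck⟩ := (Nat.dvd_prime_pow Nat.prime_two).1 hcdvd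
    unfold Nat.ModEq at hstep1
    have hk' : k = 0 ∨ k = 1 ∨ k = 2 ∨ k = 3 ∨ k = 4 ∨ k = 5 := by omega
    rcases hk' with rfl | rfl | rfl | rfl | rfl | rfl <;> norm_num at hck <;> subst hck <;> omega
  -- `c ≠ 32`
  have hc32 : c ≠ 32 := by
    intro hc32
    have hQle : Q ≤ Subgroup.centralizer ({x} : Set G) := by
      have h3 : (Q ⊓ Subgroup.centralizer ({x} : Set G) : Subgroup G) = Q := by
        apply Subgroup.eq_of_le_of_card_ge inf_le_left
        rw [← hcdef, hc32, h.Qcard]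
      rw [← h3]
      exact inf_le_right
    -- the normal subgroup of `K` centralizing `Q`
    let N : Subgroup K := (Subgroup.centralizer (Q : Set G)).subgroupOf K
    have hNn : N.Normal := by
      constructor
      intro n hn k
      rw [Subgroup.mem_subgroupOf] at hn ⊢
      rw [Subgroup.mem_centralizer_iff] at hn ⊢
      intro q hq
      have hkC : (k : G)⁻¹ ∈ Subgroup.centralizer ({z} : Set G) :=
        Subgroup.inv_mem _ (hKC k.2)
      have hq' : (k : G)⁻¹ * q * ((k : G)⁻¹)⁻¹ ∈ Q := h.Qnorm _ hkC q hq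
      have h4 := hn _ hq'
      simp only [Subgroup.coe_mul, Subgroup.coe_inv]
      calc q * ((k : G) * (n : G) * (k : G)⁻¹)
          = (k : G) * (((k : G)⁻¹ * q * ((k : G)⁻¹)⁻¹) * (n : G)) * (k : G)⁻¹ := by group
        _ = (k : G) * ((n : G) * ((k : G)⁻¹ * q * ((k : G)⁻¹)⁻¹)) * (k : G)⁻¹ := by rw [h4]
        _ = (k : G) * (n : G) * (k : G)⁻¹ * q := by group
    have hxN : (⟨x, hxK⟩ : K) ∈ N := by
      rw [Subgroup.mem_subgroupOf, Subgroup.mem_centralizer_iff]
      intro q hq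
      have := hQle hq
      rw [Subgroup.mem_centralizer_singleton_iff] at this
      exact this
    have hNtop := hsimple N hNn ⟨x, hxK⟩ hxN (fun h1 => hx1 (congrArg Subtype.val h1))
    obtain ⟨k, hkK, hko⟩ := h2
    have hkN : (⟨k, hkK⟩ : K) ∈ N := by rw [hNtop]; exact Subgroup.mem_top _
    rw [Subgroup.mem_subgroupOf, Subgroup.mem_centralizer_iff] at hkN
    have hk1 : k ≠ 1 := by
      intro h1
      rw [h1, orderOf_one] at hko
      omega
    have hkQ : k ∉ Q := by
      intro hkQ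
      have : k ∈ K ⊓ Q := ⟨hkK, hkQ⟩
      rw [h.KQbot] at this
      exact hk1 (Subgroup.mem_bot.mp this)
    have hkC := hKC hkK
    have hkt : IsConj k t := h.hCz k hkC hko hkQ
    have hkz : k * z = z * k := Subgroup.mem_centralizer_singleton_iff.mp hkC
    have h4 := hZe k hkt hkz
    have hQk : (Q ⊓ Subgroup.centralizer ({k} : Set G) : Subgroup G) = Q := by
      apply le_antisymm inf_le_left
      intro q hq
      refine Subgroup.mem_inf.mpr ⟨hq, ?_⟩
      rw [Subgroup.mem_centralizer_singleton_iff]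
      exact hkN q hq
    rw [hQk, h.Qcard] at h4
    omega
  have hc2 : c = 2 := hc.resolve_right hc32
  -- the fixed points on the elements of square one
  have hSx : ∀ a, (a ∈ Q ∧ a ^ 2 = 1) → (x * a * x⁻¹ ∈ Q ∧ (x * a * x⁻¹) ^ 2 = 1) := by
    intro a ha
    refine ⟨hQx a ha.1, ?_⟩
    rw [pow_two]
    calc x * a * x⁻¹ * (x * a * x⁻¹) = x * (a * a) * x⁻¹ := by group
      _ = 1 := by rw [← pow_two, ha.2]; group
  have hstep3 := card_modEq_fixed x hx5 (fun a => a ∈ Q ∧ a ^ 2 = 1) hSx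
  rw [hfixeq] at hstep3
  have hfix2 : Nat.card {a // (a ∈ Q ∧ a ^ 2 = 1) ∧ a ∈ Subgroup.centralizer ({x} : Set G)} = 2 := by
    have hzmem : z ∈ (Q ⊓ Subgroup.centralizer ({x} : Set G) : Subgroup G) := by
      refine Subgroup.mem_inf.mpr ⟨h.zQ, ?_⟩
      rw [Subgroup.mem_centralizer_singleton_iff]
      exact hxz.symm
    have huniq := (Nat.card_eq_two_iff' (1 : (Q ⊓ Subgroup.centralizer ({x} : Set G) : Subgroup G))).mp
      (by rw [← hcdef, hc2])
    obtain ⟨y, hy1, hyu⟩ := huniq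
    have hzy : (⟨z, hzmem⟩ : (Q ⊓ Subgroup.centralizer ({x} : Set G) : Subgroup G)) = y :=
      hyu _ (fun h1 => hz1 (congrArg Subtype.val h1))
    have hall : ∀ a : G, a ∈ (Q ⊓ Subgroup.centralizer ({x} : Set G) : Subgroup G) →
        a = 1 ∨ a = z := by
      intro a ha
      by_cases ha1 : a = 1
      · left; exact ha1
      · right
        have := hyu ⟨a, ha⟩ (fun h1 => ha1 (congrArg Subtype.val h1))
        rw [← hzy] at this
        exact congrArg Subtype.val this
    have hset : {a : G | (a ∈ Q ∧ a ^ 2 = 1) ∧ a ∈ Subgroup.centralizer ({x} : Set G)} =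
        ({1, z} : Set G) := by
      ext a
      simp only [Set.mem_ofPred_eq, Set.mem_insert_iff, Set.mem_singleton_iff]
      constructor
      · rintro ⟨⟨haQ, -⟩, hax⟩
        exact hall a ⟨haQ, hax⟩
      · rintro (rfl | rfl)
        · exact ⟨⟨Q.one_mem, one_pow 2⟩, Subgroup.one_mem _⟩
        · exact ⟨⟨h.zQ, hz2⟩, hzmem.2⟩
    change Nat.card ↥{a : G | (a ∈ Q ∧ a ^ 2 = 1) ∧ a ∈ Subgroup.centralizer ({x} : Set G)} = 2
    rw [hset, Nat.card_coe_set_eq, Set.ncard_pair (Ne.symm hz1)]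
  rw [hfix2] at hstep3
  unfold Nat.ModEq at hstep3
  rcases h.Qinv with h12 | h20
  · exact h12
  · rw [h20] at hstep3
    omega

end Cfsg.Agent.Lib.Helper20.S3313Zh
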