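import Mathlib
import Cfsg.Agent.Lib.Helper19.S3313Defs

/-!
# S3313 FO-Zi (architect helper19): `z ∈ ⟨uv⟩ ↔ uv ≠ vu`, with NO FLIP as a hypothesis
-/

set_option autoImplicit false

namespace Cfsg.Agent.Lib.Helper20.S3313Zi

open Cfsg Cfsg.Agent.Lib.Helper19.S3313

variable {G : Type*} [Group G] {z t : G} {Q K V B : Subgroup G}

theorem sq_of_orderOf_two {x : G} (hx : orderOf x = 2) : x ^ 2 = 1 := by
  rw [← hx]; exact pow_orderOf_eq_one x

theorem inv_of_sq {x : G} (hx : x ^ 2 = 1) : x⁻¹ = x := by
  rw [inv_eq_iff_mul_eq_one, ← pow_two, hx]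

theorem orderOf_conj' (c x : G) : orderOf (c * x * c⁻¹) = orderOf x := by
  have := MulEquiv.orderOf_eq (MulAut.conj c) x
  rwa [MulAut.conj_apply] at this

theorem orderOf_of_isConj {x y : G} (h : IsConj x y) : orderOf x = orderOf y := by
  obtain ⟨c, hc⟩ := isConj_iff.mp h
  rw [← hc, orderOf_conj']

theorem orderOf_two_of_sq {x : G} (hx : x ^ 2 = 1) (hx1 : x ≠ 1) : orderOf x = 2 :=
  orderOf_eq_prime hx hx1

/-- the no-flip hypothesis (FO-Zf2) -/
def NoFlip (z t : G) (Q : Subgroup G) : Prop :=
  ∀ v : G, IsConj v t → v * z = z * v → ∀ u : G, u ∈ Q → u ^ 2 = 1 → v * u * v⁻¹ ≠ u * z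

/-- an involution of `C(z)` conjugate to `z` lies in `Q` (half of FO-F1) -/
theorem mem_Q_of_isConj (h : HJ z t Q K V B) (x : G) (hx : orderOf x = 2) (hxz : x * z = z * x)
    (hc : IsConj x z) : x ∈ Q := by
  by_contra hxQ
  have hxC : x ∈ Subgroup.centralizer ({z} : Set G) := by
    rw [Subgroup.mem_centralizer_singleton_iff]
    exact hxz
  have := h.hCz x hxC hx hxQ
  exact h.hzt (hc.symm.trans this)

/-- FO-Zi with NO FLIP as a hypothesis -/
theorem mem_zpowers_iff_aux (h : HJ z t Q K V B) (hnf : NoFlip z t Q)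
    (v : G) (hv : IsConj v t) (hvz : v * z = z * v)
    (u : G) (huQ : u ∈ Q) (hu : orderOf u = 2) :
    z ∈ Subgroup.zpowers (u * v) ↔ u * v ≠ v * u := by
  have hz2 : z ^ 2 = 1 := sq_of_orderOf_two h.hz
  have hz1 : z ≠ 1 := by
    intro h1
    have := h.hz
    rw [h1, orderOf_one] at this
    omega
  have hvo : orderOf v = 2 := by rw [orderOf_of_isConj hv, h.ht]
  have hv2 : v ^ 2 = 1 := sq_of_orderOf_two hvo
  have hu2 : u ^ 2 = 1 := sq_of_orderOf_two hu
  have hvi : v⁻¹ = v := inv_of_sq hv2
  have hui : u⁻¹ = u := inv_of_sq hu2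
  have hvv : v * v = 1 := by rw [← pow_two, hv2]
  have huu : u * u = 1 := by rw [← pow_two, hu2]
  have hvC : v ∈ Subgroup.centralizer ({z} : Set G) := by
    rw [Subgroup.mem_centralizer_singleton_iff]
    exact hvz
  have hvQ : v ∉ Q := by
    intro hvQ
    have := h.hQz v hvQ hvo
    exact h.hzt (this.symm.trans hv)
  constructor
  · intro hmem hcomm
    -- `⟨uv⟩ = {1, uv}`
    have huv2 : (u * v) ^ 2 = 1 := by
      rw [pow_two]
      calc u * v * (u * v) = u * (v * u) * v := by group
        _ = u * (u * v) * v := by rw [hcomm]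
        _ = (u * u) * (v * v) := by group
        _ = 1 := by rw [huu, hvv, one_mul]
    obtain ⟨k, hk⟩ := Subgroup.mem_zpowers_iff.mp hmem
    have hk' : z = 1 ∨ z = u * v := by
      rcases Int.emod_two_eq_zero_or_one k with h0 | h1
      · left
        have : k = 2 * (k / 2) := by omega
        rw [← hk, this, zpow_mul, zpow_ofNat, huv2, one_zpow]
      · right
        have : k = 2 * (k / 2) + 1 := by omega
        rw [← hk, this, zpow_add, zpow_mul, zpow_ofNat, huv2, one_zpow, one_mul, zpow_one]
    rcases hk' with h1 | h1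
    · exact hz1 h1
    · apply hvQ
      have : v = u * z := by
        rw [h1, ← mul_assoc, huu, one_mul]
      rw [this]
      exact Q.mul_mem huQ h.zQ
  · intro hne
    -- `u' = v u v⁻¹`
    obtain ⟨u', hu'def⟩ : ∃ u', u' = v * u * v⁻¹ := ⟨_, rfl⟩
    have hu'Q : u' ∈ Q := by rw [hu'def]; exact h.Qnorm v hvC u huQ
    have hu'u : u' ≠ u := by
      intro heq
      apply hne
      have : v * u = u * v := by
        calc v * u = (v * u * v⁻¹) * v := by group
          _ = u * v := by rw [← hu'def, heq]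
      exact this.symm
    have hu'2 : u' * u' = 1 := by
      rw [hu'def]
      calc v * u * v⁻¹ * (v * u * v⁻¹) = v * (u * u) * v⁻¹ := by group
        _ = 1 := by rw [huu]; group
    obtain ⟨r, hrdef⟩ : ∃ r, r = u * u' := ⟨_, rfl⟩
    have hrQ : r ∈ Q := by rw [hrdef]; exact Q.mul_mem huQ hu'Q
    have huv2 : (u * v) ^ 2 = r := by
      rw [pow_two, hrdef, hu'def, hvi]
      group
    have huv4 : (u * v) ^ 4 = r ^ 2 := by
      rw [← huv2, ← pow_mul]
    rcases h.Qsq r hrQ with hr2 | hr2
    · exfalso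
      -- `u` and `u'` commute
      have hr1 : r ≠ 1 := by
        intro h1
        apply hu'u
        have : u' = u⁻¹ * r := by rw [hrdef]; group
        rw [this, h1, mul_one, hui]
      have hcomm : u * u' = u' * u := by
        have h3 : u * u' * (u * u') = 1 := by rw [← hrdef, ← pow_two, hr2]
        calc u * u' = u * u' * (u * u') * (u' * u) := by
              have : u * u' * (u * u') * (u' * u) = u * u' * (u * (u' * u') * u) := by group
              rw [this, hu'2, mul_one, huu, mul_one]
          _ = u' * u := by rw [h3, one_mul]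
      have hu'r : u' = u * r := by
        rw [hrdef, ← mul_assoc, huu, one_mul]
      by_cases hrz : r = z
      · -- contradiction with NO FLIP directly
        apply hnf v hv hvz u huQ hu2
        rw [← hu'def, hu'r, hrz]
      · -- conjugate `r` to `z`
        have hro : orderOf r = 2 := orderOf_two_of_sq hr2 hr1
        have hrz' : IsConj r z := h.hQz r hrQ hro
        obtain ⟨c, hc⟩ := isConj_iff.mp hrz'
        -- `c r c⁻¹ = z`
        have hur : u * r = r * u := by
          rw [hrdef]
          calc u * (u * u') = (u * u) * u' := by group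
            _ = u' * (u * u) := by rw [huu, one_mul, mul_one]
            _ = u' * u * u := by group
            _ = u * u' * u := by rw [hcomm]
        have hvr : v * r = r * v := by
          have h4 : v * r * v⁻¹ = r := by
            calc v * r * v⁻¹ = (v * u * v⁻¹) * (v * u' * v⁻¹) := by rw [hrdef]; group
              _ = u' * (v * (v * u * v⁻¹) * v⁻¹) := by rw [← hu'def]
              _ = u' * ((v * v) * u * (v * v)⁻¹) := by group
              _ = u' * u := by rw [hvv]; group
              _ = r := by rw [hrdef, hcomm]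
          calc v * r = (v * r * v⁻¹) * v := by group
            _ = r * v := by rw [h4]
        obtain ⟨v₁, hv₁def⟩ : ∃ v₁, v₁ = c * v * c⁻¹ := ⟨_, rfl⟩
        obtain ⟨u₁, hu₁def⟩ : ∃ u₁, u₁ = c * u * c⁻¹ := ⟨_, rfl⟩
        have hv₁t : IsConj v₁ t := by
          have : IsConj v₁ v := by
            rw [hv₁def]
            exact (isConj_iff.mpr ⟨c, rfl⟩).symm
          exact this.trans hv
        have hv₁z : v₁ * z = z * v₁ := by
          rw [hv₁def, ← hc]
          calc c * v * c⁻¹ * (c * r * c⁻¹) = c * (v * r) * c⁻¹ := by group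
            _ = c * (r * v) * c⁻¹ := by rw [hvr]
            _ = c * r * c⁻¹ * (c * v * c⁻¹) := by group
        have hu₁z : u₁ * z = z * u₁ := by
          rw [hu₁def, ← hc]
          calc c * u * c⁻¹ * (c * r * c⁻¹) = c * (u * r) * c⁻¹ := by group
            _ = c * (r * u) * c⁻¹ := by rw [hur]
            _ = c * r * c⁻¹ * (c * u * c⁻¹) := by group
        have hu₁o : orderOf u₁ = 2 := by rw [hu₁def, orderOf_conj', hu]
        have hu₁c : IsConj u₁ z := by
          have h5 : IsConj u₁ u := by
            rw [hu₁def]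
            exact (isConj_iff.mpr ⟨c, rfl⟩).symm
          exact h5.trans (h.hQz u huQ hu)
        have hu₁Q : u₁ ∈ Q := mem_Q_of_isConj h u₁ hu₁o hu₁z hu₁c
        apply hnf v₁ hv₁t hv₁z u₁ hu₁Q (sq_of_orderOf_two hu₁o)
        rw [hv₁def, hu₁def, ← hc]
        calc c * v * c⁻¹ * (c * u * c⁻¹) * (c * v * c⁻¹)⁻¹ = c * (v * u * v⁻¹) * c⁻¹ := by group
          _ = c * (u * r) * c⁻¹ := by rw [← hu'def, hu'r]
          _ = c * u * c⁻¹ * (c * r * c⁻¹) := by group
    · rw [← hr2, ← huv4]
      exact Subgroup.pow_mem _ (Subgroup.mem_zpowers _) 4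

end Cfsg.Agent.Lib.Helper20.S3313Zi
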