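import Mathlib
import Cfsg.Agent.Lib.Helper19.S3313Defs
import Cfsg.Agent.Lib.Helper20.S3313Zi

/-!
# S3313 FO-Zj (architect helper19): the count `n₁ = 960`, with FO-Zi, Zh, Ze, Zg as hypotheses
-/

set_option autoImplicit false

namespace Cfsg.Agent.Lib.Helper20.S3313Zj

open Cfsg Cfsg.Agent.Lib.Helper19.S3313 Cfsg.Agent.Lib.Helper20.S3313Zi

variable {G : Type*} [Group G]

/-- an involution `u` centralizes every element of `⟨u v⟩`'s ... : `u` inverts `⟨u v⟩` -/
theorem conj_zpow_left (u v : G) (hu : u * u = 1) (hv : v * v = 1) (k : ℤ) :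
    u * (u * v) ^ k * u⁻¹ = ((u * v) ^ k)⁻¹ := by
  have hui : u⁻¹ = u := inv_eq_of_mul_eq_one_right hu
  have hvi : v⁻¹ = v := inv_eq_of_mul_eq_one_right hv
  have h1 : u * (u * v) * u⁻¹ = (u * v)⁻¹ := by
    rw [mul_inv_rev, hui, hvi]
    calc u * (u * v) * u = (u * u) * v * u := by group
      _ = v * u := by rw [hu, one_mul]
  have h2 : u * (u * v) ^ k * u⁻¹ = (u * (u * v) * u⁻¹) ^ k := by
    have := map_zpow (MulAut.conj u) (u * v) k
    rw [MulAut.conj_apply, MulAut.conj_apply] at this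
    exact this
  rw [h2, h1, inv_zpow]

theorem conj_zpow_right (u v : G) (hu : u * u = 1) (hv : v * v = 1) (k : ℤ) :
    v * (u * v) ^ k * v⁻¹ = ((u * v) ^ k)⁻¹ := by
  have hui : u⁻¹ = u := inv_eq_of_mul_eq_one_right hu
  have hvi : v⁻¹ = v := inv_eq_of_mul_eq_one_right hv
  have h1 : v * (u * v) * v⁻¹ = (u * v)⁻¹ := by
    rw [mul_inv_rev, hui, hvi]
    calc v * (u * v) * v = v * u * (v * v) := by group
      _ = v * u := by rw [hv, mul_one]
  have h2 : v * (u * v) ^ k * v⁻¹ = (v * (u * v) * v⁻¹) ^ k := by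
    have := map_zpow (MulAut.conj v) (u * v) k
    rw [MulAut.conj_apply, MulAut.conj_apply] at this
    exact this
  rw [h2, h1, inv_zpow]

variable [Finite G] {z t : G} {Q K V B : Subgroup G}

set_option maxHeartbeats 800000 in
/-- FO-Zj with its inputs as hypotheses -/
theorem count_z_aux (h : HJ z t Q K V B)
    (hZi : ∀ v : G, IsConj v t → v * z = z * v → ∀ u : G, u ∈ Q → orderOf u = 2 →
      (z ∈ Subgroup.zpowers (u * v) ↔ u * v ≠ v * u))
    (hZh : Nat.card {u : G // u ∈ Q ∧ u ^ 2 = 1} = 12)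
    (hZe : ∀ v : G, IsConj v t → v * z = z * v →
      Nat.card (Q ⊓ Subgroup.centralizer ({v} : Set G) : Subgroup G) = 4 ∧
        ∀ a ∈ Q ⊓ Subgroup.centralizer ({v} : Set G), a ^ 2 = 1)
    (hZg : Nat.card {v : G // IsConj v t ∧ v * z = z * v} = 120) :
    Nat.card {p : G × G // IsConj z p.1 ∧ IsConj t p.2 ∧ z ∈ Subgroup.zpowers (p.1 * p.2)} =
      960 := by
  classical
  have hz2 : z ^ 2 = 1 := sq_of_orderOf_two h.hz
  have hzi : z⁻¹ = z := inv_of_sq hz2
  -- the sigma type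
  have hfib : ∀ v : {v : G // IsConj v t ∧ v * z = z * v},
      Nat.card {u : G // (u ∈ Q ∧ u ^ 2 = 1) ∧ ¬ u * v.1 = v.1 * u} = 8 := by
    rintro ⟨v, hvt, hvz⟩
    obtain ⟨h4, hexp⟩ := hZe v hvt hvz
    have : Fintype {u : G // u ∈ Q ∧ u ^ 2 = 1} := Fintype.ofFinite _
    have e1 : Nat.card {u : G // (u ∈ Q ∧ u ^ 2 = 1) ∧ ¬ u * v = v * u} =
        Nat.card {x : {u : G // u ∈ Q ∧ u ^ 2 = 1} // ¬ x.1 * v = v * x.1} :=
      Nat.card_congr (Equiv.subtypeSubtypeEquivSubtypeInter _ _).symm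
    have e2 : Nat.card {x : {u : G // u ∈ Q ∧ u ^ 2 = 1} // x.1 * v = v * x.1} = 4 := by
      rw [← h4]
      apply Nat.card_congr
      refine ⟨fun x => ⟨x.1.1, Subgroup.mem_inf.mpr ⟨x.1.2.1, ?_⟩⟩,
        fun a => ⟨⟨a.1, (Subgroup.mem_inf.mp a.2).1, hexp a.1 a.2⟩, ?_⟩, ?_, ?_⟩
      · rw [Subgroup.mem_centralizer_singleton_iff]
        exact x.2
      · have := (Subgroup.mem_inf.mp a.2).2
        rw [Subgroup.mem_centralizer_singleton_iff] at this
        exact this
      · intro x; rfl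
      · intro a; rfl
    rw [e1, Nat.card_eq_fintype_card, Fintype.card_subtype_compl, ← Nat.card_eq_fintype_card,
      ← Nat.card_eq_fintype_card, hZh, e2]
  have hsig : Nat.card (Σ v : {v : G // IsConj v t ∧ v * z = z * v},
      {u : G // (u ∈ Q ∧ u ^ 2 = 1) ∧ ¬ u * v.1 = v.1 * u}) = 960 := by
    have : Fintype {v : G // IsConj v t ∧ v * z = z * v} := Fintype.ofFinite _
    rw [Nat.card_sigma]
    simp only [hfib, Finset.sum_const, Finset.card_univ, smul_eq_mul]
    rw [← Nat.card_eq_fintype_card, hZg]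
  rw [← hsig]
  apply Nat.card_congr
  refine ⟨fun p => ⟨⟨p.1.2, ?_⟩, ⟨p.1.1, ?_⟩⟩, fun s => ⟨(s.2.1, s.1.1), ?_⟩, ?_, ?_⟩
  · -- `v ∈ I`
    obtain ⟨⟨u, v⟩, hzu, htv, hmem⟩ := p
    have huo : orderOf u = 2 := by rw [← orderOf_of_isConj hzu, h.hz]
    have hvo : orderOf v = 2 := by rw [← orderOf_of_isConj htv, h.ht]
    have huu : u * u = 1 := by rw [← pow_two]; exact sq_of_orderOf_two huo
    have hvv : v * v = 1 := by rw [← pow_two]; exact sq_of_orderOf_two hvo
    obtain ⟨k, hk⟩ := Subgroup.mem_zpowers_iff.mp hmem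
    refine ⟨htv.symm, ?_⟩
    have := conj_zpow_right u v huu hvv k
    simp only at hk
    rw [hk, hzi] at this
    calc v * z = (v * z * v⁻¹) * v := by group
      _ = z * v := by rw [this]
  · obtain ⟨⟨u, v⟩, hzu, htv, hmem⟩ := p
    have huo : orderOf u = 2 := by rw [← orderOf_of_isConj hzu, h.hz]
    have hvo : orderOf v = 2 := by rw [← orderOf_of_isConj htv, h.ht]
    have huu : u * u = 1 := by rw [← pow_two]; exact sq_of_orderOf_two huo
    have hvv : v * v = 1 := by rw [← pow_two]; exact sq_of_orderOf_two hvo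
    obtain ⟨k, hk⟩ := Subgroup.mem_zpowers_iff.mp hmem
    simp only at hk
    have hvz : v * z = z * v := by
      have := conj_zpow_right u v huu hvv k
      rw [hk, hzi] at this
      calc v * z = (v * z * v⁻¹) * v := by group
        _ = z * v := by rw [this]
    have huz : u * z = z * u := by
      have := conj_zpow_left u v huu hvv k
      rw [hk, hzi] at this
      calc u * z = (u * z * u⁻¹) * u := by group
        _ = z * u := by rw [this]
    have huQ : u ∈ Q := mem_Q_of_isConj h u huo huz hzu.symm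
    refine ⟨⟨huQ, sq_of_orderOf_two huo⟩, ?_⟩
    exact (hZi v htv.symm hvz u huQ huo).mp hmem
  · obtain ⟨⟨v, hvt, hvz⟩, ⟨u, ⟨huQ, hu2⟩, hne⟩⟩ := s
    have hu1 : u ≠ 1 := by
      rintro rfl
      apply hne
      simp
    have huo : orderOf u = 2 := orderOf_two_of_sq hu2 hu1
    exact ⟨(h.hQz u huQ huo).symm, hvt.symm, (hZi v hvt hvz u huQ huo).mpr hne⟩
  · intro p; rfl
  · intro s; rfl

end Cfsg.Agent.Lib.Helper20.S3313Zj
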