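import Mathlib
import Cfsg.Agent.Lib.Helper28.TensUDefs
import Cfsg.Agent.Lib.Helper25.S5670FOHS
import Cfsg.Agent.Lib.Helper25.S5670FOROOT
import Cfsg.Agent.Lib.Helper25.S5670FOPERP
import Cfsg.Agent.Lib.Helper23.S5670FOST
import Cfsg.Agent.Lib.Helper23.S5670FOCL
import Cfsg.Agent.Lib.Helper23.S5670FOLEFT
import Cfsg.Agent.Lib.Helper24.S5670FOISO

/-!
# S5670 (helper28 architect): FO-F1, FO-X, FO-D (the L-theory chain)
-/

set_option autoImplicit false
set_option linter.unusedSectionVars false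
set_option linter.unusedVariables false

namespace Cfsg.Agent.Lib.Helper20.S5670LX

open Matrix Module
open Cfsg.Agent.Lib.Helper16.Tens Cfsg.Agent.Lib.Helper10.TensFund Cfsg.Agent.Lib.Helper28.TensU
open Cfsg.Agent.Lib.Helper25.S5670HS (exists_trace_zero hs_conj)
open Cfsg.Agent.Lib.Helper25.S5670ROOT (rL_mem_UG rM_mem_UG rL_pow_char rM_pow_char act_rL_eq_self_iff
  act_rM_eq_self_iff act_rL_sub_mem act_rM_sub_mem)
open Cfsg.Agent.Lib.Helper25.S5670PERP (mem_hyp_cj_iff mem_hypL_cj_iff mem_img_hyp_cj_iff mem_img_hypL_cj_iff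
  pt_le_hyp_cj ptL_le_hypL_cj sup_inf_hyp_le supL_inf_hypL_le)
open Cfsg.Agent.Lib.Helper23.S5670ST (sylow_trick)
open Cfsg.Agent.Lib.Helper23.S5670CL (closure_fix closure_sub_mem commute_of_sub_mem)
open Cfsg.Agent.Lib.Helper23.S5670LEFT (img_ptL_of_mem_kron finrank_pt finrank_ptL pt_inf_pt ptL_inf_ptL pt_smul
  ptL_smul)
open Cfsg.Agent.Lib.Helper24.S5670ISO (exists_iso_perp)
open scoped Kronecker

variable {F : Type*} [Field F] [Fintype F] {a b : ℕ} {q : ℕ}
variable {M : Subgroup (GL (Fin a × Fin b) F)}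

theorem q_ne_zero (hF : Fintype.card F = q ^ 2) : q ≠ 0 := by
  intro h
  subst h
  have h1 := Fintype.one_lt_card (α := F)
  rw [hF] at h1
  norm_num at h1

/-- the conjugate `g x g⁻¹` acts as `act g ∘ act x ∘ act g⁻¹` -/
theorem act_conj (g x : GL (Fin a × Fin b) F) (v : Fin a × Fin b → F) :
    act (g * x * g⁻¹) v = act g (act x (act g⁻¹ v)) := by
  rw [act_mul, act_mul]

theorem act_conj_sub_mem (g x : GL (Fin a × Fin b) F) (L : Submodule F (Fin a × Fin b → F))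
    (h : ∀ v, act x v - v ∈ L) (v : Fin a × Fin b → F) : act (g * x * g⁻¹) v - v ∈ img g L := by
  rw [act_conj]
  refine ⟨act x (act g⁻¹ v) - act g⁻¹ v, h _, ?_⟩
  change act g (act x (act g⁻¹ v) - act g⁻¹ v) = _
  rw [map_sub, act_act_inv]

theorem act_conj_eq_self (g x : GL (Fin a × Fin b) F) (C : Submodule F (Fin a × Fin b → F))
    (h : ∀ v ∈ C, act x v = v) (v : Fin a × Fin b → F) (hv : v ∈ img g C) : act (g * x * g⁻¹) v = v := by
  rw [act_conj, h _ ((mem_img_iff g C v).1 hv), act_act_inv]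

theorem rL_mem (hF : Fintype.card F = q ^ 2) (hM : OverU q M) (k : Fin b → F) (c : F) (hk : hs q k k = 0)
    (hcc : c + c ^ q = 0) : rL (a := a) q k c hk ∈ M :=
  hM.kron_mem _ (rL_mem_kron q k c hk) (rL_mem_UG hF k c hk hcc) (rL_mem_SL q k c hk)

/-- `HypE1` in the form "`g⁻¹ x g ∈ K ⇒ g ∈ K`" -/
theorem hypE1_inv (hE : HypE1 q M) (g : GL (Fin a × Fin b) F) (hg : g ∈ M) (k : Fin b → F) (c : F)
    (hk : hs q k k = 0) (hk0 : k ≠ 0) (hc : c ≠ 0) (hcc : c + c ^ q = 0)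
    (h : g⁻¹ * rL q k c hk * g ∈ Cfsg.Geo.kroneckerSubgroup a b F) :
    g ∈ Cfsg.Geo.kroneckerSubgroup a b F := by
  have h1 : g⁻¹ ∈ Cfsg.Geo.kroneckerSubgroup a b F := by
    apply hE g⁻¹ (M.inv_mem hg) k c hk hk0 hc hcc
    rw [inv_inv]
    exact h
  have := (Cfsg.Geo.kroneckerSubgroup a b F).inv_mem h1
  rwa [inv_inv] at this

/-- FO-F1 -/
theorem not_img_pt_le_hyp (hF : Fintype.card F = q ^ 2) (hM : OverU q M) (hE : HypE1 q M)
    (g : GL (Fin a × Fin b) F) (hg : g ∈ M) (hgK : g ∉ Cfsg.Geo.kroneckerSubgroup a b F)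
    (k k' : Fin b → F) (hk0 : k ≠ 0) (hk : hs q k k = 0)
    (hk'0 : k' ≠ 0) (hk' : hs q k' k' = 0) : ¬ img g (pt (a := a) k') ≤ hyp (cj q k) := by
  intro hle
  obtain ⟨c, hc, hcc⟩ := exists_trace_zero (F := F) hF
  have hgU : g ∈ UG (Fin a × Fin b) F q := hM.le_UG hg
  have hx : rL (a := a) q k c hk ∈ M := rL_mem hF hM k c hk hcc
  have hx0 : rL (a := a) q k' c hk' ∈ M := rL_mem hF hM k' c hk' hcc
  have hx' : g * rL (a := a) q k' c hk' * g⁻¹ ∈ M := M.mul_mem (M.mul_mem hg hx0) (M.inv_mem hg)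
  have hcomm : rL (a := a) q k c hk * (g * rL (a := a) q k' c hk' * g⁻¹) =
      (g * rL (a := a) q k' c hk' * g⁻¹) * rL (a := a) q k c hk := by
    apply commute_of_sub_mem _ _ (pt (a := a) k) (img g (pt (a := a) k')) (hyp (cj q k))
      (img g (hyp (cj q k')))
    · exact fun v => act_rL_sub_mem k c hk v
    · exact fun v => act_conj_sub_mem g _ _ (fun v => act_rL_sub_mem k' c hk' v) v
    · exact fun v hv => (act_rL_eq_self_iff k c hk hk0 hc v).2 hv
    · exact fun v hv => act_conj_eq_self g _ _ (fun v hv => (act_rL_eq_self_iff k' c hk' hk'0 hc v).2 hv) v hv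
    · intro v hv
      rw [mem_img_hyp_cj_iff hF g hgU]
      intro x hx
      have h1 := (mem_hyp_cj_iff (a := a) hF k x).1 (hle hx) v hv
      rw [hs_conj hF x v, h1, zero_pow (q_ne_zero (F := F) hF)]
    · exact hle
  have h2 : (g * rL (a := a) q k' c hk' * g⁻¹) ∈ Cfsg.Geo.kroneckerSubgroup a b F := by
    apply hypE1_inv hE _ hx' k c hk hk0 hc hcc
    rw [mul_assoc, hcomm, ← mul_assoc, inv_mul_cancel, one_mul]
    exact rL_mem_kron q k c hk
  exact hgK (hE g hg k' c hk' hk'0 hc hcc h2)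

theorem finrank_sup_pt (k k'' : Fin b → F) (hk0 : k ≠ 0) (hk''0 : k'' ≠ 0) (h : ∀ c : F, k'' ≠ c • k) :
    finrank F ↥(pt (F := F) (a := a) k ⊔ pt k'') = a + a := by
  have h1 := Submodule.finrank_sup_add_finrank_inf_eq (pt (F := F) (a := a) k) (pt k'')
  rw [pt_inf_pt k k'' h, finrank_bot, finrank_pt k hk0, finrank_pt k'' hk''0] at h1
  omega

/-- FO-X : LEMMA X -/
theorem img_pt_inf_hyp_le (hF : Fintype.card F = q ^ 2) (ha : 1 ≤ a) (hM : OverU q M) (hE : HypE1 q M)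
    (g : GL (Fin a × Fin b) F) (hg : g ∈ M) (hgK : g ∉ Cfsg.Geo.kroneckerSubgroup a b F)
    (k k' : Fin b → F) (hk0 : k ≠ 0) (hk : hs q k k = 0)
    (hk'0 : k' ≠ 0) (hk' : hs q k' k' = 0) : img g (pt (a := a) k') ⊓ hyp (cj q k) ≤ pt k := by
  obtain ⟨c, hc, hcc⟩ := exists_trace_zero (F := F) hF
  have hgU : g ∈ UG (Fin a × Fin b) F q := hM.le_UG hg
  have hx₁ : rL (a := a) q k c hk ∈ M := rL_mem hF hM k c hk hcc
  have hx0 : rL (a := a) q k' c hk' ∈ M := rL_mem hF hM k' c hk' hcc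
  have hx₂ : g * rL (a := a) q k' c hk' * g⁻¹ ∈ M := M.mul_mem (M.mul_mem hg hx0) (M.inv_mem hg)
  have hchar : CharP F (ringChar F) := ringChar.charP F
  have hp : Fact (ringChar F).Prime := ⟨CharP.char_is_prime F (ringChar F)⟩
  have hfin : Finite M := inferInstance
  obtain ⟨δ, hδ, hδg⟩ := sylow_trick (ringChar F) M (Cfsg.Geo.kroneckerSubgroup a b F)
    (rL (a := a) q k c hk) (g * rL (a := a) q k' c hk' * g⁻¹) g hx₁ hx₂ hg
    (rL_pow_char (ringChar F) k c hk)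
    (by rw [conj_pow, rL_pow_char (ringChar F) k' c hk', mul_one, mul_inv_cancel])
    (rL_mem_kron q k c hk)
    (fun g' hg' h => hypE1_inv hE g' hg' k c hk hk0 hc hcc h)
    (by
      intro g' hg' h
      have h1 : g'⁻¹ * g ∈ Cfsg.Geo.kroneckerSubgroup a b F := by
        apply hE (g'⁻¹ * g) (M.mul_mem (M.inv_mem hg') hg) k' c hk' hk'0 hc hcc
        have : g'⁻¹ * g * rL (a := a) q k' c hk' * (g'⁻¹ * g)⁻¹ =
            g'⁻¹ * (g * rL (a := a) q k' c hk' * g⁻¹) * g' := by group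
        rw [this]
        exact h
      have := (Cfsg.Geo.kroneckerSubgroup a b F).inv_mem h1
      rwa [_root_.mul_inv_rev, inv_inv] at this)
  have hδM : δ ∈ M := by
    have hle : Subgroup.closure ({rL (a := a) q k c hk, g * rL (a := a) q k' c hk' * g⁻¹} :
        Set (GL (Fin a × Fin b) F)) ≤ M := by
      rw [Subgroup.closure_le]
      intro y hy
      rcases hy with rfl | rfl
      · exact hx₁
      · exact hx₂
    exact hle hδ
  obtain ⟨k'', hk''0, himg⟩ := img_pt_of_mem_kron (δ * g) hδg k'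
  have hk''0 := hk''0 hk'0
  rw [img_mul] at himg
  -- `δ` fixes `J` pointwise
  have hJfix : ∀ v ∈ img g (pt (a := a) k') ⊓ hyp (cj q k), act δ v = v := by
    intro v hv
    apply closure_fix _ _ δ hδ v
    · exact (act_rL_eq_self_iff k c hk hk0 hc v).2 hv.2
    · apply act_conj_eq_self g _ (hyp (cj q k'))
        (fun v hv => (act_rL_eq_self_iff k' c hk' hk'0 hc v).2 hv)
      exact img_mono g (pt_le_hyp_cj k' k' hk') hv.1
  have hJle : img g (pt (a := a) k') ⊓ hyp (cj q k) ≤ pt k'' := by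
    intro v hv
    rw [← himg]
    exact ⟨v, hv.1, hJfix v hv⟩
  by_cases hpar : ∃ c' : F, k'' = c' • k
  · obtain ⟨c', rfl⟩ := hpar
    have hc' : c' ≠ 0 := by
      rintro rfl
      exact hk''0 (zero_smul _ _)
    rw [pt_smul k c' hc'] at hJle
    exact fun v hv => hJle ⟨hv.1, hv.2⟩
  · push Not at hpar
    have hsub : pt (a := a) k'' ≤ pt k ⊔ img g (pt (a := a) k') := by
      rw [← himg]
      rintro _ ⟨z, hz, rfl⟩
      change act δ z ∈ _
      have h1 : act δ z - z ∈ pt (a := a) k ⊔ img g (pt (a := a) k') := by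
        apply closure_sub_mem _ _ δ hδ
        · exact fun v => Submodule.mem_sup_left (act_rL_sub_mem k c hk v)
        · exact fun v => Submodule.mem_sup_right
            (act_conj_sub_mem g _ _ (fun v => act_rL_sub_mem k' c hk' v) v)
      have h2 : act δ z = (act δ z - z) + z := by abel
      rw [h2]
      exact Submodule.add_mem _ h1 (Submodule.mem_sup_right hz)
    have hle : pt (a := a) k ⊔ pt k'' ≤ pt k ⊔ img g (pt (a := a) k') :=
      sup_le le_sup_left hsub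
    have heq : pt (a := a) k ⊔ pt k'' = pt k ⊔ img g (pt (a := a) k') := by
      apply Submodule.eq_of_le_of_finrank_le hle
      rw [finrank_sup_pt k k'' hk0 hk''0 hpar]
      have h1 := Submodule.finrank_add_le_finrank_add_finrank (pt (F := F) (a := a) k)
        (img g (pt (a := a) k'))
      rw [finrank_img, finrank_pt k hk0, finrank_pt k' hk'0] at h1
      exact h1
    by_cases hperp : hs q k'' k = 0
    · exfalso
      apply not_img_pt_le_hyp hF hM hE g hg hgK k k' hk0 hk hk'0 hk'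
      calc img g (pt (a := a) k') ≤ pt k ⊔ img g (pt (a := a) k') := le_sup_right
        _ = pt k ⊔ pt k'' := heq.symm
        _ ≤ hyp (cj q k) := sup_le (pt_le_hyp_cj k k hk) (pt_le_hyp_cj k'' k hperp)
    · intro v hv
      apply sup_inf_hyp_le k k'' hk hperp
      refine ⟨?_, hv.2⟩
      rw [heq]
      exact Submodule.mem_sup_right hv.1

/-- FO-D : DISJOINT -/
theorem img_pt_inf_hyp_eq_bot (hF : Fintype.card F = q ^ 2) (ha : 1 ≤ a) (hb : 4 ≤ b) (hM : OverU q M)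
    (hE : HypE1 q M)
    (g : GL (Fin a × Fin b) F) (hg : g ∈ M) (hgK : g ∉ Cfsg.Geo.kroneckerSubgroup a b F)
    (k k' : Fin b → F) (hk0 : k ≠ 0) (hk : hs q k k = 0)
    (hk'0 : k' ≠ 0) (hk' : hs q k' k' = 0) : img g (pt (a := a) k') ⊓ hyp (cj q k) = ⊥ := by
  rw [eq_bot_iff]
  intro v hv
  have h1 : v ∈ pt (a := a) k := img_pt_inf_hyp_le hF ha hM hE g hg hgK k k' hk0 hk hk'0 hk' hv
  obtain ⟨k₂, hk₂0, hk₂, hkk₂, hne⟩ := exists_iso_perp hF hb k hk0 hk
  have h2 : v ∈ hyp (a := a) (cj q k₂) := pt_le_hyp_cj k k₂ hkk₂ h1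
  have h3 : v ∈ pt (a := a) k₂ :=
    img_pt_inf_hyp_le hF ha hM hE g hg hgK k₂ k' hk₂0 hk₂ hk'0 hk' ⟨hv.1, h2⟩
  have h4 : v ∈ pt (F := F) (a := a) k ⊓ pt k₂ := ⟨h1, h3⟩
  rw [pt_inf_pt k k₂ hne] at h4
  exact h4

end Cfsg.Agent.Lib.Helper20.S5670LX
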