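import Mathlib

set_option autoImplicit false

/-!
# Semilinear groups of degree one transitive on planes (helper20, for S4025 PART C)

`F` a finite field of order `p ^ n`, `n ≥ 3`. If a set `Γ` of maps `x ↦ a * σ x` (`a ≠ 0`, `σ` a field
automorphism) is transitive on the additive subgroups of order `p ^ 2`, then `n = 3`, or `n = 5` and `p = 2`.
-/

namespace Cfsg.Agent.Lib.Helper20.PlaneCount

section basic
variable {F : Type*} [Field F] {p : ℕ} [hp : Fact p.Prime] [CharP F p]

/-- the prime field embedding -/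
noncomputable def pf (F : Type*) [Field F] (p : ℕ) [Fact p.Prime] [CharP F p] : ZMod p →+* F :=
  ZMod.castHom (dvd_refl p) F

theorem pf_injective : Function.Injective (pf F p) := (pf F p).injective

/-- `(i, j) ↦ i + j * x` -/
noncomputable def planeHom (p : ℕ) [Fact p.Prime] [CharP F p] (x : F) : (ZMod p × ZMod p) →+ F where
  toFun ij := pf F p ij.1 + pf F p ij.2 * x
  map_zero' := by simp
  map_add' a b := by simp only [Prod.fst_add, Prod.snd_add, map_add]; ring

theorem planeHom_apply (x : F) (i j : ZMod p) : planeHom p x (i, j) = pf F p i + pf F p j * x := rfl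

theorem planeHom_injective {x : F} (hx : x ∉ Set.range (pf F p)) : Function.Injective (planeHom p x) := by
  rw [injective_iff_map_eq_zero]
  rintro ⟨i, j⟩ h
  rw [planeHom_apply] at h
  by_cases hj : j = 0
  · subst hj
    simp only [map_zero, zero_mul, add_zero] at h
    have hi : i = 0 := pf_injective (F := F) (by simpa using h)
    simp [hi]
  · exfalso
    apply hx
    have hj' : pf F p j ≠ 0 := fun h0 => hj (pf_injective (F := F) (by simpa using h0))
    refine ⟨-(i / j), ?_⟩
    have hx' : x = -(pf F p i) / (pf F p j) := by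
      field_simp
      linear_combination h
    rw [hx', map_neg, map_div₀, neg_div]

/-- the plane spanned by `1` and `x` -/
noncomputable def plane (p : ℕ) [Fact p.Prime] [CharP F p] (x : F) : AddSubgroup F := (planeHom p x).range

theorem card_plane {x : F} (hx : x ∉ Set.range (pf F p)) : Nat.card (plane p x) = p ^ 2 := by
  have e : (ZMod p × ZMod p) ≃ plane p x :=
    (AddMonoidHom.ofInjective (planeHom_injective hx)).toEquiv
  rw [← Nat.card_congr e, Nat.card_prod, Nat.card_zmod, sq]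

theorem one_mem_plane (x : F) : (1 : F) ∈ plane p x := ⟨(1, 0), by simp [planeHom_apply]⟩

theorem self_mem_plane (x : F) : x ∈ plane p x := ⟨(0, 1), by simp [planeHom_apply]⟩

theorem pf_pow (z : ZMod p) (k : ℕ) : (pf F p z) ^ (p ^ k) = pf F p z := by
  rw [← map_pow]
  congr 1
  induction k with
  | zero => simp
  | succ k ih => rw [pow_succ, pow_mul, ih, ZMod.pow_card]

end basic

section count
variable {F : Type*} [Field F] [Finite F] {p : ℕ} [hp : Fact p.Prime]

theorem charP_of_card {n : ℕ} (hcard : Nat.card F = p ^ n) : CharP F p := by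
  obtain ⟨r, hr⟩ := CharP.exists F
  have : Fact r.Prime := ⟨CharP.char_is_prime F r⟩
  have := Fintype.ofFinite F
  obtain ⟨k, hrp, hk⟩ := FiniteField.card F r
  rw [Nat.card_eq_fintype_card, hk] at hcard
  have hn : n ≠ 0 := by
    rintro rfl
    have : 1 < r ^ (k : ℕ) := Nat.one_lt_pow k.pos.ne' hrp.one_lt
    rw [pow_zero] at hcard
    omega
  have h1 : p ∣ r ^ (k : ℕ) := by rw [hcard]; exact dvd_pow_self p hn
  have h2 : p ∣ r := hp.out.dvd_of_dvd_pow h1
  have h3 : p = r := (Nat.prime_dvd_prime_iff_eq hp.out hrp).mp h2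
  subst h3
  exact hr

theorem card_ringAut [CharP F p] {n : ℕ} (hcard : Nat.card F = p ^ n) : Nat.card (F ≃+* F) = n := by
  let _ := ZMod.algebra F p
  have h1 : Nat.card (F ≃ₐ[ZMod p] F) = Module.finrank (ZMod p) F :=
    IsGalois.card_aut_eq_finrank (ZMod p) F
  have h2 : Module.finrank (ZMod p) F = n := by
    have := FiniteField.pow_finrank_eq_natCard p F
    rw [hcard] at this
    exact Nat.pow_right_injective hp.out.two_le this
  have e : (F ≃ₐ[ZMod p] F) ≃ (F ≃+* F) :=
    { toFun := fun f => f.toRingEquiv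
      invFun := fun g => AlgEquiv.ofRingEquiv (f := g) (fun x => by
        have : (g : F →+* F).comp (algebraMap (ZMod p) F) = algebraMap (ZMod p) F :=
          Subsingleton.elim _ _
        exact RingHom.congr_fun this x)
      left_inv := fun f => by ext; rfl
      right_inv := fun g => by ext; rfl }
  rw [← Nat.card_congr e, h1, h2]

end count


section main
variable {F : Type*} [Field F] [Finite F] {p : ℕ} [hp : Fact p.Prime] [CharP F p]

/-- the covering map -/
noncomputable def cover (p : ℕ) [Fact p.Prime] [CharP F p] (x₀ : F) :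
    ZMod p ⊕ ((F ≃+* F) × Option (ZMod p) × ZMod p × ZMod p) → F
  | Sum.inl i => pf F p i
  | Sum.inr (σ, none, k, l) => σ (pf F p k + pf F p l * x₀)
  | Sum.inr (σ, some m, k, l) => σ ((pf F p k + pf F p l * x₀) / (x₀ + pf F p m))

theorem cover_surjective {x₀ : F} (hx₀ : x₀ ∉ Set.range (pf F p)) (Γ : Set (F → F))
    (hsemi : ∀ f ∈ Γ, ∃ (a : F) (σ : F ≃+* F), a ≠ 0 ∧ ∀ x, f x = a * σ x)
    (htrans : ∀ A B : AddSubgroup F, Nat.card A = p ^ 2 → Nat.card B = p ^ 2 →
      ∃ f ∈ Γ, f '' (A : Set F) = (B : Set F)) :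
    Function.Surjective (cover p x₀) := by
  intro y
  by_cases hy : y ∈ Set.range (pf F p)
  · obtain ⟨i, rfl⟩ := hy; exact ⟨Sum.inl i, rfl⟩
  · obtain ⟨f, hf, hfAB⟩ := htrans (plane p x₀) (plane p y) (card_plane hx₀) (card_plane hy)
    obtain ⟨a, σ, ha, hfa⟩ := hsemi f hf
    have h1 : (1 : F) ∈ f '' (plane p x₀ : Set F) := by rw [hfAB]; exact one_mem_plane y
    have h2 : y ∈ f '' (plane p x₀ : Set F) := by rw [hfAB]; exact self_mem_plane y
    obtain ⟨b, ⟨⟨i, j⟩, rfl⟩, hb⟩ := h1
    obtain ⟨c, ⟨⟨k, l⟩, rfl⟩, hc⟩ := h2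
    rw [hfa, planeHom_apply] at hb hc
    have hσb : σ (pf F p i + pf F p j * x₀) ≠ 0 := by
      intro h0; rw [h0, mul_zero] at hb; exact zero_ne_one hb
    have hb0 : pf F p i + pf F p j * x₀ ≠ 0 := fun h0 => hσb (by rw [h0, map_zero])
    have hy' : y = σ ((pf F p k + pf F p l * x₀) / (pf F p i + pf F p j * x₀)) := by
      rw [map_div₀, ← hc]
      have : a = (σ (pf F p i + pf F p j * x₀))⁻¹ := eq_inv_of_mul_eq_one_left hb
      rw [this]; field_simp
    by_cases hj : j = 0
    · have hi : i ≠ 0 := by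
        rintro rfl; apply hb0; rw [hj]; simp
      have hpi : pf F p i ≠ 0 := fun h0 => hi (pf_injective (F := F) (by simpa using h0))
      refine ⟨Sum.inr (σ, none, k / i, l / i), ?_⟩
      show σ (pf F p (k / i) + pf F p (l / i) * x₀) = y
      rw [hy']; congr 1
      rw [hj, map_zero, zero_mul, add_zero, map_div₀, map_div₀]
      field_simp
    · have hpj : pf F p j ≠ 0 := fun h0 => hj (pf_injective (F := F) (by simpa using h0))
      refine ⟨Sum.inr (σ, some (i / j), k / j, l / j), ?_⟩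
      show σ ((pf F p (k / j) + pf F p (l / j) * x₀) / (x₀ + pf F p (i / j))) = y
      rw [hy']; congr 1
      have hij : pf F p i = pf F p j * pf F p (i / j) := by
        rw [← map_mul, mul_div_cancel₀ _ hj]
      have hden : x₀ + pf F p (i / j) ≠ 0 := by
        intro h0
        apply hb0
        rw [hij]; linear_combination (pf F p j) * h0
      rw [div_eq_div_iff hden hb0, map_div₀, map_div₀, map_div₀]
      field_simp
      ring

theorem exists_not_mem_range {n : ℕ} (hcard : Nat.card F = p ^ n) (hn : 2 ≤ n) :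
    ∃ x₀ : F, x₀ ∉ Set.range (pf F p) := by
  by_contra hcon
  push Not at hcon
  have hs : Function.Surjective (pf F p) := hcon
  have h1 := Nat.card_le_card_of_surjective _ hs
  rw [Nat.card_zmod, hcard] at h1
  have h2 : p ^ 2 ≤ p ^ n := Nat.pow_le_pow_right hp.out.pos hn
  have h3 : p < p ^ 2 := by
    have := hp.out.two_le; nlinarith
  omega

theorem card_le {n : ℕ} (hcard : Nat.card F = p ^ n) (hn : 2 ≤ n) (Γ : Set (F → F))
    (hsemi : ∀ f ∈ Γ, ∃ (a : F) (σ : F ≃+* F), a ≠ 0 ∧ ∀ x, f x = a * σ x)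
    (htrans : ∀ A B : AddSubgroup F, Nat.card A = p ^ 2 → Nat.card B = p ^ 2 →
      ∃ f ∈ Γ, f '' (A : Set F) = (B : Set F)) :
    p ^ n ≤ p + n * ((p + 1) * (p * p)) := by
  obtain ⟨x₀, hx₀⟩ := exists_not_mem_range (p := p) hcard hn
  have : Finite (F ≃+* F) := Finite.of_injective (fun e : F ≃+* F => (e : F → F)) DFunLike.coe_injective
  have h := Nat.card_le_card_of_surjective _ (cover_surjective hx₀ Γ hsemi htrans)
  rw [hcard, Nat.card_sum, Nat.card_prod, Nat.card_prod, Nat.card_prod, Finite.card_option, Nat.card_zmod,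
    card_ringAut hcard] at h
  exact h

end main


section parity
variable {F : Type*} [Field F] [Finite F] {p : ℕ} [hp : Fact p.Prime] [CharP F p]

theorem exists_pow_ne {n : ℕ} (hcard : Nat.card F = p ^ n) (hn : 3 ≤ n) : ∃ x : F, x ^ (p ^ 2) ≠ x := by
  by_contra hcon
  push Not at hcon
  obtain ⟨g, hg⟩ := IsCyclic.exists_generator (α := Fˣ)
  have hord : orderOf g = Nat.card Fˣ := orderOf_eq_card_of_forall_mem_zpowers hg
  have hcu : Nat.card Fˣ = p ^ n - 1 := by rw [Nat.card_units, hcard]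
  have hg1 : g ^ (p ^ 2 - 1) = 1 := by
    have h := hcon (g : F)
    apply Units.ext
    push_cast
    have hg0 : (g : F) ≠ 0 := g.ne_zero
    have : (g : F) ^ (p ^ 2 - 1) * g = 1 * g := by
      rw [← pow_succ, Nat.sub_add_cancel (Nat.one_le_pow _ _ hp.out.pos), h, one_mul]
    exact mul_right_cancel₀ hg0 this
  have hdvd : orderOf g ∣ p ^ 2 - 1 := orderOf_dvd_of_pow_eq_one hg1
  rw [hord, hcu] at hdvd
  have h2 : 1 < p ^ 2 := Nat.one_lt_pow (by norm_num) hp.out.one_lt
  have hle := Nat.le_of_dvd (by omega) hdvd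
  have h3 : p ^ 2 < p ^ n := Nat.pow_lt_pow_right hp.out.one_lt (by omega)
  omega

theorem not_even {n : ℕ} (hcard : Nat.card F = p ^ n) (hn : 3 ≤ n) (Γ : Set (F → F))
    (hsemi : ∀ f ∈ Γ, ∃ (a : F) (σ : F ≃+* F), a ≠ 0 ∧ ∀ x, f x = a * σ x)
    (htrans : ∀ A B : AddSubgroup F, Nat.card A = p ^ 2 → Nat.card B = p ^ 2 →
      ∃ f ∈ Γ, f '' (A : Set F) = (B : Set F)) : ¬ 2 ∣ n := by
  intro h2
  let _ := ZMod.algebra F p
  have hfr : Module.finrank (ZMod p) F = n := by
    have := FiniteField.pow_finrank_eq_natCard p F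
    rw [hcard] at this
    exact Nat.pow_right_injective hp.out.two_le this
  have hfr2 : Module.finrank (ZMod p) (GaloisField p 2) = 2 := GaloisField.finrank p (by norm_num)
  obtain ⟨φ⟩ := FiniteField.nonempty_algHom_of_finrank_dvd (F := ZMod p) (K := GaloisField p 2) (L := F)
    (by rw [hfr, hfr2]; exact h2)
  let ψ₀ : GaloisField p 2 →+* F := φ.toRingHom
  let K : AddSubgroup F := ψ₀.toAddMonoidHom.range
  have hK : Nat.card K = p ^ 2 := by
    have e : GaloisField p 2 ≃ K :=
      (AddMonoidHom.ofInjective (f := ψ₀.toAddMonoidHom) ψ₀.injective).toEquiv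
    rw [← Nat.card_congr e, GaloisField.card p 2 (by norm_num)]
  obtain ⟨x, hx⟩ := exists_pow_ne (p := p) hcard hn
  have hxr : x ∉ Set.range (pf F p) := by
    rintro ⟨z, rfl⟩; exact hx (pf_pow z 2)
  obtain ⟨f, hf, hfAB⟩ := htrans K (plane p x) hK (card_plane hxr)
  obtain ⟨a, σ, ha, hfa⟩ := hsemi f hf
  have h1 : (1 : F) ∈ f '' (K : Set F) := by rw [hfAB]; exact one_mem_plane x
  have h2' : x ∈ f '' (K : Set F) := by rw [hfAB]; exact self_mem_plane x
  obtain ⟨_, ⟨z₁, rfl⟩, hb⟩ := h1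
  obtain ⟨_, ⟨z₂, rfl⟩, hc⟩ := h2'
  rw [hfa] at hb hc
  change a * σ (ψ₀ z₁) = 1 at hb
  change a * σ (ψ₀ z₂) = x at hc
  have hσb : σ (ψ₀ z₁) ≠ 0 := by
    intro h0; rw [h0, mul_zero] at hb; exact zero_ne_one hb
  have hxeq : x = σ (ψ₀ (z₂ / z₁)) := by
    rw [map_div₀, map_div₀, ← hc, eq_inv_of_mul_eq_one_left hb]; field_simp
  apply hx
  rw [hxeq, ← map_pow, ← map_pow]
  congr 2
  have : Fintype (GaloisField p 2) := Fintype.ofFinite _
  have hc2 : Fintype.card (GaloisField p 2) = p ^ 2 := by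
    rw [← Nat.card_eq_fintype_card, GaloisField.card p 2 (by norm_num)]
  have := FiniteField.pow_card (z₂ / z₁)
  rwa [hc2] at this

end parity

section arith

theorem two_pow_gt (n : ℕ) (hn : 7 ≤ n) : 2 * n + 1 < 2 ^ (n - 3) := by
  induction n, hn using Nat.le_induction with
  | base => norm_num
  | succ m hm ih =>
    have : m + 1 - 3 = (m - 3) + 1 := by omega
    rw [this, pow_succ]
    omega

theorem arith {p n : ℕ} (hp : 2 ≤ p) (hn : 3 ≤ n) (hodd : ¬ 2 ∣ n)
    (h : p ^ n ≤ p + n * ((p + 1) * (p * p))) : n = 3 ∨ (n = 5 ∧ p = 2) := by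
  by_cases h3 : n = 3
  · exact Or.inl h3
  right
  have h5 : 5 ≤ n := by omega
  by_cases h5' : n = 5
  · subst h5'
    refine ⟨rfl, ?_⟩
    by_contra hp2
    have hp3 : 3 ≤ p := by omega
    have e : p ^ 5 = p ^ 2 * p ^ 3 := by ring
    have h9 : 9 ≤ p ^ 2 := by nlinarith
    have hp3' : 27 ≤ p ^ 3 := by
      calc 27 = 3 ^ 3 := by norm_num
        _ ≤ p ^ 3 := Nat.pow_le_pow_left hp3 3
    nlinarith [Nat.pow_le_pow_left hp3 2]
  · exfalso
    have h7 : 7 ≤ n := by omega
    have hP : 2 * n + 1 < p ^ (n - 3) :=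
      lt_of_lt_of_le (two_pow_gt n h7) (Nat.pow_le_pow_left hp (n - 3))
    have e : p ^ n = p ^ (n - 3) * p ^ 3 := by
      rw [← pow_add]; congr 1; omega
    rw [e] at h
    have hp3' : 8 ≤ p ^ 3 := by
      calc 8 = 2 ^ 3 := by norm_num
        _ ≤ p ^ 3 := Nat.pow_le_pow_left hp 3
    have h1 : (2 * n + 2) * p ^ 3 ≤ p ^ (n - 3) * p ^ 3 := Nat.mul_le_mul_right _ (by omega)
    have h2 : p + n * ((p + 1) * (p * p)) < (2 * n + 2) * p ^ 3 := by
      have : p ^ 3 = p * p * p := by ring
      have hpp : p * p ≤ p * p * p := by nlinarith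
      nlinarith
    omega

end arith

section final
variable {F : Type*} [Field F] [Finite F] {p : ℕ} [hp : Fact p.Prime]

/-- **Main theorem (S4025 PART C, generic form).** A set of maps `x ↦ a * σ x` on a finite field of order `p ^ n`,
`n ≥ 3`, which is transitive on the additive subgroups of order `p ^ 2`, forces `n = 3` or `(n, p) = (5, 2)`. -/
theorem main {n : ℕ} (hcard : Nat.card F = p ^ n) (hn : 3 ≤ n) (Γ : Set (F → F))
    (hsemi : ∀ f ∈ Γ, ∃ (a : F) (σ : F ≃+* F), a ≠ 0 ∧ ∀ x, f x = a * σ x)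
    (htrans : ∀ A B : AddSubgroup F, Nat.card A = p ^ 2 → Nat.card B = p ^ 2 →
      ∃ f ∈ Γ, f '' (A : Set F) = (B : Set F)) : n = 3 ∨ (n = 5 ∧ p = 2) := by
  have := charP_of_card (p := p) hcard
  exact arith hp.out.two_le hn (not_even hcard hn Γ hsemi htrans)
    (card_le hcard (by omega) Γ hsemi htrans)

end final

end Cfsg.Agent.Lib.Helper20.PlaneCount
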