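import Mathlib
import Cfsg.Agent.Lib.Helper20.PlaneCount

set_option autoImplicit false

/-!
# S4025 PART C (helper20): proof of helper2's interface `partC` modulo the two subgroup counts
-/

namespace Cfsg.Agent.Lib.Helper20.HC25C

open Pointwise

section SL
variable (F : Type*) [Field F]

/-- the permutation `x ↦ a * σ x` -/
def slPerm (a : F) (ha : a ≠ 0) (σ : F ≃+* F) : Equiv.Perm F where
  toFun x := a * σ x
  invFun y := σ.symm (a⁻¹ * y)
  left_inv x := by simp [ha]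
  right_inv y := by simp [ha]

/-- `ΓL₁(F)` as a group of permutations of `F` -/
def semilin : Subgroup (Equiv.Perm F) where
  carrier := {π | ∃ (a : F) (σ : F ≃+* F), a ≠ 0 ∧ ∀ x, π x = a * σ x}
  mul_mem' := by
    rintro π₁ π₂ ⟨a, σ, ha, h₁⟩ ⟨b, τ, hb, h₂⟩
    refine ⟨a * σ b, τ.trans σ, mul_ne_zero ha ((map_ne_zero σ).mpr hb), fun x => ?_⟩
    rw [Equiv.Perm.mul_apply, h₁, h₂, map_mul, RingEquiv.trans_apply, mul_assoc]
  one_mem' := ⟨1, RingEquiv.refl F, one_ne_zero, fun x => by simp⟩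
  inv_mem' := by
    rintro π ⟨a, σ, ha, h⟩
    refine ⟨σ.symm a⁻¹, σ.symm, (map_ne_zero σ.symm).mpr (inv_ne_zero ha), fun x => ?_⟩
    apply π.injective
    have e1 : π (π⁻¹ x) = x := by simp
    rw [e1, h, map_mul, RingEquiv.apply_symm_apply, RingEquiv.apply_symm_apply,
      ← mul_assoc, mul_inv_cancel₀ ha, one_mul]

theorem card_semilin [Finite F] :
    Nat.card (semilin F) = (Nat.card F - 1) * Nat.card (F ≃+* F) := by
  have : Finite (F ≃+* F) :=
    Finite.of_injective (fun e : F ≃+* F => (e : F → F)) DFunLike.coe_injective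
  let Φ : {a : F // a ≠ 0} × (F ≃+* F) → semilin F := fun aσ =>
    ⟨slPerm F aσ.1.1 aσ.1.2 aσ.2, aσ.1.1, aσ.2, aσ.1.2, fun _ => rfl⟩
  have hinj : Function.Injective Φ := by
    rintro ⟨⟨a, ha⟩, σ⟩ ⟨⟨b, hb⟩, τ⟩ h
    have h' : ∀ x, a * σ x = b * τ x := fun x => by
      have := congrArg (fun π : semilin F => (π : Equiv.Perm F) x) h
      exact this
    have hab : a = b := by simpa using h' 1
    subst hab
    have hστ : σ = τ := by
      ext x
      exact mul_left_cancel₀ ha (h' x)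
    subst hστ
    rfl
  have hsurj : Function.Surjective Φ := by
    rintro ⟨π, a, σ, ha, h⟩
    refine ⟨⟨⟨a, ha⟩, σ⟩, ?_⟩
    apply Subtype.ext
    ext x
    exact (h x).symm
  rw [← Nat.card_congr (Equiv.ofBijective Φ ⟨hinj, hsurj⟩), Nat.card_prod,
    ← Nat.card_congr (unitsEquivNeZero (G₀ := F)), Nat.card_units]

end SL

section orbit
variable {V : Type*} [AddCommGroup V] [Finite V]

theorem card_subgroups_dvd (Γ : Subgroup (Equiv.Perm V))
    (hadd : ∀ γ ∈ Γ, ∀ v w : V, γ (v + w) = γ v + γ w)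
    (htr : ∀ U₁ U₂ : AddSubgroup V, Nat.card U₁ = Nat.card U₂ → ∃ γ ∈ Γ, ∀ v, v ∈ U₁ ↔ γ v ∈ U₂)
    (k : ℕ) (U₀ : AddSubgroup V) (hU₀ : Nat.card U₀ = k) :
    Nat.card {U : AddSubgroup V // Nat.card U = k} ∣ Nat.card Γ := by
  have hsm : ∀ (γ : Γ) (S : Set V), γ • S = (γ : Equiv.Perm V) '' S := by
    intro γ S
    ext x
    simp only [Set.mem_smul_set, Set.mem_image]
    rfl
  have horb : MulAction.orbit Γ (U₀ : Set V)
      = Set.range (fun U : {U : AddSubgroup V // Nat.card U = k} => ((U : AddSubgroup V) : Set V)) := by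
    ext S
    constructor
    · rintro ⟨γ, rfl⟩
      let φ : V →+ V := AddMonoidHom.mk' (γ : Equiv.Perm V) (hadd γ γ.2)
      have hφ : Function.Injective φ := (γ : Equiv.Perm V).injective
      refine ⟨⟨U₀.map φ, ?_⟩, ?_⟩
      · rw [AddSubgroup.card_map_of_injective hφ, hU₀]
      · show ((U₀.map φ : AddSubgroup V) : Set V) = γ • (U₀ : Set V)
        rw [hsm, AddSubgroup.coe_map]
        rfl
    · rintro ⟨⟨U, hU⟩, rfl⟩
      obtain ⟨γ, hγ, h⟩ := htr U₀ U (hU₀.trans hU.symm)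
      refine ⟨⟨γ, hγ⟩, ?_⟩
      show (⟨γ, hγ⟩ : Γ) • (U₀ : Set V) = (U : Set V)
      rw [hsm]
      ext y
      constructor
      · rintro ⟨v, hv, rfl⟩
        exact (h v).mp hv
      · intro hy
        refine ⟨γ.symm y, (h _).mpr ?_, by simp⟩
        simpa using hy
  have hinj : Function.Injective
      (fun U : {U : AddSubgroup V // Nat.card U = k} => ((U : AddSubgroup V) : Set V)) := by
    intro U U' h
    exact Subtype.ext (SetLike.coe_injective h)
  have h1 := MulAction.index_stabilizer Γ (U₀ : Set V)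
  rw [horb, ← Nat.card_coe_set_eq, Nat.card_range_of_injective hinj] at h1
  rw [← h1]
  exact Subgroup.index_dvd_card _

end orbit


section final

universe u

open Cfsg.Agent.Lib.Helper20.PlaneCount in
theorem partC_of_counts {p : ℕ} [hp : Fact p.Prime] {V : Type u} [AddCommGroup V] [Finite V] (n : ℕ) (hn : 3 ≤ n)
    (hV : Nat.card V = p ^ n)
    (Γ : Subgroup (Equiv.Perm V)) (hadd : ∀ γ ∈ Γ, ∀ v w : V, γ (v + w) = γ v + γ w)
    (htr : ∀ U₁ U₂ : AddSubgroup V, Nat.card U₁ = Nat.card U₂ → ∃ γ ∈ Γ, ∀ v, v ∈ U₁ ↔ γ v ∈ U₂)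
    {F : Type} [Field F] [Fintype F] (e : V ≃+ F)
    (hsl : ∀ γ ∈ Γ, ∃ (a : F) (σ : F ≃+* F), ∀ v, e (γ v) = a * σ (e v))
    (hN1 : Nat.card {U : AddSubgroup V // Nat.card ↥U = p} * (p - 1) = p ^ n - 1)
    (hN2 : Nat.card {U : AddSubgroup V // Nat.card ↥U = p ^ 2} * ((p ^ 2 - 1) * (p ^ 2 - p))
      = (p ^ n - 1) * (p ^ n - p)) :
    (n = 3 ∧ (p = 2 → Nat.card ↥Γ = 7 ∨ Nat.card ↥Γ = 21)) ∨ (n = 5 ∧ p = 2 ∧ Nat.card ↥Γ = 155) := by
  have hF : Nat.card F = p ^ n := by rw [← hV]; exact Nat.card_congr e.symm.toEquiv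
  have hchar : CharP F p := charP_of_card (p := p) hF
  -- `a ≠ 0` in `hsl`
  have hsl' : ∀ γ ∈ Γ, ∃ (a : F) (σ : F ≃+* F), a ≠ 0 ∧ ∀ v, e (γ v) = a * σ (e v) := by
    intro γ hγ
    obtain ⟨a, σ, h⟩ := hsl γ hγ
    refine ⟨a, σ, ?_, h⟩
    rintro rfl
    have h1 := h (e.symm 1)
    have h0 := h (e.symm 0)
    rw [zero_mul] at h1 h0
    have : e.symm (1 : F) = e.symm 0 :=
      γ.injective (e.injective (h1.trans h0.symm))
    exact one_ne_zero (e.symm.injective this)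
  -- the transported set of maps
  let Γ' : Set (F → F) := {f | ∃ γ ∈ Γ, ∀ x, f x = e (γ (e.symm x))}
  have hsemi : ∀ f ∈ Γ', ∃ (a : F) (σ : F ≃+* F), a ≠ 0 ∧ ∀ x, f x = a * σ x := by
    rintro f ⟨γ, hγ, hf⟩
    obtain ⟨a, σ, ha, h⟩ := hsl' γ hγ
    refine ⟨a, σ, ha, fun x => ?_⟩
    rw [hf, h, AddEquiv.apply_symm_apply]
  have hcomap : ∀ A : AddSubgroup F, Nat.card (A.comap e.toAddMonoidHom) = Nat.card A := by
    intro A
    exact Nat.card_congr (e.toEquiv.subtypeEquiv (fun v => Iff.rfl))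
  have htrans : ∀ A B : AddSubgroup F, Nat.card A = p ^ 2 → Nat.card B = p ^ 2 →
      ∃ f ∈ Γ', f '' (A : Set F) = (B : Set F) := by
    intro A B hA hB
    obtain ⟨γ, hγ, h⟩ := htr (A.comap e.toAddMonoidHom) (B.comap e.toAddMonoidHom)
      (by rw [hcomap, hcomap, hA, hB])
    refine ⟨fun x => e (γ (e.symm x)), ⟨γ, hγ, fun _ => rfl⟩, ?_⟩
    ext y
    constructor
    · rintro ⟨x, hx, rfl⟩
      have : e.symm x ∈ A.comap e.toAddMonoidHom := by
        show e (e.symm x) ∈ A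
        rwa [AddEquiv.apply_symm_apply]
      exact (h _).mp this
    · intro hy
      have h1 : γ (γ.symm (e.symm y)) ∈ B.comap e.toAddMonoidHom := by
        show e (γ (γ.symm (e.symm y))) ∈ B
        rw [Equiv.apply_symm_apply, AddEquiv.apply_symm_apply]
        exact hy
      have h2 := (h _).mpr h1
      refine ⟨e (γ.symm (e.symm y)), h2, ?_⟩
      show e (γ (e.symm (e (γ.symm (e.symm y))))) = y
      rw [AddEquiv.symm_apply_apply, Equiv.apply_symm_apply, AddEquiv.apply_symm_apply]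
  have hcases := main (p := p) hF hn Γ' hsemi htrans
  -- `|Γ|` divides `(p ^ n - 1) * n`
  have hdvd : Nat.card Γ ∣ (p ^ n - 1) * n := by
    have hle : Γ.map (e.toEquiv.permCongrHom).toMonoidHom ≤ semilin F := by
      rintro _ ⟨γ, hγ, rfl⟩
      obtain ⟨a, σ, ha, h⟩ := hsl' γ hγ
      refine ⟨a, σ, ha, fun x => ?_⟩
      have := h (e.symm x)
      rw [AddEquiv.apply_symm_apply] at this
      rw [← this]
      rfl
    have h1 := Subgroup.card_dvd_of_le hle
    rw [Subgroup.card_map_of_injective (e.toEquiv.permCongrHom).injective, card_semilin, hF,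
      card_ringAut hF] at h1
    exact h1
  rcases hcases with h3 | ⟨h5, h2⟩
  · left
    refine ⟨h3, ?_⟩
    intro h2
    subst h3
    subst h2
    -- seven subgroups of order two
    have hN : Nat.card {U : AddSubgroup V // Nat.card ↥U = 2} = 7 := by
      norm_num at hN1
      exact hN1
    have hne : Nonempty {U : AddSubgroup V // Nat.card ↥U = 2} := by
      by_contra hcon
      rw [not_nonempty_iff] at hcon
      rw [Nat.card_of_isEmpty] at hN
      omega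
    obtain ⟨⟨U₀, hU₀⟩⟩ := hne
    have h7 := card_subgroups_dvd Γ hadd htr 2 U₀ hU₀
    rw [hN] at h7
    norm_num at hdvd
    obtain ⟨c, hc⟩ := h7
    rw [hc] at hdvd ⊢
    have hc3 : c ∣ 3 := by
      have : 7 * c ∣ 7 * 3 := by simpa using hdvd
      exact Nat.dvd_of_mul_dvd_mul_left (by norm_num) this
    rcases (Nat.dvd_prime Nat.prime_three).mp hc3 with rfl | rfl
    · left; rfl
    · right; rfl
  · right
    refine ⟨h5, h2, ?_⟩
    subst h5
    subst h2
    have hN : Nat.card {U : AddSubgroup V // Nat.card ↥U = 2 ^ 2} = 155 := by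
      have e1 : ((2 : ℕ) ^ 2 - 1) * (2 ^ 2 - 2) = 6 := by norm_num
      have e2 : ((2 : ℕ) ^ 5 - 1) * (2 ^ 5 - 2) = 930 := by norm_num
      rw [e1, e2] at hN2
      omega
    have hne : Nonempty {U : AddSubgroup V // Nat.card ↥U = 2 ^ 2} := by
      by_contra hcon
      rw [not_nonempty_iff] at hcon
      rw [Nat.card_of_isEmpty] at hN
      omega
    obtain ⟨⟨U₀, hU₀⟩⟩ := hne
    have h155 := card_subgroups_dvd Γ hadd htr (2 ^ 2) U₀ hU₀
    rw [hN] at h155
    norm_num at hdvd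
    exact Nat.dvd_antisymm hdvd h155


open Cfsg.Agent.Lib.Helper20.PlaneCount in
/-- the common part: the two cases for `n`, and `|Γ| ∣ (p ^ n - 1) * n`. -/
theorem core {p : ℕ} [hp : Fact p.Prime] {V : Type u} [AddCommGroup V] [Finite V] (n : ℕ) (hn : 3 ≤ n)
    (hV : Nat.card V = p ^ n)
    (Γ : Subgroup (Equiv.Perm V))
    (htr : ∀ U₁ U₂ : AddSubgroup V, Nat.card U₁ = Nat.card U₂ → ∃ γ ∈ Γ, ∀ v, v ∈ U₁ ↔ γ v ∈ U₂)
    {F : Type} [Field F] [Fintype F] (e : V ≃+ F)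
    (hsl : ∀ γ ∈ Γ, ∃ (a : F) (σ : F ≃+* F), ∀ v, e (γ v) = a * σ (e v)) :
    (n = 3 ∨ (n = 5 ∧ p = 2)) ∧ Nat.card Γ ∣ (p ^ n - 1) * n := by
  have hF : Nat.card F = p ^ n := by rw [← hV]; exact Nat.card_congr e.symm.toEquiv
  have hchar : CharP F p := charP_of_card (p := p) hF
  have hsl' : ∀ γ ∈ Γ, ∃ (a : F) (σ : F ≃+* F), a ≠ 0 ∧ ∀ v, e (γ v) = a * σ (e v) := by
    intro γ hγ
    obtain ⟨a, σ, h⟩ := hsl γ hγ
    refine ⟨a, σ, ?_, h⟩
    rintro rfl
    have h1 := h (e.symm 1)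
    have h0 := h (e.symm 0)
    rw [zero_mul] at h1 h0
    have : e.symm (1 : F) = e.symm 0 :=
      γ.injective (e.injective (h1.trans h0.symm))
    exact one_ne_zero (e.symm.injective this)
  let Γ' : Set (F → F) := {f | ∃ γ ∈ Γ, ∀ x, f x = e (γ (e.symm x))}
  have hsemi : ∀ f ∈ Γ', ∃ (a : F) (σ : F ≃+* F), a ≠ 0 ∧ ∀ x, f x = a * σ x := by
    rintro f ⟨γ, hγ, hf⟩
    obtain ⟨a, σ, ha, h⟩ := hsl' γ hγ
    refine ⟨a, σ, ha, fun x => ?_⟩
    rw [hf, h, AddEquiv.apply_symm_apply]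
  have hcomap : ∀ A : AddSubgroup F, Nat.card (A.comap e.toAddMonoidHom) = Nat.card A := by
    intro A
    exact Nat.card_congr (e.toEquiv.subtypeEquiv (fun v => Iff.rfl))
  have htrans : ∀ A B : AddSubgroup F, Nat.card A = p ^ 2 → Nat.card B = p ^ 2 →
      ∃ f ∈ Γ', f '' (A : Set F) = (B : Set F) := by
    intro A B hA hB
    obtain ⟨γ, hγ, h⟩ := htr (A.comap e.toAddMonoidHom) (B.comap e.toAddMonoidHom)
      (by rw [hcomap, hcomap, hA, hB])
    refine ⟨fun x => e (γ (e.symm x)), ⟨γ, hγ, fun _ => rfl⟩, ?_⟩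
    ext y
    constructor
    · rintro ⟨x, hx, rfl⟩
      have : e.symm x ∈ A.comap e.toAddMonoidHom := by
        show e (e.symm x) ∈ A
        rwa [AddEquiv.apply_symm_apply]
      exact (h _).mp this
    · intro hy
      have h1 : γ (γ.symm (e.symm y)) ∈ B.comap e.toAddMonoidHom := by
        show e (γ (γ.symm (e.symm y))) ∈ B
        rw [Equiv.apply_symm_apply, AddEquiv.apply_symm_apply]
        exact hy
      have h2 := (h _).mpr h1
      refine ⟨e (γ.symm (e.symm y)), h2, ?_⟩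
      show e (γ (e.symm (e (γ.symm (e.symm y))))) = y
      rw [AddEquiv.symm_apply_apply, Equiv.apply_symm_apply, AddEquiv.apply_symm_apply]
  refine ⟨main (p := p) hF hn Γ' hsemi htrans, ?_⟩
  have hle : Γ.map (e.toEquiv.permCongrHom).toMonoidHom ≤ semilin F := by
    rintro _ ⟨γ, hγ, rfl⟩
    obtain ⟨a, σ, ha, h⟩ := hsl' γ hγ
    refine ⟨a, σ, ha, fun x => ?_⟩
    have := h (e.symm x)
    rw [AddEquiv.apply_symm_apply] at this
    rw [← this]
    rfl
  have h1 := Subgroup.card_dvd_of_le hle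
  rw [Subgroup.card_map_of_injective (e.toEquiv.permCongrHom).injective, card_semilin, hF,
    card_ringAut hF] at h1
  exact h1

/-- **S4025 `partC` from the count of the subgroups of order `p ^ 2` alone.** -/
theorem partC_of_planes {p : ℕ} [hp : Fact p.Prime] {V : Type u} [AddCommGroup V] [Finite V] (n : ℕ) (hn : 3 ≤ n)
    (hV : Nat.card V = p ^ n)
    (Γ : Subgroup (Equiv.Perm V)) (hadd : ∀ γ ∈ Γ, ∀ v w : V, γ (v + w) = γ v + γ w)
    (htr : ∀ U₁ U₂ : AddSubgroup V, Nat.card U₁ = Nat.card U₂ → ∃ γ ∈ Γ, ∀ v, v ∈ U₁ ↔ γ v ∈ U₂)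
    {F : Type} [Field F] [Fintype F] (e : V ≃+ F)
    (hsl : ∀ γ ∈ Γ, ∃ (a : F) (σ : F ≃+* F), ∀ v, e (γ v) = a * σ (e v))
    (hN2 : Nat.card {U : AddSubgroup V // Nat.card ↥U = p ^ 2} * ((p ^ 2 - 1) * (p ^ 2 - p))
      = (p ^ n - 1) * (p ^ n - p)) :
    (n = 3 ∧ (p = 2 → Nat.card ↥Γ = 7 ∨ Nat.card ↥Γ = 21)) ∨ (n = 5 ∧ p = 2 ∧ Nat.card ↥Γ = 155) := by
  obtain ⟨hcases, hdvd⟩ := core n hn hV Γ htr e hsl
  rcases hcases with h3 | ⟨h5, h2⟩
  · left
    refine ⟨h3, ?_⟩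
    intro h2
    subst h3
    subst h2
    have hN : Nat.card {U : AddSubgroup V // Nat.card ↥U = 2 ^ 2} = 7 := by
      have e1 : ((2 : ℕ) ^ 2 - 1) * (2 ^ 2 - 2) = 6 := by norm_num
      have e2 : ((2 : ℕ) ^ 3 - 1) * (2 ^ 3 - 2) = 42 := by norm_num
      rw [e1, e2] at hN2
      omega
    have hne : Nonempty {U : AddSubgroup V // Nat.card ↥U = 2 ^ 2} := by
      by_contra hcon
      rw [not_nonempty_iff] at hcon
      rw [Nat.card_of_isEmpty] at hN
      omega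
    obtain ⟨⟨U₀, hU₀⟩⟩ := hne
    have h7 := card_subgroups_dvd Γ hadd htr (2 ^ 2) U₀ hU₀
    rw [hN] at h7
    norm_num at hdvd
    obtain ⟨c, hc⟩ := h7
    rw [hc] at hdvd ⊢
    have hc3 : c ∣ 3 := by
      have : 7 * c ∣ 7 * 3 := by simpa using hdvd
      exact Nat.dvd_of_mul_dvd_mul_left (by norm_num) this
    rcases (Nat.dvd_prime Nat.prime_three).mp hc3 with rfl | rfl
    · left; rfl
    · right; rfl
  · right
    refine ⟨h5, h2, ?_⟩
    subst h5
    subst h2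
    have hN : Nat.card {U : AddSubgroup V // Nat.card ↥U = 2 ^ 2} = 155 := by
      have e1 : ((2 : ℕ) ^ 2 - 1) * (2 ^ 2 - 2) = 6 := by norm_num
      have e2 : ((2 : ℕ) ^ 5 - 1) * (2 ^ 5 - 2) = 930 := by norm_num
      rw [e1, e2] at hN2
      omega
    have hne : Nonempty {U : AddSubgroup V // Nat.card ↥U = 2 ^ 2} := by
      by_contra hcon
      rw [not_nonempty_iff] at hcon
      rw [Nat.card_of_isEmpty] at hN
      omega
    obtain ⟨⟨U₀, hU₀⟩⟩ := hne
    have h155 := card_subgroups_dvd Γ hadd htr (2 ^ 2) U₀ hU₀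
    rw [hN] at h155
    norm_num at hdvd
    exact Nat.dvd_antisymm hdvd h155

end final

end Cfsg.Agent.Lib.Helper20.HC25C
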