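import Mathlib
import Cfsg.Agent.Lib.Helper15.AltOrders
import Cfsg.Agent.Lib.Helper20.A10Core

/-!
# S3489 (helper20): the set of element orders of `A₁₀` is `{1,…,10,12,15,21}`
-/

set_option autoImplicit false

namespace Cfsg.Agent.Lib.Helper20.A10Alt

open Cfsg.Agent.Lib.Helper20.A10Core

/-- the multiset with `c_a` copies of `a`, `2 ≤ a ≤ 10` -/
def mk (c2 c3 c4 c5 c6 c7 c8 c9 c10 : ℕ) : Multiset ℕ :=
  c2 • {2} + c3 • {3} + c4 • {4} + c5 • {5} + c6 • {6} + c7 • {7} + c8 • {8} + c9 • {9} + c10 • {10}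

theorem eq_mk (m : Multiset ℕ) (h2 : ∀ a ∈ m, 2 ≤ a) (hs : m.sum ≤ 10) :
    m = mk (m.count 2) (m.count 3) (m.count 4) (m.count 5) (m.count 6) (m.count 7) (m.count 8) (m.count 9)
      (m.count 10) := by
  ext b
  unfold mk
  simp only [Multiset.count_add, Multiset.count_nsmul, Multiset.count_singleton]
  by_cases hb : 2 ≤ b ∧ b ≤ 10
  · obtain ⟨hb2, hb10⟩ := hb
    interval_cases b <;> simp
  · have hbm : b ∉ m := by
      intro hmem
      apply hb
      exact ⟨h2 b hmem, (Multiset.le_sum_of_mem hmem).trans hs⟩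
    rw [Multiset.count_eq_zero_of_notMem hbm]
    have : b < 2 ∨ 10 < b := by omega
    rcases this with h | h
    · have e : ∀ a, 2 ≤ a → ¬ (b = a) := fun a ha => by omega
      simp [e]
    · have e : ∀ a, a ≤ 10 → ¬ (b = a) := fun a ha => by omega
      simp [e]

theorem sum_mk (c2 c3 c4 c5 c6 c7 c8 c9 c10 : ℕ) :
    (mk c2 c3 c4 c5 c6 c7 c8 c9 c10).sum =
      2 * c2 + 3 * c3 + 4 * c4 + 5 * c5 + 6 * c6 + 7 * c7 + 8 * c8 + 9 * c9 + 10 * c10 := by
  unfold mk
  simp only [Multiset.sum_add, Multiset.sum_nsmul, Multiset.sum_singleton, smul_eq_mul]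
  ring

theorem card_mk (c2 c3 c4 c5 c6 c7 c8 c9 c10 : ℕ) :
    Multiset.card (mk c2 c3 c4 c5 c6 c7 c8 c9 c10) = c2 + c3 + c4 + c5 + c6 + c7 + c8 + c9 + c10 := by
  unfold mk
  simp only [Multiset.card_add, Multiset.card_nsmul, Multiset.card_singleton, mul_one]

/-- `a` if `c ≠ 0`, else `1` -/
def ff (c a : ℕ) : ℕ := if c = 0 then 1 else a

theorem lcm_nsmul_singleton (c a : ℕ) : (c • ({a} : Multiset ℕ)).lcm = ff c a := by
  induction c with
  | zero => simp [ff]
  | succ c ih =>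
    rw [succ_nsmul, Multiset.lcm_add, ih, Multiset.lcm_singleton]
    unfold ff
    by_cases hc : c = 0
    · simp [hc]
    · simp [hc]

theorem lcm_mk (c2 c3 c4 c5 c6 c7 c8 c9 c10 : ℕ) :
    (mk c2 c3 c4 c5 c6 c7 c8 c9 c10).lcm =
      Nat.lcm (Nat.lcm (Nat.lcm (Nat.lcm (Nat.lcm (Nat.lcm (Nat.lcm (Nat.lcm (ff c2 2) (ff c3 3)) (ff c4 4)) (ff c5 5))
        (ff c6 6)) (ff c7 7)) (ff c8 8)) (ff c9 9)) (ff c10 10) := by
  unfold mk
  simp only [Multiset.lcm_add, lcm_nsmul_singleton]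
  rfl

set_option maxRecDepth 1000000 in
theorem table : ∀ c2 ∈ Finset.range 6, ∀ c3 ∈ Finset.range 4, ∀ c4 ∈ Finset.range 3, ∀ c5 ∈ Finset.range 3,
    ∀ c6 ∈ Finset.range 2, ∀ c7 ∈ Finset.range 2, ∀ c8 ∈ Finset.range 2, ∀ c9 ∈ Finset.range 2,
    ∀ c10 ∈ Finset.range 2,
      2 * c2 + 3 * c3 + 4 * c4 + 5 * c5 + 6 * c6 + 7 * c7 + 8 * c8 + 9 * c9 + 10 * c10 ≤ 10 →
      (2 * c2 + 3 * c3 + 4 * c4 + 5 * c5 + 6 * c6 + 7 * c7 + 8 * c8 + 9 * c9 + 10 * c10 +
        (c2 + c3 + c4 + c5 + c6 + c7 + c8 + c9 + c10)) % 2 = 0 →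
      Nat.lcm (Nat.lcm (Nat.lcm (Nat.lcm (Nat.lcm (Nat.lcm (Nat.lcm (Nat.lcm (ff c2 2) (ff c3 3)) (ff c4 4)) (ff c5 5))
        (ff c6 6)) (ff c7 7)) (ff c8 8)) (ff c9 9)) (ff c10 10) ∈ SF := by
  decide +kernel

theorem lcm_mem_SF (m : Multiset ℕ) (hs : m.sum ≤ 10) (h2 : ∀ a ∈ m, 2 ≤ a)
    (he : Even (m.sum + Multiset.card m)) : m.lcm ∈ SF := by
  have hm := eq_mk m h2 hs
  generalize m.count 2 = c2 at hm
  generalize m.count 3 = c3 at hm
  generalize m.count 4 = c4 at hm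
  generalize m.count 5 = c5 at hm
  generalize m.count 6 = c6 at hm
  generalize m.count 7 = c7 at hm
  generalize m.count 8 = c8 at hm
  generalize m.count 9 = c9 at hm
  generalize m.count 10 = c10 at hm
  subst hm
  rw [sum_mk] at hs
  rw [sum_mk, card_mk, Nat.even_iff] at he
  rw [lcm_mk]
  exact table c2 (Finset.mem_range.mpr (by omega)) c3 (Finset.mem_range.mpr (by omega)) c4
    (Finset.mem_range.mpr (by omega)) c5 (Finset.mem_range.mpr (by omega)) c6 (Finset.mem_range.mpr (by omega)) c7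
    (Finset.mem_range.mpr (by omega)) c8 (Finset.mem_range.mpr (by omega)) c9 (Finset.mem_range.mpr (by omega)) c10
    (Finset.mem_range.mpr (by omega)) hs he

/-- the witnesses -/
theorem exists_multiset : ∀ k ∈ SF, ∃ m : Multiset ℕ, m.sum ≤ 10 ∧ (∀ a ∈ m, 2 ≤ a) ∧
    Even (m.sum + Multiset.card m) ∧ m.lcm = k := by
  intro k hk
  unfold SF at hk
  simp only [Finset.mem_insert, Finset.mem_singleton] at hk
  rcases hk with rfl | rfl | rfl | rfl | rfl | rfl | rfl | rfl | rfl | rfl | rfl | rfl | rfl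
  · exact ⟨0, by decide, by decide, by decide, by decide⟩
  · exact ⟨{2, 2}, by decide, by decide, by decide, by decide⟩
  · exact ⟨{3}, by decide, by decide, by decide, by decide⟩
  · exact ⟨{4, 2}, by decide, by decide, by decide, by decide⟩
  · exact ⟨{5}, by decide, by decide, by decide, by decide⟩
  · exact ⟨{3, 2, 2}, by decide, by decide, by decide, by decide⟩
  · exact ⟨{7}, by decide, by decide, by decide, by decide⟩
  · exact ⟨{8, 2}, by decide, by decide, by decide, by decide⟩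
  · exact ⟨{9}, by decide, by decide, by decide, by decide⟩
  · exact ⟨{5, 2, 2}, by decide, by decide, by decide, by decide⟩
  · exact ⟨{4, 3, 2}, by decide, by decide, by decide, by decide⟩
  · exact ⟨{5, 3}, by decide, by decide, by decide, by decide⟩
  · exact ⟨{7, 3}, by decide, by decide, by decide, by decide⟩

/-- the spectrum of `A₁₀` -/
theorem a10_spectrum : Set.range (orderOf : alternatingGroup (Fin 10) → ℕ) = ↑SF := by
  ext k
  rw [Cfsg.Agent.Lib.Helper15.mem_range_orderOf_alt_iff]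
  constructor
  · rintro ⟨m, hs, h2, he, rfl⟩
    exact lcm_mem_SF m hs h2 he
  · intro hk
    exact exists_multiset k hk

end Cfsg.Agent.Lib.Helper20.A10Alt
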