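import Mathlib

/-!
# Data for S3489 (helper20): a fixed-point-free subgroup `2.S5^-` of `GL_4(7)` of order 240

Matrices are encoded as 16 natural numbers (`E`), with `mulE` / `addE` computing modulo 7; `toM : E → Matrix (Fin 4) (Fin 4) (ZMod 7)`
is multiplicative and additive.  `L` lists the 240 elements of the group generated by `Xe`, `Ye`.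
-/

set_option autoImplicit false

namespace Cfsg.Agent.Lib.Helper20.A10Data

/-- a `4 × 4` matrix with natural number entries (row-major) -/
structure E where

  e00 : ℕ
  e01 : ℕ
  e02 : ℕ
  e03 : ℕ
  e10 : ℕ
  e11 : ℕ
  e12 : ℕ
  e13 : ℕ
  e20 : ℕ
  e21 : ℕ
  e22 : ℕ
  e23 : ℕ
  e30 : ℕ
  e31 : ℕ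
  e32 : ℕ
  e33 : ℕ
  deriving DecidableEq

/-- product modulo 7 -/
def mulE (a b : E) : E where
  e00 := (a.e00 * b.e00 + a.e01 * b.e10 + a.e02 * b.e20 + a.e03 * b.e30) % 7
  e01 := (a.e00 * b.e01 + a.e01 * b.e11 + a.e02 * b.e21 + a.e03 * b.e31) % 7
  e02 := (a.e00 * b.e02 + a.e01 * b.e12 + a.e02 * b.e22 + a.e03 * b.e32) % 7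
  e03 := (a.e00 * b.e03 + a.e01 * b.e13 + a.e02 * b.e23 + a.e03 * b.e33) % 7
  e10 := (a.e10 * b.e00 + a.e11 * b.e10 + a.e12 * b.e20 + a.e13 * b.e30) % 7
  e11 := (a.e10 * b.e01 + a.e11 * b.e11 + a.e12 * b.e21 + a.e13 * b.e31) % 7
  e12 := (a.e10 * b.e02 + a.e11 * b.e12 + a.e12 * b.e22 + a.e13 * b.e32) % 7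
  e13 := (a.e10 * b.e03 + a.e11 * b.e13 + a.e12 * b.e23 + a.e13 * b.e33) % 7
  e20 := (a.e20 * b.e00 + a.e21 * b.e10 + a.e22 * b.e20 + a.e23 * b.e30) % 7
  e21 := (a.e20 * b.e01 + a.e21 * b.e11 + a.e22 * b.e21 + a.e23 * b.e31) % 7
  e22 := (a.e20 * b.e02 + a.e21 * b.e12 + a.e22 * b.e22 + a.e23 * b.e32) % 7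
  e23 := (a.e20 * b.e03 + a.e21 * b.e13 + a.e22 * b.e23 + a.e23 * b.e33) % 7
  e30 := (a.e30 * b.e00 + a.e31 * b.e10 + a.e32 * b.e20 + a.e33 * b.e30) % 7
  e31 := (a.e30 * b.e01 + a.e31 * b.e11 + a.e32 * b.e21 + a.e33 * b.e31) % 7
  e32 := (a.e30 * b.e02 + a.e31 * b.e12 + a.e32 * b.e22 + a.e33 * b.e32) % 7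
  e33 := (a.e30 * b.e03 + a.e31 * b.e13 + a.e32 * b.e23 + a.e33 * b.e33) % 7

/-- sum modulo 7 -/
def addE (a b : E) : E where
  e00 := (a.e00 + b.e00) % 7
  e01 := (a.e01 + b.e01) % 7
  e02 := (a.e02 + b.e02) % 7
  e03 := (a.e03 + b.e03) % 7
  e10 := (a.e10 + b.e10) % 7
  e11 := (a.e11 + b.e11) % 7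
  e12 := (a.e12 + b.e12) % 7
  e13 := (a.e13 + b.e13) % 7
  e20 := (a.e20 + b.e20) % 7
  e21 := (a.e21 + b.e21) % 7
  e22 := (a.e22 + b.e22) % 7
  e23 := (a.e23 + b.e23) % 7
  e30 := (a.e30 + b.e30) % 7
  e31 := (a.e31 + b.e31) % 7
  e32 := (a.e32 + b.e32) % 7
  e33 := (a.e33 + b.e33) % 7

def oneE : E := ⟨1, 0, 0, 0, 0, 1, 0, 0, 0, 0, 1, 0, 0, 0, 0, 1⟩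
def zeroE : E := ⟨0, 0, 0, 0, 0, 0, 0, 0, 0, 0, 0, 0, 0, 0, 0, 0⟩
def negOneE : E := ⟨6, 0, 0, 0, 0, 6, 0, 0, 0, 0, 6, 0, 0, 0, 0, 6⟩
def Xe : E := ⟨0, 1, 3, 0, 1, 0, 0, 4, 6, 0, 5, 1, 0, 1, 1, 2⟩
def Ye : E := ⟨5, 6, 1, 2, 6, 2, 2, 6, 5, 1, 6, 3, 1, 2, 3, 1⟩
def Xie : E := ⟨1, 2, 1, 6, 2, 6, 6, 6, 2, 5, 5, 5, 5, 5, 5, 2⟩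
def Yie : E := ⟨6, 3, 2, 6, 3, 1, 6, 5, 6, 5, 5, 6, 5, 1, 6, 2⟩

/-- the 240 elements -/
def L : List E := [
  ⟨1, 0, 0, 0, 0, 1, 0, 0, 0, 0, 1, 0, 0, 0, 0, 1⟩,
  ⟨0, 1, 3, 0, 1, 0, 0, 4, 6, 0, 5, 1, 0, 1, 1, 2⟩,
  ⟨5, 6, 1, 2, 6, 2, 2, 6, 5, 1, 6, 3, 1, 2, 3, 1⟩,
  ⟨5, 0, 1, 0, 0, 5, 0, 1, 2, 0, 2, 0, 0, 2, 0, 2⟩,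
  ⟨5, 0, 1, 1, 0, 5, 6, 1, 2, 1, 6, 2, 6, 2, 5, 6⟩,
  ⟨0, 5, 6, 1, 2, 0, 6, 6, 0, 1, 4, 0, 6, 0, 0, 4⟩,
  ⟨5, 5, 1, 2, 2, 5, 5, 1, 1, 2, 3, 2, 5, 1, 5, 3⟩,
  ⟨6, 5, 6, 1, 5, 1, 1, 1, 5, 2, 2, 2, 2, 2, 2, 5⟩,
  ⟨6, 6, 0, 3, 6, 1, 3, 0, 2, 4, 3, 0, 4, 5, 0, 4⟩,
  ⟨6, 1, 3, 0, 1, 1, 0, 4, 4, 0, 6, 1, 0, 3, 1, 1⟩,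
  ⟨4, 0, 1, 4, 0, 3, 4, 6, 6, 3, 6, 1, 3, 1, 1, 1⟩,
  ⟨2, 3, 4, 6, 3, 5, 6, 3, 6, 0, 0, 3, 0, 1, 3, 0⟩,
  ⟨3, 5, 0, 0, 5, 4, 0, 0, 6, 3, 4, 2, 3, 1, 2, 3⟩,
  ⟨5, 4, 0, 0, 4, 2, 0, 0, 5, 6, 5, 4, 6, 2, 4, 2⟩,
  ⟨6, 3, 6, 3, 3, 1, 3, 1, 6, 3, 1, 4, 3, 1, 4, 6⟩,
  ⟨6, 0, 0, 0, 0, 6, 0, 0, 0, 0, 6, 0, 0, 0, 0, 6⟩,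
  ⟨6, 2, 0, 2, 5, 6, 5, 0, 1, 2, 0, 5, 5, 1, 2, 0⟩,
  ⟨5, 6, 5, 0, 1, 5, 0, 5, 1, 5, 1, 1, 2, 1, 6, 1⟩,
  ⟨6, 1, 0, 2, 6, 6, 5, 0, 4, 0, 0, 6, 0, 4, 1, 0⟩,
  ⟨6, 1, 4, 0, 6, 6, 0, 4, 0, 2, 0, 6, 5, 0, 1, 0⟩,
  ⟨5, 3, 2, 6, 4, 5, 1, 2, 6, 1, 5, 6, 6, 6, 1, 5⟩,
  ⟨4, 5, 1, 2, 2, 4, 5, 1, 1, 2, 2, 2, 5, 1, 5, 2⟩,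
  ⟨4, 2, 2, 3, 5, 4, 4, 2, 2, 3, 6, 0, 4, 2, 0, 6⟩,
  ⟨0, 5, 6, 5, 2, 0, 2, 6, 0, 5, 6, 2, 2, 0, 5, 6⟩,
  ⟨6, 5, 6, 2, 2, 6, 5, 6, 0, 2, 0, 2, 5, 0, 5, 0⟩,
  ⟨2, 6, 5, 6, 1, 2, 1, 5, 2, 4, 1, 6, 3, 2, 1, 1⟩,
  ⟨1, 5, 1, 1, 2, 1, 6, 1, 2, 1, 2, 0, 6, 2, 0, 2⟩,
  ⟨5, 6, 1, 5, 1, 5, 2, 1, 5, 0, 1, 1, 0, 5, 6, 1⟩,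
  ⟨3, 0, 6, 1, 0, 3, 6, 6, 0, 1, 0, 2, 6, 0, 5, 0⟩,
  ⟨0, 3, 6, 6, 4, 0, 1, 6, 6, 6, 3, 2, 1, 6, 5, 3⟩,
  ⟨0, 6, 4, 0, 6, 0, 0, 3, 1, 0, 2, 6, 0, 6, 6, 5⟩,
  ⟨2, 1, 6, 5, 1, 5, 5, 1, 2, 6, 1, 4, 6, 5, 4, 6⟩,
  ⟨1, 5, 5, 1, 5, 6, 1, 2, 4, 2, 2, 2, 2, 3, 2, 5⟩,
  ⟨1, 1, 6, 1, 1, 6, 1, 1, 0, 3, 4, 5, 3, 0, 5, 3⟩,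
  ⟨4, 6, 3, 1, 6, 3, 1, 4, 2, 6, 6, 6, 6, 5, 6, 1⟩,
  ⟨1, 4, 3, 5, 4, 6, 5, 4, 3, 5, 0, 0, 5, 4, 0, 0⟩,
  ⟨4, 6, 5, 4, 6, 3, 4, 2, 0, 3, 1, 0, 3, 0, 0, 6⟩,
  ⟨0, 0, 4, 2, 0, 0, 2, 3, 4, 2, 1, 4, 2, 3, 4, 6⟩,
  ⟨6, 5, 0, 1, 5, 1, 1, 0, 6, 2, 4, 2, 2, 1, 2, 3⟩,
  ⟨6, 1, 1, 2, 1, 1, 2, 6, 2, 2, 2, 5, 2, 5, 5, 5⟩,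
  ⟨1, 1, 2, 6, 1, 6, 6, 5, 3, 1, 3, 1, 1, 4, 1, 4⟩,
  ⟨4, 2, 2, 2, 2, 3, 2, 5, 6, 2, 2, 6, 2, 1, 6, 5⟩,
  ⟨5, 3, 4, 0, 3, 2, 0, 3, 6, 6, 0, 3, 6, 1, 3, 0⟩,
  ⟨1, 4, 5, 1, 4, 6, 1, 2, 1, 2, 2, 1, 2, 6, 1, 5⟩,
  ⟨4, 6, 1, 2, 6, 3, 2, 6, 3, 1, 0, 3, 1, 4, 3, 0⟩,
  ⟨2, 2, 2, 5, 2, 5, 5, 5, 1, 6, 6, 5, 6, 6, 5, 1⟩,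
  ⟨2, 5, 5, 5, 5, 5, 5, 2, 6, 5, 6, 1, 5, 1, 1, 1⟩,
  ⟨3, 0, 0, 6, 0, 4, 6, 0, 5, 1, 1, 0, 1, 2, 0, 6⟩,
  ⟨3, 1, 6, 5, 1, 4, 5, 1, 4, 6, 0, 4, 6, 3, 4, 0⟩,
  ⟨3, 1, 1, 1, 1, 4, 1, 6, 2, 3, 2, 5, 3, 5, 5, 5⟩,
  ⟨2, 5, 5, 4, 5, 5, 4, 2, 6, 6, 3, 1, 6, 1, 1, 4⟩,
  ⟨1, 0, 2, 6, 0, 6, 6, 5, 0, 1, 3, 0, 1, 0, 0, 4⟩,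
  ⟨0, 6, 6, 5, 6, 0, 5, 1, 3, 5, 6, 2, 5, 4, 2, 1⟩,
  ⟨4, 5, 0, 4, 5, 3, 4, 0, 1, 6, 1, 1, 6, 6, 1, 6⟩,
  ⟨2, 0, 6, 0, 0, 2, 0, 6, 5, 0, 5, 0, 0, 5, 0, 5⟩,
  ⟨2, 0, 6, 6, 0, 2, 1, 6, 5, 6, 1, 5, 1, 5, 2, 1⟩,
  ⟨0, 2, 1, 6, 5, 0, 1, 1, 0, 6, 3, 0, 1, 0, 0, 3⟩,
  ⟨2, 2, 6, 5, 5, 2, 2, 6, 6, 5, 4, 5, 2, 6, 2, 4⟩,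
  ⟨3, 5, 0, 1, 2, 3, 6, 0, 0, 1, 0, 0, 6, 0, 0, 0⟩,
  ⟨1, 6, 2, 1, 1, 1, 6, 2, 5, 3, 2, 6, 4, 5, 1, 2⟩,
  ⟨1, 1, 6, 2, 6, 1, 5, 6, 2, 0, 5, 6, 0, 2, 1, 5⟩,
  ⟨3, 2, 1, 1, 5, 3, 6, 1, 1, 1, 0, 3, 6, 1, 4, 0⟩,
  ⟨5, 0, 5, 1, 0, 5, 6, 5, 5, 1, 5, 2, 6, 5, 5, 5⟩,
  ⟨0, 1, 4, 2, 6, 0, 5, 4, 0, 0, 0, 6, 0, 0, 1, 0⟩,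
  ⟨6, 0, 5, 4, 0, 6, 3, 5, 5, 4, 4, 2, 3, 5, 5, 4⟩,
  ⟨0, 6, 3, 0, 1, 0, 0, 3, 0, 5, 6, 1, 2, 0, 6, 6⟩,
  ⟨6, 5, 0, 2, 2, 6, 5, 0, 6, 2, 0, 2, 5, 6, 5, 0⟩,
  ⟨6, 2, 1, 2, 5, 6, 5, 1, 0, 2, 0, 5, 5, 0, 2, 0⟩,
  ⟨5, 6, 5, 1, 1, 5, 6, 5, 1, 6, 5, 3, 1, 1, 4, 5⟩,
  ⟨0, 0, 0, 6, 0, 0, 1, 0, 0, 6, 3, 5, 1, 0, 2, 3⟩,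
  ⟨0, 0, 1, 0, 0, 0, 0, 1, 6, 0, 0, 0, 0, 6, 0, 0⟩,
  ⟨0, 2, 1, 5, 5, 0, 2, 1, 0, 5, 6, 5, 2, 0, 2, 6⟩,
  ⟨2, 1, 2, 6, 6, 2, 1, 2, 6, 1, 2, 4, 6, 6, 3, 2⟩,
  ⟨0, 4, 1, 0, 3, 0, 0, 1, 1, 0, 0, 3, 0, 1, 4, 0⟩,
  ⟨0, 6, 0, 5, 1, 0, 2, 0, 3, 0, 6, 1, 0, 3, 6, 6⟩,
  ⟨5, 0, 5, 0, 0, 5, 0, 5, 5, 0, 1, 0, 0, 5, 0, 1⟩,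
  ⟨0, 5, 0, 5, 2, 0, 2, 0, 6, 5, 6, 2, 2, 6, 5, 6⟩,
  ⟨5, 1, 2, 0, 6, 5, 0, 2, 5, 2, 2, 6, 5, 5, 1, 2⟩,
  ⟨5, 2, 2, 6, 5, 5, 1, 2, 2, 6, 5, 0, 1, 2, 0, 5⟩,
  ⟨0, 2, 0, 6, 5, 0, 1, 0, 1, 6, 3, 0, 1, 1, 0, 3⟩,
  ⟨2, 6, 2, 5, 1, 2, 2, 2, 5, 0, 5, 1, 0, 5, 6, 5⟩,
  ⟨1, 0, 2, 0, 0, 1, 0, 2, 2, 0, 5, 0, 0, 2, 0, 5⟩,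
  ⟨1, 1, 2, 0, 6, 1, 0, 2, 6, 2, 5, 6, 5, 6, 1, 5⟩,
  ⟨6, 1, 5, 6, 6, 6, 1, 5, 2, 4, 5, 1, 3, 2, 6, 5⟩,
  ⟨2, 6, 5, 0, 1, 2, 0, 5, 2, 5, 5, 1, 2, 2, 6, 5⟩,
  ⟨0, 6, 0, 0, 1, 0, 0, 0, 3, 5, 0, 1, 2, 3, 6, 0⟩,
  ⟨2, 0, 5, 6, 0, 2, 1, 5, 6, 6, 1, 5, 1, 6, 2, 1⟩,
  ⟨0, 2, 0, 5, 5, 0, 2, 0, 1, 5, 6, 5, 2, 1, 2, 6⟩,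
  ⟨0, 1, 0, 0, 6, 0, 0, 0, 4, 2, 0, 6, 5, 4, 1, 0⟩,
  ⟨1, 0, 0, 3, 0, 1, 4, 0, 0, 3, 6, 0, 4, 0, 0, 6⟩,
  ⟨1, 2, 1, 6, 2, 6, 6, 6, 2, 5, 5, 5, 5, 5, 5, 2⟩,
  ⟨1, 1, 0, 4, 1, 6, 4, 0, 5, 3, 4, 0, 3, 2, 0, 3⟩,
  ⟨1, 6, 4, 0, 6, 6, 0, 3, 3, 0, 1, 6, 0, 4, 6, 6⟩,
  ⟨3, 0, 6, 3, 0, 4, 3, 1, 1, 4, 1, 6, 4, 6, 6, 6⟩,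
  ⟨5, 4, 3, 1, 4, 2, 1, 4, 1, 0, 0, 4, 0, 6, 4, 0⟩,
  ⟨4, 2, 0, 0, 2, 3, 0, 0, 1, 4, 3, 5, 4, 6, 5, 4⟩,
  ⟨2, 3, 0, 0, 3, 5, 0, 0, 2, 1, 2, 3, 1, 5, 3, 5⟩,
  ⟨1, 4, 1, 4, 4, 6, 4, 6, 1, 4, 6, 3, 4, 6, 3, 1⟩,
  ⟨2, 6, 6, 0, 6, 5, 0, 1, 3, 0, 0, 6, 0, 4, 6, 0⟩,
  ⟨4, 2, 1, 5, 2, 3, 5, 6, 0, 6, 6, 5, 6, 0, 5, 1⟩,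
  ⟨2, 3, 5, 6, 3, 5, 6, 2, 0, 0, 2, 3, 0, 0, 3, 5⟩,
  ⟨3, 0, 1, 6, 0, 4, 6, 6, 6, 1, 3, 0, 1, 1, 0, 4⟩,
  ⟨5, 1, 6, 3, 1, 2, 3, 1, 2, 1, 6, 5, 1, 5, 5, 1⟩,
  ⟨1, 1, 4, 6, 1, 6, 6, 3, 2, 5, 5, 4, 5, 5, 4, 2⟩,
  ⟨1, 6, 6, 3, 6, 6, 3, 1, 1, 4, 3, 0, 4, 6, 0, 4⟩,
  ⟨6, 0, 5, 1, 0, 1, 1, 2, 0, 6, 4, 0, 6, 0, 0, 3⟩,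
  ⟨1, 5, 3, 5, 5, 6, 5, 4, 6, 5, 0, 1, 5, 1, 1, 0⟩,
  ⟨6, 1, 1, 4, 1, 1, 4, 6, 6, 3, 4, 0, 3, 1, 0, 3⟩,
  ⟨3, 0, 5, 3, 0, 4, 3, 2, 0, 4, 6, 6, 4, 0, 6, 1⟩,
  ⟨6, 5, 5, 6, 5, 1, 6, 2, 1, 4, 5, 1, 4, 6, 1, 2⟩,
  ⟨5, 5, 5, 2, 5, 2, 2, 2, 6, 1, 1, 2, 1, 1, 2, 6⟩,
  ⟨6, 5, 4, 6, 5, 1, 6, 3, 0, 4, 3, 1, 4, 0, 1, 4⟩,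
  ⟨0, 4, 3, 1, 4, 0, 1, 4, 1, 2, 3, 1, 2, 6, 1, 4⟩,
  ⟨2, 6, 6, 6, 6, 5, 6, 1, 3, 1, 4, 6, 1, 4, 6, 3⟩,
  ⟨4, 0, 0, 1, 0, 3, 1, 0, 2, 6, 6, 0, 6, 5, 0, 1⟩,
  ⟨5, 1, 6, 2, 1, 2, 2, 1, 2, 2, 3, 5, 2, 5, 5, 4⟩,
  ⟨6, 1, 6, 6, 1, 1, 6, 1, 4, 5, 0, 4, 5, 3, 4, 0⟩,
  ⟨1, 2, 3, 1, 2, 6, 1, 4, 0, 3, 4, 6, 3, 0, 6, 3⟩,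
  ⟨6, 0, 0, 3, 0, 1, 3, 0, 5, 4, 3, 1, 4, 2, 1, 4⟩,
  ⟨2, 1, 2, 3, 1, 5, 3, 5, 5, 4, 0, 0, 4, 2, 0, 0⟩,
  ⟨1, 0, 0, 4, 0, 6, 4, 0, 2, 3, 4, 6, 3, 5, 6, 3⟩,
  ⟨0, 4, 6, 6, 4, 0, 6, 1, 4, 0, 2, 4, 0, 3, 4, 5⟩,
  ⟨3, 1, 0, 3, 1, 4, 3, 0, 3, 1, 6, 5, 1, 4, 5, 1⟩,
  ⟨1, 4, 3, 0, 4, 6, 0, 4, 6, 1, 1, 4, 1, 1, 4, 6⟩,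
  ⟨5, 4, 2, 1, 4, 2, 1, 5, 0, 0, 5, 4, 0, 0, 4, 2⟩,
  ⟨2, 2, 3, 5, 2, 5, 5, 4, 2, 6, 1, 5, 6, 5, 5, 6⟩,
  ⟨0, 3, 4, 6, 3, 0, 6, 3, 6, 5, 4, 6, 5, 1, 6, 3⟩,
  ⟨0, 3, 1, 1, 3, 0, 1, 6, 3, 0, 5, 3, 0, 4, 3, 2⟩,
  ⟨4, 0, 6, 1, 0, 3, 1, 1, 1, 6, 4, 0, 6, 6, 0, 3⟩,
  ⟨1, 2, 0, 6, 2, 6, 6, 0, 1, 5, 3, 5, 5, 6, 5, 4⟩,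
  ⟨6, 6, 5, 1, 6, 1, 1, 2, 4, 6, 4, 6, 6, 3, 6, 3⟩,
  ⟨4, 6, 4, 6, 6, 3, 6, 3, 1, 1, 2, 6, 1, 6, 6, 5⟩,
  ⟨4, 2, 1, 4, 2, 3, 4, 6, 0, 0, 3, 5, 0, 0, 5, 4⟩,
  ⟨0, 3, 1, 0, 3, 0, 0, 6, 3, 1, 2, 3, 1, 4, 3, 5⟩,
  ⟨4, 6, 0, 4, 6, 3, 4, 0, 4, 6, 1, 2, 6, 3, 2, 6⟩,
  ⟨6, 2, 2, 6, 2, 1, 6, 5, 3, 5, 5, 5, 5, 4, 5, 2⟩,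
  ⟨1, 5, 0, 5, 2, 1, 2, 0, 6, 5, 0, 2, 2, 6, 5, 0⟩,
  ⟨2, 1, 2, 0, 6, 2, 0, 2, 6, 2, 6, 6, 5, 6, 1, 6⟩,
  ⟨1, 6, 0, 5, 1, 1, 2, 0, 3, 0, 0, 1, 0, 3, 6, 0⟩,
  ⟨1, 6, 3, 0, 1, 1, 0, 3, 0, 5, 0, 1, 2, 0, 6, 0⟩,
  ⟨2, 4, 5, 1, 3, 2, 6, 5, 1, 6, 2, 1, 1, 1, 6, 2⟩,
  ⟨3, 2, 6, 5, 5, 3, 2, 6, 6, 5, 5, 5, 2, 6, 2, 5⟩,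
  ⟨3, 5, 5, 4, 2, 3, 3, 5, 5, 4, 1, 0, 3, 5, 0, 1⟩,
  ⟨0, 2, 1, 2, 5, 0, 5, 1, 0, 2, 1, 5, 5, 0, 2, 1⟩,
  ⟨1, 2, 1, 5, 5, 1, 2, 1, 0, 5, 0, 5, 2, 0, 2, 0⟩,
  ⟨5, 1, 2, 1, 6, 5, 6, 2, 5, 3, 6, 1, 4, 5, 6, 6⟩,
  ⟨6, 2, 6, 6, 5, 6, 1, 6, 5, 6, 5, 0, 1, 5, 0, 5⟩,
  ⟨2, 1, 6, 2, 6, 2, 5, 6, 2, 0, 6, 6, 0, 2, 1, 6⟩,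
  ⟨4, 0, 1, 6, 0, 4, 1, 1, 0, 6, 0, 5, 1, 0, 2, 0⟩,
  ⟨0, 4, 1, 1, 3, 0, 6, 1, 1, 1, 4, 5, 6, 1, 2, 4⟩,
  ⟨2, 0, 2, 0, 0, 2, 0, 2, 2, 0, 6, 0, 0, 2, 0, 6⟩,
  ⟨2, 6, 2, 4, 1, 2, 3, 2, 5, 6, 1, 6, 1, 5, 1, 1⟩,
  ⟨0, 5, 0, 2, 2, 0, 5, 0, 6, 2, 1, 2, 5, 6, 5, 1⟩,
  ⟨0, 0, 0, 1, 0, 0, 6, 0, 0, 1, 4, 2, 6, 0, 5, 4⟩,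
  ⟨1, 5, 2, 1, 2, 1, 6, 2, 1, 1, 2, 0, 6, 1, 0, 2⟩,
  ⟨0, 5, 6, 2, 2, 0, 5, 6, 0, 2, 1, 2, 5, 0, 5, 1⟩,
  ⟨2, 0, 5, 0, 0, 2, 0, 5, 6, 0, 5, 0, 0, 6, 0, 5⟩,
  ⟨2, 5, 5, 1, 2, 2, 6, 5, 5, 1, 2, 0, 6, 5, 0, 2⟩,
  ⟨6, 2, 5, 6, 5, 6, 1, 5, 6, 6, 5, 0, 1, 6, 0, 5⟩,
  ⟨6, 5, 5, 5, 2, 6, 2, 5, 4, 5, 1, 2, 2, 4, 5, 1⟩,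
  ⟨0, 5, 0, 1, 2, 0, 6, 0, 6, 1, 4, 0, 6, 6, 0, 4⟩,
  ⟨5, 6, 1, 6, 1, 5, 1, 1, 5, 1, 5, 3, 6, 5, 4, 5⟩,
  ⟨1, 6, 5, 3, 1, 1, 4, 5, 2, 1, 2, 6, 6, 2, 1, 2⟩,
  ⟨1, 1, 4, 5, 6, 1, 2, 4, 0, 3, 6, 6, 4, 0, 1, 6⟩,
  ⟨6, 0, 5, 0, 0, 6, 0, 5, 5, 0, 2, 0, 0, 5, 0, 2⟩,
  ⟨6, 6, 5, 0, 1, 6, 0, 5, 1, 5, 2, 1, 2, 1, 6, 2⟩,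
  ⟨2, 1, 6, 1, 6, 2, 6, 6, 2, 6, 2, 4, 1, 2, 3, 2⟩,
  ⟨2, 0, 2, 6, 0, 2, 1, 2, 2, 6, 2, 5, 1, 2, 2, 2⟩,
  ⟨1, 0, 2, 3, 0, 1, 4, 2, 2, 3, 3, 5, 4, 2, 2, 3⟩,
  ⟨2, 3, 3, 5, 4, 2, 2, 3, 6, 0, 5, 4, 0, 6, 3, 5⟩,
  ⟨1, 1, 0, 3, 6, 1, 4, 0, 4, 5, 6, 6, 2, 4, 1, 6⟩,
  ⟨6, 1, 2, 4, 6, 6, 3, 2, 5, 6, 5, 1, 1, 5, 6, 5⟩,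
  ⟨3, 0, 0, 1, 0, 3, 6, 0, 6, 1, 0, 2, 6, 6, 5, 0⟩,
  ⟨5, 3, 6, 1, 4, 5, 6, 6, 2, 6, 5, 6, 1, 2, 1, 5⟩,
  ⟨1, 2, 3, 2, 5, 1, 5, 3, 2, 2, 6, 5, 5, 2, 2, 6⟩,
  ⟨0, 1, 4, 0, 6, 0, 0, 4, 0, 2, 1, 6, 5, 0, 1, 1⟩,
  ⟨5, 0, 2, 1, 0, 5, 6, 2, 1, 1, 6, 2, 6, 1, 5, 6⟩,
  ⟨5, 1, 5, 3, 6, 5, 4, 5, 2, 1, 6, 1, 6, 2, 6, 6⟩,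
  ⟨4, 5, 6, 6, 2, 4, 1, 6, 6, 6, 0, 4, 1, 6, 3, 0⟩,
  ⟨2, 3, 6, 0, 4, 2, 0, 6, 3, 5, 5, 4, 2, 3, 3, 5⟩,
  ⟨4, 0, 0, 6, 0, 4, 1, 0, 1, 6, 0, 5, 1, 1, 2, 0⟩,
  ⟨2, 4, 1, 6, 3, 2, 1, 1, 5, 1, 2, 1, 6, 5, 6, 2⟩,
  ⟨4, 2, 0, 6, 5, 4, 1, 0, 0, 6, 0, 0, 1, 0, 0, 0⟩,
  ⟨6, 6, 1, 6, 6, 1, 6, 6, 0, 4, 3, 2, 4, 0, 2, 4⟩,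
  ⟨3, 1, 4, 6, 1, 4, 6, 3, 5, 1, 1, 1, 1, 2, 1, 6⟩,
  ⟨6, 3, 4, 2, 3, 1, 2, 3, 4, 2, 0, 0, 2, 3, 0, 0⟩,
  ⟨3, 1, 2, 3, 1, 4, 3, 5, 0, 4, 6, 0, 4, 0, 0, 1⟩,
  ⟨0, 0, 3, 5, 0, 0, 5, 4, 3, 5, 6, 3, 5, 4, 3, 1⟩,
  ⟨1, 6, 6, 5, 6, 6, 5, 1, 5, 5, 5, 2, 5, 2, 2, 2⟩,
  ⟨3, 5, 5, 5, 5, 4, 5, 2, 1, 5, 5, 1, 5, 6, 1, 2⟩,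
  ⟨2, 4, 3, 0, 4, 5, 0, 4, 1, 1, 0, 4, 1, 6, 4, 0⟩,
  ⟨6, 3, 2, 6, 3, 1, 6, 5, 6, 5, 5, 6, 5, 1, 6, 2⟩,
  ⟨5, 2, 2, 2, 2, 2, 2, 5, 1, 2, 1, 6, 2, 6, 6, 6⟩,
  ⟨4, 6, 6, 6, 6, 3, 6, 1, 5, 4, 5, 2, 4, 2, 2, 2⟩,
  ⟨5, 2, 2, 3, 2, 2, 3, 5, 1, 1, 4, 6, 1, 6, 6, 3⟩,
  ⟨0, 1, 1, 2, 1, 0, 2, 6, 4, 2, 1, 5, 2, 3, 5, 6⟩,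
  ⟨3, 2, 0, 3, 2, 4, 3, 0, 6, 1, 6, 6, 1, 1, 6, 1⟩,
  ⟨6, 2, 4, 2, 2, 1, 2, 3, 1, 2, 0, 6, 2, 6, 6, 0⟩,
  ⟨0, 4, 6, 0, 4, 0, 0, 1, 4, 6, 5, 4, 6, 3, 4, 2⟩,
  ⟨5, 1, 1, 1, 1, 2, 1, 6, 4, 6, 3, 1, 6, 3, 1, 4⟩,
  ⟨5, 4, 5, 2, 4, 2, 2, 2, 3, 1, 1, 1, 1, 4, 1, 6⟩,
  ⟨2, 6, 1, 5, 6, 5, 5, 6, 5, 5, 4, 2, 5, 2, 2, 3⟩,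
  ⟨1, 6, 1, 1, 6, 6, 1, 6, 3, 2, 0, 3, 2, 4, 3, 0⟩,
  ⟨2, 3, 2, 5, 3, 5, 5, 5, 4, 6, 6, 6, 6, 3, 6, 1⟩,
  ⟨5, 1, 1, 0, 1, 2, 0, 6, 4, 0, 0, 1, 0, 3, 1, 0⟩,
  ⟨0, 0, 5, 4, 0, 0, 4, 2, 2, 3, 5, 6, 3, 5, 6, 2⟩,
  ⟨1, 4, 6, 3, 4, 6, 3, 1, 6, 3, 6, 3, 3, 1, 3, 1⟩,
  ⟨6, 3, 4, 0, 3, 1, 0, 3, 1, 6, 6, 3, 6, 6, 3, 1⟩,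
  ⟨0, 4, 3, 2, 4, 0, 2, 4, 1, 1, 6, 1, 1, 6, 1, 1⟩,
  ⟨6, 3, 6, 1, 3, 1, 1, 1, 3, 0, 6, 3, 0, 4, 3, 1⟩,
  ⟨5, 6, 5, 4, 6, 2, 4, 2, 2, 3, 0, 0, 3, 5, 0, 0⟩,
  ⟨0, 3, 4, 5, 3, 0, 5, 3, 6, 6, 1, 6, 6, 1, 6, 6⟩,
  ⟨3, 1, 3, 1, 1, 4, 1, 4, 6, 6, 5, 1, 6, 1, 1, 2⟩,
  ⟨4, 0, 2, 4, 0, 3, 4, 5, 0, 3, 1, 1, 3, 0, 1, 6⟩,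
  ⟨6, 6, 3, 1, 6, 1, 1, 4, 5, 2, 2, 3, 2, 2, 3, 5⟩,
  ⟨3, 5, 6, 3, 5, 4, 3, 1, 0, 0, 4, 2, 0, 0, 2, 3⟩,
  ⟨5, 5, 4, 2, 5, 2, 2, 3, 5, 1, 6, 2, 1, 2, 2, 1⟩,
  ⟨6, 3, 1, 4, 3, 1, 4, 6, 1, 4, 1, 4, 4, 6, 4, 6⟩,
  ⟨3, 5, 6, 2, 5, 4, 2, 1, 0, 1, 1, 2, 1, 0, 2, 6⟩,
  ⟨6, 6, 1, 5, 1, 6, 2, 1, 5, 0, 2, 1, 0, 5, 6, 2⟩,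
  ⟨0, 6, 3, 5, 1, 0, 2, 3, 0, 0, 0, 1, 0, 0, 6, 0⟩,
  ⟨1, 2, 0, 5, 5, 1, 2, 0, 1, 5, 0, 5, 2, 1, 2, 0⟩,
  ⟨1, 5, 6, 5, 2, 1, 2, 6, 0, 5, 0, 2, 2, 0, 5, 0⟩,
  ⟨0, 0, 6, 0, 0, 0, 0, 6, 1, 0, 0, 0, 0, 1, 0, 0⟩,
  ⟨0, 3, 6, 0, 4, 0, 0, 6, 6, 0, 0, 4, 0, 6, 3, 0⟩,
  ⟨0, 1, 0, 2, 6, 0, 5, 0, 4, 0, 1, 6, 0, 4, 1, 1⟩,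
  ⟨0, 2, 0, 2, 5, 0, 5, 0, 1, 2, 1, 5, 5, 1, 2, 1⟩,
  ⟨5, 1, 5, 2, 6, 5, 5, 5, 2, 0, 2, 6, 0, 2, 1, 2⟩,
  ⟨6, 0, 0, 4, 0, 6, 3, 0, 0, 4, 1, 0, 3, 0, 0, 1⟩,
  ⟨5, 0, 2, 0, 0, 5, 0, 2, 1, 0, 2, 0, 0, 1, 0, 2⟩,
  ⟨5, 4, 1, 0, 3, 5, 0, 1, 4, 2, 2, 3, 5, 4, 4, 2⟩,
  ⟨6, 6, 3, 2, 1, 6, 5, 3, 0, 4, 1, 1, 3, 0, 6, 1⟩,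
  ⟨1, 2, 2, 2, 5, 1, 5, 2, 3, 2, 6, 5, 5, 3, 2, 6⟩,
  ⟨6, 5, 4, 5, 2, 6, 2, 4, 5, 5, 1, 2, 2, 5, 5, 1⟩,
  ⟨5, 4, 4, 2, 3, 5, 5, 4, 1, 0, 2, 3, 0, 1, 4, 2⟩,
  ⟨6, 6, 0, 4, 1, 6, 3, 0, 3, 2, 1, 1, 5, 3, 6, 1⟩,
  ⟨2, 6, 1, 4, 6, 5, 4, 6, 5, 6, 1, 2, 6, 2, 2, 6⟩,
  ⟨1, 2, 2, 1, 2, 6, 1, 5, 6, 3, 2, 6, 3, 1, 6, 5⟩,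
  ⟨1, 4, 1, 6, 4, 6, 6, 6, 4, 0, 1, 4, 0, 3, 4, 6⟩,
  ⟨0, 0, 2, 3, 0, 0, 3, 5, 5, 4, 2, 1, 4, 2, 1, 5⟩]

end Cfsg.Agent.Lib.Helper20.A10Data
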