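import Mathlib
import Cfsg.Agent.Lib.Helper20.A10Data

/-!
# S3489 (helper20): the encoded matrices as real matrices, and the kernel-checked facts about the list `L`
-/

set_option autoImplicit false

namespace Cfsg.Agent.Lib.Helper20.A10Data

abbrev M4 := Matrix (Fin 4) (Fin 4) (ZMod 7)

/-- the matrix over `ZMod 7` encoded by `a` -/
def toM (a : E) : M4 :=
  !![(a.e00 : ZMod 7), (a.e01 : ZMod 7), (a.e02 : ZMod 7), (a.e03 : ZMod 7);
     (a.e10 : ZMod 7), (a.e11 : ZMod 7), (a.e12 : ZMod 7), (a.e13 : ZMod 7);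
     (a.e20 : ZMod 7), (a.e21 : ZMod 7), (a.e22 : ZMod 7), (a.e23 : ZMod 7);
     (a.e30 : ZMod 7), (a.e31 : ZMod 7), (a.e32 : ZMod 7), (a.e33 : ZMod 7)]

theorem toM_mul (a b : E) : toM (mulE a b) = toM a * toM b := by
  ext i j
  fin_cases i <;> fin_cases j <;>
    simp [toM, mulE, Matrix.mul_apply, Fin.sum_univ_four, ZMod.natCast_mod]

theorem toM_add (a b : E) : toM (addE a b) = toM a + toM b := by
  ext i j
  fin_cases i <;> fin_cases j <;>
    simp [toM, addE, ZMod.natCast_mod]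

theorem toM_one : toM oneE = 1 := by
  ext i j
  fin_cases i <;> fin_cases j <;> simp [toM, oneE]

theorem toM_zero : toM zeroE = 0 := by
  ext i j
  fin_cases i <;> fin_cases j <;> simp [toM, zeroE]

theorem toM_negOne : toM negOneE = -1 := by
  ext i j
  fin_cases i <;> fin_cases j <;> simp [toM, negOneE] <;> decide

/-- powers -/
def powE (a : E) : ℕ → E
  | 0 => oneE
  | n + 1 => mulE (powE a n) a

theorem toM_pow (a : E) (n : ℕ) : toM (powE a n) = toM a ^ n := by
  induction n with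
  | zero => rw [powE, toM_one, pow_zero]
  | succ n ih => rw [powE, toM_mul, ih, pow_succ]

/-- the case distinction, encoded -/
def CE (a : E) : Bool :=
  a == oneE || addE (addE (mulE a a) a) oneE == zeroE ||
    addE (addE (addE (addE (powE a 4) (powE a 3)) (powE a 2)) a) oneE == zeroE ||
    a == negOneE || powE a 2 == negOneE || powE a 3 == negOneE || powE a 4 == negOneE ||
    powE a 5 == negOneE || powE a 6 == negOneE

set_option maxRecDepth 1000000 in
theorem L_one : oneE ∈ L := by decide +kernel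

set_option maxRecDepth 1000000 in
theorem L_closed : ∀ a ∈ L, mulE Xe a ∈ L ∧ mulE Ye a ∈ L ∧ mulE Xie a ∈ L ∧ mulE Yie a ∈ L := by
  decide +kernel

set_option maxRecDepth 1000000 in
theorem L_CE : ∀ a ∈ L, CE a = true := by decide +kernel

theorem inv_facts : mulE Xe Xie = oneE ∧ mulE Xie Xe = oneE ∧ mulE Ye Yie = oneE ∧ mulE Yie Ye = oneE := by
  decide +kernel

set_option maxRecDepth 1000000 in
/-- the witnesses: `x⁴ = -1`, `y⁶ = -1`, `1 + y⁴ + y⁸ = 0`, `(xy)⁵ = -1`, `1 + b + b² + b³ + b⁴ = 0` for `b = (xy)²` -/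
theorem wit_facts : powE Xe 4 = negOneE ∧ powE Ye 6 = negOneE ∧
    addE (addE (mulE (powE Ye 4) (powE Ye 4)) (powE Ye 4)) oneE = zeroE ∧
    powE (mulE Xe Ye) 5 = negOneE ∧
    addE (addE (addE (addE (powE (powE (mulE Xe Ye) 2) 4) (powE (powE (mulE Xe Ye) 2) 3))
      (powE (powE (mulE Xe Ye) 2) 2)) (powE (mulE Xe Ye) 2)) oneE = zeroE := by
  decide +kernel

end Cfsg.Agent.Lib.Helper20.A10Data
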