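import Mathlib
import Cfsg.Agent.Lib.Helper20.A10Enc
import Cfsg.Agent.Lib.Helper20.A10Core

/-!
# S3489 (helper20): the group `H0 = 2.S5^- ≤ GL_4(7)` and the hypotheses `Hyp` of `A10Core`
-/

set_option autoImplicit false

namespace Cfsg.Agent.Lib.Helper20.A10Group

open Cfsg.Agent.Lib.Helper20.A10Data Cfsg.Agent.Lib.Helper20.A10Core Matrix

/-- the generator `x` (order 8) -/
def xG : GL (Fin 4) (ZMod 7) :=
  ⟨toM Xe, toM Xie, by rw [← toM_mul, inv_facts.1, toM_one], by rw [← toM_mul, inv_facts.2.1, toM_one]⟩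

/-- the generator `y` (order 12) -/
def yG : GL (Fin 4) (ZMod 7) :=
  ⟨toM Ye, toM Yie, by rw [← toM_mul, inv_facts.2.2.1, toM_one], by rw [← toM_mul, inv_facts.2.2.2, toM_one]⟩

/-- `2.S5^-` inside `GL_4(7)` -/
def H0 : Subgroup (GL (Fin 4) (ZMod 7)) := Subgroup.closure {xG, yG}

theorem xG_mem : xG ∈ H0 := Subgroup.subset_closure (Set.mem_insert _ _)
theorem yG_mem : yG ∈ H0 := Subgroup.subset_closure (Set.mem_insert_of_mem _ (Set.mem_singleton _))

/-- every element of `H0` is in the list -/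
theorem mem_L (g : GL (Fin 4) (ZMod 7)) (hg : g ∈ H0) : ∃ a ∈ L, (g : M4) = toM a := by
  unfold H0 at hg
  induction hg using Subgroup.closure_induction_left with
  | one => exact ⟨oneE, L_one, by rw [toM_one]; rfl⟩
  | mul_left x hx y hy ih =>
    obtain ⟨a, ha, e⟩ := ih
    rcases hx with rfl | hx
    · exact ⟨mulE Xe a, (L_closed a ha).1, by rw [Units.val_mul, e, toM_mul]; rfl⟩
    · rw [Set.mem_singleton_iff] at hx
      subst hx
      exact ⟨mulE Ye a, (L_closed a ha).2.1, by rw [Units.val_mul, e, toM_mul]; rfl⟩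
  | inv_mul_cancel x hx y hy ih =>
    obtain ⟨a, ha, e⟩ := ih
    rcases hx with rfl | hx
    · exact ⟨mulE Xie a, (L_closed a ha).2.2.1, by rw [Units.val_mul, e, toM_mul]; rfl⟩
    · rw [Set.mem_singleton_iff] at hx
      subst hx
      exact ⟨mulE Yie a, (L_closed a ha).2.2.2, by rw [Units.val_mul, e, toM_mul]; rfl⟩

/-- the module `F_7^4` -/
abbrev A7 : Type := Fin 4 → ZMod 7

instance : DistribMulAction ↥H0 A7 where
  smul h v := ((h : GL (Fin 4) (ZMod 7)) : M4).mulVec v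
  one_smul v := Matrix.one_mulVec v
  mul_smul h h' v := by
    show ((h * h' : ↥H0) : GL (Fin 4) (ZMod 7)).1.mulVec v = _
    rw [Subgroup.coe_mul, Units.val_mul, ← Matrix.mulVec_mulVec]
    rfl
  smul_zero h := Matrix.mulVec_zero _
  smul_add h v w := Matrix.mulVec_add _ v w

theorem smul_def (h : ↥H0) (v : A7) : h • v = ((h : GL (Fin 4) (ZMod 7)) : M4).mulVec v := rfl

theorem coe_pow (h : ↥H0) (n : ℕ) : (((h ^ n : ↥H0) : GL (Fin 4) (ZMod 7)) : M4) = ((h : GL (Fin 4) (ZMod 7)) : M4) ^ n := by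
  rw [Subgroup.coe_pow, Units.val_pow_eq_pow_val]

theorem ext_H0 {h h' : ↥H0} (e : ((h : GL (Fin 4) (ZMod 7)) : M4) = ((h' : GL (Fin 4) (ZMod 7)) : M4)) : h = h' :=
  Subtype.ext (Units.ext e)

/-- the central involution `z = x⁴ = -1` -/
def zG : ↥H0 := ⟨xG ^ 4, H0.pow_mem xG_mem 4⟩

theorem zG_val : ((zG : GL (Fin 4) (ZMod 7)) : M4) = -1 := by
  show ((xG ^ 4 : GL (Fin 4) (ZMod 7)) : M4) = -1
  rw [Units.val_pow_eq_pow_val]
  show toM Xe ^ 4 = -1
  rw [← toM_pow, wit_facts.1, toM_negOne]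

theorem neg_one_ne_one : (-1 : M4) ≠ 1 := by
  intro h
  have := congrFun (congrFun h 0) 0
  revert this
  simp only [Matrix.neg_apply, Matrix.one_apply_eq]
  decide

theorem three_ne_zero_M : (1 : M4) + 1 + 1 ≠ 0 := by
  intro h
  have := congrFun (congrFun h 0) 0
  revert this
  simp only [Matrix.add_apply, Matrix.one_apply_eq, Matrix.zero_apply]
  decide

theorem five_ne_zero_M : (1 : M4) + 1 + 1 + 1 + 1 ≠ 0 := by
  intro h
  have := congrFun (congrFun h 0) 0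
  revert this
  simp only [Matrix.add_apply, Matrix.one_apply_eq, Matrix.zero_apply]
  decide

theorem Sj3 (h : ↥H0) (v : A7) :
    Sj h v 3 = (1 + ((h : GL (Fin 4) (ZMod 7)) : M4) + ((h : GL (Fin 4) (ZMod 7)) : M4) ^ 2).mulVec v := by
  unfold Sj
  rw [Finset.sum_range_succ, Finset.sum_range_succ, Finset.sum_range_succ, Finset.sum_range_zero, zero_add,
    smul_def, smul_def, smul_def, coe_pow, coe_pow, coe_pow, pow_zero, pow_one, Matrix.add_mulVec, Matrix.add_mulVec]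

theorem Sj5 (h : ↥H0) (v : A7) :
    Sj h v 5 = (1 + ((h : GL (Fin 4) (ZMod 7)) : M4) + ((h : GL (Fin 4) (ZMod 7)) : M4) ^ 2 +
      ((h : GL (Fin 4) (ZMod 7)) : M4) ^ 3 + ((h : GL (Fin 4) (ZMod 7)) : M4) ^ 4).mulVec v := by
  unfold Sj
  rw [Finset.sum_range_succ, Finset.sum_range_succ, Finset.sum_range_succ, Finset.sum_range_succ,
    Finset.sum_range_succ, Finset.sum_range_zero, zero_add,
    smul_def, smul_def, smul_def, smul_def, smul_def, coe_pow, coe_pow, coe_pow, coe_pow, coe_pow, pow_zero, pow_one,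
    Matrix.add_mulVec, Matrix.add_mulVec, Matrix.add_mulVec, Matrix.add_mulVec]

/-- the case distinction for the elements of `H0` -/
theorem cases_H0 (h : ↥H0) :
    h = 1 ∨ (h ^ 3 = 1 ∧ ∀ a : A7, Sj h a 3 = 0) ∨ (h ^ 5 = 1 ∧ ∀ a : A7, Sj h a 5 = 0) ∨
      ∃ j, 1 ≤ j ∧ j ≤ 6 ∧ h ^ j = zG := by
  obtain ⟨a, ha, e⟩ := mem_L h.1 h.2
  have hC := L_CE a ha
  unfold CE at hC
  simp only [Bool.or_eq_true, beq_iff_eq] at hC
  have hz : ∀ j, powE a j = negOneE → h ^ j = zG := by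
    intro j hj
    apply ext_H0
    rw [coe_pow, e, ← toM_pow, hj, toM_negOne, zG_val]
  rcases hC with ((((((((h1 | h3) | h5) | hj) | hj) | hj) | hj) | hj) | hj)
  · left
    apply ext_H0
    rw [e, h1, toM_one]; rfl
  · right; left
    have e3 : ((h : GL (Fin 4) (ZMod 7)) : M4) * ((h : GL (Fin 4) (ZMod 7)) : M4) + ((h : GL (Fin 4) (ZMod 7)) : M4) + 1 = 0 := by
      rw [e, ← toM_mul, ← toM_add, ← toM_one, ← toM_add, h3, toM_zero]
    constructor
    · apply ext_H0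
      rw [coe_pow]
      show ((h : GL (Fin 4) (ZMod 7)) : M4) ^ 3 = 1
      have : ((h : GL (Fin 4) (ZMod 7)) : M4) ^ 3 - 1 =
          (((h : GL (Fin 4) (ZMod 7)) : M4) - 1) *
            (((h : GL (Fin 4) (ZMod 7)) : M4) * ((h : GL (Fin 4) (ZMod 7)) : M4) + ((h : GL (Fin 4) (ZMod 7)) : M4) + 1) := by
        noncomm_ring
      rw [e3, mul_zero] at this
      exact sub_eq_zero.mp this
    · intro v
      rw [Sj3]
      have : (1 + ((h : GL (Fin 4) (ZMod 7)) : M4) + ((h : GL (Fin 4) (ZMod 7)) : M4) ^ 2) = 0 := by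
        rw [← e3]; noncomm_ring
      rw [this, Matrix.zero_mulVec]
  · right; right; left
    have e5 : ((h : GL (Fin 4) (ZMod 7)) : M4) ^ 4 + ((h : GL (Fin 4) (ZMod 7)) : M4) ^ 3 + ((h : GL (Fin 4) (ZMod 7)) : M4) ^ 2 +
        ((h : GL (Fin 4) (ZMod 7)) : M4) + 1 = 0 := by
      rw [e, ← toM_pow, ← toM_pow, ← toM_pow, ← toM_add, ← toM_add, ← toM_add, ← toM_one, ← toM_add, h5, toM_zero]
    constructor
    · apply ext_H0
      rw [coe_pow]
      show ((h : GL (Fin 4) (ZMod 7)) : M4) ^ 5 = 1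
      have : ((h : GL (Fin 4) (ZMod 7)) : M4) ^ 5 - 1 =
          (((h : GL (Fin 4) (ZMod 7)) : M4) - 1) *
            (((h : GL (Fin 4) (ZMod 7)) : M4) ^ 4 + ((h : GL (Fin 4) (ZMod 7)) : M4) ^ 3 + ((h : GL (Fin 4) (ZMod 7)) : M4) ^ 2 +
              ((h : GL (Fin 4) (ZMod 7)) : M4) + 1) := by
        noncomm_ring
      rw [e5, mul_zero] at this
      exact sub_eq_zero.mp this
    · intro v
      rw [Sj5]
      have : (1 + ((h : GL (Fin 4) (ZMod 7)) : M4) + ((h : GL (Fin 4) (ZMod 7)) : M4) ^ 2 +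
          ((h : GL (Fin 4) (ZMod 7)) : M4) ^ 3 + ((h : GL (Fin 4) (ZMod 7)) : M4) ^ 4) = 0 := by
        rw [← e5]; abel
      rw [this, Matrix.zero_mulVec]
  · right; right; right
    refine ⟨1, le_refl _, by norm_num, ?_⟩
    apply ext_H0
    rw [pow_one, e, hj, toM_negOne, zG_val]
  · right; right; right
    exact ⟨2, by norm_num, by norm_num, hz 2 hj⟩
  · right; right; right
    exact ⟨3, by norm_num, by norm_num, hz 3 hj⟩
  · right; right; right
    exact ⟨4, by norm_num, by norm_num, hz 4 hj⟩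
  · right; right; right
    exact ⟨5, by norm_num, by norm_num, hz 5 hj⟩
  · right; right; right
    exact ⟨6, by norm_num, by norm_num, hz 6 hj⟩

/-! ### the witnesses for the orders `1,2,3,4,5,6,8,10,12` -/

/-- `x` as an element of `H0` -/
def xH : ↥H0 := ⟨xG, xG_mem⟩
/-- `y` as an element of `H0` -/
def yH : ↥H0 := ⟨yG, yG_mem⟩

theorem zG_ne_one : zG ≠ 1 := by
  intro h
  have h1 : ((zG : GL (Fin 4) (ZMod 7)) : M4) = (((1 : ↥H0) : GL (Fin 4) (ZMod 7)) : M4) := by rw [h]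
  rw [zG_val] at h1
  exact neg_one_ne_one h1

theorem zG_mul_self : zG * zG = 1 := by
  apply ext_H0
  show ((zG : GL (Fin 4) (ZMod 7)) : M4) * ((zG : GL (Fin 4) (ZMod 7)) : M4) = 1
  rw [zG_val, neg_mul_neg, one_mul]

theorem xH_pow_four : xH ^ 4 = zG := rfl

theorem orderOf_xH : orderOf xH = 8 := by
  apply orderOf_eq_of_pow_and_pow_div_prime (by norm_num)
  · rw [show (8 : ℕ) = 4 * 2 from rfl, pow_mul, xH_pow_four, pow_two, zG_mul_self]
  · intro p hp hp8
    have hp2 : p = 2 := by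
      have : p ∣ 2 ^ 3 := by norm_num; exact hp8
      exact (Nat.prime_dvd_prime_iff_eq hp Nat.prime_two).mp (hp.dvd_of_dvd_pow this)
    subst hp2
    rw [show (8 : ℕ) / 2 = 4 from rfl, xH_pow_four]
    exact zG_ne_one

theorem yH_pow_six : yH ^ 6 = zG := by
  apply ext_H0
  rw [coe_pow, zG_val]
  show toM Ye ^ 6 = -1
  rw [← toM_pow, wit_facts.2.1, toM_negOne]

theorem yH_pow_four_ne : yH ^ 4 ≠ 1 := by
  intro h
  have h1 : toM Ye ^ 4 = 1 := by
    have h0 : (((yH ^ 4 : ↥H0) : GL (Fin 4) (ZMod 7)) : M4) = (((1 : ↥H0) : GL (Fin 4) (ZMod 7)) : M4) := by rw [h]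
    rw [coe_pow] at h0
    exact h0
  have h2 := wit_facts.2.2.1
  have h3 : toM (powE Ye 4) * toM (powE Ye 4) + toM (powE Ye 4) + 1 = 0 := by
    rw [← toM_mul, ← toM_add, ← toM_one, ← toM_add, h2, toM_zero]
  rw [toM_pow, h1, one_mul] at h3
  exact three_ne_zero_M h3

theorem orderOf_yH : orderOf yH = 12 := by
  apply orderOf_eq_of_pow_and_pow_div_prime (by norm_num)
  · rw [show (12 : ℕ) = 6 * 2 from rfl, pow_mul, yH_pow_six, pow_two, zG_mul_self]
  · intro p hp hp12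
    have hp23 : p = 2 ∨ p = 3 := by
      have : p ∣ 2 ^ 2 * 3 := by norm_num; exact hp12
      rcases (Nat.Prime.dvd_mul hp).mp this with h' | h'
      · exact Or.inl ((Nat.prime_dvd_prime_iff_eq hp Nat.prime_two).mp (hp.dvd_of_dvd_pow h'))
      · exact Or.inr ((Nat.prime_dvd_prime_iff_eq hp Nat.prime_three).mp h')
    rcases hp23 with rfl | rfl
    · rw [show (12 : ℕ) / 2 = 6 from rfl, yH_pow_six]
      exact zG_ne_one
    · rw [show (12 : ℕ) / 3 = 4 from rfl]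
      exact yH_pow_four_ne

theorem xy_val : (((xH * yH : ↥H0) : GL (Fin 4) (ZMod 7)) : M4) = toM (mulE Xe Ye) := by
  rw [toM_mul]; rfl

theorem xy_pow_five : (xH * yH) ^ 5 = zG := by
  apply ext_H0
  rw [coe_pow, zG_val, xy_val, ← toM_pow, wit_facts.2.2.2.1, toM_negOne]

theorem xy_pow_two_ne : (xH * yH) ^ 2 ≠ 1 := by
  intro h
  have h1 : toM (mulE Xe Ye) ^ 2 = 1 := by
    have h0 : ((((xH * yH) ^ 2 : ↥H0) : GL (Fin 4) (ZMod 7)) : M4) = (((1 : ↥H0) : GL (Fin 4) (ZMod 7)) : M4) := by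
      rw [h]
    rw [coe_pow, xy_val] at h0
    exact h0
  have h2 := wit_facts.2.2.2.2
  have h3 : toM (powE (mulE Xe Ye) 2) ^ 4 + toM (powE (mulE Xe Ye) 2) ^ 3 + toM (powE (mulE Xe Ye) 2) ^ 2 +
      toM (powE (mulE Xe Ye) 2) + 1 = 0 := by
    rw [← toM_pow, ← toM_pow, ← toM_pow, ← toM_add, ← toM_add, ← toM_add, ← toM_one, ← toM_add, h2, toM_zero]
  rw [toM_pow, h1, one_pow, one_pow, one_pow] at h3
  exact five_ne_zero_M h3

theorem orderOf_xy : orderOf (xH * yH) = 10 := by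
  apply orderOf_eq_of_pow_and_pow_div_prime (by norm_num)
  · rw [show (10 : ℕ) = 5 * 2 from rfl, pow_mul, xy_pow_five, pow_two, zG_mul_self]
  · intro p hp hp10
    have hp25 : p = 2 ∨ p = 5 := by
      have : p ∣ 2 * 5 := by norm_num; exact hp10
      rcases (Nat.Prime.dvd_mul hp).mp this with h' | h'
      · exact Or.inl ((Nat.prime_dvd_prime_iff_eq hp Nat.prime_two).mp h')
      · exact Or.inr ((Nat.prime_dvd_prime_iff_eq hp Nat.prime_five).mp h')
    rcases hp25 with rfl | rfl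
    · rw [show (10 : ℕ) / 2 = 5 from rfl, xy_pow_five]
      exact zG_ne_one
    · rw [show (10 : ℕ) / 5 = 2 from rfl]
      exact xy_pow_two_ne

theorem spec_H0 : ∀ s ∈ ({1, 2, 3, 4, 5, 6, 8, 10, 12} : Finset ℕ), ∃ h : ↥H0, orderOf h = s := by
  intro s hs
  simp only [Finset.mem_insert, Finset.mem_singleton] at hs
  rcases hs with rfl | rfl | rfl | rfl | rfl | rfl | rfl | rfl | rfl
  · exact ⟨1, orderOf_one⟩
  · exact ⟨xH ^ 4, by rw [orderOf_pow' _ (by norm_num), orderOf_xH]; rfl⟩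
  · exact ⟨yH ^ 4, by rw [orderOf_pow' _ (by norm_num), orderOf_yH]; rfl⟩
  · exact ⟨xH ^ 2, by rw [orderOf_pow' _ (by norm_num), orderOf_xH]; rfl⟩
  · exact ⟨(xH * yH) ^ 2, by rw [orderOf_pow' _ (by norm_num), orderOf_xy]; rfl⟩
  · exact ⟨yH ^ 2, by rw [orderOf_pow' _ (by norm_num), orderOf_yH]; rfl⟩
  · exact ⟨xH, orderOf_xH⟩
  · exact ⟨xH * yH, orderOf_xy⟩
  · exact ⟨yH, orderOf_yH⟩

/-- the hypotheses of `A10Core` hold -/
theorem hyp_H0 : Hyp A7 zG where
  zc x := by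
    apply ext_H0
    show ((zG : GL (Fin 4) (ZMod 7)) : M4) * ((x : GL (Fin 4) (ZMod 7)) : M4) =
      ((x : GL (Fin 4) (ZMod 7)) : M4) * ((zG : GL (Fin 4) (ZMod 7)) : M4)
    rw [zG_val, neg_one_mul, mul_neg_one]
  z1 := zG_ne_one
  zz := zG_mul_self
  zA a := by
    rw [smul_def, zG_val, Matrix.neg_mulVec, Matrix.one_mulVec]
  h7 a := by
    funext i
    show 7 • a i = 0
    rw [nsmul_eq_mul]
    have : ((7 : ℕ) : ZMod 7) = 0 := by decide
    rw [this, zero_mul]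
  ne := ⟨Pi.single 0 1, by
    intro h
    have := congrFun h 0
    rw [Pi.single_eq_same, Pi.zero_apply] at this
    exact absurd this (by decide)⟩
  cases := cases_H0
  spec := spec_H0

end Cfsg.Agent.Lib.Helper20.A10Group
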