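import Mathlib
import Cfsg.Agent.S0989
import Cfsg.Agent.S0990

/-!
# A solvable transitive group of even permutations of degree 7 has order dividing 21
-/

set_option autoImplicit false

namespace Cfsg.Agent.Lib.Helper20.A8F7

open Equiv MulAction
open scoped Pointwise

/-- a nontrivial solvable group has a nontrivial normal abelian subgroup -/
theorem exists_normal_abelian {R : Type*} [Group R] (hs : Group.IsSolvable R) [Nontrivial R] :
    ∃ D : Subgroup R, D.Normal ∧ D ≠ ⊥ ∧ ∀ x ∈ D, ∀ y ∈ D, x * y = y * x := by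
  classical
  have hex : ∃ n, derivedSeries R n = ⊥ := hs.solvable
  obtain ⟨n, hn, hmin⟩ : ∃ n, derivedSeries R n = ⊥ ∧ ∀ m < n, derivedSeries R m ≠ ⊥ :=
    ⟨Nat.find hex, Nat.find_spec hex, fun m hm => Nat.find_min hex hm⟩
  rcases n with _ | n
  · exfalso
    rw [derivedSeries_zero] at hn
    exact top_ne_bot hn
  · refine ⟨derivedSeries R n, inferInstance, hmin n (Nat.lt_succ_self n), ?_⟩
    rw [derivedSeries_succ, Subgroup.commutator_eq_bot_iff_le_centralizer] at hn
    intro x hx y hy
    exact ((Subgroup.mem_centralizer_iff.1 (hn hx)) y hy).symm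

theorem factorization_5040 : (5040 : ℕ).factorization 7 = 1 := by
  have h1 : (5040 : ℕ) = 7 * 720 := by norm_num
  rw [h1, Nat.factorization_mul (by norm_num) (by norm_num), Finsupp.add_apply,
    Nat.Prime.factorization_self (by norm_num),
    Nat.factorization_eq_zero_of_not_dvd (by norm_num)]

theorem solv7 {Y : Type*} [Fintype Y] [DecidableEq Y] (hY : Fintype.card Y = 7)
    (R : Subgroup (Perm Y)) (hR : R ≤ alternatingGroup Y) [IsPretransitive R Y]
    (hs : Group.IsSolvable R) : Nat.card R ∣ 21 := by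
  have : Fact (Nat.Prime 7) := ⟨by norm_num⟩
  have hcY : Nat.card Y = 7 := by rw [Nat.card_eq_fintype_card, hY]
  have hprim : IsPreprimitive R Y := IsPreprimitive.of_prime_card (by rw [hcY]; norm_num)
  obtain ⟨y₀⟩ : Nonempty Y := by
    rw [← Fintype.card_pos_iff, hY]; norm_num
  -- `R` is nontrivial
  have hntR : Nontrivial R := by
    obtain ⟨y₁, hy₁⟩ : ∃ y₁ : Y, y₁ ≠ y₀ := by
      by_contra hcon
      push Not at hcon
      have : Fintype.card Y ≤ 1 := Fintype.card_le_one_iff.2 (fun a b => by rw [hcon a, hcon b])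
      omega
    obtain ⟨r, hr⟩ := exists_smul_eq R y₀ y₁
    refine ⟨⟨r, 1, ?_⟩⟩
    rintro rfl
    rw [one_smul] at hr
    exact hy₁ hr.symm
  obtain ⟨D, hDn, hDne, hDc⟩ := exists_normal_abelian hs
  -- `D` is transitive
  have hfix : fixedPoints D Y ≠ Set.univ := by
    intro h
    apply hDne
    rw [Subgroup.eq_bot_iff_forall]
    intro d hd
    apply Subtype.ext
    apply Equiv.Perm.ext
    intro y
    have hy : y ∈ fixedPoints D Y := by rw [h]; exact Set.mem_univ y
    exact hy ⟨d, hd⟩
  have hDt : IsPretransitive D Y := IsQuasiPreprimitive.isPretransitive_of_normal hfix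
  -- stabilizers in `D` are trivial
  have hstab : stabilizer D y₀ = ⊥ := by
    rw [Subgroup.eq_bot_iff_forall]
    intro d hd
    rw [mem_stabilizer_iff] at hd
    apply Subtype.ext
    apply Subtype.ext
    apply Equiv.Perm.ext
    intro z
    obtain ⟨e, rfl⟩ := exists_smul_eq D y₀ z
    have hcomm : d * e = e * d := Subtype.ext (hDc d d.2 e e.2)
    change d • e • y₀ = e • y₀
    rw [← mul_smul, hcomm, mul_smul, hd]
  have hcD : Nat.card D = 7 := by
    have h1 := index_stabilizer_of_transitive D y₀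
    rw [hstab, Subgroup.index_bot] at h1
    rw [h1, hcY]
  -- the image of `D` in `Perm Y` is a Sylow `7`-subgroup
  obtain ⟨D', hD'⟩ : ∃ D' : Subgroup (Perm Y), D' = D.map R.subtype := ⟨_, rfl⟩
  have hcD' : Nat.card D' = 7 := by
    rw [hD', Subgroup.card_map_of_injective R.subtype_injective, hcD]
  have hcS : Nat.card (Perm Y) = 5040 := by
    rw [Nat.card_eq_fintype_card, Fintype.card_perm, hY]
    rfl
  have hD'p : IsPGroup 7 D' := IsPGroup.of_card (n := 1) (by rw [hcD', pow_one])
  obtain ⟨P, hP⟩ := hD'p.exists_le_sylow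
  have hcP : Nat.card P = 7 := by
    rw [Sylow.card_eq_multiplicity, hcS, factorization_5040, pow_one]
  have hDP : D' = (P : Subgroup (Perm Y)) :=
    Subgroup.eq_of_le_of_card_ge hP (by rw [hcP, hcD'])
  -- `R` normalizes `D'`
  have hconj : ∀ r ∈ R, ∀ x ∈ D', r * x * r⁻¹ ∈ D' := by
    intro r hr x hx
    rw [hD'] at hx ⊢
    obtain ⟨d, hd, rfl⟩ := hx
    refine ⟨⟨r, hr⟩ * d * ⟨r, hr⟩⁻¹, hDn.conj_mem d hd ⟨r, hr⟩, rfl⟩
  have hRN : R ≤ Subgroup.normalizer ((P : Subgroup (Perm Y)) : Set (Perm Y)) := by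
    intro r hr
    rw [← hDP, Subgroup.mem_normalizer_iff]
    intro x
    constructor
    · exact hconj r hr x
    · intro hx
      have := hconj r⁻¹ (R.inv_mem hr) _ hx
      rw [inv_inv] at this
      have e : r⁻¹ * (r * x * r⁻¹) * r = x := by group
      rwa [e] at this
  -- orders
  have h42 := Cfsg.Agent.S0989.result (α := Y) 7 (Or.inl hY) P
  obtain ⟨hPA, h2⟩ := Cfsg.Agent.S0990.result (α := Y) (by rw [hY]; norm_num) 7 (by norm_num) P
  rw [h42] at h2
  have h21 : Nat.card ↥(Subgroup.normalizer ((((P : Subgroup (Perm Y)).subgroupOf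
      (alternatingGroup Y) : Subgroup ↥(alternatingGroup Y)) : Set ↥(alternatingGroup Y)))) =
      21 := by omega
  rw [← Subgroup.subgroupOf_normalizer_eq hPA] at h21
  have hle : R.subgroupOf (alternatingGroup Y) ≤
      (Subgroup.normalizer ((P : Subgroup (Perm Y)) : Set (Perm Y))).subgroupOf
        (alternatingGroup Y) := by
    intro x hx
    rw [Subgroup.mem_subgroupOf] at hx ⊢
    exact hRN hx
  have hdvd := Subgroup.card_dvd_of_le hle
  rw [h21, Nat.card_congr (Subgroup.subgroupOfEquivOfLe hR).toEquiv] at hdvd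
  exact hdvd

end Cfsg.Agent.Lib.Helper20.A8F7
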