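import Mathlib

/-!
# A transitive group of degree 8 containing an element of order 5 has order divisible by 7
-/

set_option autoImplicit false

namespace Cfsg.Agent.Lib.Helper20.A8F8

open Equiv MulAction
open scoped Pointwise

theorem seven_dvd_of_five {X : Type*} [Fintype X] [DecidableEq X] (hX : Fintype.card X = 8)
    (T : Subgroup (Perm X)) [IsPretransitive T X] (g : Perm X) (hg : g ∈ T)
    (h5 : orderOf g = 5) : 7 ∣ Nat.card T := by
  have hp5 : (orderOf g).Prime := by rw [h5]; norm_num
  have hgc : g.IsCycle := Equiv.Perm.isCycle_of_prime_order' hp5 (by rw [hX, h5]; norm_num)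
  have hsupp : g.support.card = 5 := by rw [← hgc.orderOf, h5]
  have hg5 : g ^ 5 = 1 := by rw [← h5]; exact pow_orderOf_eq_one g
  obtain ⟨a, ha⟩ : ∃ a, a ∈ g.support := Finset.card_pos.1 (by rw [hsupp]; norm_num)
  have ha' : g a ≠ a := Equiv.Perm.mem_support.1 ha
  obtain ⟨gT, hgT⟩ : ∃ gT : T, gT = ⟨g, hg⟩ := ⟨_, rfl⟩
  have hsm : ∀ (i : ℕ) (x : X), (gT ^ i) • x = (g ^ i) x := by
    intro i x
    rw [hgT]
    rfl
  have hgT5 : gT ^ 5 = 1 := by
    rw [hgT]
    apply Subtype.ext
    rw [Subgroup.coe_pow]
    exact hg5
  -- primitivity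
  have hprim : IsPreprimitive T X := by
    apply IsPreprimitive.of_isTrivialBlock_base a
    intro B haB hB
    by_contra hnt
    unfold IsTrivialBlock at hnt
    push Not at hnt
    obtain ⟨hns, hnu⟩ := hnt
    -- the power trick
    have hpow : ∀ k : ℕ, 0 < k → k < 5 → (gT ^ k) • B = B → gT • B = B := by
      intro k hk0 hk5 hk
      have hiter : ∀ l : ℕ, (gT ^ k) ^ l • B = B := by
        intro l
        induction l with
        | zero => simp
        | succ l ih => rw [pow_succ, mul_smul, hk, ih]
      have key : ∃ l : ℕ, (gT ^ k) ^ l = gT := by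
        interval_cases k
        · exact ⟨1, by rw [pow_one, pow_one]⟩
        · refine ⟨3, ?_⟩
          rw [← pow_mul]
          calc gT ^ (2 * 3) = gT ^ 5 * gT := by rw [← pow_succ]
            _ = gT := by rw [hgT5, one_mul]
        · refine ⟨2, ?_⟩
          rw [← pow_mul]
          calc gT ^ (3 * 2) = gT ^ 5 * gT := by rw [← pow_succ]
            _ = gT := by rw [hgT5, one_mul]
        · refine ⟨4, ?_⟩
          rw [← pow_mul]
          calc gT ^ (4 * 4) = (gT ^ 5) ^ 3 * gT := by rw [← pow_mul, ← pow_succ]
            _ = gT := by rw [hgT5, one_pow, one_mul]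
      obtain ⟨l, hl⟩ := key
      rw [← hl]
      exact hiter l
    -- `gT • B = B`
    have hfix : gT • B = B := by
      obtain ⟨b, hbB, hba⟩ : ∃ b ∈ B, b ≠ a := by
        by_contra hcon
        push Not at hcon
        obtain ⟨x, hx, y, hy, hxy⟩ := hns
        exact hxy (by rw [hcon x hx, hcon y hy])
      by_cases hb : b ∈ g.support
      · have hb' : g b ≠ b := Equiv.Perm.mem_support.1 hb
        obtain ⟨i, hi⟩ := hgc.exists_pow_eq ha' hb'
        have hi5 : g ^ i = g ^ (i % 5) := by
          rw [← h5]
          exact (pow_mod_orderOf g i).symm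
        rw [hi5] at hi
        have hk0 : 0 < i % 5 := by
          rcases Nat.eq_zero_or_pos (i % 5) with h | h
          · rw [h, pow_zero] at hi
            exact absurd hi.symm hba
          · exact h
        apply hpow (i % 5) hk0 (Nat.mod_lt _ (by norm_num))
        rw [isBlock_iff_smul_eq_of_mem] at hB
        apply hB haB
        rw [hsm, hi]
        exact hbB
      · have hb' : g b = b := Equiv.Perm.notMem_support.1 hb
        rw [isBlock_iff_smul_eq_of_mem] at hB
        apply hB hbB
        have := hsm 1 b
        rw [pow_one, pow_one, hb'] at this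
        rw [this]
        exact hbB
    -- the support lies in `B`
    have hsub : (g.support : Set X) ⊆ B := by
      intro y hy
      have hy' : g y ≠ y := Equiv.Perm.mem_support.1 hy
      obtain ⟨i, hi⟩ := hgc.exists_pow_eq ha' hy'
      have hiter : ∀ l : ℕ, gT ^ l • B = B := by
        intro l
        induction l with
        | zero => simp
        | succ l ih => rw [pow_succ, mul_smul, hfix, ih]
      rw [← hi, ← hsm, ← hiter i]
      exact Set.smul_mem_smul_set haB
    apply hnu
    apply hB.eq_univ_of_card_lt
    rw [Nat.card_eq_fintype_card, hX]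
    have h1 : (g.support : Set X).ncard ≤ B.ncard := Set.ncard_le_ncard hsub (Set.toFinite B)
    rw [Set.ncard_coe_finset, hsupp] at h1
    omega
  -- 2-transitivity by Jordan
  have h2 : IsMultiplyPretransitive T X 2 := by
    apply hprim.is_two_pretransitive (s := (g.support : Set X)ᶜ) (n := 2) ?_ ?_
      (Equiv.Perm.isPretransitive_of_isCycle_mem hgc hg)
    · have := Set.ncard_add_ncard_compl (g.support : Set X)
      rw [Set.ncard_coe_finset, hsupp, Nat.card_eq_fintype_card, hX] at this
      omega
    · rw [Nat.card_eq_fintype_card, hX]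
      norm_num
  have hidx := h2.index_of_fixingSubgroup_mul (s := ({a, g a} : Set X))
    (Set.ncard_pair ha'.symm)
  rw [Nat.card_eq_fintype_card, hX] at hidx
  have h56 : (fixingSubgroup T ({a, g a} : Set X)).index = 56 := by
    have e1 : (8 - 2).factorial = 720 := by decide
    have e2 : (8 : ℕ).factorial = 56 * 720 := by decide
    rw [e1, e2] at hidx
    exact Nat.eq_of_mul_eq_mul_right (by norm_num) hidx
  have hdvd := Subgroup.index_dvd_card (fixingSubgroup T ({a, g a} : Set X))
  rw [h56] at hdvd
  exact Dvd.dvd.trans ⟨8, by norm_num⟩ hdvd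

end Cfsg.Agent.Lib.Helper20.A8F8
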