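import Mathlib
import Cfsg.Agent.S3335
import Cfsg.Agent.Lib.Helper21.StemExt
import Cfsg.Agent.Lib.Helper20.AltMultA
import Cfsg.Agent.Lib.Helper20.AltMultB

/-!
The inductive step for the bound on the Schur multiplier of the alternating groups: from the
data on `m` generators to the data on `m + 1` generators.
-/

set_option autoImplicit false

namespace Cfsg.Agent.Lib.Helper20.AltMult

open Cfsg.Agent.S3335
open scoped commutatorElement

universe u

/-- the data: a central subgroup inside the commutator subgroup, and a generating family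
satisfying the Carmichael relations modulo it -/
structure Good {Γ : Type u} [Group Γ] (Z : Subgroup Γ) (t : ℕ → Γ) (m : ℕ) : Prop where
  cen : Z ≤ Subgroup.center Γ
  der : Z ≤ commutator Γ
  rel : CarRelMod Z t m
  gen : Subgroup.closure (t '' {i | i ≤ m}) ⊔ Z = ⊤

section general
variable {G : Type*} [Group G]

theorem carRelMod_of_eq {Z : Subgroup G} {t t' : ℕ → G} {k : ℕ} (h : CarRelMod Z t k)
    (he : ∀ i, i ≤ k → t' i = t i) : CarRelMod Z t' k where
  h1 := by rw [he 0 (by omega)]; exact h.h1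
  h2 := by intro i h1 h2; rw [he i h2]; exact h.h2 i h1 h2
  h3 := by intro i hi; rw [he i (by omega), he (i + 1) hi]; exact h.h3 i hi
  h4 := by intro i j h1 h2; rw [he i (by omega), he j h2]; exact h.h4 i j h1 h2

theorem carRelMod_comap {H : Type*} [Group H] (f : G →* H) (Z : Subgroup H) (t : ℕ → G)
    (k : ℕ) (h : CarRelMod Z (fun i => f (t i)) k) : CarRelMod (Z.comap f) t k where
  h1 := by
    rw [Subgroup.mem_comap, map_mul, map_mul]; exact h.h1
  h2 := by
    intro i h1 h2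
    rw [Subgroup.mem_comap, map_mul]; exact h.h2 i h1 h2
  h3 := by
    intro i hi
    rw [Subgroup.mem_comap, map_mul, map_mul, map_mul]; exact h.h3 i hi
  h4 := by
    intro i j h1 h2
    rw [Subgroup.mem_comap, map_mul, map_mul]; exact h.h4 i j h1 h2

theorem carRelMod_map {H : Type*} [Group H] (f : G →* H) {Z : Subgroup G} {t : ℕ → G} {k : ℕ}
    (h : CarRelMod Z t k) : CarRelMod (Z.map f) (fun i => f (t i)) k where
  h1 := by
    have := Subgroup.mem_map_of_mem f h.h1
    rwa [map_mul, map_mul] at this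
  h2 := by
    intro i h1 h2
    have := Subgroup.mem_map_of_mem f (h.h2 i h1 h2)
    rwa [map_mul] at this
  h3 := by
    intro i hi
    have := Subgroup.mem_map_of_mem f (h.h3 i hi)
    rwa [map_mul, map_mul, map_mul] at this
  h4 := by
    intro i j h1 h2
    have := Subgroup.mem_map_of_mem f (h.h4 i j h1 h2)
    rwa [map_mul, map_mul] at this

theorem map_le_center_of_surjective {H : Type*} [Group H] (f : G →* H)
    (hf : Function.Surjective f) {Z : Subgroup G} (hZ : Z ≤ Subgroup.center G) :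
    Z.map f ≤ Subgroup.center H := by
  rintro _ ⟨z, hz, rfl⟩
  rw [Subgroup.mem_center_iff]
  intro g
  obtain ⟨g, rfl⟩ := hf g
  rw [← map_mul, ← map_mul, Subgroup.mem_center_iff.mp (hZ hz) g]

theorem map_le_commutator_of_surjective {H : Type*} [Group H] (f : G →* H)
    (hf : Function.Surjective f) {Z : Subgroup G} (hZ : Z ≤ commutator G) :
    Z.map f ≤ commutator H := by
  have e : (commutator G).map f = commutator H := by
    rw [commutator_def, Subgroup.map_commutator, Subgroup.map_top_of_surjective _ hf,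
      commutator_def]
  rw [← e]
  exact Subgroup.map_mono hZ

/-- generators satisfying the relations modulo a central subgroup lie in the product of the
commutator subgroup with it (at least three generators) -/
theorem gens_mem_commutator_sup {Z : Subgroup G} (hZ : Z ≤ Subgroup.center G) {t : ℕ → G}
    {k : ℕ} (hk : 2 ≤ k) (h : CarRelMod Z t k) : ∀ i, i ≤ k → t i ∈ commutator G ⊔ Z := by
  haveI : Z.Normal := normal_of_le_center hZ
  obtain ⟨M, hM⟩ : ∃ M : Subgroup G, M = commutator G ⊔ Z := ⟨_, rfl⟩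
  haveI : M.Normal := by rw [hM]; infer_instance
  have hker : (QuotientGroup.mk' M).ker = M := QuotientGroup.ker_mk' M
  have hrel : CarRel (fun i => QuotientGroup.mk' M (t i)) k :=
    (carRelMod_iff _ hker t k).mp (carRelMod_mono (by rw [hM]; exact le_sup_right) le_rfl h)
  have hcomm : ∀ a b : G ⧸ M, a * b = b * a := by
    intro a b
    obtain ⟨a, rfl⟩ := QuotientGroup.mk'_surjective M a
    obtain ⟨b, rfl⟩ := QuotientGroup.mk'_surjective M b
    rw [← map_mul, ← map_mul]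
    show ((a * b : G) : G ⧸ M) = ((b * a : G) : G ⧸ M)
    rw [QuotientGroup.eq]
    have e : (a * b)⁻¹ * (b * a) = ⁅b⁻¹, a⁻¹⁆ := by rw [commutatorElement_def]; group
    rw [e, hM]
    apply (le_sup_left : commutator G ≤ _)
    rw [commutator_def]
    exact Subgroup.commutator_mem_commutator (Subgroup.mem_top _) (Subgroup.mem_top _)
  have hcen : ∀ i, i ≤ k → QuotientGroup.mk' M (t i) ∈ Subgroup.center (G ⧸ M) := by
    intro i _
    rw [Subgroup.mem_center_iff]
    intro g
    exact hcomm _ _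
  obtain ⟨h1, h0⟩ := carRel_central hrel (by omega) hcen
  intro i hi
  have e : QuotientGroup.mk' M (t i) = 1 := by
    rcases Nat.eq_zero_or_pos i with rfl | hpos
    · exact h0 hk
    · exact h1 i hpos hi
  rw [← hM, ← hker, MonoidHom.mem_ker]
  exact e

end general

/-- the inductive step -/
theorem step {Γ : Type u} [Group Γ] [Finite Γ] (m : ℕ) (hm : 3 ≤ m) (b : ℕ)
    (IH : ∀ {Γ' : Type u} [Group Γ'] [Finite Γ'] (Z' : Subgroup Γ') (t' : ℕ → Γ'),
      Good Z' t' (m - 1) → Nat.card Z' ∣ b)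
    (Z : Subgroup Γ) (t : ℕ → Γ) (h : Good Z t m) :
    Nat.card Z ∣ b * 3 ∧ (4 ≤ m → Nat.card Z ∣ b) := by
  obtain ⟨hZ, hder, hrel, hgen⟩ := h
  haveI : Z.Normal := normal_of_le_center hZ
  -- the subgroup generated by the first generators
  obtain ⟨H₀, hH₀⟩ : ∃ H₀ : Subgroup Γ, H₀ = Subgroup.closure (t '' {i | i ≤ m - 1}) := ⟨_, rfl⟩
  have htH₀ : ∀ i, i ≤ m - 1 → t i ∈ H₀ := by
    intro i hi; rw [hH₀]; exact Subgroup.subset_closure ⟨i, hi, rfl⟩
  -- new lifts inside the commutator subgroup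
  have hex : ∀ i, ∃ c : Γ, i ≤ m - 1 → c ∈ ⁅H₀, H₀⁆ ∧ (t i)⁻¹ * c ∈ Z := by
    intro i
    by_cases hi : i ≤ m - 1
    · obtain ⟨τ, hτ⟩ : ∃ τ : ℕ → ↥H₀, ∀ j, τ j = if hj : j ≤ m - 1 then ⟨t j, htH₀ j hj⟩ else 1 :=
        ⟨_, fun _ => rfl⟩
      have hτv : ∀ j, j ≤ m - 1 → ((τ j : ↥H₀) : Γ) = t j := by
        intro j hj; rw [hτ, dif_pos hj]
      have hZ₀ : Z.subgroupOf H₀ ≤ Subgroup.center ↥H₀ := by
        intro z hz
        rw [Subgroup.mem_center_iff]
        intro g
        apply Subtype.ext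
        rw [Subgroup.coe_mul, Subgroup.coe_mul]
        exact Subgroup.mem_center_iff.mp (hZ (Subgroup.mem_subgroupOf.mp hz)) g
      have hrel₀ : CarRelMod (Z.subgroupOf H₀) τ (m - 1) := by
        apply carRelMod_comap H₀.subtype Z τ (m - 1)
        apply carRelMod_of_eq (carRelMod_mono le_rfl (Nat.sub_le m 1) hrel)
        intro j hj
        exact hτv j hj
      have hmem := gens_mem_commutator_sup hZ₀ (by omega : 2 ≤ m - 1) hrel₀ i hi
      haveI : (Z.subgroupOf H₀).Normal := normal_of_le_center hZ₀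
      obtain ⟨c, hc, z, hz, hcz⟩ := Subgroup.mem_sup_of_normal_right.mp hmem
      refine ⟨(c : Γ), fun _ => ⟨?_, ?_⟩⟩
      · rw [← Subgroup.map_subtype_commutator]
        exact Subgroup.mem_map_of_mem _ hc
      · have e : (c : Γ) * (z : Γ) = t i := by
          rw [← Subgroup.coe_mul, hcz, hτv i hi]
        have e2 : (t i)⁻¹ * (c : Γ) = ((z : Γ))⁻¹ := by
          rw [← e]; group
        rw [e2]
        exact Z.inv_mem (Subgroup.mem_subgroupOf.mp hz)
    · exact ⟨1, fun h => absurd h hi⟩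
  choose t' ht' using hex
  -- the subgroup generated by the new lifts is perfect
  obtain ⟨H₂, hH₂⟩ : ∃ H₂ : Subgroup Γ, H₂ = Subgroup.closure (t' '' {i | i ≤ m - 1}) :=
    ⟨_, rfl⟩
  have ht'H₂ : ∀ i, i ≤ m - 1 → t' i ∈ H₂ := by
    intro i hi; rw [hH₂]; exact Subgroup.subset_closure ⟨i, hi, rfl⟩
  have hH₀le : H₀ ≤ H₂ ⊔ Z := by
    rw [hH₀, Subgroup.closure_le]
    rintro _ ⟨i, hi, rfl⟩
    have e : t i = t' i * ((t i)⁻¹ * t' i)⁻¹ := by group
    rw [e]
    exact Subgroup.mul_mem_sup (ht'H₂ i hi) (Z.inv_mem (ht' i hi).2)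
  have hcomm₀ : ⁅H₀, H₀⁆ ≤ ⁅H₂, H₂⁆ :=
    (Subgroup.commutator_mono hH₀le hH₀le).trans (commutator_sup_central_le hZ)
  have hperf : H₂ ≤ ⁅H₂, H₂⁆ := by
    rw [hH₂, Subgroup.closure_le]
    rintro _ ⟨i, hi, rfl⟩
    rw [← hH₂]
    exact hcomm₀ (ht' i hi).1
  have hperf' : commutator ↥H₂ = ⊤ := by
    rw [eq_top_iff]
    intro x _
    have hx : (x : Γ) ∈ Subgroup.map H₂.subtype (commutator ↥H₂) := by
      rw [Subgroup.map_subtype_commutator]; exact hperf x.2
    obtain ⟨c, hc, hcx⟩ := hx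
    have : c = x := Subtype.ext hcx
    rw [← this]; exact hc
  -- the inductive hypothesis
  obtain ⟨τ', hτ'⟩ : ∃ τ' : ℕ → ↥H₂,
      ∀ j, τ' j = if hj : j ≤ m - 1 then ⟨t' j, ht'H₂ j hj⟩ else 1 := ⟨_, fun _ => rfl⟩
  have hτ'v : ∀ j, j ≤ m - 1 → ((τ' j : ↥H₂) : Γ) = t' j := by
    intro j hj; rw [hτ', dif_pos hj]
  have hrelt' : CarRelMod Z t' (m - 1) :=
    carRelMod_congr hZ (carRelMod_mono le_rfl (Nat.sub_le m 1) hrel) (fun i hi => (ht' i hi).2)
  have hgood' : Good (Z.subgroupOf H₂) τ' (m - 1) := by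
    refine ⟨?_, ?_, ?_, ?_⟩
    · intro z hz
      rw [Subgroup.mem_center_iff]
      intro g
      apply Subtype.ext
      rw [Subgroup.coe_mul, Subgroup.coe_mul]
      exact Subgroup.mem_center_iff.mp (hZ (Subgroup.mem_subgroupOf.mp hz)) g
    · rw [hperf']; exact le_top
    · apply carRelMod_comap H₂.subtype Z τ' (m - 1)
      apply carRelMod_of_eq hrelt'
      intro j hj
      exact hτ'v j hj
    · rw [eq_top_iff]
      apply le_trans _ (le_sup_left : Subgroup.closure (τ' '' {i | i ≤ m - 1}) ≤ _)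
      have hsub : (Subtype.val ⁻¹' (t' '' {i | i ≤ m - 1}) :
          Set ↥(Subgroup.closure (t' '' {i | i ≤ m - 1}))) ⊆
          (fun x => (⟨x.1, hH₂ ▸ x.2⟩ : ↥H₂)) ⁻¹' (τ' '' {i | i ≤ m - 1}) := by
        rintro x ⟨j, hj, hjx⟩
        refine ⟨j, hj, ?_⟩
        apply Subtype.ext
        rw [hτ'v j hj]
        exact hjx
      subst hH₂
      have htop := Subgroup.closure_closure_coe_preimage (k := t' '' {i | i ≤ m - 1})
      rw [← htop]
      apply Subgroup.closure_mono
      intro x hx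
      obtain ⟨j, hj, hjx⟩ := hsub hx
      exact ⟨j, hj, hjx⟩
  have hcard' : Nat.card (Z.subgroupOf H₂) ∣ b := IH (Z.subgroupOf H₂) τ' hgood'
  -- the quotient by `Z ⊓ H₂`
  obtain ⟨Z₁, hZ₁⟩ : ∃ Z₁ : Subgroup Γ, Z₁ = Z ⊓ H₂ := ⟨_, rfl⟩
  have hZ₁le : Z₁ ≤ Z := by rw [hZ₁]; exact inf_le_left
  have hcardZ₁ : Nat.card Z₁ = Nat.card (Z.subgroupOf H₂) := by
    rw [hZ₁, ← Subgroup.inf_subgroupOf_right Z H₂]
    exact (Nat.card_congr (Subgroup.subgroupOfEquivOfLe (inf_le_right : Z ⊓ H₂ ≤ H₂)).toEquiv).symm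
  haveI hZ₁n : Z₁.Normal := normal_of_le_center (hZ₁le.trans hZ)
  have hker : (QuotientGroup.mk' Z₁).ker = Z₁ := QuotientGroup.ker_mk' Z₁
  have hqsurj : Function.Surjective (QuotientGroup.mk' Z₁) := QuotientGroup.mk'_surjective Z₁
  obtain ⟨t'', ht''⟩ : ∃ t'' : ℕ → Γ, ∀ i, t'' i = if i ≤ m - 1 then t' i else t i :=
    ⟨_, fun _ => rfl⟩
  have ht''le : ∀ i, i ≤ m - 1 → t'' i = t' i := fun i hi => by rw [ht'', if_pos hi]
  have ht''gt : ∀ i, ¬ i ≤ m - 1 → t'' i = t i := fun i hi => by rw [ht'', if_neg hi]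
  have ht''Z : ∀ i, i ≤ m → (t i)⁻¹ * t'' i ∈ Z := by
    intro i _
    by_cases hi : i ≤ m - 1
    · rw [ht''le i hi]; exact (ht' i hi).2
    · rw [ht''gt i hi, inv_mul_cancel]; exact Z.one_mem
  have hrel'' : CarRelMod Z t'' m := carRelMod_congr hZ hrel ht''Z
  have hex1 : CarRel (fun i => QuotientGroup.mk' Z₁ (t'' i)) (m - 1) := by
    rw [← carRelMod_iff (QuotientGroup.mk' Z₁) hker, hZ₁]
    apply carRelMod_inf (carRelMod_mono le_rfl (Nat.sub_le m 1) hrel'')
    intro i hi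
    rw [ht''le i hi]; exact ht'H₂ i hi
  have hmod1 : CarRelMod (Z.map (QuotientGroup.mk' Z₁)) (fun i => QuotientGroup.mk' Z₁ (t'' i))
      (m - 1 + 1) := by
    have e : m - 1 + 1 = m := by omega
    rw [e]
    exact carRelMod_map _ hrel''
  have hgen'' : Subgroup.closure (t'' '' {i | i ≤ m}) ⊔ Z = ⊤ := by
    rw [eq_top_iff, ← hgen]
    apply sup_le _ le_sup_right
    rw [Subgroup.closure_le]
    rintro _ ⟨i, hi, rfl⟩
    have e : t i = t'' i * ((t i)⁻¹ * t'' i)⁻¹ := by group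
    rw [e]
    exact Subgroup.mul_mem_sup (Subgroup.subset_closure ⟨i, hi, rfl⟩) (Z.inv_mem (ht''Z i hi))
  have hgen1 : Subgroup.closure ((fun i => QuotientGroup.mk' Z₁ (t'' i)) '' {i | i ≤ m - 1 + 1}) ⊔
      Z.map (QuotientGroup.mk' Z₁) = ⊤ := by
    have e : m - 1 + 1 = m := by omega
    rw [e]
    have e2 := congrArg (Subgroup.map (QuotientGroup.mk' Z₁)) hgen''
    rw [Subgroup.map_sup, MonoidHom.map_closure, Set.image_image,
      Subgroup.map_top_of_surjective _ hqsurj] at e2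
    exact e2
  obtain ⟨hbot, hdvd3⟩ := step_quot (Z.map (QuotientGroup.mk' Z₁))
    (map_le_center_of_surjective _ hqsurj hZ) (map_le_commutator_of_surjective _ hqsurj hder)
    (fun i => QuotientGroup.mk' Z₁ (t'' i)) (m - 1) (by omega) hex1 hmod1 hgen1
  have hcardZ : Nat.card Z = Nat.card Z₁ * Nat.card (Z.map (QuotientGroup.mk' Z₁)) := by
    have e := Cfsg.Agent.Lib.Helper21.card_eq_card_ker_mul_card_map (QuotientGroup.mk' Z₁) Z
      (by rw [hker]; exact hZ₁le)
    rw [e]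
    congr 1
    exact Nat.card_congr (MulEquiv.subgroupCongr hker).toEquiv
  constructor
  · rw [hcardZ, hcardZ₁]
    exact Nat.mul_dvd_mul hcard' hdvd3
  · intro hm4
    rw [hcardZ, hcardZ₁, hbot (by omega), Subgroup.card_bot, mul_one]
    exact hcard'

end Cfsg.Agent.Lib.Helper20.AltMult
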