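import Mathlib
import Cfsg.Prelude.Def_CaseTheorems
import Cfsg.Agent.Lib.Helper10.Rank2Omega
import Cfsg.Agent.Lib.Helper10.UniqueOrderP
import Cfsg.Agent.Lib.Helper1.Critical
import Cfsg.Agent.Lib.Helper1.ClassTwo
import Cfsg.Agent.Lib.Helper1.Frattini
import Cfsg.Agent.Lib.Helper9.Rank

/-!
Elementary lemmas for the chief factor bound in `p`-groups of rank at most two.
-/

set_option autoImplicit false

namespace Cfsg.Agent.Lib.Helper20.Chief

open scoped commutatorElement

/-- the `p`-th power map is multiplicative on a pair whose commutator is central of exponent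
`p` (`p` odd) -/
theorem mul_pow_prime_of_comm {E : Type*} [Group E] {p : ℕ} (hpp : p.Prime) (hp2 : p ≠ 2)
    {x y : E} (hx : ⁅y, x⁆ * x = x * ⁅y, x⁆) (hy : ⁅y, x⁆ * y = y * ⁅y, x⁆)
    (hc : ⁅y, x⁆ ^ p = 1) : (x * y) ^ p = x ^ p * y ^ p := by
  rw [Cfsg.Agent.Lib.Helper1.mul_pow_of_commutator_central hx hy]
  have hdvd : p ∣ p.choose 2 := by
    apply hpp.dvd_choose_self (by norm_num)
    have := hpp.two_le
    omega
  obtain ⟨k, hk⟩ := hdvd
  rw [hk, pow_mul, hc, one_pow, mul_one]

/-- orbit bound for the index of a centralizer -/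
theorem relIndex_centralizer_le {G : Type*} [Group G] (R : Subgroup G) (d : G) (T : Set G)
    [Finite T] (hT : ∀ r ∈ R, r * d * r⁻¹ ∈ T) :
    (Subgroup.centralizer ({d} : Set G)).relIndex R ≤ Nat.card T := by
  classical
  let C : Subgroup ↥R := (Subgroup.centralizer ({d} : Set G)).subgroupOf R
  have hwd : ∀ a b : ↥R, QuotientGroup.leftRel C a b →
      (⟨(a : G) * d * (a : G)⁻¹, hT a a.2⟩ : T) = ⟨(b : G) * d * (b : G)⁻¹, hT b b.2⟩ := by
    intro a b hab
    rw [QuotientGroup.leftRel_apply] at hab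
    have h1 : ((a⁻¹ * b : ↥R) : G) ∈ Subgroup.centralizer ({d} : Set G) := hab
    rw [Subgroup.mem_centralizer_iff] at h1
    have h2 := h1 d rfl
    apply Subtype.ext
    show (a : G) * d * (a : G)⁻¹ = (b : G) * d * (b : G)⁻¹
    have h3 : ((a⁻¹ * b : ↥R) : G) = (a : G)⁻¹ * (b : G) := rfl
    rw [h3] at h2
    calc (a : G) * d * (a : G)⁻¹ = (a : G) * (d * ((a : G)⁻¹ * (b : G))) * (b : G)⁻¹ := by group
      _ = (a : G) * (((a : G)⁻¹ * (b : G)) * d) * (b : G)⁻¹ := by rw [h2]
      _ = (b : G) * d * (b : G)⁻¹ := by group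
  let f : ↥R ⧸ C → T := Quotient.lift (s := QuotientGroup.leftRel C)
    (fun r : ↥R => (⟨(r : G) * d * (r : G)⁻¹, hT r r.2⟩ : T)) hwd
  have hf : Function.Injective f := by
    intro u v huv
    induction u using QuotientGroup.induction_on with
    | H a =>
      induction v using QuotientGroup.induction_on with
      | H b =>
        have h1 : (a : G) * d * (a : G)⁻¹ = (b : G) * d * (b : G)⁻¹ := congrArg Subtype.val huv
        apply QuotientGroup.eq.mpr
        show ((a⁻¹ * b : ↥R) : G) ∈ Subgroup.centralizer ({d} : Set G)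
        rw [Subgroup.mem_centralizer_iff]
        intro e he
        rw [Set.mem_singleton_iff] at he
        subst he
        show e * ((a : G)⁻¹ * (b : G)) = ((a : G)⁻¹ * (b : G)) * e
        calc e * ((a : G)⁻¹ * (b : G)) = (a : G)⁻¹ * ((a : G) * e * (a : G)⁻¹) * (b : G) := by group
          _ = (a : G)⁻¹ * ((b : G) * e * (b : G)⁻¹) * (b : G) := by rw [h1]
          _ = ((a : G)⁻¹ * (b : G)) * e := by group
  exact Nat.card_le_card_of_injective f hf

end Cfsg.Agent.Lib.Helper20.Chief
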