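import Cfsg.Agent.Lib.Helper20.ChiefA

/-!
More elementary lemmas: indices of centralizers in `p`-groups, cyclic quotients.
-/

set_option autoImplicit false

namespace Cfsg.Agent.Lib.Helper20.Chief

open scoped commutatorElement

/-- relative indices inside a finite `p`-group are powers of `p` -/
theorem exists_relIndex_eq_pow {G : Type*} [Group G] [Finite G] {p : ℕ} [Fact p.Prime]
    (R H : Subgroup G) (hR : IsPGroup p R) : ∃ k : ℕ, H.relIndex R = p ^ k :=
  hR.index (H.subgroupOf R)

/-- if `R = ⟨g⟩ K` with `g ^ p ∈ K` then `|R : K| ≤ p` -/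
theorem relIndex_le_of_cyclic_mod {G : Type*} [Group G] {p : ℕ} (hp : 0 < p)
    (R K : Subgroup G) [K.Normal] (g : G) (hg : g ∈ R) (hgp : g ^ p ∈ K)
    (hgen : ∀ r ∈ R, ∃ i : ℤ, ∃ y ∈ K, r = g ^ i * y) : K.relIndex R ≤ p := by
  classical
  let f : Fin p → ↥R ⧸ K.subgroupOf R := fun j =>
    QuotientGroup.mk (⟨g ^ (j : ℕ), R.pow_mem hg _⟩ : ↥R)
  have hf : Function.Surjective f := by
    intro u
    induction u using QuotientGroup.induction_on with
    | H r =>
      obtain ⟨i, y, hy, hr⟩ := hgen r r.2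
      have hpz : (p : ℤ) ≠ 0 := by exact_mod_cast hp.ne'
      have h0 : 0 ≤ i % (p : ℤ) := Int.emod_nonneg i hpz
      have h1 : i % (p : ℤ) < p := Int.emod_lt_of_pos i (by exact_mod_cast hp)
      obtain ⟨j, hj⟩ : ∃ j : ℕ, (j : ℤ) = i % (p : ℤ) := ⟨(i % (p : ℤ)).toNat, Int.toNat_of_nonneg h0⟩
      have hjp : j < p := by
        have : (j : ℤ) < p := by rw [hj]; exact h1
        exact_mod_cast this
      refine ⟨⟨j, hjp⟩, ?_⟩
      apply QuotientGroup.eq.mpr
      show ((⟨g ^ j, R.pow_mem hg _⟩ : ↥R)⁻¹ * r : ↥R) ∈ K.subgroupOf R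
      rw [Subgroup.mem_subgroupOf]
      show (g ^ j)⁻¹ * (r : G) ∈ K
      have hi : i = (p : ℤ) * (i / (p : ℤ)) + j := by
        rw [hj]
        exact (Int.mul_ediv_add_emod i p).symm
      have hgi : g ^ i = g ^ j * (g ^ p) ^ (i / (p : ℤ)) := by
        conv_lhs => rw [hi]
        rw [zpow_add, zpow_mul, zpow_natCast, zpow_natCast]
        have : Commute ((g ^ p) ^ (i / (p : ℤ))) (g ^ j) :=
          (((Commute.refl g).pow_left p).zpow_left _).pow_right j
        exact this.eq
      rw [hr, hgi]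
      have : (g ^ j)⁻¹ * (g ^ j * (g ^ p) ^ (i / (p : ℤ)) * y) = (g ^ p) ^ (i / (p : ℤ)) * y := by
        group
      rw [this]
      exact K.mul_mem (K.zpow_mem hgp _) hy
  have h1 := Nat.card_le_card_of_surjective f hf
  rw [Nat.card_fin] at h1
  exact h1

/-- orbit bound: an element `d` of a subgroup `D` normalized by the `p`-group `R`, with
`|D| ≤ p ^ (e + 1)`, has `|R : C_R(d)| ≤ p ^ e` -/
theorem relIndex_centralizer_le_pow {G : Type*} [Group G] [Finite G] {p : ℕ} [Fact p.Prime]
    (R D : Subgroup G) (hR : IsPGroup p R) (hnorm : ∀ r ∈ R, ∀ d ∈ D, r * d * r⁻¹ ∈ D)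
    (e : ℕ) (hD : Nat.card D ≤ p ^ (e + 1)) (d : G) (hd : d ∈ D) :
    (Subgroup.centralizer ({d} : Set G)).relIndex R ≤ p ^ e := by
  have hpp : p.Prime := Fact.out
  by_cases hd1 : d = 1
  · subst hd1
    have : Subgroup.centralizer ({1} : Set G) = ⊤ := by
      rw [eq_top_iff]
      intro x _
      rw [Subgroup.mem_centralizer_iff]
      intro y hy
      rw [Set.mem_singleton_iff] at hy
      subst hy
      simp
    rw [this, Subgroup.relIndex_top_left]
    exact Nat.one_le_pow _ _ hpp.pos
  · obtain ⟨k, hk⟩ := exists_relIndex_eq_pow R (Subgroup.centralizer ({d} : Set G)) hR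
    have hT : ∀ r ∈ R, r * d * r⁻¹ ∈ ((D : Set G) \ {1}) := by
      intro r hr
      refine ⟨hnorm r hr d hd, ?_⟩
      rw [Set.mem_singleton_iff]
      intro h
      apply hd1
      have : d = r⁻¹ * (r * d * r⁻¹) * r := by group
      rw [this, h]
      group
    have h1 := relIndex_centralizer_le R d ((D : Set G) \ {1}) hT
    have h2 : Nat.card ↥((D : Set G) \ {1}) < Nat.card D := by
      have h3 : ((D : Set G) \ {1}) ⊂ (D : Set G) := by
        refine ⟨Set.sdiff_subset, ?_⟩
        intro h
        have := h (D.one_mem)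
        exact this.2 rfl
      have h4 := Set.ncard_lt_ncard h3 (Set.toFinite _)
      rw [← Nat.card_coe_set_eq, ← Nat.card_coe_set_eq] at h4
      exact h4
    rw [hk] at h1 ⊢
    have h5 : p ^ k < p ^ (e + 1) := lt_of_le_of_lt h1 (lt_of_lt_of_le h2 hD)
    have h6 : k < e + 1 := (Nat.pow_lt_pow_iff_right hpp.one_lt).mp h5
    exact Nat.pow_le_pow_right hpp.pos (by omega)

/-- centralizing two generators -/
theorem centralizer_pair_le {G : Type*} [Group G] (a b : G) :
    Subgroup.centralizer ({a} : Set G) ⊓ Subgroup.centralizer ({b} : Set G) ≤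
      Subgroup.centralizer ((Subgroup.closure ({a, b} : Set G) : Subgroup G) : Set G) := by
  intro x hx
  have hxa : a * x = x * a := (Subgroup.mem_centralizer_iff.mp hx.1) a rfl
  have hxb : b * x = x * b := (Subgroup.mem_centralizer_iff.mp hx.2) b rfl
  rw [Subgroup.mem_centralizer_iff]
  intro s hs
  have hs' : s ∈ Subgroup.closure ({a, b} : Set G) := hs
  induction hs' using Subgroup.closure_induction with
  | mem z hz =>
    rcases hz with rfl | hz
    · exact hxa
    · rw [Set.mem_singleton_iff] at hz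
      subst hz
      exact hxb
  | one => simp
  | mul u v _ _ hu hv =>
    have hu' := hu (by assumption)
    have hv' := hv (by assumption)
    calc u * v * x = u * (v * x) := by group
      _ = u * (x * v) := by rw [hv']
      _ = (u * x) * v := by group
      _ = (x * u) * v := by rw [hu']
      _ = x * (u * v) := by group
  | inv u _ hu =>
    have hu' := hu (by assumption)
    calc u⁻¹ * x = u⁻¹ * (x * u) * u⁻¹ := by group
      _ = u⁻¹ * (u * x) * u⁻¹ := by rw [hu']
      _ = x * u⁻¹ := by group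

end Cfsg.Agent.Lib.Helper20.Chief
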