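import Cfsg.Agent.Lib.Helper20.ChiefA2

/-!
Minimal counterexample to the chief factor bound: first consequences.
-/

set_option autoImplicit false
set_option linter.style.haveILetI false
set_option linter.unusedSectionVars false

namespace Cfsg.Agent.Lib.Helper20.Chief

open scoped commutatorElement

universe u

/-- data of a minimal counterexample: `R / K` is a chief factor of `G` of order at least `p³`
inside the normal `p`-subgroup `R` of rank at most two, and the bound holds for smaller `R`. -/
structure MinCE (p : ℕ) (G : Type u) [Group G] (R K : Subgroup G) : Prop where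
  hp2 : p ≠ 2
  hRn : R.Normal
  hKn : K.Normal
  hR : IsPGroup p R
  hrk : Cfsg.PRankLE p 2 R
  hlt : K < R
  chief : ∀ L : Subgroup G, L.Normal → K ≤ L → L ≤ R → L = K ∨ L = R
  big : p ^ 3 ≤ K.relIndex R
  ih : ∀ (G' : Type u) [Group G'] [Finite G'] (R' K' : Subgroup G'), R'.Normal → K'.Normal →
    Nat.card R' < Nat.card R → IsPGroup p R' → Cfsg.PRankLE p 2 R' → K' < R' →
    (∀ L : Subgroup G', L.Normal → K' ≤ L → L ≤ R' → L = K' ∨ L = R') → K'.relIndex R' ≤ p ^ 2

variable {p : ℕ} [Fact p.Prime] {G : Type u} [Group G] [Finite G] {R K : Subgroup G}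

/-- modular law with a normal factor -/
theorem sup_inf_eq_of_le {G : Type*} [Group G] (L K X : Subgroup G) [K.Normal] (hLX : L ≤ X) :
    (L ⊔ K) ⊓ X = L ⊔ (K ⊓ X) := by
  apply le_antisymm
  · intro x hx
    obtain ⟨hx1, hx2⟩ := hx
    have h1 : x ∈ ((L ⊔ K : Subgroup G) : Set G) := hx1
    rw [Subgroup.mul_normal] at h1
    obtain ⟨l, hl, k, hk, rfl⟩ := h1
    have hkX : k ∈ X := by
      have : k = l⁻¹ * (l * k) := by group
      rw [this]
      exact X.mul_mem (X.inv_mem (hLX hl)) hx2
    exact Subgroup.mul_mem_sup hl ⟨hk, hkX⟩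
  · apply le_inf
    · exact sup_le_sup_left inf_le_left _
    · exact sup_le hLX inf_le_right

/-- proper normal subgroups of `G` inside `R` lie in `K` -/
theorem MinCE.le_of_normal (h : MinCE p G R K) (X : Subgroup G) (hXn : X.Normal) (hXR : X ≤ R)
    (hne : X ≠ R) : X ≤ K := by
  have hpp : p.Prime := Fact.out
  haveI := h.hRn
  haveI := h.hKn
  haveI := hXn
  have hXKn : (X ⊔ K).Normal := inferInstance
  rcases h.chief (X ⊔ K) hXKn le_sup_right (sup_le hXR h.hlt.le) with h1 | h1
  · rw [← h1]
    exact le_sup_left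
  · exfalso
    have hXlt : X < R := lt_of_le_of_ne hXR hne
    have hcard : Nat.card X < Nat.card R := Cfsg.Agent.Lib.Helper1.card_lt_of_lt hXlt
    have hXK : X ⊓ K < X := by
      refine lt_of_le_of_ne inf_le_left ?_
      intro heq
      have hXK : X ≤ K := by
        rw [← heq]
        exact inf_le_right
      have : X ⊔ K = K := sup_eq_right.mpr hXK
      rw [this] at h1
      exact h.hlt.ne h1
    have hchief : ∀ L : Subgroup G, L.Normal → X ⊓ K ≤ L → L ≤ X → L = X ⊓ K ∨ L = X := by
      intro L hLn hKL hLX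
      haveI := hLn
      have hLKn : (L ⊔ K).Normal := inferInstance
      rcases h.chief (L ⊔ K) hLKn le_sup_right (sup_le (hLX.trans hXR) h.hlt.le) with h2 | h2
      · left
        apply le_antisymm _ hKL
        apply le_inf hLX
        rw [← h2]
        exact le_sup_left
      · right
        apply le_antisymm hLX
        have h3 := sup_inf_eq_of_le L K X hLX
        rw [h2, inf_eq_right.mpr hXR] at h3
        rw [h3]
        exact sup_le le_rfl (by rw [inf_comm]; exact hKL)
    have hidx : (X ⊓ K).relIndex X = K.relIndex R := by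
      rw [inf_comm, Subgroup.inf_relIndex_right, ← h1, Subgroup.relIndex_sup_right]
    have := h.ih G X (X ⊓ K) hXn inferInstance hcard (h.hR.to_le hXR)
      (Cfsg.Agent.Lib.Helper9.pRankLE_of_le hXR h.hrk) hXK hchief
    rw [hidx] at this
    have h4 : p ^ 2 < p ^ 3 := Nat.pow_lt_pow_right hpp.one_lt (by norm_num)
    have := h.big
    omega

/-- `R` is not trivial -/
theorem MinCE.ne_bot (h : MinCE p G R K) : R ≠ ⊥ := by
  intro hR
  have := h.hlt
  rw [hR] at this
  exact not_lt_bot this

/-- the Frattini subgroup of `R`, as a subgroup of `G` -/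
noncomputable def frat (R : Subgroup G) : Subgroup G := (frattini ↥R).map R.subtype

theorem frat_le (R : Subgroup G) : frat R ≤ R := by
  rintro _ ⟨x, -, rfl⟩
  exact x.2

theorem MinCE.frat_le_K (h : MinCE p G R K) : frat R ≤ K := by
  have hpp : p.Prime := Fact.out
  haveI := h.hRn
  apply h.le_of_normal (frat R) _ (frat_le R)
  · intro heq
    -- the Frattini subgroup of a nontrivial `p`-group is proper
    have hdvd : p ∣ Nat.card ↥R := by
      rcases h.hR.card_eq_or_dvd with h1 | h1
      · exfalso
        exact h.ne_bot (Subgroup.card_eq_one.mp h1)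
      · exact h1
    have h1 := Cfsg.Agent.Lib.Helper1.prime_dvd_index_frattini (G := ↥R) p hpp hdvd
    have h2 : frattini ↥R = ⊤ := by
      rw [eq_top_iff]
      intro x _
      have hx : (x : G) ∈ frat R := by rw [heq]; exact x.2
      obtain ⟨y, hy, hyx⟩ := hx
      have : y = x := Subtype.ext hyx
      rw [← this]
      exact hy
    rw [h2, Subgroup.index_top] at h1
    exact hpp.one_lt.ne' (Nat.dvd_one.mp h1)
  · exact ConjAct.normal_of_characteristic_of_normal

theorem MinCE.pow_mem (h : MinCE p G R K) (x : G) (hx : x ∈ R) : x ^ p ∈ K := by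
  apply h.frat_le_K
  have := Cfsg.Agent.Lib.Helper1.IsPGroup.pow_mem_frattini h.hR (⟨x, hx⟩ : ↥R)
  exact ⟨_, this, rfl⟩

theorem MinCE.relIndex_pow (h : MinCE p G R K) : ∃ k : ℕ, K.relIndex R = p ^ k :=
  exists_relIndex_eq_pow R K h.hR

/-- if `R = ⟨g⟩ K` then we have a contradiction -/
theorem MinCE.not_cyclic_mod (h : MinCE p G R K) (g : G) (hg : g ∈ R)
    (hgen : ∀ r ∈ R, ∃ i : ℤ, ∃ y ∈ K, r = g ^ i * y) : False := by
  have hpp : p.Prime := Fact.out
  haveI := h.hKn
  have h1 := relIndex_le_of_cyclic_mod hpp.pos R K g hg (h.pow_mem g hg) hgen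
  have h2 := h.big
  have h3 : p < p ^ 3 := by
    calc p = p ^ 1 := (pow_one p).symm
      _ < p ^ 3 := Nat.pow_lt_pow_right hpp.one_lt (by norm_num)
  omega

end Cfsg.Agent.Lib.Helper20.Chief
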