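import Cfsg.Agent.Lib.Helper20.ChiefB

/-!
The subgroup `Ω₁(Z(R))` in a minimal counterexample has order `p`.
-/

set_option autoImplicit false
set_option linter.style.haveILetI false
set_option linter.unusedSectionVars false

namespace Cfsg.Agent.Lib.Helper20.Chief

open scoped commutatorElement

universe u

variable {p : ℕ} [Fact p.Prime] {G : Type u} [Group G] [Finite G] {R K : Subgroup G}

/-- `Ω₁(Z(R))` as a subgroup of `G` -/
def Z1 (p : ℕ) (R : Subgroup G) : Subgroup G where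
  carrier := {z | z ∈ R ∧ (∀ r ∈ R, r * z = z * r) ∧ z ^ p = 1}
  one_mem' := ⟨R.one_mem, fun r _ => by simp, one_pow p⟩
  mul_mem' := by
    rintro a b ⟨ha, hac, hap⟩ ⟨hb, hbc, hbp⟩
    refine ⟨R.mul_mem ha hb, ?_, ?_⟩
    · intro r hr
      calc r * (a * b) = (r * a) * b := by group
        _ = (a * r) * b := by rw [hac r hr]
        _ = a * (r * b) := by group
        _ = a * (b * r) := by rw [hbc r hr]
        _ = a * b * r := by group
    · have hcomm : Commute a b := (hbc a ha)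
      rw [hcomm.mul_pow, hap, hbp, one_mul]
  inv_mem' := by
    rintro a ⟨ha, hac, hap⟩
    refine ⟨R.inv_mem ha, ?_, ?_⟩
    · intro r hr
      calc r * a⁻¹ = a⁻¹ * (a * r) * a⁻¹ := by group
        _ = a⁻¹ * (r * a) * a⁻¹ := by rw [hac r hr]
        _ = a⁻¹ * r := by group
    · rw [inv_pow, hap, inv_one]

theorem Z1_le : Z1 p R ≤ R := fun _ hz => hz.1

theorem Z1_normal (hRn : R.Normal) : (Z1 p R).Normal := by
  constructor
  rintro z ⟨hz, hzc, hzp⟩ g
  refine ⟨hRn.conj_mem z hz g, ?_, ?_⟩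
  · intro r hr
    have h1 : g⁻¹ * r * g ∈ R := by
      have := hRn.conj_mem r hr g⁻¹
      rwa [inv_inv] at this
    have h2 := hzc _ h1
    calc r * (g * z * g⁻¹) = g * ((g⁻¹ * r * g) * z) * g⁻¹ := by group
      _ = g * (z * (g⁻¹ * r * g)) * g⁻¹ := by rw [h2]
      _ = g * z * g⁻¹ * r := by group
  · rw [conj_pow, hzp]
    group

theorem Z1_isMulCommutative : IsMulCommutative ↥(Z1 p R) := by
  refine ⟨⟨?_⟩⟩
  rintro ⟨a, ha⟩ ⟨b, hb⟩
  apply Subtype.ext
  exact hb.2.1 a ha.1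

theorem Z1_ne_bot (hR : IsPGroup p R) (hne : R ≠ ⊥) : Z1 p R ≠ ⊥ := by
  haveI : Nontrivial ↥R := (Subgroup.nontrivial_iff_ne_bot R).mpr hne
  have hlt := IsPGroup.bot_lt_center hR
  obtain ⟨a, haZ, ha1⟩ := SetLike.exists_of_lt hlt
  have ha1' : a ≠ 1 := fun h => ha1 (by rw [h]; exact Subgroup.one_mem _)
  obtain ⟨z, hza, hzp, hz1⟩ := Cfsg.Agent.Lib.Helper10.exists_orderOf_eq_prime_zpowers hR a ha1'
  have hzZ : z ∈ Subgroup.center ↥R := (Subgroup.zpowers_le.mpr haZ) hza
  intro hbot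
  have hmem : (z : G) ∈ Z1 p R := by
    refine ⟨z.2, ?_, ?_⟩
    · intro r hr
      have := (Subgroup.mem_center_iff.mp hzZ) ⟨r, hr⟩
      exact congrArg Subtype.val this
    · have := congrArg Subtype.val hzp
      simpa using this
  rw [hbot, Subgroup.mem_bot] at hmem
  apply hz1
  exact Subtype.ext hmem

/-- strict inclusion of `p`-subgroups multiplies the order by at least `p` -/
theorem card_mul_le_of_lt' {A B : Subgroup G} (hB : IsPGroup p B) (h : A < B) :
    p * Nat.card A ≤ Nat.card B := by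
  have hpp : p.Prime := Fact.out
  obtain ⟨i, hi⟩ := (hB.to_le h.le).exists_card_eq
  obtain ⟨j, hj⟩ := hB.exists_card_eq
  have h1 := Cfsg.Agent.Lib.Helper1.card_lt_of_lt h
  rw [hi, hj] at h1 ⊢
  have h2 : i < j := (Nat.pow_lt_pow_iff_right hpp.one_lt).mp h1
  calc p * p ^ i = p ^ (i + 1) := by rw [pow_succ, mul_comm]
    _ ≤ p ^ j := Nat.pow_le_pow_right hpp.pos h2

theorem MinCE.Z1_le_K (h : MinCE p G R K) : Z1 p R ≤ K := by
  have hpp : p.Prime := Fact.out
  apply h.le_of_normal _ (Z1_normal h.hRn) Z1_le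
  intro heq
  have hc : IsMulCommutative ↥R := by
    have := Z1_isMulCommutative (p := p) (R := R)
    rwa [heq] at this
  have hexp : ∀ a ∈ R, a ^ p = 1 := by
    intro a ha
    rw [← heq] at ha
    exact ha.2.2
  have h1 := Cfsg.Agent.Lib.Helper9.card_le_of_pRankLE (le_refl R) hc hexp h.hrk
  have h2 : K.relIndex R ≤ Nat.card R := Nat.le_of_dvd Nat.card_pos (Subgroup.relIndex_dvd_card K R)
  have h3 := h.big
  have h4 : p ^ 2 < p ^ 3 := Nat.pow_lt_pow_right hpp.one_lt (by norm_num)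
  omega

end Cfsg.Agent.Lib.Helper20.Chief
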