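import Cfsg.Agent.Lib.Helper20.ChiefC

/-!
The quotient by `Ω₁(Z(R))` in a minimal counterexample.
-/

set_option autoImplicit false
set_option linter.style.haveILetI false
set_option linter.unusedSectionVars false

namespace Cfsg.Agent.Lib.Helper20.Chief

open scoped commutatorElement

universe u

variable {p : ℕ} [Fact p.Prime] {G : Type u} [Group G] [Finite G] {R K : Subgroup G}

/-- the quotient of `R` by `Ω₁(Z(R))` has rank at least three -/
theorem MinCE.not_rank_quot (h : MinCE p G R K) (Z : Subgroup G) [hZn : Z.Normal] (hZK : Z ≤ K)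
    (hZne : Z ≠ ⊥) :
    ¬ Cfsg.PRankLE p 2 ↥(R.map (QuotientGroup.mk' Z)) := by
  have hpp : p.Prime := Fact.out
  haveI := h.hRn
  haveI := h.hKn
  intro hrk
  set π := QuotientGroup.mk' Z with hπdef
  have hπ : Function.Surjective π := QuotientGroup.mk'_surjective _
  have hker : π.ker = Z := QuotientGroup.ker_mk' _
  have hZR : Z ≤ R := hZK.trans h.hlt.le
  have hRn' : (R.map π).Normal := h.hRn.map π hπ
  have hKn' : (K.map π).Normal := h.hKn.map π hπ
  have hcR : K.map π ≤ R.map π := Subgroup.map_mono h.hlt.le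
  have hcomapR : (R.map π).comap π = R := by
    rw [Subgroup.comap_map_eq, hker, sup_eq_left.mpr hZR]
  have hcomapK : (K.map π).comap π = K := by
    rw [Subgroup.comap_map_eq, hker, sup_eq_left.mpr hZK]
  have hlt' : K.map π < R.map π := by
    refine lt_of_le_of_ne hcR ?_
    intro heq
    have : (K.map π).comap π = (R.map π).comap π := by rw [heq]
    rw [hcomapR, hcomapK] at this
    exact h.hlt.ne this
  have hcard : Nat.card ↥(R.map π) < Nat.card ↥R := by
    have h1 : Nat.card ↥(R.map π) = Z.relIndex R := by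
      have := Subgroup.relIndex_ker (K := R) π
      rw [hker] at this
      exact this.symm
    have h2 := Subgroup.relIndex_mul_relIndex (⊥ : Subgroup G) Z R bot_le hZR
    rw [Subgroup.relIndex_bot_left, Subgroup.relIndex_bot_left] at h2
    rw [h1, ← h2]
    have h3 : 2 ≤ Nat.card ↥Z :=
      (Subgroup.one_lt_card_iff_ne_bot _).mpr hZne
    have h4 : 0 < Z.relIndex R := by
      rw [Nat.pos_iff_ne_zero]
      intro h0
      rw [h0, mul_zero] at h2
      exact (Nat.card_pos (α := ↥R)).ne' h2.symm
    nlinarith
  have hchief' : ∀ L : Subgroup (G ⧸ Z), L.Normal → K.map π ≤ L → L ≤ R.map π →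
      L = K.map π ∨ L = R.map π := by
    intro L hLn hKL hLR
    have h1 : (L.comap π).Normal := hLn.comap π
    have h2 : K ≤ L.comap π := by
      rw [← hcomapK]
      exact Subgroup.comap_mono hKL
    have h3 : L.comap π ≤ R := by
      rw [← hcomapR]
      exact Subgroup.comap_mono hLR
    have h4 : L = (L.comap π).map π := (Subgroup.map_comap_eq_self_of_surjective hπ L).symm
    rcases h.chief _ h1 h2 h3 with h5 | h5
    · left
      rw [h4, h5]
    · right
      rw [h4, h5]
  have hidx : (K.map π).relIndex (R.map π) = K.relIndex R := by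
    rw [Subgroup.relIndex_map_map, hker, sup_eq_left.mpr hZK, sup_eq_left.mpr hZR]
  have := h.ih (G ⧸ Z) (R.map π) (K.map π) hRn' hKn' hcard (h.hR.map π) hrk hlt' hchief'
  rw [hidx] at this
  have h4 : p ^ 2 < p ^ 3 := Nat.pow_lt_pow_right hpp.one_lt (by norm_num)
  have := h.big
  omega

end Cfsg.Agent.Lib.Helper20.Chief
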