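import Cfsg.Agent.Lib.Helper20.ChiefD

/-!
`Ω₁(Z(R))` has order `p` in a minimal counterexample.
-/

set_option autoImplicit false
set_option linter.style.haveILetI false
set_option linter.unusedSectionVars false

namespace Cfsg.Agent.Lib.Helper20.Chief

open scoped commutatorElement

universe u

variable {p : ℕ} [Fact p.Prime] {G : Type u} [Group G] [Finite G] {R K : Subgroup G}

theorem MinCE.card_Z1 (h : MinCE p G R K) : Nat.card ↥(Z1 p R) = p := by
  have hpp : p.Prime := Fact.out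
  haveI := h.hRn
  haveI hZn : (Z1 p R).Normal := Z1_normal h.hRn
  have hZne : Z1 p R ≠ ⊥ := Z1_ne_bot h.hR h.ne_bot
  have hZK : Z1 p R ≤ K := h.Z1_le_K
  have hZR : Z1 p R ≤ R := Z1_le
  have hnr := h.not_rank_quot (Z1 p R) hZK hZne
  obtain ⟨E₀, hE₀R, hE₀c, hE₀p, hE₀card⟩ :=
    Cfsg.Agent.Lib.Helper9.exists_elemAb_card_of_not_pRankLE hnr
  obtain ⟨π, hπdef⟩ : ∃ π : G →* G ⧸ Z1 p R, π = QuotientGroup.mk' (Z1 p R) := ⟨_, rfl⟩
  have hπ : Function.Surjective π := by rw [hπdef]; exact QuotientGroup.mk'_surjective _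
  have hker : π.ker = Z1 p R := by rw [hπdef]; exact QuotientGroup.ker_mk' _
  rw [← hπdef] at hE₀R
  obtain ⟨E, hEdef⟩ : ∃ E : Subgroup G, E = E₀.comap π := ⟨_, rfl⟩
  have hmemE : ∀ x, x ∈ E ↔ π x ∈ E₀ := by
    intro x
    rw [hEdef]
    exact Subgroup.mem_comap
  have hker1 : ∀ z, π z = 1 ↔ z ∈ Z1 p R := by
    intro z
    have h1 : z ∈ π.ker ↔ π z = 1 := MonoidHom.mem_ker
    rw [hker] at h1
    exact h1.symm
  have hZE : Z1 p R ≤ E := by
    intro z hz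
    rw [hmemE, (hker1 z).mpr hz]
    exact E₀.one_mem
  have hER : E ≤ R := by
    have h1 : E ≤ (R.map π).comap π := by
      rw [hEdef]
      exact Subgroup.comap_mono hE₀R
    rwa [Subgroup.comap_map_eq, hker, sup_eq_left.mpr hZR] at h1
  have hpow : ∀ x ∈ E, x ^ p ∈ Z1 p R := by
    intro x hx
    have := hE₀p (π x) ((hmemE x).mp hx)
    rw [← map_pow] at this
    exact (hker1 _).mp this
  have hcomm : ∀ x ∈ E, ∀ y ∈ E, ⁅x, y⁆ ∈ Z1 p R := by
    intro x hx y hy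
    apply (hker1 _).mp
    rw [map_commutatorElement, commutatorElement_eq_one_iff_mul_comm]
    have := hE₀c.is_comm.comm ⟨π x, (hmemE x).mp hx⟩ ⟨π y, (hmemE y).mp hy⟩
    exact congrArg Subtype.val this
  -- the `p`-th power homomorphism
  let φ : ↥E →* ↥(Z1 p R) := MonoidHom.mk' (fun x => ⟨(x : G) ^ p, hpow x x.2⟩) (by
    intro a b
    apply Subtype.ext
    show ((a : G) * (b : G)) ^ p = (a : G) ^ p * (b : G) ^ p
    have hz := hcomm b b.2 a a.2
    exact mul_pow_prime_of_comm hpp h.hp2 (hz.2.1 a (hER a.2)).symm (hz.2.1 b (hER b.2)).symm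
      hz.2.2)
  have hφ : ∀ x : ↥E, ((φ x : ↥(Z1 p R)) : G) = (x : G) ^ p := fun x => rfl
  obtain ⟨E₁, hE₁def⟩ : ∃ E₁ : Subgroup G, E₁ = φ.ker.map E.subtype := ⟨_, rfl⟩
  have hmemE₁ : ∀ x, x ∈ E₁ ↔ x ∈ E ∧ x ^ p = 1 := by
    intro x
    rw [hE₁def]
    constructor
    · rintro ⟨y, hy, rfl⟩
      refine ⟨y.2, ?_⟩
      have h1 : φ y = 1 := MonoidHom.mem_ker.mp hy
      have := congrArg Subtype.val h1
      rw [hφ] at this
      exact this
    · rintro ⟨hx, hxp⟩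
      refine ⟨⟨x, hx⟩, ?_, rfl⟩
      apply MonoidHom.mem_ker.mpr
      apply Subtype.ext
      rw [hφ]
      exact hxp
  have hE₁E : E₁ ≤ E := fun x hx => ((hmemE₁ x).mp hx).1
  have hE₁R : E₁ ≤ R := hE₁E.trans hER
  -- cardinalities
  have hcardE : Nat.card ↥(Z1 p R) * Nat.card ↥E₀ = Nat.card ↥E := by
    have h1 : Nat.card ↥E₀ = (Z1 p R).relIndex E := by
      have := Subgroup.relIndex_ker (K := E) π
      rw [hker] at this
      rw [this, hEdef, Subgroup.map_comap_eq_self_of_surjective hπ]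
    have h2 := Subgroup.relIndex_mul_relIndex (⊥ : Subgroup G) (Z1 p R) E bot_le hZE
    rw [Subgroup.relIndex_bot_left, Subgroup.relIndex_bot_left] at h2
    rw [h1, h2]
  have hcardE₁ : Nat.card ↥E₁ = Nat.card ↥φ.ker := by
    rw [hE₁def]
    exact Subgroup.card_map_of_injective (Subgroup.subtype_injective E)
  have hcardE' : Nat.card ↥E ≤ Nat.card ↥E₁ * Nat.card ↥(Z1 p R) := by
    have h1 := Subgroup.card_mul_index φ.ker
    rw [Subgroup.index_ker] at h1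
    rw [← h1, hcardE₁]
    exact Nat.mul_le_mul_left _ (Subgroup.card_le_card_group _)
  have hbig : p ^ 2 < Nat.card ↥E₁ := by
    have h1 : Nat.card ↥(Z1 p R) * Nat.card ↥E₀ ≤ Nat.card ↥(Z1 p R) * Nat.card ↥E₁ := by
      rw [hcardE, mul_comm (Nat.card ↥(Z1 p R))]
      exact hcardE'
    have h2 := Nat.le_of_mul_le_mul_left h1 Nat.card_pos
    omega
  have hexpE₁ : ∀ a ∈ E₁, a ^ p = 1 := fun a ha => ((hmemE₁ a).mp ha).2
  -- `E₁` is not commutative
  have hnc : ∃ x ∈ E₁, ∃ y ∈ E₁, x * y ≠ y * x := by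
    by_contra hall
    push Not at hall
    have hc : IsMulCommutative ↥E₁ :=
      ⟨⟨fun a b => Subtype.ext (hall a a.2 b b.2)⟩⟩
    have := Cfsg.Agent.Lib.Helper9.card_le_of_pRankLE hE₁R hc hexpE₁ h.hrk
    omega
  obtain ⟨x, hx, y, hy, hxy⟩ := hnc
  -- the order of `Z₁`
  have hZp : IsPGroup p ↥(Z1 p R) := h.hR.to_le hZR
  obtain ⟨j, hj⟩ := hZp.exists_card_eq
  have hj1 : j ≠ 0 := by
    rintro rfl
    rw [pow_zero] at hj
    exact hZne (Subgroup.card_eq_one.mp hj)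
  rw [hj]
  by_contra hne
  have hj2 : 2 ≤ j := by
    rcases Nat.lt_or_ge j 2 with hlt | hge
    · exfalso
      apply hne
      have : j = 1 := by omega
      rw [this, pow_one]
    · exact hge
  -- the abelian subgroup `Z₁ ⟨x⟩`
  have hxR : x ∈ R := hE₁R hx
  have hxc : ∀ a ∈ Z1 p R, a * x = x * a := fun a ha => (ha.2.1 x hxR).symm
  have hA := Cfsg.Agent.Lib.Helper10.isMulCommutative_sup_zpowers (Z1 p R)
    Z1_isMulCommutative x hxc
  have hxZ : x ∉ Z1 p R := by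
    intro hxZ
    exact hxy (hxZ.2.1 y (hE₁R hy)).symm
  have hlt : Z1 p R < Z1 p R ⊔ Subgroup.zpowers x := by
    refine lt_of_le_of_ne le_sup_left ?_
    intro heq
    apply hxZ
    rw [heq]
    exact (le_sup_right : Subgroup.zpowers x ≤ _) (Subgroup.mem_zpowers x)
  have hAR : Z1 p R ⊔ Subgroup.zpowers x ≤ R :=
    sup_le hZR (Subgroup.zpowers_le.mpr hxR)
  have hAexp : ∀ a ∈ Z1 p R ⊔ Subgroup.zpowers x, a ^ p = 1 := by
    intro a ha
    have hcommZ : ∀ u ∈ Z1 p R, ∀ v ∈ Subgroup.zpowers x, u * v = v * u := by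
      rintro u hu v ⟨k, rfl⟩
      have : Commute u x := hxc u hu
      exact (this.zpow_right k).eq
    obtain ⟨u, hu, v, hv, rfl⟩ := (Cfsg.Agent.Lib.Helper10.mem_sup_of_commute _ _ hcommZ).mp ha
    have hc : Commute u v := hcommZ u hu v hv
    rw [hc.mul_pow, hu.2.2, one_mul]
    obtain ⟨k, rfl⟩ := hv
    rw [← zpow_natCast, ← zpow_mul, mul_comm, zpow_mul, zpow_natCast, hexpE₁ x hx, one_zpow]
  have h1 := card_mul_le_of_lt' (h.hR.to_le hAR) hlt
  have h2 := Cfsg.Agent.Lib.Helper9.card_le_of_pRankLE hAR hA hAexp h.hrk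
  rw [hj] at h1
  have h3 : p ^ 2 ≤ p ^ j := Nat.pow_le_pow_right hpp.pos hj2
  have h4 : p * p ^ 2 ≤ p ^ 2 := by
    calc p * p ^ 2 ≤ p * p ^ j := Nat.mul_le_mul_left _ h3
      _ ≤ _ := h1
      _ ≤ p ^ 2 := h2
  have h5 : 0 < p ^ 2 := pow_pos hpp.pos 2
  have h6 : 2 ≤ p := hpp.two_le
  nlinarith

end Cfsg.Agent.Lib.Helper20.Chief
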