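import Cfsg.Agent.Lib.Helper20.ChiefE

/-!
The critical subgroup of `R` and its subgroup of elements of order dividing `p`.
-/

set_option autoImplicit false
set_option linter.style.haveILetI false
set_option linter.unusedSectionVars false

namespace Cfsg.Agent.Lib.Helper20.Chief

open scoped commutatorElement

universe u

variable {p : ℕ} [Fact p.Prime] {G : Type u} [Group G] [Finite G] {R K : Subgroup G}

/-- a critical subgroup `Hc` of `R` together with `D = Ω₁(Hc)` (inside `G`) -/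
theorem exists_critical_data (hp2 : p ≠ 2) (hR : IsPGroup p R) (hRn : R.Normal) (hne : R ≠ ⊥) :
    ∃ (Hc : Subgroup ↥R) (D : Subgroup G), Hc.Characteristic ∧
      Subgroup.centralizer (Hc : Set ↥R) ≤ Hc ∧
      D.Normal ∧ D ≤ Hc.map R.subtype ∧ D ≠ ⊥ ∧ (∀ x ∈ D, x ^ p = 1) ∧
      (∀ x ∈ Hc.map R.subtype, x ^ p = 1 → x ∈ D) := by
  have hpp : p.Prime := Fact.out
  haveI := hRn
  obtain ⟨Hc, hchar, hΦ, -, hCH⟩ :=
    Cfsg.Agent.Lib.Helper1.exists_critical_subgroup (P := ↥R) hR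
  haveI := hchar
  have hHp : IsPGroup p ↥Hc := hR.to_subgroup Hc
  -- commutators of `Hc` are central in `Hc`
  have hcentral : ∀ c ∈ commutator ↥Hc, ∀ z : ↥Hc, c * z = z * c := by
    intro c hc z
    have h1 : c ∈ frattini ↥Hc := Cfsg.Agent.Lib.Helper1.IsPGroup.commutator_le_frattini hHp hc
    have h2 : (c : ↥R) ∈ Subgroup.centralizer (Hc : Set ↥R) := hΦ ⟨c, h1, rfl⟩
    have h3 := (Subgroup.mem_centralizer_iff.mp h2) (z : ↥R) z.2
    exact Subtype.ext h3.symm
  have hcl : ∀ x y z : ↥Hc, ⁅x, y⁆ * z = z * ⁅x, y⁆ := fun x y z =>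
    hcentral _ (Subgroup.commutator_mem_commutator (Subgroup.mem_top x) (Subgroup.mem_top y)) z
  -- the elements of order dividing `p` of `Hc` are closed under products
  have hmul : ∀ x y : ↥Hc, x ^ p = 1 → y ^ p = 1 → (x * y) ^ p = 1 := by
    intro x y hx hy
    have hc : ⁅y, x⁆ ^ p = 1 := by
      rw [← Cfsg.Agent.Lib.Helper1.commutatorElement_pow_left (hcl y x y) p, hy,
        commutatorElement_one_left]
    rw [mul_pow_prime_of_comm hpp hp2 (hcl y x x) (hcl y x y) hc, hx, hy, one_mul]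
  have hCn : (Hc.map R.subtype).Normal := ConjAct.normal_of_characteristic_of_normal
  have hmemC : ∀ x : G, x ∈ Hc.map R.subtype ↔ ∃ hx : x ∈ R, (⟨x, hx⟩ : ↥R) ∈ Hc := by
    intro x
    constructor
    · rintro ⟨y, hy, rfl⟩
      exact ⟨y.2, hy⟩
    · rintro ⟨hx, hy⟩
      exact ⟨⟨x, hx⟩, hy, rfl⟩
  let D : Subgroup G :=
    { carrier := {x | x ∈ Hc.map R.subtype ∧ x ^ p = 1}
      one_mem' := ⟨Subgroup.one_mem _, one_pow p⟩
      mul_mem' := by
        rintro a b ⟨ha, hap⟩ ⟨hb, hbp⟩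
        refine ⟨Subgroup.mul_mem _ ha hb, ?_⟩
        obtain ⟨haR, haH⟩ := (hmemC a).mp ha
        obtain ⟨hbR, hbH⟩ := (hmemC b).mp hb
        have h1 := hmul ⟨⟨a, haR⟩, haH⟩ ⟨⟨b, hbR⟩, hbH⟩ (by
          apply Subtype.ext; apply Subtype.ext; simpa using hap) (by
          apply Subtype.ext; apply Subtype.ext; simpa using hbp)
        have h2 := congrArg (fun t : ↥Hc => ((t : ↥R) : G)) h1
        simpa using h2
      inv_mem' := by
        rintro a ⟨ha, hap⟩
        exact ⟨Subgroup.inv_mem _ ha, by rw [inv_pow, hap, inv_one]⟩ }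
  have hmemD : ∀ x : G, x ∈ D ↔ x ∈ Hc.map R.subtype ∧ x ^ p = 1 := fun x => Iff.rfl
  refine ⟨Hc, D, hchar, hCH, ?_, fun x hx => hx.1, ?_, fun x hx => hx.2, fun x hx hxp => ⟨hx, hxp⟩⟩
  · constructor
    rintro x ⟨hx, hxp⟩ g
    refine ⟨hCn.conj_mem x hx g, ?_⟩
    rw [conj_pow, hxp]
    group
  · -- `D ≠ ⊥`
    have hHne : Hc ≠ ⊥ := by
      intro hbot
      apply hne
      rw [eq_bot_iff]
      intro r hr
      have h1 : (⟨r, hr⟩ : ↥R) ∈ Subgroup.centralizer (Hc : Set ↥R) := by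
        rw [Subgroup.mem_centralizer_iff]
        intro c hc
        have hc' : c ∈ Hc := hc
        rw [hbot, Subgroup.mem_bot] at hc'
        rw [hc']
        simp
      have h2 := hCH h1
      rw [hbot, Subgroup.mem_bot] at h2
      have := congrArg Subtype.val h2
      simpa using this
    obtain ⟨a, haH, ha1⟩ : ∃ a ∈ Hc, a ≠ 1 := by
      by_contra hall
      push Not at hall
      apply hHne
      rw [eq_bot_iff]
      intro a ha
      rw [Subgroup.mem_bot]
      exact hall a ha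
    obtain ⟨z, hza, hzp, hz1⟩ := Cfsg.Agent.Lib.Helper10.exists_orderOf_eq_prime_zpowers hR a ha1
    have hzH : z ∈ Hc := (Subgroup.zpowers_le.mpr haH) hza
    intro hbot
    have hmem : (z : G) ∈ D := by
      refine ⟨⟨z, hzH, rfl⟩, ?_⟩
      have := congrArg Subtype.val hzp
      simpa using this
    rw [hbot, Subgroup.mem_bot] at hmem
    apply hz1
    exact Subtype.ext hmem

end Cfsg.Agent.Lib.Helper20.Chief
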