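import Cfsg.Agent.Lib.Helper20.ChiefF

/-!
Two-generator subgroups and the centralizer of `D` in a minimal counterexample.
-/

set_option autoImplicit false
set_option linter.style.haveILetI false
set_option linter.unusedSectionVars false

namespace Cfsg.Agent.Lib.Helper20.Chief

open scoped commutatorElement

universe u

variable {p : ℕ} [Fact p.Prime] {G : Type u} [Group G] [Finite G] {R K : Subgroup G}

/-- groups of order `p ^ i`, `i ≤ 2`, are commutative -/
theorem comm_of_card_pow_le_two {X : Type*} [Group X] [Finite X] {i : ℕ} (hi : i ≤ 2)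
    (hX : Nat.card X = p ^ i) (a b : X) : a * b = b * a := by
  have hpp : p.Prime := Fact.out
  interval_cases i
  · rw [pow_zero] at hX
    haveI : Subsingleton X := (Nat.card_eq_one_iff_unique.mp hX).1
    exact Subsingleton.elim _ _
  · rw [pow_one] at hX
    haveI : IsCyclic X := isCyclic_of_prime_card hX
    exact (IsCyclic.isMulCommutative (α := X)).is_comm.comm a b
  · exact (IsPGroup.isMulCommutative_of_card_eq_prime_sq hX).is_comm.comm a b

theorem card_eq_relIndex_mul {H L : Subgroup G} (hHL : H ≤ L) :
    H.relIndex L * Nat.card H = Nat.card L := by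
  have h2 := Subgroup.relIndex_mul_relIndex (⊥ : Subgroup G) H L bot_le hHL
  rw [Subgroup.relIndex_bot_left, Subgroup.relIndex_bot_left] at h2
  rw [mul_comm]
  exact h2

/-- a small `p`-group is generated by two elements -/
theorem exists_two_generators (D : Subgroup G) (hD : IsPGroup p D)
    (hcard : Nat.card D ≤ p ^ 3)
    (hcomm : (∀ a ∈ D, ∀ b ∈ D, a * b = b * a) → Nat.card D ≤ p ^ 2) :
    ∃ a ∈ D, ∃ b ∈ D, Subgroup.closure ({a, b} : Set G) = D := by
  have hpp : p.Prime := Fact.out
  by_cases hc : ∀ a ∈ D, ∀ b ∈ D, a * b = b * a
  · have hc2 := hcomm hc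
    by_cases hbot : D = ⊥
    · refine ⟨1, D.one_mem, 1, D.one_mem, ?_⟩
      rw [hbot]
      simp
    · obtain ⟨a, haD, ha1⟩ : ∃ a ∈ D, a ≠ 1 := by
        by_contra hall
        push Not at hall
        apply hbot
        rw [eq_bot_iff]
        intro a ha
        rw [Subgroup.mem_bot]
        exact hall a ha
      have hza : Subgroup.zpowers a ≤ D := Subgroup.zpowers_le.mpr haD
      have hcza : p ≤ Nat.card (Subgroup.zpowers a) := by
        have hzp : IsPGroup p (Subgroup.zpowers a) := hD.to_le hza
        rcases hzp.card_eq_or_dvd with h1 | h1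
        · exfalso
          have := Subgroup.card_eq_one.mp h1
          rw [Subgroup.zpowers_eq_bot] at this
          exact ha1 this
        · exact Nat.le_of_dvd Nat.card_pos h1
      by_cases hzD : Subgroup.zpowers a = D
      · refine ⟨a, haD, a, haD, ?_⟩
        rw [Set.pair_eq_singleton, ← Subgroup.zpowers_eq_closure]
        exact hzD
      · obtain ⟨b, hbD, hbz⟩ : ∃ b ∈ D, b ∉ Subgroup.zpowers a := by
          by_contra hall
          push Not at hall
          exact hzD (le_antisymm hza hall)
        refine ⟨a, haD, b, hbD, ?_⟩
        have hle : Subgroup.closure ({a, b} : Set G) ≤ D := by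
          rw [Subgroup.closure_le]
          rintro x (rfl | hx)
          · exact haD
          · rw [Set.mem_singleton_iff] at hx
            subst hx
            exact hbD
        have hlt : Subgroup.zpowers a < Subgroup.closure ({a, b} : Set G) := by
          refine lt_of_le_of_ne ?_ ?_
          · rw [Subgroup.zpowers_le]
            exact Subgroup.subset_closure (Set.mem_insert a _)
          · intro heq
            apply hbz
            rw [heq]
            exact Subgroup.subset_closure (Set.mem_insert_of_mem a rfl)
        have h1 := card_mul_le_of_lt' (hD.to_le hle) hlt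
        apply Subgroup.eq_of_le_of_card_ge hle
        calc Nat.card D ≤ p ^ 2 := hc2
          _ = p * p := pow_two p
          _ ≤ p * Nat.card (Subgroup.zpowers a) := Nat.mul_le_mul_left _ hcza
          _ ≤ _ := h1
  · push Not at hc
    obtain ⟨a, haD, b, hbD, hab⟩ := hc
    refine ⟨a, haD, b, hbD, ?_⟩
    have hle : Subgroup.closure ({a, b} : Set G) ≤ D := by
      rw [Subgroup.closure_le]
      rintro x (rfl | hx)
      · exact haD
      · rw [Set.mem_singleton_iff] at hx
        subst hx
        exact hbD
    obtain ⟨i, hi⟩ := (hD.to_le hle).exists_card_eq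
    have hi3 : 3 ≤ i := by
      by_contra hlt
      push Not at hlt
      have := comm_of_card_pow_le_two (p := p) (X := ↥(Subgroup.closure ({a, b} : Set G)))
        (by omega) hi
        ⟨a, Subgroup.subset_closure (Set.mem_insert a _)⟩
        ⟨b, Subgroup.subset_closure (Set.mem_insert_of_mem a rfl)⟩
      exact hab (congrArg Subtype.val this)
    apply Subgroup.eq_of_le_of_card_ge hle
    rw [hi]
    exact hcard.trans (Nat.pow_le_pow_right hpp.pos hi3)

end Cfsg.Agent.Lib.Helper20.Chief
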