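import Cfsg.Agent.Lib.Helper20.ChiefG

/-!
In a minimal counterexample, `R` centralizes every normal subgroup of exponent `p` of `G` inside
`R`.
-/

set_option autoImplicit false
set_option linter.style.haveILetI false
set_option linter.unusedSectionVars false

namespace Cfsg.Agent.Lib.Helper20.Chief

open scoped commutatorElement

universe u

variable {p : ℕ} [Fact p.Prime] {G : Type u} [Group G] [Finite G] {R K : Subgroup G}

theorem relIndex_le_of_le_left {H H' L : Subgroup G} (hHH : H ≤ H') :
    H'.relIndex L ≤ H.relIndex L := by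
  apply Nat.le_of_dvd
  · rw [Nat.pos_iff_ne_zero]
    intro h0
    have := Subgroup.relIndex_dvd_card H L
    rw [h0] at this
    exact (Nat.card_pos (α := ↥L)).ne' (Nat.eq_zero_of_zero_dvd this)
  · exact Subgroup.relIndex_dvd_of_le_left L hHH

theorem MinCE.le_centralizer (h : MinCE p G R K) (D : Subgroup G) (hDn : D.Normal) (hDR : D ≤ R)
    (hDexp : ∀ x ∈ D, x ^ p = 1) : R ≤ Subgroup.centralizer (D : Set G) := by
  have hpp : p.Prime := Fact.out
  haveI := h.hRn
  haveI := h.hKn
  haveI := hDn
  by_contra hnot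
  have hT₀n : (R ⊓ Subgroup.centralizer (D : Set G)).Normal := inferInstance
  have hT₀K : R ⊓ Subgroup.centralizer (D : Set G) ≤ K := by
    apply h.le_of_normal _ hT₀n inf_le_left
    intro heq
    apply hnot
    rw [← heq]
    exact inf_le_right
  have hDp : IsPGroup p ↥D := h.hR.to_le hDR
  have hDrk : Cfsg.PRankLE p 2 ↥D := Cfsg.Agent.Lib.Helper9.pRankLE_of_le hDR h.hrk
  have hDcard : Nat.card ↥D ≤ p ^ 3 :=
    Cfsg.Agent.Lib.Helper10.card_le_cube_of_pow_eq_one hDp hDrk (by
      intro x
      apply Subtype.ext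
      simpa using hDexp x x.2)
  have hDcomm : (∀ a ∈ D, ∀ b ∈ D, a * b = b * a) → Nat.card ↥D ≤ p ^ 2 := by
    intro hc
    have hc' : IsMulCommutative ↥D := ⟨⟨fun a b => Subtype.ext (hc a a.2 b b.2)⟩⟩
    exact Cfsg.Agent.Lib.Helper9.card_le_of_pRankLE hDR hc' hDexp h.hrk
  obtain ⟨a, haD, b, hbD, hgen⟩ := exists_two_generators D hDp hDcard hDcomm
  have hnorm : ∀ r ∈ R, ∀ d ∈ D, r * d * r⁻¹ ∈ D := fun r _ d hd => hDn.conj_mem d hd r
  -- the index of the centralizer
  have hle1 : Subgroup.centralizer ({a} : Set G) ⊓ Subgroup.centralizer ({b} : Set G) ≤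
      Subgroup.centralizer (D : Set G) := by
    have := centralizer_pair_le a b
    rwa [hgen] at this
  have hidx1 : (R ⊓ Subgroup.centralizer (D : Set G)).relIndex R =
      (Subgroup.centralizer (D : Set G)).relIndex R := Subgroup.inf_relIndex_left _ _
  have hidx2 : (Subgroup.centralizer (D : Set G)).relIndex R ≤
      (Subgroup.centralizer ({a} : Set G)).relIndex R *
        (Subgroup.centralizer ({b} : Set G)).relIndex R :=
    (relIndex_le_of_le_left hle1).trans Subgroup.relIndex_inf_le
  have hidx3 : K.relIndex R ≤ (R ⊓ Subgroup.centralizer (D : Set G)).relIndex R :=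
    relIndex_le_of_le_left hT₀K
  have hbig := h.big
  by_cases hc : ∀ a ∈ D, ∀ b ∈ D, a * b = b * a
  · -- abelian case
    have hc2 : Nat.card ↥D ≤ p ^ (1 + 1) := hDcomm hc
    have ha := relIndex_centralizer_le_pow R D h.hR hnorm 1 hc2 a haD
    have hb := relIndex_centralizer_le_pow R D h.hR hnorm 1 hc2 b hbD
    have h1 : (Subgroup.centralizer ({a} : Set G)).relIndex R *
        (Subgroup.centralizer ({b} : Set G)).relIndex R ≤ p ^ 1 * p ^ 1 := Nat.mul_le_mul ha hb
    have h2 : p ^ 1 * p ^ 1 = p ^ 2 := by ring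
    have h3 : p ^ 2 < p ^ 3 := Nat.pow_lt_pow_right hpp.one_lt (by norm_num)
    omega
  · -- nonabelian case
    have hab : a * b ≠ b * a := by
      intro hab
      apply hc
      -- the closure of two commuting elements is commutative
      intro x hx y hy
      have hAB : Subgroup.centralizer ((Subgroup.closure ({a, b} : Set G) : Subgroup G) : Set G) ≥
          Subgroup.closure ({a, b} : Set G) := by
        rw [ge_iff_le, Subgroup.closure_le]
        have hac : a ∈ Subgroup.centralizer ({a} : Set G) ⊓ Subgroup.centralizer ({b} : Set G) := by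
          refine ⟨Subgroup.mem_centralizer_iff.mpr ?_, Subgroup.mem_centralizer_iff.mpr ?_⟩
          · intro e he
            rw [Set.mem_singleton_iff] at he
            rw [he]
          · intro e he
            rw [Set.mem_singleton_iff] at he
            rw [he]
            exact hab.symm
        have hbc : b ∈ Subgroup.centralizer ({a} : Set G) ⊓ Subgroup.centralizer ({b} : Set G) := by
          refine ⟨Subgroup.mem_centralizer_iff.mpr ?_, Subgroup.mem_centralizer_iff.mpr ?_⟩
          · intro e he
            rw [Set.mem_singleton_iff] at he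
            rw [he]
            exact hab
          · intro e he
            rw [Set.mem_singleton_iff] at he
            rw [he]
        rintro z (rfl | hz)
        · exact centralizer_pair_le _ b hac
        · rw [Set.mem_singleton_iff] at hz
          subst hz
          exact centralizer_pair_le a _ hbc
      rw [hgen] at hAB
      have := (Subgroup.mem_centralizer_iff.mp (hAB hy)) x hx
      exact this
    have hD3 : Nat.card ↥D ≤ p ^ (2 + 1) := hDcard
    have ha := relIndex_centralizer_le_pow R D h.hR hnorm 2 hD3 a haD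
    have hb := relIndex_centralizer_le_pow R D h.hR hnorm 2 hD3 b hbD
    have h1 : (Subgroup.centralizer ({a} : Set G)).relIndex R *
        (Subgroup.centralizer ({b} : Set G)).relIndex R ≤ p ^ 2 * p ^ 2 := Nat.mul_le_mul ha hb
    -- `D ≤ K`
    have hDK : D ≤ K := by
      apply h.le_of_normal D hDn hDR
      intro heq
      -- then `R` has exponent `p` and order at most `p³`
      have hRcard : Nat.card ↥R ≤ p ^ 3 := by rw [← heq]; exact hDcard
      have h2 := card_eq_relIndex_mul h.hlt.le
      have hKpos : 0 < Nat.card ↥K := Nat.card_pos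
      have hK1 : Nat.card ↥K = 1 := by
        by_contra hne
        have h3 : 2 ≤ Nat.card ↥K := by omega
        have h4 : p ^ 3 * 2 ≤ K.relIndex R * Nat.card ↥K := Nat.mul_le_mul hbig h3
        have h5 : 0 < p ^ 3 := pow_pos hpp.pos 3
        omega
      have hKbot : K = ⊥ := Subgroup.card_eq_one.mp hK1
      have hZ := h.Z1_le_K
      rw [hKbot, le_bot_iff] at hZ
      exact Z1_ne_bot h.hR h.ne_bot hZ
    -- the chain
    set T₀ := R ⊓ Subgroup.centralizer (D : Set G) with hT₀
    have hT₀a : T₀ ≤ Subgroup.centralizer ({a} : Set G) := by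
      refine inf_le_right.trans (Subgroup.centralizer_le ?_)
      rw [Set.singleton_subset_iff]
      exact haD
    have hza : Subgroup.zpowers a ≤ Subgroup.centralizer ({a} : Set G) := by
      rw [Subgroup.zpowers_le, Subgroup.mem_centralizer_iff]
      intro e he
      rw [Set.mem_singleton_iff] at he
      rw [he]
    have hT₁a : T₀ ⊔ Subgroup.zpowers a ≤ Subgroup.centralizer ({a} : Set G) := sup_le hT₀a hza
    have hlt1 : T₀ < T₀ ⊔ Subgroup.zpowers a := by
      refine lt_of_le_of_ne le_sup_left ?_
      intro heq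
      have haT : a ∈ T₀ := by
        rw [heq]
        exact (le_sup_right : Subgroup.zpowers a ≤ _) (Subgroup.mem_zpowers a)
      have := (Subgroup.mem_centralizer_iff.mp haT.2) b hbD
      exact hab this.symm
    have hlt2 : T₀ ⊔ Subgroup.zpowers a < T₀ ⊔ Subgroup.zpowers a ⊔ Subgroup.zpowers b := by
      refine lt_of_le_of_ne le_sup_left ?_
      intro heq
      have hbT : b ∈ T₀ ⊔ Subgroup.zpowers a := by
        rw [heq]
        exact (le_sup_right : Subgroup.zpowers b ≤ _) (Subgroup.mem_zpowers b)
      have := (Subgroup.mem_centralizer_iff.mp (hT₁a hbT)) a rfl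
      exact hab this
    have hT₂K : T₀ ⊔ Subgroup.zpowers a ⊔ Subgroup.zpowers b ≤ K :=
      sup_le (sup_le hT₀K (Subgroup.zpowers_le.mpr (hDK haD))) (Subgroup.zpowers_le.mpr (hDK hbD))
    have hKp : IsPGroup p ↥K := h.hR.to_le h.hlt.le
    have hc1 := card_mul_le_of_lt' (hKp.to_le (le_sup_left.trans hT₂K)) hlt1
    have hc2 := card_mul_le_of_lt' (hKp.to_le hT₂K) hlt2
    have hc3 : Nat.card ↥(T₀ ⊔ Subgroup.zpowers a ⊔ Subgroup.zpowers b) ≤ Nat.card ↥K :=
      Subgroup.card_le_of_le hT₂K
    have hc4 := card_eq_relIndex_mul (inf_le_left : T₀ ≤ R)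
    have hc5 := card_eq_relIndex_mul h.hlt.le
    have hT₀pos : 0 < Nat.card ↥T₀ := Nat.card_pos
    -- arithmetic
    have e1 : T₀.relIndex R ≤ p ^ 2 * p ^ 2 := by
      rw [hT₀, hidx1]
      exact hidx2.trans h1
    have e2 : p * (p * Nat.card ↥T₀) ≤ Nat.card ↥K :=
      ((Nat.mul_le_mul_left p hc1).trans hc2).trans hc3
    have e3 : p ^ 3 * (p * (p * Nat.card ↥T₀)) ≤ Nat.card ↥R := by
      rw [← hc5]
      exact Nat.mul_le_mul hbig e2
    have e4 : Nat.card ↥R ≤ p ^ 2 * p ^ 2 * Nat.card ↥T₀ := by
      rw [← hc4]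
      exact Nat.mul_le_mul_right _ e1
    have e5 : p ^ 3 * (p * (p * Nat.card ↥T₀)) = p * (p ^ 2 * p ^ 2 * Nat.card ↥T₀) := by ring
    have e6 : 0 < p ^ 2 * p ^ 2 * Nat.card ↥T₀ :=
      Nat.mul_pos (Nat.mul_pos (pow_pos hpp.pos 2) (pow_pos hpp.pos 2)) hT₀pos
    have e7 : 2 ≤ p := hpp.two_le
    nlinarith

end Cfsg.Agent.Lib.Helper20.Chief
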