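import Cfsg.Agent.Lib.Helper20.ChiefH

/-!
There is no minimal counterexample; the chief factor bound for normal `p`-subgroups of rank at
most two.
-/

set_option autoImplicit false
set_option linter.style.haveILetI false
set_option linter.unusedSectionVars false

namespace Cfsg.Agent.Lib.Helper20.Chief

open scoped commutatorElement

universe u

variable {p : ℕ} [Fact p.Prime] {G : Type u} [Group G] [Finite G] {R K : Subgroup G}

theorem MinCE.false (h : MinCE p G R K) : False := by
  have hpp : p.Prime := Fact.out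
  haveI := h.hRn
  haveI := h.hKn
  obtain ⟨Hc, D, hchar, hCH, hDn, hDC, hDne, hDexp, hDall⟩ :=
    exists_critical_data h.hp2 h.hR h.hRn h.ne_bot
  haveI := hchar
  have hCR : Hc.map R.subtype ≤ R := by
    rintro _ ⟨x, -, rfl⟩
    exact x.2
  have hDR : D ≤ R := hDC.trans hCR
  have hcent := h.le_centralizer D hDn hDR hDexp
  have hDZ : D ≤ Z1 p R := by
    intro x hx
    refine ⟨hDR hx, ?_, hDexp x hx⟩
    intro r hr
    exact ((Subgroup.mem_centralizer_iff.mp (hcent hr)) x hx).symm
  have hZcard := h.card_Z1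
  have hHp : IsPGroup p ↥Hc := h.hR.to_subgroup Hc
  -- `Hc` has a unique subgroup of order `p`
  have huniq : Cfsg.Agent.Lib.Helper10.UniqueOrderP p ↥Hc := by
    intro x y hx hx1 hy
    have hxG : ((x : ↥R) : G) ∈ D := by
      apply hDall _ ⟨(x : ↥R), x.2, rfl⟩
      have := congrArg (fun t : ↥Hc => ((t : ↥R) : G)) hx
      simpa using this
    have hyG : ((y : ↥R) : G) ∈ D := by
      apply hDall _ ⟨(y : ↥R), y.2, rfl⟩
      have := congrArg (fun t : ↥Hc => ((t : ↥R) : G)) hy
      simpa using this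
    have hxne : ((x : ↥R) : G) ≠ 1 := by
      intro h1
      apply hx1
      apply Subtype.ext
      apply Subtype.ext
      simpa using h1
    have hord : orderOf ((x : ↥R) : G) = p := by
      have h1 := orderOf_dvd_of_pow_eq_one (hDexp _ hxG)
      rcases (Nat.dvd_prime hpp).mp h1 with h2 | h2
      · exact absurd (orderOf_eq_one_iff.mp h2) hxne
      · exact h2
    have hzle : Subgroup.zpowers ((x : ↥R) : G) ≤ Z1 p R := Subgroup.zpowers_le.mpr (hDZ hxG)
    have hzeq : Subgroup.zpowers ((x : ↥R) : G) = Z1 p R := by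
      apply Subgroup.eq_of_le_of_card_ge hzle
      rw [hZcard, Nat.card_zpowers, hord]
    have hymem : ((y : ↥R) : G) ∈ Subgroup.zpowers ((x : ↥R) : G) := by
      rw [hzeq]
      exact hDZ hyG
    obtain ⟨k, hk⟩ := Subgroup.mem_zpowers_iff.mp hymem
    refine Subgroup.mem_zpowers_iff.mpr ⟨k, ?_⟩
    apply Subtype.ext
    apply Subtype.ext
    simpa using hk
  have hcyc : IsCyclic ↥Hc := by
    rcases Cfsg.Agent.Lib.Helper10.isCyclic_or_quaternion_of_uniqueOrderP hHp huniq with h1 | h1
    · exact h1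
    · exact absurd h1.1 h.hp2
  -- the automorphism group of `Hc` is cyclic
  have hcycAut : IsCyclic (MulAut ↥Hc) := by
    obtain ⟨k, hk⟩ := hHp.exists_card_eq
    have h1 : IsCyclic (ZMod (Nat.card ↥Hc))ˣ := by
      rw [hk]
      exact ZMod.isCyclic_units_of_prime_pow p hpp h.hp2 k
    exact isCyclic_of_surjective (IsCyclic.mulAutMulEquiv ↥Hc).symm (MulEquiv.surjective _)
  haveI hHn : Hc.Normal := inferInstance
  obtain ⟨ρ, hρdef⟩ : ∃ ρ : ↥R →* MulAut ↥Hc, ρ = MulAut.conjNormal := ⟨_, rfl⟩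
  have hρ : ∀ (r : ↥R) (c : ↥Hc), ((ρ r c : ↥Hc) : ↥R) = r * c * r⁻¹ := by
    intro r c
    rw [hρdef]
    exact MulAut.conjNormal_apply r c
  have hρker : ∀ r : ↥R, ρ r = 1 → r ∈ Hc := by
    intro r hr
    apply hCH
    rw [Subgroup.mem_centralizer_iff]
    intro c hc
    have h1 := hρ r ⟨c, hc⟩
    rw [hr] at h1
    have h2 : c = r * c * r⁻¹ := h1
    calc c * r = (r * c * r⁻¹) * r := by rw [← h2]
      _ = r * c := by group
  have hcycR : IsCyclic ↥ρ.range := inferInstance
  obtain ⟨⟨γ, hγ⟩, hgen⟩ := hcycR.exists_generator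
  obtain ⟨g₀, rfl⟩ := hγ
  have hdecomp : ∀ r : ↥R, ∃ i : ℤ, ∃ c ∈ Hc, r = g₀ ^ i * c := by
    intro r
    have h1 := hgen ⟨ρ r, r, rfl⟩
    obtain ⟨i, hi⟩ := Subgroup.mem_zpowers_iff.mp h1
    have h2 : (ρ g₀) ^ i = ρ r := by
      have := congrArg Subtype.val hi
      simpa using this
    refine ⟨i, (g₀ ^ i)⁻¹ * r, ?_, by group⟩
    apply hρker
    rw [map_mul, map_inv, map_zpow, h2]
    group
  -- conclusion
  by_cases hCtop : Hc.map R.subtype = R
  · -- `R` itself is cyclic
    have hHtop : ∀ r : ↥R, r ∈ Hc := by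
      intro r
      have h1 : (r : G) ∈ Hc.map R.subtype := by rw [hCtop]; exact r.2
      obtain ⟨y, hy, hyr⟩ := h1
      have : y = r := Subtype.ext hyr
      rw [← this]
      exact hy
    obtain ⟨c₀, hc₀⟩ := hcyc.exists_generator
    apply h.not_cyclic_mod ((c₀ : ↥R) : G) (c₀ : ↥R).2
    intro r hr
    obtain ⟨i, hi⟩ := Subgroup.mem_zpowers_iff.mp (hc₀ ⟨⟨r, hr⟩, hHtop ⟨r, hr⟩⟩)
    refine ⟨i, 1, K.one_mem, ?_⟩
    have := congrArg (fun t : ↥Hc => ((t : ↥R) : G)) hi
    simp only [Subgroup.coe_zpow] at this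
    rw [mul_one]
    exact this.symm
  · have hCn : (Hc.map R.subtype).Normal := ConjAct.normal_of_characteristic_of_normal
    have hCK : Hc.map R.subtype ≤ K := h.le_of_normal _ hCn hCR hCtop
    apply h.not_cyclic_mod (g₀ : G) g₀.2
    intro r hr
    obtain ⟨i, c, hc, hrc⟩ := hdecomp ⟨r, hr⟩
    refine ⟨i, (c : G), hCK ⟨c, hc, rfl⟩, ?_⟩
    have := congrArg Subtype.val hrc
    simpa using this

/-- **chief factors of normal `p`-subgroups of rank at most two** (`p` odd) have order at most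
`p²`. -/
theorem chief_le_sq (hp2 : p ≠ 2) : ∀ (n : ℕ) (G : Type u) [Group G] [Finite G]
    (R K : Subgroup G), R.Normal → K.Normal → Nat.card R = n → IsPGroup p R →
    Cfsg.PRankLE p 2 R → K < R →
    (∀ L : Subgroup G, L.Normal → K ≤ L → L ≤ R → L = K ∨ L = R) → K.relIndex R ≤ p ^ 2 := by
  intro n
  induction n using Nat.strong_induction_on with
  | _ n ih =>
    intro G _ _ R K hRn hKn hcard hR hrk hlt hchief
    have hpp : p.Prime := Fact.out
    by_contra hbig
    push Not at hbig
    obtain ⟨k, hk⟩ := exists_relIndex_eq_pow R K hR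
    have hk3 : 3 ≤ k := by
      rw [hk] at hbig
      have := (Nat.pow_lt_pow_iff_right hpp.one_lt).mp hbig
      omega
    have hbig' : p ^ 3 ≤ K.relIndex R := by
      rw [hk]
      exact Nat.pow_le_pow_right hpp.pos hk3
    exact MinCE.false
      { hp2 := hp2
        hRn := hRn
        hKn := hKn
        hR := hR
        hrk := hrk
        hlt := hlt
        chief := hchief
        big := hbig'
        ih := fun G' _ _ R' K' hR'n hK'n hc' hR' hrk' hlt' hch' =>
          ih (Nat.card R') (by rw [← hcard]; exact hc') G' R' K' hR'n hK'n rfl hR' hrk' hlt' hch' }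

end Cfsg.Agent.Lib.Helper20.Chief
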