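import Cfsg.Agent.Lib.Helper20.ChiefI

/-!
Chief `p`-factors of a finite group of `p`-rank at most two (`p` odd) have order at most `p²`:
reduction to a normal `p`-subgroup by the Frattini argument.
-/

set_option autoImplicit false
set_option linter.style.haveILetI false
set_option linter.unusedSectionVars false

namespace Cfsg.Agent.Lib.Helper20.Chief

open scoped commutatorElement

universe u

variable {p : ℕ} [Fact p.Prime] {G : Type u} [Group G] [Finite G]

theorem chief_factor_le_sq (hp2 : p ≠ 2) (hr : Cfsg.PRankLE p 2 G)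
    (H K : Subgroup G) [hHn : H.Normal] [hKn : K.Normal] (hKH : K < H) (n : ℕ)
    (hpow : K.relIndex H = p ^ n)
    (hchief : ∀ L : Subgroup G, L.Normal → K ≤ L → L ≤ H → L = K ∨ L = H) :
    K.relIndex H ≤ p ^ 2 := by
  have hpp : p.Prime := Fact.out
  obtain ⟨P⟩ : Nonempty (Sylow p ↥H) := inferInstance
  obtain ⟨P', hP'def⟩ : ∃ P' : Subgroup G, P' = (P : Subgroup ↥H).map H.subtype := ⟨_, rfl⟩
  have hP'H : P' ≤ H := by
    rw [hP'def]
    rintro _ ⟨x, -, rfl⟩
    exact x.2
  have hP'p : IsPGroup p ↥P' := by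
    rw [hP'def]
    exact P.2.map _
  have hfrat : Subgroup.normalizer (P' : Set G) ⊔ H = ⊤ := by
    rw [hP'def]
    exact Sylow.normalizer_sup_eq_top P
  -- the index of `P'` in `H` is prime to `p`
  have hidxP : ¬ p ∣ P'.relIndex H := by
    have h1 : P'.subgroupOf H = (P : Subgroup ↥H) := by
      rw [hP'def]
      exact Subgroup.comap_map_eq_self_of_injective (Subgroup.subtype_injective H) _
    show ¬ p ∣ (P'.subgroupOf H).index
    rw [h1]
    exact P.not_dvd_index
  -- `H = P' K`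
  have hPK : P' ⊔ K = H := by
    apply le_antisymm (sup_le hP'H hKH.le)
    rw [← Subgroup.relIndex_eq_one]
    have h1 : (P' ⊔ K).relIndex H ∣ P'.relIndex H := Subgroup.relIndex_dvd_of_le_left H le_sup_left
    have h2 : (P' ⊔ K).relIndex H ∣ K.relIndex H := Subgroup.relIndex_dvd_of_le_left H le_sup_right
    rw [hpow] at h2
    obtain ⟨j, -, hj⟩ := (Nat.dvd_prime_pow hpp).mp h2
    rcases Nat.eq_zero_or_pos j with h0 | h0
    · rw [hj, h0, pow_zero]
    · exfalso
      apply hidxP
      refine dvd_trans ?_ h1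
      rw [hj]
      exact dvd_pow_self p h0.ne'
  -- the ambient group is the normalizer of `P'`
  obtain ⟨N, hNdef⟩ : ∃ N : Subgroup G, N = Subgroup.normalizer (P' : Set G) := ⟨_, rfl⟩
  rw [← hNdef] at hfrat
  have hP'N : P' ≤ N := by
    rw [hNdef]
    exact Subgroup.le_normalizer
  have hNnorm : ∀ g ∈ N, ∀ x ∈ P', g * x * g⁻¹ ∈ P' := by
    intro g hg x hx
    rw [hNdef] at hg
    exact (Subgroup.mem_normalizer_iff.mp hg x).mp hx
  have hR₁n : (P'.subgroupOf N).Normal := by
    constructor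
    intro x hx g
    rw [Subgroup.mem_subgroupOf] at hx ⊢
    exact hNnorm g g.2 x hx
  have hK₁n : ((P' ⊓ K).subgroupOf N).Normal := by
    constructor
    intro x hx g
    rw [Subgroup.mem_subgroupOf] at hx ⊢
    exact ⟨hNnorm g g.2 x hx.1, hKn.conj_mem x hx.2 g⟩
  have hR₁p : IsPGroup p ↥(P'.subgroupOf N) := hP'p.comap_subtype
  have hR₁rk : Cfsg.PRankLE p 2 ↥(P'.subgroupOf N) :=
    Cfsg.Agent.Lib.Helper9.pRankLE_of_injective
      (N.subtype.comp (P'.subgroupOf N).subtype)
      ((Subgroup.subtype_injective N).comp (Subgroup.subtype_injective _)) hr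
  have hne : ¬ P' ≤ K := by
    intro hle
    have h1 : K.relIndex H ∣ P'.relIndex H := Subgroup.relIndex_dvd_of_le_left H hle
    rw [hpow] at h1
    rcases Nat.eq_zero_or_pos n with h0 | h0
    · rw [h0, pow_zero, Subgroup.relIndex_eq_one] at hpow
      exact hKH.not_ge hpow
    · exact hidxP (dvd_trans (dvd_pow_self p h0.ne') h1)
  have hlt₁ : (P' ⊓ K).subgroupOf N < P'.subgroupOf N := by
    refine lt_of_le_of_ne ?_ ?_
    · intro x hx
      rw [Subgroup.mem_subgroupOf] at hx ⊢
      exact hx.1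
    · intro heq
      apply hne
      intro x hx
      have h1 : (⟨x, hP'N hx⟩ : ↥N) ∈ P'.subgroupOf N := by
        rw [Subgroup.mem_subgroupOf]
        exact hx
      rw [← heq, Subgroup.mem_subgroupOf] at h1
      exact h1.2
  have hchief₁ : ∀ L : Subgroup ↥N, L.Normal → (P' ⊓ K).subgroupOf N ≤ L →
      L ≤ P'.subgroupOf N → L = (P' ⊓ K).subgroupOf N ∨ L = P'.subgroupOf N := by
    intro L₁ hL₁n hKL hLR
    obtain ⟨L, hLdef⟩ : ∃ L : Subgroup G, L = L₁.map N.subtype := ⟨_, rfl⟩
    have hmemL : ∀ x : G, x ∈ L ↔ ∃ hx : x ∈ N, (⟨x, hx⟩ : ↥N) ∈ L₁ := by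
      intro x
      rw [hLdef]
      constructor
      · rintro ⟨y, hy, rfl⟩
        exact ⟨y.2, hy⟩
      · rintro ⟨hx, hy⟩
        exact ⟨⟨x, hx⟩, hy, rfl⟩
    have hLP : L ≤ P' := by
      intro x hx
      obtain ⟨hxN, hxL⟩ := (hmemL x).mp hx
      have := hLR hxL
      rwa [Subgroup.mem_subgroupOf] at this
    have hPKL : P' ⊓ K ≤ L := by
      intro x hx
      have h1 : (⟨x, hP'N hx.1⟩ : ↥N) ∈ (P' ⊓ K).subgroupOf N := by
        rw [Subgroup.mem_subgroupOf]
        exact hx
      exact (hmemL x).mpr ⟨hP'N hx.1, hKL h1⟩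
    -- `L ⊔ K` is normal in `G`
    have hLKn : (L ⊔ K).Normal := by
      rw [← Subgroup.normalizer_eq_top_iff, eq_top_iff, ← hfrat]
      have hNle : N ≤ Subgroup.normalizer ((L ⊔ K : Subgroup G) : Set G) := by
        intro g hg
        rw [Subgroup.mem_normalizer_iff]
        have key : ∀ g ∈ N, ∀ x ∈ L ⊔ K, g * x * g⁻¹ ∈ L ⊔ K := by
          intro g hg x hx
          have hx' : x ∈ ((L ⊔ K : Subgroup G) : Set G) := hx
          rw [Subgroup.mul_normal] at hx'
          obtain ⟨l, hl, k, hk, rfl⟩ := hx'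
          have h1 : g * (l * k) * g⁻¹ = (g * l * g⁻¹) * (g * k * g⁻¹) := by group
          rw [h1]
          apply Subgroup.mul_mem_sup _ (hKn.conj_mem k hk g)
          obtain ⟨hlN, hlL⟩ := (hmemL l).mp hl
          have := hL₁n.conj_mem ⟨l, hlN⟩ hlL ⟨g, hg⟩
          exact (hmemL _).mpr ⟨_, this⟩
        intro x
        constructor
        · exact key g hg x
        · intro hx
          have := key g⁻¹ (N.inv_mem hg) _ hx
          have h2 : g⁻¹ * (g * x * g⁻¹) * g⁻¹⁻¹ = x := by group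
          rwa [h2] at this
      have hHle : H ≤ Subgroup.normalizer ((L ⊔ K : Subgroup G) : Set G) := by
        rw [← hPK]
        apply sup_le
        · exact hP'N.trans hNle
        · exact le_sup_right.trans Subgroup.le_normalizer
      exact sup_le hNle hHle
    rcases hchief (L ⊔ K) hLKn le_sup_right (sup_le (hLP.trans hP'H) hKH.le) with h1 | h1
    · left
      apply le_antisymm _ hKL
      intro x hx
      rw [Subgroup.mem_subgroupOf]
      have hxL : (x : G) ∈ L := (hmemL _).mpr ⟨x.2, hx⟩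
      refine ⟨hLP hxL, ?_⟩
      rw [← h1]
      exact (le_sup_left : L ≤ L ⊔ K) hxL
    · right
      apply le_antisymm hLR
      have h3 := sup_inf_eq_of_le L K P' hLP
      rw [h1, inf_eq_right.mpr hP'H] at h3
      intro x hx
      rw [Subgroup.mem_subgroupOf] at hx
      have hxL : (x : G) ∈ L := by
        rw [h3] at hx
        exact (sup_le le_rfl (by rw [inf_comm]; exact hPKL) : L ⊔ K ⊓ P' ≤ L) hx
      obtain ⟨_, h4⟩ := (hmemL _).mp hxL
      exact h4
  have hmain := chief_le_sq hp2 _ ↥N (P'.subgroupOf N) ((P' ⊓ K).subgroupOf N) hR₁n hK₁n rfl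
    hR₁p hR₁rk hlt₁ hchief₁
  have hidx : ((P' ⊓ K).subgroupOf N).relIndex (P'.subgroupOf N) = K.relIndex H := by
    rw [Subgroup.relIndex_subgroupOf hP'N, inf_comm, Subgroup.inf_relIndex_right, ← hPK,
      Subgroup.relIndex_sup_right]
  rw [hidx] at hmain
  exact hmain

end Cfsg.Agent.Lib.Helper20.Chief
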