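import Mathlib

/-!
Class-sum bookkeeping for lists of pairwise non-conjugate elements (S0434 farm-out, piece C).
-/

namespace Cfsg.Agent.Lib.Helper20.ClassSum

open Subgroup

variable {G : Type*} [Group G] [Finite G]

theorem ncard_carrier_mk (g : G) :
    (ConjClasses.mk g).carrier.ncard = Nat.card G / Nat.card (centralizer ({g} : Set G)) := by
  classical
  cases nonempty_fintype G
  rw [Subgroup.nat_card_centralizer_nat_card_stabilizer, ← Nat.card_coe_set_eq,
    Nat.card_eq_fintype_card, ConjClasses.card_carrier, Nat.card_eq_fintype_card,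
    Nat.card_eq_fintype_card]

omit [Finite G] in
theorem nodup_map_mk (l : List G) (hl : l.Pairwise (fun g h => ¬ IsConj g h)) :
    (l.map (ConjClasses.mk (α := G))).Nodup := by
  rw [List.Nodup, List.pairwise_map]
  refine hl.imp ?_
  intro a b hab h
  exact hab (ConjClasses.mk_eq_mk_iff_isConj.mp h)

theorem sum_all [Fintype (ConjClasses G)] :
    ∑ x : ConjClasses G, x.carrier.ncard = Nat.card G := by
  rw [← Group.sum_card_conj_classes_eq_card G, finsum_eq_sum_of_fintype]

theorem map_sum_eq (l : List G) (hl : l.Pairwise (fun g h => ¬ IsConj g h))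
    [DecidableEq (ConjClasses G)] :
    (l.map (fun g => Nat.card G / Nat.card (centralizer ({g} : Set G)))).sum
      = ∑ x ∈ (l.map (ConjClasses.mk (α := G))).toFinset, x.carrier.ncard := by
  rw [List.sum_toFinset _ (nodup_map_mk l hl), List.map_map]
  congr 1
  apply List.map_congr_left
  intro g _
  simp only [Function.comp]
  rw [ncard_carrier_mk]

theorem length_le_card_conjClasses (l : List G) (hl : l.Pairwise (fun g h => ¬ IsConj g h)) :
    l.length ≤ Nat.card (ConjClasses G) := by
  classical
  have : Fintype (ConjClasses G) := Fintype.ofFinite _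
  have h1 : (l.map (ConjClasses.mk (α := G))).toFinset.card = l.length := by
    rw [List.toFinset_card_of_nodup (nodup_map_mk l hl), List.length_map]
  rw [← h1, Nat.card_eq_fintype_card]
  exact Finset.card_le_univ _

theorem sum_class_sizes (l : List G) (hl : l.Pairwise (fun g h => ¬ IsConj g h))
    (hk : Nat.card (ConjClasses G) = l.length) :
    (l.map (fun g => Nat.card G / Nat.card (centralizer ({g} : Set G)))).sum = Nat.card G := by
  classical
  have : Fintype (ConjClasses G) := Fintype.ofFinite _
  have h1 : (l.map (ConjClasses.mk (α := G))).toFinset.card = l.length := by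
    rw [List.toFinset_card_of_nodup (nodup_map_mk l hl), List.length_map]
  have h2 : (l.map (ConjClasses.mk (α := G))).toFinset = Finset.univ := by
    apply Finset.eq_univ_of_card
    rw [h1, ← hk, Nat.card_eq_fintype_card]
  rw [map_sum_eq l hl, h2, sum_all]

theorem sum_class_sizes_succ (l : List G) (hl : l.Pairwise (fun g h => ¬ IsConj g h))
    (hk : Nat.card (ConjClasses G) = l.length + 1) :
    ∃ g : G, (l.map (fun g => Nat.card G / Nat.card (centralizer ({g} : Set G)))).sum
      + Nat.card G / Nat.card (centralizer ({g} : Set G)) = Nat.card G := by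
  classical
  have : Fintype (ConjClasses G) := Fintype.ofFinite _
  have h1 : (l.map (ConjClasses.mk (α := G))).toFinset.card = l.length := by
    rw [List.toFinset_card_of_nodup (nodup_map_mk l hl), List.length_map]
  have h2 : ((l.map (ConjClasses.mk (α := G))).toFinset)ᶜ.card = 1 := by
    rw [Finset.card_compl, h1, ← Nat.card_eq_fintype_card, hk]
    omega
  obtain ⟨c, hc⟩ := Finset.card_eq_one.mp h2
  obtain ⟨g, rfl⟩ := ConjClasses.mk_surjective c
  refine ⟨g, ?_⟩
  rw [map_sum_eq l hl, ← ncard_carrier_mk, ← sum_all (G := G),
    ← Finset.sum_add_sum_compl (l.map (ConjClasses.mk (α := G))).toFinset, hc,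
    Finset.sum_singleton]

end Cfsg.Agent.Lib.Helper20.ClassSum
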