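import Mathlib
import Cfsg.Prelude.Def_KGroupFacts
import Cfsg.Agent.H5.TCkSound
import Cfsg.Agent.H5.StemTC
import Cfsg.Agent.H5.StemLift
import Cfsg.Agent.Lib.Helper12.McLWData
import Cfsg.Agent.Lib.Helper1.Co2MData

/-!
# S2044-[A] (architect helper1): the lifts of the `McL`-generators inside the perfect core of the preimage

`M = ⟨g 0, …, g 4⟩` carries an `IsMcLTuple`; for a stem extension `τ : Δ → G` whose kernel is a `2`-group the
canonical lift `liftSub τ M = ⁅τ⁻¹ M, τ⁻¹ M⁆` maps isomorphically onto `M` (its kernel is a `2`-group of odd order),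
so the lifts of `g 0, …, g 4` in it satisfy every relator of `M`. (helper20)
-/

set_option autoImplicit false

namespace Cfsg.Agent.Lib.Helper1.Co2M

open Cfsg Cfsg.H5.TCk
open Cfsg.H5.StemTC (cword cwords)
open Cfsg.Agent.Lib.Helper12.McLW (relsG relsU relsW IsMcLTuple)

universe u

namespace Helper20

/-- words in the letters `< 2 t` only see the first `t` generators -/
theorem ev_congr_lt {Γ : Type*} [Group Γ] (γ γ' : ℕ → Γ) (t : ℕ) (h : ∀ i < t, γ i = γ' i)
    (w : List ℕ) (hw : w.all (fun l => decide (l < 2 * t)) = true) : ev γ w = ev γ' w := by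
  induction w with
  | nil => simp [ev]
  | cons l w ih =>
    rw [List.all_cons, Bool.and_eq_true] at hw
    have hl : l < 2 * t := of_decide_eq_true hw.1
    have hl2 : l / 2 < t := by omega
    simp only [ev, ih hw.2]
    congr 1
    unfold gl
    rw [h _ hl2]

/-- the cardinality of a closure is preserved by an injective homomorphism -/
theorem card_closure_map {A B : Type*} [Group A] [Group B] (f : A →* B) (hf : Function.Injective f)
    {k : ℕ} (a : Fin k → A) :
    Nat.card (Subgroup.closure (Set.range fun i => f (a i))) = Nat.card (Subgroup.closure (Set.range a)) := by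
  have h1 : (Subgroup.closure (Set.range a)).map f = Subgroup.closure (Set.range fun i => f (a i)) := by
    rw [MonoidHom.map_closure]
    congr 1
    ext x
    constructor
    · rintro ⟨y, ⟨i, rfl⟩, rfl⟩
      exact ⟨i, rfl⟩
    · rintro ⟨i, rfl⟩
      exact ⟨a i, ⟨i, rfl⟩, rfl⟩
  rw [← h1]
  exact Nat.card_congr ((Subgroup.closure (Set.range a)).equivMapOfInjective f hf).symm.toEquiv

/-- `relsW` follows from `relsG` -/
theorem relsW_of_relsG {H : Type*} [Group H] (h : ℕ → H) (hG : ∀ r ∈ relsG, ev h r = 1) :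
    ∀ r ∈ relsW, ev h r = 1 := by
  intro r hr
  unfold relsW at hr
  rw [List.mem_append] at hr
  rcases hr with hr | hr
  · apply hG
    unfold relsG
    rw [List.mem_append]
    exact Or.inl hr
  · unfold cwords at hr
    rw [List.mem_flatMap] at hr
    obtain ⟨r0, hr0, hr⟩ := hr
    rw [List.mem_map] at hr
    obtain ⟨i, _, rfl⟩ := hr
    apply Cfsg.H5.StemTC.ev_cword
    have : ev h r0 = 1 := by
      apply hG
      unfold relsG
      rw [List.mem_append]
      exact Or.inr hr0
    rw [this]
    exact Subgroup.one_mem _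

theorem relsG_lt : ∀ r ∈ relsG, r.all (fun l => decide (l < 2 * 5)) = true := by decide

theorem relsU_lt : ∀ r ∈ relsU, r.all (fun l => decide (l < 2 * 2)) = true := by decide

theorem wordU_lt : wordU.all (fun l => decide (l < 2 * 5)) = true := by decide

/-- [A] (SPARE copy: helper9's `Lib/Helper9/Co2MA` landed first and declares `Co2M.exists_mcl_lifts`; this one is
`Co2M.Helper20.exists_mcl_lifts`, same statement, so that both files can be imported together) -/
theorem exists_mcl_lifts
    (hP : ∀ {H : Type u} [Group H] (h : ℕ → H),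
      Subgroup.closure (Set.range fun i : Fin 5 => h i.val) = ⊤ →
      (∀ r ∈ relsW, ev h r = 1) → commutator H = ⊤)
    (hOdd : ∀ {H : Type u} [Group H] (g' u' : ℕ → H), IsMcLTuple g' u' →
      ∀ {Δ' : Type u} [Group Δ'] [Finite Δ'] (τ' : Δ' →* H), IsStemExtension τ' → Odd (Nat.card τ'.ker))
    {G : Type u} [Group G] {Δ : Type u} [Group Δ] [Finite Δ]
    (τ : Δ →* G) (hτ : IsStemExtension τ) (hk : IsPGroup 2 τ.ker) (g u : ℕ → G)
    (hcard : Nat.card (Subgroup.closure (Set.range fun i : Fin 5 => g i.val)) = 898128000)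
    (h168 : 168 ≤ Nat.card (Subgroup.closure (Set.range fun i : Fin 2 => g i.val)))
    (hu0 : u 0 = ev g wordU) (hu1 : u 1 = g 0)
    (h40320 : 40320 ≤ Nat.card (Subgroup.closure (Set.range fun i : Fin 2 => u i.val)))
    (hG : ∀ r ∈ relsG, ev g r = 1) (hU : ∀ r ∈ relsU, ev u r = 1) :
    ∃ γ : ℕ → Δ, (∀ i < 5, τ (γ i) = g i) ∧
      Nat.card (Subgroup.closure (Set.range fun i : Fin 5 => γ i.val)) ≤ 898128000 ∧
      ∀ w : List ℕ, w.all (fun l => decide (l < 10)) = true → ev g w = 1 → ev γ w = 1 := by
  classical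
  set M : Subgroup G := Subgroup.closure (Set.range fun i : Fin 5 => g i.val) with hM
  have hgM : ∀ i < 5, g i ∈ M := fun i hi => Subgroup.subset_closure ⟨⟨i, hi⟩, rfl⟩
  -- the tuple inside `M`
  let g' : ℕ → ↥M := fun i => if h : i < 5 then ⟨g i, hgM i h⟩ else 1
  have hg' : ∀ i < 5, (M.subtype (g' i)) = g i := by
    intro i hi
    simp only [g', dif_pos hi, Subgroup.coe_subtype]
  have hev' : ∀ w : List ℕ, w.all (fun l => decide (l < 2 * 5)) = true →
      M.subtype (ev g' w) = ev g w := by
    intro w hw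
    rw [Cfsg.H5.StemTC.map_ev]
    exact ev_congr_lt _ _ 5 hg' w hw
  let u' : ℕ → ↥M := fun i => if i = 0 then ev g' wordU else g' 0
  have hu' : ∀ i < 2, M.subtype (u' i) = u i := by
    intro i hi
    interval_cases i
    · simp only [u', if_pos]
      rw [hev' wordU wordU_lt, hu0]
    · have : u' 1 = g' 0 := by simp only [u']; rfl
      rw [this, hg' 0 (by norm_num), hu1]
  have hinjM : Function.Injective M.subtype := Subgroup.subtype_injective M
  have htuple : IsMcLTuple g' u' := by
    refine ⟨hcard, ?_, ?_, ?_, ?_, ?_⟩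
    · -- generation
      apply Subgroup.map_injective hinjM
      rw [MonoidHom.map_closure, ← MonoidHom.range_eq_map, Subgroup.range_subtype]
      refine Eq.trans ?_ hM.symm
      congr 1
      ext x
      constructor
      · rintro ⟨y, ⟨i, rfl⟩, rfl⟩
        exact ⟨i, (hg' i.val i.2).symm⟩
      · rintro ⟨i, rfl⟩
        exact ⟨g' i.val, ⟨i, rfl⟩, hg' i.val i.2⟩
    · intro r hr
      apply hinjM
      rw [hev' r (relsG_lt r hr), hG r hr, map_one]
    · have h1 := card_closure_map M.subtype hinjM (fun i : Fin 2 => g' i.val)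
      have h2 : (fun i : Fin 2 => M.subtype (g' i.val)) = fun i : Fin 2 => g i.val := by
        funext i
        exact hg' i.val (by have := i.2; omega)
      rw [h2] at h1
      rw [← h1]
      exact h168
    · intro r hr
      apply hinjM
      rw [Cfsg.H5.StemTC.map_ev, ev_congr_lt _ u 2 hu' r (relsU_lt r hr), hU r hr, map_one]
    · have h1 := card_closure_map M.subtype hinjM (fun i : Fin 2 => u' i.val)
      have h2 : (fun i : Fin 2 => M.subtype (u' i.val)) = fun i : Fin 2 => u i.val := by
        funext i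
        exact hu' i.val i.2
      rw [h2] at h1
      rw [← h1]
      exact h40320
  -- `M` is perfect
  have hperfM : commutator ↥M = ⊤ := hP g' htuple.2.1 (relsW_of_relsG g' htuple.2.2.1)
  have hperf : M ≤ ⁅M, M⁆ := by
    have h1 : (commutator ↥M).map M.subtype = ⁅M, M⁆ := by
      rw [commutator_def, Subgroup.map_commutator, ← MonoidHom.range_eq_map, Subgroup.range_subtype]
    rw [← h1, hperfM, ← MonoidHom.range_eq_map, Subgroup.range_subtype]
  -- the canonical lift of `M` maps isomorphically onto `M`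
  have hstem := Cfsg.H5.StemLift.liftHom_stem τ M hτ hperf
  have hodd := hOdd g' u' htuple (Cfsg.H5.StemLift.liftHom τ M hτ.1 hperf) hstem
  have hk2 : IsPGroup 2 (Cfsg.H5.StemLift.liftHom τ M hτ.1 hperf).ker := by
    intro x
    have hx : (x.1.1 : Δ) ∈ τ.ker := by
      have h1 := x.2
      rw [MonoidHom.mem_ker] at h1 ⊢
      have := congrArg Subtype.val h1
      simpa [Cfsg.H5.StemLift.liftHom] using this
    obtain ⟨k, hk'⟩ := hk ⟨x.1.1, hx⟩
    refine ⟨k, ?_⟩
    apply Subtype.ext
    apply Subtype.ext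
    have := congrArg Subtype.val hk'
    simpa using this
  have hker : (Cfsg.H5.StemLift.liftHom τ M hτ.1 hperf).ker = ⊥ := by
    obtain ⟨n, hn⟩ := hk2.exists_card_eq
    have h1 : Nat.card (Cfsg.H5.StemLift.liftHom τ M hτ.1 hperf).ker = 1 := by
      rw [hn] at hodd ⊢
      cases n with
      | zero => rfl
      | succ n =>
        exfalso
        rw [pow_succ] at hodd
        exact (Nat.not_even_iff_odd.mpr hodd) (even_two.mul_left _)
    exact (Subgroup.card_eq_one).mp h1
  have hinj := Cfsg.H5.StemLift.liftSub_inj τ M hτ hperf hker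
  have hcardL := Cfsg.H5.StemLift.card_liftSub τ M hτ hperf hker
  -- the lifts
  have hex : ∀ i : ℕ, ∃ x : Δ, x ∈ Cfsg.H5.StemLift.liftSub τ M ∧ (i < 5 → τ x = g i) := by
    intro i
    by_cases hi : i < 5
    · obtain ⟨x, hx, hxg⟩ := Cfsg.H5.StemLift.exists_lift τ M hτ.1 hperf (g i) (hgM i hi)
      exact ⟨x, hx, fun _ => hxg⟩
    · exact ⟨1, Subgroup.one_mem _, fun h => absurd h hi⟩
  choose γ hγL hγ using hex
  refine ⟨γ, hγ, ?_, ?_⟩
  · have hle : Subgroup.closure (Set.range fun i : Fin 5 => γ i.val) ≤ Cfsg.H5.StemLift.liftSub τ M := by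
      rw [Subgroup.closure_le]
      rintro _ ⟨i, rfl⟩
      exact hγL i.val
    calc Nat.card (Subgroup.closure (Set.range fun i : Fin 5 => γ i.val))
        ≤ Nat.card (Cfsg.H5.StemLift.liftSub τ M) := Subgroup.card_le_of_le hle
      _ = 898128000 := by rw [hcardL, hcard]
  · intro w hw hgw
    have hw' : w.all (fun l => decide (l < 2 * 5)) = true := hw
    apply hinj
    · exact Cfsg.H5.StemTC.ev_mem γ _ 5 (fun i _ => hγL i) w hw'
    · rw [Cfsg.H5.StemTC.map_ev, ev_congr_lt _ g 5 hγ w hw', hgw]

end Helper20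

end Cfsg.Agent.Lib.Helper1.Co2M
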