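import Cfsg.Agent.Lib.Helper20.Co2MMemChk
import Cfsg.Agent.Lib.Helper25.Co2OutChk1

/-!
# S2044-[MOD-MEM] (architect helper1): helper1's seven permutations lie in helper25's `Co₂` on 4600 points (helper20)

For each pair `(T, T')` of `Lib/Helper1/Co2MTabs`: `pairOK 4600 13 T T' = true` and
`permOf 4600 13 T T' ∈ genGroup 4600 13 known1`. Certificate: `Co2MMemData` (10 strong generators and the seven
targets as paths), checked item by item in `Co2MMemChk`.
-/

set_option autoImplicit false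
set_option maxRecDepth 100000

namespace Cfsg.Agent.Lib.Helper1.Co2M

open Cfsg.Agent.Lib.Helper28.BSGS Cfsg.Agent.Lib.Helper22.SuzOut Cfsg.Agent.Lib.Helper25.Co2Out

namespace Helper20

theorem itemsM_length : itemsM.length = 17 := rfl

theorem itemsM_ok : seqOK 4600 13 known1 itemsM = true := by
  apply seqOK_of_items
  intro j hj
  rw [itemsM_length] at hj
  match j, hj with
  | 0, _ => exact itemM_0
  | 1, _ => exact itemM_1
  | 2, _ => exact itemM_2
  | 3, _ => exact itemM_3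
  | 4, _ => exact itemM_4
  | 5, _ => exact itemM_5
  | 6, _ => exact itemM_6
  | 7, _ => exact itemM_7
  | 8, _ => exact itemM_8
  | 9, _ => exact itemM_9
  | 10, _ => exact itemM_10
  | 11, _ => exact itemM_11
  | 12, _ => exact itemM_12
  | 13, _ => exact itemM_13
  | 14, _ => exact itemM_14
  | 15, _ => exact itemM_15
  | 16, _ => exact itemM_16
  | (k + 17), h => exact absurd h (by omega)

theorem seqM : gensOK 4600 13 (known1 ++ itemsM.map (fun it => it.1)) = true ∧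
    genGroup 4600 13 (known1 ++ itemsM.map (fun it => it.1)) = genGroup 4600 13 known1 :=
  seq_sound 4600 13 known1 itemsM known1_ok itemsM_ok

/-- every table pair of the sequence is a valid pair whose permutation lies in `⟨known1⟩` -/
theorem mem_of_mem (g : ℕ × ℕ) (hg : g ∈ known1 ++ itemsM.map (fun it => it.1)) :
    pairOK 4600 13 g.1 g.2 = true ∧ permOf 4600 13 g.1 g.2 ∈ genGroup 4600 13 known1 := by
  refine ⟨gensOK_spec 4600 13 seqM.1 g hg, ?_⟩
  rw [← seqM.2]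
  exact Subgroup.subset_closure (mem_semGens 4600 13 hg)

/-- helper1's seven table pairs `g₀, …, g₅, u₀` -/
def tabsM : List (ℕ × ℕ) :=
  [(Tg0, Tg0i), (Tg1, Tg1i), (Tg2, Tg2i), (Tg3, Tg3i), (Tg4, Tg4i), (Tg5, Tg5i), (Tu0, Tu0i)]

theorem tabsM_sub : ∀ g ∈ tabsM, g ∈ known1 ++ itemsM.map (fun it => it.1) := by decide +kernel

end Helper20

open Helper20

/-- [MOD-MEM], list form -/
theorem tabs_mem : ∀ g ∈ Helper20.tabsM,
    pairOK 4600 13 g.1 g.2 = true ∧ permOf 4600 13 g.1 g.2 ∈ genGroup 4600 13 known1 :=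
  fun g hg => mem_of_mem g (tabsM_sub g hg)

theorem mem_Tg0 : pairOK 4600 13 Tg0 Tg0i = true ∧ permOf 4600 13 Tg0 Tg0i ∈ genGroup 4600 13 known1 :=
  tabs_mem (Tg0, Tg0i) (by simp [Helper20.tabsM])
theorem mem_Tg1 : pairOK 4600 13 Tg1 Tg1i = true ∧ permOf 4600 13 Tg1 Tg1i ∈ genGroup 4600 13 known1 :=
  tabs_mem (Tg1, Tg1i) (by simp [Helper20.tabsM])
theorem mem_Tg2 : pairOK 4600 13 Tg2 Tg2i = true ∧ permOf 4600 13 Tg2 Tg2i ∈ genGroup 4600 13 known1 :=
  tabs_mem (Tg2, Tg2i) (by simp [Helper20.tabsM])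
theorem mem_Tg3 : pairOK 4600 13 Tg3 Tg3i = true ∧ permOf 4600 13 Tg3 Tg3i ∈ genGroup 4600 13 known1 :=
  tabs_mem (Tg3, Tg3i) (by simp [Helper20.tabsM])
theorem mem_Tg4 : pairOK 4600 13 Tg4 Tg4i = true ∧ permOf 4600 13 Tg4 Tg4i ∈ genGroup 4600 13 known1 :=
  tabs_mem (Tg4, Tg4i) (by simp [Helper20.tabsM])
theorem mem_Tg5 : pairOK 4600 13 Tg5 Tg5i = true ∧ permOf 4600 13 Tg5 Tg5i ∈ genGroup 4600 13 known1 :=
  tabs_mem (Tg5, Tg5i) (by simp [Helper20.tabsM])
theorem mem_Tu0 : pairOK 4600 13 Tu0 Tu0i = true ∧ permOf 4600 13 Tu0 Tu0i ∈ genGroup 4600 13 known1 :=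
  tabs_mem (Tu0, Tu0i) (by simp [Helper20.tabsM])

end Cfsg.Agent.Lib.Helper1.Co2M
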