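import Cfsg.Agent.Lib.Helper20.Co2MA
import Cfsg.Agent.Lib.Helper20.Co2MMem
import Cfsg.Agent.Lib.Helper9.Co2MREL

/-!
# S2044-[MOD-ASM] (architect helper1): the `Co₂`-tuple in helper25's model on 4600 points, from [MOD-MEM], [MOD-REL]
and the orders [MOD-ORD] as hypotheses (helper20)
-/

set_option autoImplicit false
set_option maxRecDepth 100000

namespace Cfsg.Agent.Lib.Helper1.Co2M

open Cfsg Cfsg.H5.TCk
open Cfsg.Agent.Lib.Helper28.BSGS Cfsg.Agent.Lib.Helper25.Co2Out
open Cfsg.Agent.Lib.Helper12.McLW (relsG relsU)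

namespace Helper20

/-- the image in `Perm (Fin n)` of the closure of a tuple of a subgroup `K` which restricts to the permutations of a
list of table pairs is the group generated by the list -/
theorem map_closure_eq_genGroup {n w : ℕ} [NeZero n] (K : Subgroup (Equiv.Perm (Fin n))) (gens : List (ℕ × ℕ)) (k : ℕ)
    (hk : gens.length = k) (f : ℕ → ↥K)
    (hf : ∀ i < k, (f i : Equiv.Perm (Fin n)) =
      permOf n w (gens.getD i (0, 0)).1 (gens.getD i (0, 0)).2) :
    (Subgroup.closure (Set.range fun i : Fin k => f i.val)).map K.subtype = genGroup n w gens := by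
  rw [MonoidHom.map_closure]
  unfold genGroup
  congr 1
  ext s
  constructor
  · rintro ⟨_, ⟨i, rfl⟩, rfl⟩
    show (f i.val : Equiv.Perm (Fin n)) ∈ semGens n w gens
    rw [hf i.val i.isLt]
    apply mem_semGens
    have hi : i.val < gens.length := by rw [hk]; exact i.isLt
    rw [List.getD_eq_getElem _ _ hi]
    exact List.getElem_mem hi
  · intro hs
    have hs' : s ∈ semGens n w gens := hs
    unfold semGens at hs'
    rw [List.mem_map] at hs'
    obtain ⟨g, hg, rfl⟩ := hs'
    obtain ⟨i, hi, rfl⟩ := List.getElem_of_mem hg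
    have hik : i < k := by rw [← hk]; exact hi
    refine ⟨f i, ⟨⟨i, hik⟩, rfl⟩, ?_⟩
    show (f i : Equiv.Perm (Fin n)) = _
    rw [hf i hik, List.getD_eq_getElem _ _ hi]

theorem card_closure_eq_genGroup {n w : ℕ} [NeZero n] (K : Subgroup (Equiv.Perm (Fin n))) (gens : List (ℕ × ℕ)) (k : ℕ)
    (hk : gens.length = k) (f : ℕ → ↥K)
    (hf : ∀ i < k, (f i : Equiv.Perm (Fin n)) =
      permOf n w (gens.getD i (0, 0)).1 (gens.getD i (0, 0)).2) :
    Nat.card (Subgroup.closure (Set.range fun i : Fin k => f i.val)) = Nat.card (genGroup n w gens) := by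
  rw [← map_closure_eq_genGroup K gens k hk f hf]
  exact Nat.card_congr ((Subgroup.closure (Set.range fun i : Fin k => f i.val)).equivMapOfInjective
    K.subtype K.subtype_injective).toEquiv

theorem gm_mem : ∀ i < 6, gm i ∈ genGroup 4600 13 known1 := by
  intro i hi
  interval_cases i
  · rw [gm_zero]; exact mem_Tg0.2
  · rw [gm_one]; exact mem_Tg1.2
  · rw [gm_two]; exact mem_Tg2.2
  · rw [gm_three]; exact mem_Tg3.2
  · rw [gm_four]; exact mem_Tg4.2
  · rw [gm_five]; exact mem_Tg5.2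

theorem um_mem : ∀ i < 2, um i ∈ genGroup 4600 13 known1 := by
  intro i hi
  interval_cases i
  · rw [um_zero]; exact mem_Tu0.2
  · rw [um_one]; exact mem_Tg0.2

end Helper20

open Helper20

/-- [MOD-ASM], with the orders as hypotheses -/
theorem exists_co2_tuple_of
    (hcard : Nat.card ↥(genGroup 4600 13 known1) = 42305421312000)
    (h5 : Nat.card ↥(genGroup 4600 13
      [(Tg0, Tg0i), (Tg1, Tg1i), (Tg2, Tg2i), (Tg3, Tg3i), (Tg4, Tg4i)]) = 898128000)
    (h2 : 168 ≤ Nat.card ↥(genGroup 4600 13 [(Tg0, Tg0i), (Tg1, Tg1i)]))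
    (hU : 40320 ≤ Nat.card ↥(genGroup 4600 13 [(Tu0, Tu0i), (Tg0, Tg0i)]))
    (h6 : genGroup 4600 13 [(Tg0, Tg0i), (Tg1, Tg1i), (Tg2, Tg2i), (Tg3, Tg3i), (Tg4, Tg4i), (Tg5, Tg5i)] =
      genGroup 4600 13 known1) :
    ∃ g u : ℕ → ↥(genGroup 4600 13 known1), IsCo2Tuple g u := by
  classical
  set K : Subgroup (Equiv.Perm (Fin 4600)) := genGroup 4600 13 known1 with hK
  let g : ℕ → ↥K := fun i => if h : i < 6 then ⟨gm i, gm_mem i h⟩ else 1
  let u : ℕ → ↥K := fun i => if h : i < 2 then ⟨um i, um_mem i h⟩ else 1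
  have hg : ∀ i < 6, (g i : Equiv.Perm (Fin 4600)) = gm i := by
    intro i hi
    simp only [g, dif_pos hi]
  have hu : ∀ i < 2, (u i : Equiv.Perm (Fin 4600)) = um i := by
    intro i hi
    simp only [u, dif_pos hi]
  obtain ⟨r1, r2, r3, r4, r5, r6, r7⟩ := rels_model_sub K g u hg hu
  refine ⟨g, u, hcard, ?_, ?_, ?_, r1, r2, ?_, r3, r4, r5, r6, r7⟩
  · -- generation
    apply Subgroup.map_injective K.subtype_injective
    rw [map_closure_eq_genGroup (w := 13) K
      [(Tg0, Tg0i), (Tg1, Tg1i), (Tg2, Tg2i), (Tg3, Tg3i), (Tg4, Tg4i), (Tg5, Tg5i)] 6 rfl g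
      (fun i hi => by rw [hg i hi]; rfl), h6, ← MonoidHom.range_eq_map, Subgroup.range_subtype]
  · rw [card_closure_eq_genGroup (w := 13) K
      [(Tg0, Tg0i), (Tg1, Tg1i), (Tg2, Tg2i), (Tg3, Tg3i), (Tg4, Tg4i)] 5 rfl g
      (fun i hi => by
        rw [hg i (by omega)]
        interval_cases i <;> rfl)]
    exact h5
  · rw [card_closure_eq_genGroup (w := 13) K [(Tg0, Tg0i), (Tg1, Tg1i)] 2 rfl g
      (fun i hi => by
        rw [hg i (by omega)]
        interval_cases i <;> rfl)]
    exact h2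
  · rw [card_closure_eq_genGroup (w := 13) K [(Tu0, Tu0i), (Tg0, Tg0i)] 2 rfl u
      (fun i hi => by rw [hu i hi]; rfl)]
    exact hU

/-- [MOD-ASM], with the orders as hypotheses on the closures of `gm`, `um` (the form of helper25's `Co2MOrdLow`) -/
theorem exists_co2_tuple_of_closure
    (hcard : Nat.card ↥(genGroup 4600 13 known1) = 42305421312000)
    (h5 : Nat.card ↥(Subgroup.closure (Set.range fun i : Fin 5 => gm i.val)) = 898128000)
    (h2 : 168 ≤ Nat.card ↥(Subgroup.closure (Set.range fun i : Fin 2 => gm i.val)))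
    (hU : 40320 ≤ Nat.card ↥(Subgroup.closure (Set.range fun i : Fin 2 => um i.val)))
    (h6 : Subgroup.closure (Set.range fun i : Fin 6 => gm i.val) = genGroup 4600 13 known1) :
    ∃ g u : ℕ → ↥(genGroup 4600 13 known1), IsCo2Tuple g u := by
  classical
  set K : Subgroup (Equiv.Perm (Fin 4600)) := genGroup 4600 13 known1 with hK
  let g : ℕ → ↥K := fun i => if h : i < 6 then ⟨gm i, gm_mem i h⟩ else 1
  let u : ℕ → ↥K := fun i => if h : i < 2 then ⟨um i, um_mem i h⟩ else 1
  have hg : ∀ i < 6, K.subtype (g i) = gm i := by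
    intro i hi
    simp only [g, dif_pos hi, Subgroup.coe_subtype]
  have hu : ∀ i < 2, K.subtype (u i) = um i := by
    intro i hi
    simp only [u, dif_pos hi, Subgroup.coe_subtype]
  obtain ⟨r1, r2, r3, r4, r5, r6, r7⟩ := rels_model_sub K g u hg hu
  have hinj : Function.Injective K.subtype := K.subtype_injective
  have e6 : (fun i : Fin 6 => K.subtype (g i.val)) = fun i : Fin 6 => gm i.val :=
    funext fun i => hg i.val i.isLt
  have e5 : (fun i : Fin 5 => K.subtype (g i.val)) = fun i : Fin 5 => gm i.val :=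
    funext fun i => hg i.val (by have := i.isLt; omega)
  have e2 : (fun i : Fin 2 => K.subtype (g i.val)) = fun i : Fin 2 => gm i.val :=
    funext fun i => hg i.val (by have := i.isLt; omega)
  have eU : (fun i : Fin 2 => K.subtype (u i.val)) = fun i : Fin 2 => um i.val :=
    funext fun i => hu i.val i.isLt
  refine ⟨g, u, hcard, ?_, ?_, ?_, r1, r2, ?_, r3, r4, r5, r6, r7⟩
  · -- generation
    apply Subgroup.map_injective hinj
    rw [MonoidHom.map_closure, ← MonoidHom.range_eq_map, Subgroup.range_subtype]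
    have : (⇑K.subtype '' Set.range fun i : Fin 6 => g i.val) =
        Set.range fun i : Fin 6 => K.subtype (g i.val) := by
      ext x
      constructor
      · rintro ⟨_, ⟨i, rfl⟩, rfl⟩
        exact ⟨i, rfl⟩
      · rintro ⟨i, rfl⟩
        exact ⟨g i.val, ⟨i, rfl⟩, rfl⟩
    rw [this, e6]
    exact h6
  · have h := card_closure_map K.subtype hinj (fun i : Fin 5 => g i.val)
    rw [e5] at h
    rw [← h]
    exact h5
  · have h := card_closure_map K.subtype hinj (fun i : Fin 2 => g i.val)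
    rw [e2] at h
    rw [← h]
    exact h2
  · have h := card_closure_map K.subtype hinj (fun i : Fin 2 => u i.val)
    rw [eU] at h
    rw [← h]
    exact hU

/-- [MOD-ASM], variant: the order of `⟨g₀, …, g₄⟩` as a lower bound in the model and an abstract upper bound from `relsG`
(helper16's `card_cl5_le_of_relsG`) -/
theorem exists_co2_tuple_of'
    (hup : ∀ {Γ : Type} [Group Γ] (γ : ℕ → Γ), (∀ r ∈ relsG, ev γ r = 1) →
      Finite ↥(Subgroup.closure (Set.range fun i : Fin 5 => γ i.val)) ∧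
        Nat.card ↥(Subgroup.closure (Set.range fun i : Fin 5 => γ i.val)) ≤ 898128000)
    (hcard : Nat.card ↥(genGroup 4600 13 known1) = 42305421312000)
    (h5 : 898128000 ≤ Nat.card ↥(genGroup 4600 13
      [(Tg0, Tg0i), (Tg1, Tg1i), (Tg2, Tg2i), (Tg3, Tg3i), (Tg4, Tg4i)]))
    (h2 : 168 ≤ Nat.card ↥(genGroup 4600 13 [(Tg0, Tg0i), (Tg1, Tg1i)]))
    (hU : 40320 ≤ Nat.card ↥(genGroup 4600 13 [(Tu0, Tu0i), (Tg0, Tg0i)]))
    (h6 : genGroup 4600 13 [(Tg0, Tg0i), (Tg1, Tg1i), (Tg2, Tg2i), (Tg3, Tg3i), (Tg4, Tg4i), (Tg5, Tg5i)] =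
      genGroup 4600 13 known1) :
    ∃ g u : ℕ → ↥(genGroup 4600 13 known1), IsCo2Tuple g u := by
  apply exists_co2_tuple_of hcard ?_ h2 hU h6
  apply le_antisymm ?_ h5
  -- the tuple of permutations satisfies `relsG`
  have h := (hup gm rels_model.1).2
  have h' : Subgroup.closure (Set.range fun i : Fin 5 => gm i.val) =
      genGroup 4600 13 [(Tg0, Tg0i), (Tg1, Tg1i), (Tg2, Tg2i), (Tg3, Tg3i), (Tg4, Tg4i)] := by
    unfold genGroup
    congr 1
    ext s
    constructor
    · rintro ⟨i, rfl⟩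
      show gm i.val ∈ semGens 4600 13 _
      unfold semGens
      simp only [List.map_cons, List.map_nil, List.mem_cons, List.not_mem_nil, or_false]
      obtain ⟨i, hi⟩ := i
      interval_cases i
      · exact Or.inl rfl
      · exact Or.inr (Or.inl rfl)
      · exact Or.inr (Or.inr (Or.inl rfl))
      · exact Or.inr (Or.inr (Or.inr (Or.inl rfl)))
      · exact Or.inr (Or.inr (Or.inr (Or.inr rfl)))
    · intro hs
      have hs' : s ∈ semGens 4600 13
          [(Tg0, Tg0i), (Tg1, Tg1i), (Tg2, Tg2i), (Tg3, Tg3i), (Tg4, Tg4i)] := hs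
      unfold semGens at hs'
      simp only [List.map_cons, List.map_nil, List.mem_cons, List.not_mem_nil, or_false] at hs'
      rcases hs' with rfl | rfl | rfl | rfl | rfl
      · exact ⟨⟨0, by norm_num⟩, rfl⟩
      · exact ⟨⟨1, by norm_num⟩, rfl⟩
      · exact ⟨⟨2, by norm_num⟩, rfl⟩
      · exact ⟨⟨3, by norm_num⟩, rfl⟩
      · exact ⟨⟨4, by norm_num⟩, rfl⟩
  rw [← h']
  exact h

/-- the six table pairs generate the whole group as soon as they generate a group of the right order -/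
theorem genGroup6_eq_of_card
    (hcard : Nat.card ↥(genGroup 4600 13 known1) = 42305421312000)
    (h6 : 42305421312000 ≤ Nat.card ↥(genGroup 4600 13
      [(Tg0, Tg0i), (Tg1, Tg1i), (Tg2, Tg2i), (Tg3, Tg3i), (Tg4, Tg4i), (Tg5, Tg5i)])) :
    genGroup 4600 13 [(Tg0, Tg0i), (Tg1, Tg1i), (Tg2, Tg2i), (Tg3, Tg3i), (Tg4, Tg4i), (Tg5, Tg5i)] =
      genGroup 4600 13 known1 := by
  have hle : genGroup 4600 13
      [(Tg0, Tg0i), (Tg1, Tg1i), (Tg2, Tg2i), (Tg3, Tg3i), (Tg4, Tg4i), (Tg5, Tg5i)] ≤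
      genGroup 4600 13 known1 := by
    unfold genGroup
    rw [Subgroup.closure_le]
    intro s hs
    have hs' : s ∈ semGens 4600 13
        [(Tg0, Tg0i), (Tg1, Tg1i), (Tg2, Tg2i), (Tg3, Tg3i), (Tg4, Tg4i), (Tg5, Tg5i)] := hs
    unfold semGens at hs'
    simp only [List.map_cons, List.map_nil, List.mem_cons, List.not_mem_nil, or_false] at hs'
    rcases hs' with rfl | rfl | rfl | rfl | rfl | rfl
    · exact mem_Tg0.2
    · exact mem_Tg1.2
    · exact mem_Tg2.2
    · exact mem_Tg3.2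
    · exact mem_Tg4.2
    · exact mem_Tg5.2
  have : Finite ↥(genGroup 4600 13 known1) := Nat.finite_of_card_ne_zero (by rw [hcard]; norm_num)
  exact Subgroup.eq_of_le_of_card_ge hle (by rw [hcard]; exact h6)

end Cfsg.Agent.Lib.Helper1.Co2M
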