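import Cfsg.Agent.Lib.Helper20.Co2MMemData

/-! # S2044-[MOD-MEM]: the path checks, one item at a time (helper20) -/

set_option autoImplicit false
set_option maxRecDepth 100000

namespace Cfsg.Agent.Lib.Helper1.Co2M.Helper20

open Cfsg.Agent.Lib.Helper25.Co2Out

theorem itemM_0 : itemOK 4600 13 known1 itemsM 0 = true := by decide +kernel

theorem itemM_1 : itemOK 4600 13 known1 itemsM 1 = true := by decide +kernel

theorem itemM_2 : itemOK 4600 13 known1 itemsM 2 = true := by decide +kernel

theorem itemM_3 : itemOK 4600 13 known1 itemsM 3 = true := by decide +kernel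

theorem itemM_4 : itemOK 4600 13 known1 itemsM 4 = true := by decide +kernel

theorem itemM_5 : itemOK 4600 13 known1 itemsM 5 = true := by decide +kernel

theorem itemM_6 : itemOK 4600 13 known1 itemsM 6 = true := by decide +kernel

theorem itemM_7 : itemOK 4600 13 known1 itemsM 7 = true := by decide +kernel

theorem itemM_8 : itemOK 4600 13 known1 itemsM 8 = true := by decide +kernel

theorem itemM_9 : itemOK 4600 13 known1 itemsM 9 = true := by decide +kernel

theorem itemM_10 : itemOK 4600 13 known1 itemsM 10 = true := by decide +kernel

theorem itemM_11 : itemOK 4600 13 known1 itemsM 11 = true := by decide +kernel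

theorem itemM_12 : itemOK 4600 13 known1 itemsM 12 = true := by decide +kernel

theorem itemM_13 : itemOK 4600 13 known1 itemsM 13 = true := by decide +kernel

theorem itemM_14 : itemOK 4600 13 known1 itemsM 14 = true := by decide +kernel

theorem itemM_15 : itemOK 4600 13 known1 itemsM 15 = true := by decide +kernel

theorem itemM_16 : itemOK 4600 13 known1 itemsM 16 = true := by decide +kernel

end Cfsg.Agent.Lib.Helper1.Co2M.Helper20
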