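import Cfsg.Agent.Lib.Helper27.TreeDefs

/-!
# S2079, piece T1 (helper20, for helper27): the counting chain for Schreier-vector levels
-/

set_option autoImplicit false
set_option linter.style.haveILetI false
set_option linter.unusedSectionVars false
set_option linter.unusedVariables false

namespace Cfsg.Agent.Lib.Helper27.TreeSift

open Cfsg.Agent.Lib.Helper28.BSGS Cfsg.Agent.Lib.Helper22.SuzOut MulAction

namespace Helper20

theorem walkOK_zero (n w : ℕ) (gens : List (ℕ × ℕ)) (prev : List ℕ) (b sv x : ℕ) :
    walkOK n w gens prev b sv 0 x = false := rfl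

theorem walkOK_succ (n w : ℕ) (gens : List (ℕ × ℕ)) (prev : List ℕ) (b sv f x : ℕ) :
    walkOK n w gens prev b sv (f + 1) x =
      Nat.casesOn (motive := fun _ => Bool) (look w sv x) false
        (fun k => Nat.casesOn (motive := fun _ => Bool) k (Nat.beq x b)
          (fun c => Nat.blt (c / 2) gens.length &&
            prev.all (fun p => Nat.beq (look w (fwdT gens c) p) p) &&
            Nat.blt (look w (bwdT gens c) x) n &&
            walkOK n w gens prev b sv f (look w (bwdT gens c) x))) := rfl

theorem walkOK_succ_zero (n w : ℕ) (gens : List (ℕ × ℕ)) (prev : List ℕ) (b sv f x : ℕ)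
    (h : look w sv x = 0) : walkOK n w gens prev b sv (f + 1) x = false := by
  rw [walkOK_succ, h]
  rfl

theorem walkOK_succ_one (n w : ℕ) (gens : List (ℕ × ℕ)) (prev : List ℕ) (b sv f x : ℕ)
    (h : look w sv x = 1) : walkOK n w gens prev b sv (f + 1) x = Nat.beq x b := by
  rw [walkOK_succ, h]
  rfl

theorem walkOK_succ_add_two (n w : ℕ) (gens : List (ℕ × ℕ)) (prev : List ℕ) (b sv f x c : ℕ)
    (h : look w sv x = c + 2) : walkOK n w gens prev b sv (f + 1) x =
      (Nat.blt (c / 2) gens.length &&
        prev.all (fun p => Nat.beq (look w (fwdT gens c) p) p) &&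
        Nat.blt (look w (bwdT gens c) x) n &&
        walkOK n w gens prev b sv f (look w (bwdT gens c) x)) := by
  rw [walkOK_succ, h]

theorem uT_succ_zero (n w : ℕ) (gens : List (ℕ × ℕ)) (sv f x : ℕ) (h : look w sv x = 0) :
    uT n w gens sv (f + 1) x = 1 := by
  rw [uT, h]

theorem uT_succ_one (n w : ℕ) (gens : List (ℕ × ℕ)) (sv f x : ℕ) (h : look w sv x = 1) :
    uT n w gens sv (f + 1) x = 1 := by
  rw [uT, h]

theorem uT_succ_add_two (n w : ℕ) (gens : List (ℕ × ℕ)) (sv f x c : ℕ)
    (h : look w sv x = c + 2) :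
    uT n w gens sv (f + 1) x =
      letterPerm n w gens c * uT n w gens sv f (look w (bwdT gens c) x) := by
  rw [uT, h]

theorem nat_beq_eq {a b : ℕ} (h : Nat.beq a b = true) : a = b := Nat.eq_of_beq_eq_true h

theorem nat_blt_lt {a b : ℕ} (h : Nat.blt a b = true) : a < b :=
  Nat.le_of_ble_eq_true h

/-- the transversal element of a point that walks to the root -/
theorem uT_spec (n w : ℕ) [NeZero n] (gens : List (ℕ × ℕ)) (hg : gensOK n w gens = true)
    (prev : List ℕ) (b sv : ℕ) :
    ∀ (f v : ℕ), v < n → walkOK n w gens prev b sv f v = true →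
      uT n w gens sv f v ∈ genGroup n w gens ∧ uT n w gens sv f v (pt n b) = pt n v ∧
        ∀ p ∈ prev, p < n → uT n w gens sv f v (pt n p) = pt n p := by
  intro f
  induction f with
  | zero =>
    intro v _ hw
    rw [walkOK_zero] at hw
    exact absurd hw (by simp)
  | succ f ih =>
    intro v hv hw
    rcases hk : look w sv v with _ | _ | c
    · rw [walkOK_succ_zero _ _ _ _ _ _ _ _ hk] at hw
      exact absurd hw (by simp)
    · have hk' : look w sv v = 1 := hk
      rw [walkOK_succ_one _ _ _ _ _ _ _ _ hk'] at hw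
      have hvb : v = b := nat_beq_eq hw
      rw [uT_succ_one _ _ _ _ _ _ hk', hvb]
      exact ⟨Subgroup.one_mem _, rfl, fun p _ _ => rfl⟩
    · have hk' : look w sv v = c + 2 := hk
      rw [walkOK_succ_add_two _ _ _ _ _ _ _ _ _ hk'] at hw
      simp only [Bool.and_eq_true] at hw
      obtain ⟨⟨⟨h1, h2⟩, h3⟩, h4⟩ := hw
      have hc : c / 2 < gens.length := nat_blt_lt h1
      have hy : look w (bwdT gens c) v < n := nat_blt_lt h3
      obtain ⟨ihm, ihb, ihp⟩ := ih _ hy h4
      have hspec := letterPerm_spec n w gens hg hc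
      rw [uT_succ_add_two _ _ _ _ _ _ _ hk']
      refine ⟨Subgroup.mul_mem _ (letterPerm_mem n w gens hc) ihm, ?_, ?_⟩
      · rw [Equiv.Perm.mul_apply, ihb]
        have h5 : pt n (look w (bwdT gens c) v) = (letterPerm n w gens c)⁻¹ (pt n v) := by
          apply Fin.ext
          rw [pt_val n hy, (hspec (pt n v)).2, pt_val n hv]
        rw [h5, ← Equiv.Perm.mul_apply, mul_inv_cancel, Equiv.Perm.one_apply]
      · intro p hp hpn
        rw [Equiv.Perm.mul_apply, ihp p hp hpn]
        apply Fin.ext
        rw [(hspec (pt n p)).1, pt_val n hpn]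
        exact nat_beq_eq (List.all_eq_true.mp h2 p hp)

theorem mem_orbT {n w sv v : ℕ} : v ∈ orbT n w sv ↔ v < n ∧ look w sv v ≠ 0 := by
  unfold orbT
  rw [List.mem_filter, List.mem_range]
  constructor
  · rintro ⟨h1, h2⟩
    refine ⟨h1, fun h0 => ?_⟩
    rw [h0] at h2
    simp at h2
  · rintro ⟨h1, h2⟩
    refine ⟨h1, ?_⟩
    rcases hk : look w sv v with _ | k
    · exact absurd hk h2
    · rfl

theorem nodup_orbT_map (n w sv : ℕ) [NeZero n] : ((orbT n w sv).map (pt n)).Nodup := by
  apply List.Nodup.map_on
  · intro x hx y hy hxy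
    have hx' := (mem_orbT.mp hx).1
    have hy' := (mem_orbT.mp hy).1
    rw [← pt_val n hx', ← pt_val n hy', hxy]
  · unfold orbT
    exact (List.nodup_range).filter _

end Helper20

open Helper20

/-- T1a -/
theorem countChain_T (n w : ℕ) [NeZero n] (gens : List (ℕ × ℕ)) (fuel : ℕ)
    (hg : gensOK n w gens = true) :
    ∀ (levels : List TLevel) (prev : List ℕ), (∀ p ∈ prev, p < n) →
      chainOKT n w gens fuel prev levels = true →
      CountChain (genGroup n w gens) (prev.map (pt n)) (semTs n w gens fuel levels) := by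
  intro levels
  induction levels with
  | nil =>
    intro prev _ _
    exact trivial
  | cons lv rest ih =>
    intro prev hprev h
    have h' : (levelOKT n w gens fuel prev lv && chainOKT n w gens fuel (lv.1 :: prev) rest) =
        true := h
    rw [Bool.and_eq_true] at h'
    obtain ⟨hlv, hrest⟩ := h'
    unfold levelOKT at hlv
    simp only [Bool.and_eq_true] at hlv
    obtain ⟨⟨hb, hroot⟩, hall⟩ := hlv
    have hbn : lv.1 < n := nat_blt_lt hb
    have hall' := allBelow_spec hall
    show ((semT n w gens fuel lv).O.Nodup ∧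
      (∀ x ∈ (semT n w gens fuel lv).O, (semT n w gens fuel lv).u x ∈ genGroup n w gens ∧
        (semT n w gens fuel lv).u x • (semT n w gens fuel lv).b = x ∧
        ∀ p ∈ prev.map (pt n), (semT n w gens fuel lv).u x • p = p) ∧
      CountChain (genGroup n w gens) ((semT n w gens fuel lv).b :: prev.map (pt n))
        (semTs n w gens fuel rest))
    refine ⟨nodup_orbT_map n w lv.2, ?_, ?_⟩
    · intro x hx
      have hx' : x ∈ (orbT n w lv.2).map (pt n) := hx
      obtain ⟨v, hv, rfl⟩ := List.mem_map.mp hx'
      obtain ⟨hvn, hv0⟩ := mem_orbT.mp hv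
      have hwalk : walkOK n w gens prev lv.1 lv.2 fuel v = true := by
        have := hall' v hvn
        rw [Bool.or_eq_true] at this
        rcases this with h0 | h0
        · exact absurd (nat_beq_eq h0) hv0
        · exact h0
      obtain ⟨hm, hbv, hp⟩ := uT_spec n w gens hg prev lv.1 lv.2 fuel v hvn hwalk
      have hu : (semT n w gens fuel lv).u (pt n v) = uT n w gens lv.2 fuel v := by
        show uT n w gens lv.2 fuel (pt n v).val = _
        rw [pt_val n hvn]
      rw [hu]
      refine ⟨hm, hbv, ?_⟩
      intro p hp'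
      obtain ⟨q, hq, rfl⟩ := List.mem_map.mp hp'
      exact hp q hq (hprev q hq)
    · have := ih (lv.1 :: prev) (by
        intro p hp
        rcases List.mem_cons.mp hp with rfl | hp
        · exact hbn
        · exact hprev p hp) hrest
      exact this

/-- T1b -/
theorem chainSize_T (n w : ℕ) [NeZero n] (gens : List (ℕ × ℕ)) (fuel : ℕ) (levels : List TLevel) :
    chainSize (semTs n w gens fuel levels) = sizeT n w levels := by
  induction levels with
  | nil => rfl
  | cons lv rest ih =>
    show ((orbT n w lv.2).map (pt n)).length * chainSize (semTs n w gens fuel rest) =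
      (orbT n w lv.2).length * sizeT n w rest
    rw [List.length_map, ih]

/-- T1c: the chain certified by counting against a known bound for the order -/
theorem tree_main (n w : ℕ) [NeZero n] (gens : List (ℕ × ℕ)) (fuel : ℕ)
    (hg : gensOK n w gens = true) (levels : List TLevel)
    (h : chainOKT n w gens fuel [] levels = true)
    (K : Subgroup (Equiv.Perm (Fin n))) (hK : genGroup n w gens ≤ K)
    (hN : Nat.card K ≤ sizeT n w levels) :
    genGroup n w gens = K ∧ Nat.card K = sizeT n w levels ∧
      ∀ z ∈ K, Sifts (semTs n w gens fuel levels) z := by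
  have hcc : CountChain (genGroup n w gens) ([] : List (Fin n)) (semTs n w gens fuel levels) :=
    countChain_T n w gens fuel hg levels [] (fun p hp => absurd hp (List.not_mem_nil)) h
  have hle : chainSize (semTs n w gens fuel levels) ≤ Nat.card (genGroup n w gens) :=
    count_chain_le (genGroup n w gens) _ hcc
  rw [chainSize_T] at hle
  have heq : genGroup n w gens = K := Subgroup.eq_of_le_of_card_ge hK (le_trans hN hle)
  rw [heq] at hcc
  have hN' : Nat.card K ≤ chainSize (semTs n w gens fuel levels) := by
    rw [chainSize_T]; exact hN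
  obtain ⟨h1, h2⟩ := count_chain_main K _ hcc hN'
  rw [chainSize_T] at h1
  exact ⟨heq, h1, h2⟩

end Cfsg.Agent.Lib.Helper27.TreeSift
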