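import Cfsg.Agent.Lib.Helper20.Co2MAsm
import Cfsg.Agent.Lib.Helper25.Co2MOrdLow
import Cfsg.Agent.Lib.Helper16.Co2MOrdTC

/-!
# S2044-[MOD-ASM] (architect helper1): the `Co₂`-tuple in helper25's model on 4600 points (helper20)

[MOD-MEM] (helper20) + [MOD-REL] (helper9) + [MOD-ORD] (helper25, lower bounds and generation; helper16, the upper bound
`|⟨g₀, …, g₄⟩| ≤ 898128000` from `relsG`). The only hypothesis left is the order of `⟨known1⟩`
(`Cfsg.Agent.Lib.Helper25.Co2Out.card_known1`, in the heavy closure `Lib/Helper25/Co2OutModel`).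
-/

set_option autoImplicit false

namespace Cfsg.Agent.Lib.Helper1.Co2M

open Cfsg Cfsg.H5.TCk
open Cfsg.Agent.Lib.Helper28.BSGS Cfsg.Agent.Lib.Helper25.Co2Out

/-- the order of `⟨g₀, …, g₄⟩` in the model -/
theorem Helper20.card_gm5 :
    Nat.card ↥(Subgroup.closure (Set.range fun i : Fin 5 => gm i.val)) = 898128000 :=
  le_antisymm (card_cl5_le_of_relsG gm rels_model.1).2 modOrd_card5_ge

/-- [MOD-ASM]: `exists_co2_tuple`, given the order of `⟨known1⟩` -/
theorem exists_co2_tuple_of_card (hcard : Nat.card ↥(genGroup 4600 13 known1) = 42305421312000) :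
    ∃ g u : ℕ → ↥(genGroup 4600 13 known1), IsCo2Tuple g u :=
  exists_co2_tuple_of_closure hcard Helper20.card_gm5 modOrd_card2_ge modOrd_cardU_ge
    (modOrd_closure6 (genGroup 4600 13 known1) Helper20.gm_mem (le_of_eq hcard))

end Cfsg.Agent.Lib.Helper1.Co2M
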