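import Mathlib

/-!
A norm argument for Frobenius-like actions: if `Q` is a finite group of automorphisms of an abelian
group `V` of order prime to the exponents of `V`, normalized by an element `x` all of whose powers
`x ^ i` (`0 < i < k`) have no nontrivial fixed point on `Q`, and if the norm `∏_{i<k} (b x b⁻¹)^i`
vanishes on `V` for every conjugate of `x` under `Q`, then `Q` acts trivially on `V`.
-/

set_option autoImplicit false

namespace Cfsg.Agent.Lib.Helper20.FrobNorm

theorem pow_conj_mem {H : Type*} [Group H] {Q : Subgroup H} {x : H}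
    (hx : ∀ b ∈ Q, x * b * x⁻¹ ∈ Q) (i : ℕ) : ∀ b ∈ Q, x ^ i * b * (x ^ i)⁻¹ ∈ Q := by
  induction i with
  | zero => intro b hb; simpa using hb
  | succ i ih =>
    intro b hb
    have h1 := hx _ (ih b hb)
    have e : x ^ (i + 1) * b * (x ^ (i + 1))⁻¹ = x * (x ^ i * b * (x ^ i)⁻¹) * x⁻¹ := by
      rw [pow_succ']; group
    rw [e]; exact h1

theorem list_prod_eq_finset_prod {V : Type*} [CommMonoid V] (f : ℕ → V) (k : ℕ) :
    ((List.range k).map f).prod = ∏ i ∈ Finset.range k, f i := by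
  induction k with
  | zero => simp
  | succ n ih =>
    rw [List.range_succ, List.map_append, List.prod_append, ih, Finset.prod_range_succ]
    simp

theorem acts_trivially_comm {H : Type*} [Group H] {V : Type*} [CommGroup V]
    (φ : H →* MulAut V) (Q : Subgroup H) [Finite Q] (x : H) (k : ℕ) (hk : 0 < k)
    (hx : ∀ b ∈ Q, x * b * x⁻¹ ∈ Q)
    (hfix : ∀ i, 0 < i → i < k → ∀ b ∈ Q, b * x ^ i = x ^ i * b → b = 1)
    (hcop : ∀ v : V, v ^ Nat.card Q = 1 → v = 1)
    (hnorm : ∀ b ∈ Q, ∀ v : V, ∏ i ∈ Finset.range k, φ (b * x ^ i * b⁻¹) v = 1) :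
    ∀ c ∈ Q, ∀ v : V, φ c v = v := by
  classical
  haveI : Fintype Q := Fintype.ofFinite Q
  let T : V →* V := ∏ c : Q, ((φ (c : H)).toMonoidHom)
  have hT : ∀ v, T v = ∏ c : Q, φ (c : H) v := by
    intro v
    simp only [T, MonoidHom.finset_prod_apply]
    rfl
  have hbij : ∀ i, 0 < i → i < k → ∀ w : V,
      ∏ b : Q, φ ((b : H) * x ^ i * (b : H)⁻¹ * (x ^ i)⁻¹) w = T w := by
    intro i hi hik w
    let f : Q → Q := fun b => ⟨(b : H) * x ^ i * (b : H)⁻¹ * (x ^ i)⁻¹, by
      have h1 := pow_conj_mem hx i _ (inv_mem b.2)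
      have e : (b : H) * x ^ i * (b : H)⁻¹ * (x ^ i)⁻¹ =
          (b : H) * (x ^ i * (b : H)⁻¹ * (x ^ i)⁻¹) := by group
      rw [e]; exact mul_mem b.2 h1⟩
    have hinj : Function.Injective f := by
      intro b b' hbb
      have h1 : (b : H) * x ^ i * (b : H)⁻¹ * (x ^ i)⁻¹ =
          (b' : H) * x ^ i * (b' : H)⁻¹ * (x ^ i)⁻¹ := congrArg Subtype.val hbb
      have h2 : (b : H) * x ^ i * (b : H)⁻¹ = (b' : H) * x ^ i * (b' : H)⁻¹ :=
        mul_right_cancel h1
      have h3 : ((b' : H)⁻¹ * b) * x ^ i = x ^ i * ((b' : H)⁻¹ * b) := by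
        calc ((b' : H)⁻¹ * b) * x ^ i
            = (b' : H)⁻¹ * ((b : H) * x ^ i * (b : H)⁻¹) * b := by group
          _ = (b' : H)⁻¹ * ((b' : H) * x ^ i * (b' : H)⁻¹) * b := by rw [h2]
          _ = x ^ i * ((b' : H)⁻¹ * b) := by group
      have h4 := hfix i hi hik _ (mul_mem (inv_mem b'.2) b.2) h3
      apply Subtype.ext
      exact (inv_mul_eq_one.mp h4).symm
    have hb : Function.Bijective f := Finite.injective_iff_bijective.mp hinj
    rw [hT]
    exact Function.Bijective.prod_comp hb (fun c : Q => φ (c : H) w)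
  have hkey : ∀ v : V, T v = v ^ Nat.card Q := by
    intro v
    obtain ⟨k', rfl⟩ : ∃ k', k = k' + 1 := ⟨k - 1, by omega⟩
    have h1 : ∏ b : Q, ∏ i ∈ Finset.range (k' + 1), φ ((b : H) * x ^ i * (b : H)⁻¹) v = 1 := by
      apply Finset.prod_eq_one
      intro b _
      exact hnorm b b.2 v
    rw [Finset.prod_comm, Finset.prod_range_succ'] at h1
    have h2 : ∏ b : Q, φ ((b : H) * x ^ 0 * (b : H)⁻¹) v = v ^ Nat.card Q := by
      simp [Finset.prod_const, Finset.card_univ, Nat.card_eq_fintype_card]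
    have h3 : ∀ i ∈ Finset.range k',
        ∏ b : Q, φ ((b : H) * x ^ (i + 1) * (b : H)⁻¹) v = T (φ (x ^ (i + 1)) v) := by
      intro i hi
      rw [← hbij (i + 1) (by omega) (by have := Finset.mem_range.mp hi; omega)
        (φ (x ^ (i + 1)) v)]
      apply Finset.prod_congr rfl
      intro b _
      rw [← MulAut.mul_apply, ← map_mul]
      congr 2
      group
    rw [Finset.prod_congr rfl h3, h2, ← map_prod] at h1
    have h4 : ∏ i ∈ Finset.range (k' + 1), φ (x ^ i) v = 1 := by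
      have := hnorm 1 (one_mem _) v
      simpa using this
    rw [Finset.prod_range_succ'] at h4
    have h5 : ∏ i ∈ Finset.range k', φ (x ^ (i + 1)) v = v⁻¹ := by
      have h6 : φ (x ^ 0) v = v := by simp
      rw [h6] at h4
      exact eq_inv_of_mul_eq_one_left h4
    rw [h5, map_inv] at h1
    exact inv_mul_eq_one.mp h1
  intro c hc v
  have hTc : φ c (T v) = T v := by
    rw [hT, map_prod]
    have h7 : ∀ c' : Q, φ c (φ (c' : H) v) = φ (((⟨c, hc⟩ : Q) * c' : Q) : H) v := by
      intro c'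
      rw [Subgroup.coe_mul, map_mul, MulAut.mul_apply]
    simp_rw [h7]
    exact Equiv.prod_comp (Equiv.mulLeft (⟨c, hc⟩ : Q)) (fun c' : Q => φ (c' : H) v)
  rw [hkey, map_pow] at hTc
  have h6 : (φ c v * v⁻¹) ^ Nat.card Q = 1 := by
    rw [mul_pow, hTc, inv_pow, mul_inv_cancel]
  exact mul_inv_eq_one.mp (hcop _ h6)

/-- The same statement for a group `V` known to be commutative, the norm written as a product over
a list. -/
theorem acts_trivially {H : Type*} [Group H] {V : Type*} [Group V]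
    (hcomm : ∀ a b : V, a * b = b * a)
    (φ : H →* MulAut V) (Q : Subgroup H) [Finite Q] (x : H) (k : ℕ) (hk : 0 < k)
    (hx : ∀ b ∈ Q, x * b * x⁻¹ ∈ Q)
    (hfix : ∀ i, 0 < i → i < k → ∀ b ∈ Q, b * x ^ i = x ^ i * b → b = 1)
    (hcop : ∀ v : V, v ^ Nat.card Q = 1 → v = 1)
    (hnorm : ∀ b ∈ Q, ∀ v : V,
      ((List.range k).map (fun i => φ (b * x ^ i * b⁻¹) v)).prod = 1) :
    ∀ c ∈ Q, ∀ v : V, φ c v = v := by
  letI : CommGroup V := { (inferInstance : Group V) with mul_comm := hcomm }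
  refine acts_trivially_comm φ Q x k hk hx hfix hcop ?_
  intro b hb v
  rw [← list_prod_eq_finset_prod]
  exact hnorm b hb v

end Cfsg.Agent.Lib.Helper20.FrobNorm
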