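import Mathlib
import Cfsg.Prelude
import Cfsg.Agent.Lib.Helper20.FrobNorm
import Cfsg.Agent.Lib.Helper20.PLen
import Cfsg.Agent.Lib.Helper1.Frattini
import Cfsg.Agent.Lib.Helper1.CoprimeSylow
import Cfsg.Agent.H5.PSolvable
import Cfsg.Agent.H5.PSolvable2
import Cfsg.Agent.H5.ActionPStable
import Cfsg.Agent.Lib.Helper10.PComponent

/-!
The Hall--Higman bound `l_p(G) ≤ e_p(G)` for `p`-soluble groups whose Sylow `q`-subgroups
(`q ≠ p`) are abelian: in this case the critical configuration is a Frobenius group and the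
minimal polynomial of a `p`-element of order `p^m` is `(X - 1)^(p^m)` by a norm argument.
-/

set_option autoImplicit false

namespace Cfsg.Agent.Lib.Helper20.HHAbel

open Cfsg Subgroup

universe u

section abstract

variable {H : Type*} [Group H]

/-- For an automorphism `y` of order dividing `p` of an abelian `p'`-group `Q`, the subgroup `[Q, y]`
has no nontrivial fixed point of `y`. -/
theorem exists_fpf_subgroup (p : ℕ) (Q : Subgroup H) (x y : H)
    (hQab : ∀ a ∈ Q, ∀ b ∈ Q, a * b = b * a) (hxy : x * y = y * x)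
    (hyQ : ∀ a ∈ Q, y * a * y⁻¹ ∈ Q) (hxQ : ∀ a ∈ Q, x * a * x⁻¹ ∈ Q)
    (hyp : y ^ p = 1) (hcop : ∀ b ∈ Q, b ^ p = 1 → b = 1)
    (hnc : ∃ a ∈ Q, y * a ≠ a * y) :
    ∃ Q1 : Subgroup H, Q1 ≤ Q ∧ Q1 ≠ ⊥ ∧ (∀ b ∈ Q1, x * b * x⁻¹ ∈ Q1) ∧
      (∀ b ∈ Q1, b * y = y * b → b = 1) := by
  let Q1 : Subgroup H :=
    { carrier := {b | ∃ a ∈ Q, b = y * a * y⁻¹ * a⁻¹}
      mul_mem' := by
        rintro b b' ⟨a, ha, rfl⟩ ⟨a', ha', rfl⟩
        refine ⟨a * a', mul_mem ha ha', ?_⟩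
        have h1 : a⁻¹ * (y * a' * y⁻¹) = (y * a' * y⁻¹) * a⁻¹ :=
          hQab _ (inv_mem ha) _ (hyQ a' ha')
        have h2 : a⁻¹ * a'⁻¹ = a'⁻¹ * a⁻¹ := hQab _ (inv_mem ha) _ (inv_mem ha')
        calc y * a * y⁻¹ * a⁻¹ * (y * a' * y⁻¹ * a'⁻¹)
            = y * a * y⁻¹ * (a⁻¹ * (y * a' * y⁻¹)) * a'⁻¹ := by group
          _ = y * a * y⁻¹ * ((y * a' * y⁻¹) * a⁻¹) * a'⁻¹ := by rw [h1]
          _ = y * (a * a') * y⁻¹ * (a⁻¹ * a'⁻¹) := by group
          _ = y * (a * a') * y⁻¹ * (a'⁻¹ * a⁻¹) := by rw [h2]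
          _ = y * (a * a') * y⁻¹ * (a * a')⁻¹ := by group
      one_mem' := ⟨1, one_mem _, by simp⟩
      inv_mem' := by
        rintro b ⟨a, ha, rfl⟩
        refine ⟨a⁻¹, inv_mem ha, ?_⟩
        have h1 : a * (y * a⁻¹ * y⁻¹) = (y * a⁻¹ * y⁻¹) * a :=
          hQab _ ha _ (hyQ _ (inv_mem ha))
        calc (y * a * y⁻¹ * a⁻¹)⁻¹ = a * (y * a⁻¹ * y⁻¹) := by group
          _ = (y * a⁻¹ * y⁻¹) * a := h1
          _ = y * a⁻¹ * y⁻¹ * a⁻¹⁻¹ := by group }
  have hmem : ∀ b, b ∈ Q1 ↔ ∃ a ∈ Q, b = y * a * y⁻¹ * a⁻¹ := fun b => Iff.rfl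
  refine ⟨Q1, ?_, ?_, ?_, ?_⟩
  · intro b hb
    obtain ⟨a, ha, rfl⟩ := (hmem b).mp hb
    exact mul_mem (hyQ a ha) (inv_mem ha)
  · obtain ⟨a0, ha0, hne⟩ := hnc
    intro hbot
    have h1 : y * a0 * y⁻¹ * a0⁻¹ ∈ Q1 := (hmem _).mpr ⟨a0, ha0, rfl⟩
    rw [hbot, mem_bot] at h1
    apply hne
    have h2 : y * a0 = (y * a0 * y⁻¹ * a0⁻¹) * (a0 * y) := by group
    rw [h2, h1, one_mul]
  · intro b hb
    obtain ⟨a, ha, rfl⟩ := (hmem b).mp hb
    refine (hmem _).mpr ⟨x * a * x⁻¹, hxQ a ha, ?_⟩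
    have hc2 : x⁻¹ * y⁻¹ * x = y⁻¹ := by
      have : x⁻¹ * y⁻¹ = (y * x)⁻¹ := by group
      rw [this, ← hxy]; group
    calc x * (y * a * y⁻¹ * a⁻¹) * x⁻¹ = (x * y) * a * y⁻¹ * a⁻¹ * x⁻¹ := by group
      _ = (y * x) * a * (x⁻¹ * y⁻¹ * x) * a⁻¹ * x⁻¹ := by rw [hxy, hc2]
      _ = y * (x * a * x⁻¹) * y⁻¹ * (x * a * x⁻¹)⁻¹ := by group
  · intro b hb hby
    obtain ⟨a, ha, hbdef⟩ := (hmem b).mp hb
    have hbQ : b ∈ Q := by rw [hbdef]; exact mul_mem (hyQ a ha) (inv_mem ha)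
    have hyb : Commute y b := hby.symm
    have hya : y * a * y⁻¹ = b * a := by rw [hbdef]; group
    have hcomm : ∀ j : ℕ, y * b ^ j * y⁻¹ = b ^ j := by
      intro j
      have h1 : Commute y (b ^ j) := hyb.pow_right j
      rw [h1.eq]; group
    have hclaim : ∀ j : ℕ, y ^ j * a * (y ^ j)⁻¹ = b ^ j * a := by
      intro j
      induction j with
      | zero => simp
      | succ j ih =>
        calc y ^ (j + 1) * a * (y ^ (j + 1))⁻¹ = y * (y ^ j * a * (y ^ j)⁻¹) * y⁻¹ := by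
              rw [pow_succ']; group
          _ = y * (b ^ j * a) * y⁻¹ := by rw [ih]
          _ = (y * b ^ j * y⁻¹) * (y * a * y⁻¹) := by group
          _ = b ^ j * (b * a) := by rw [hcomm, hya]
          _ = b ^ (j + 1) * a := by rw [pow_succ]; group
    have h3 := hclaim p
    rw [hyp] at h3
    have h4 : b ^ p * a = 1 * a := by
      rw [← h3]; group
    exact hcop b hbQ (mul_right_cancel h4)

/-- fixed points of the powers of `x` are fixed points of `y = x ^ (p ^ n)`. -/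
theorem fix_of_pow {p : ℕ} (hp : p.Prime) (n : ℕ) (Q1 : Subgroup H) (x y : H)
    (hy : y = x ^ p ^ n) (hyp : y ^ p = 1)
    (hfpf : ∀ b ∈ Q1, b * y = y * b → b = 1) :
    ∀ i, 0 < i → i < p ^ (n + 1) → ∀ b ∈ Q1, b * x ^ i = x ^ i * b → b = 1 := by
  intro i hi hik b hb hbi
  obtain ⟨s, u, hu, hiu⟩ := Nat.exists_eq_pow_mul_and_not_dvd hi.ne' p hp.ne_one
  have hu0 : 0 < u := Nat.pos_of_ne_zero (by rintro rfl; exact hu (dvd_zero p))
  have hs : s ≤ n := by
    have h1 : p ^ s ≤ i := by rw [hiu]; exact Nat.le_mul_of_pos_right _ hu0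
    have h2 : p ^ s < p ^ (n + 1) := lt_of_le_of_lt h1 hik
    have := (Nat.pow_lt_pow_iff_right hp.one_lt).mp h2
    omega
  have hcop : Nat.Coprime u p := ((Nat.Prime.coprime_iff_not_dvd hp).mpr hu).symm
  obtain ⟨w, -, hw⟩ := Nat.exists_mul_mod_eq_one_of_coprime hcop hp.one_lt
  have hpow : (x ^ i) ^ (p ^ (n - s) * w) = y := by
    rw [← pow_mul, hiu]
    have e : p ^ s * u * (p ^ (n - s) * w) = p ^ n * (u * w) := by
      have : p ^ n = p ^ s * p ^ (n - s) := by rw [← pow_add]; congr 1; omega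
      rw [this]; ring
    rw [e, pow_mul, ← hy, pow_eq_pow_mod (u * w) hyp, hw, pow_one]
  have hc : Commute b (x ^ i) := hbi
  have hc2 : Commute b y := by rw [← hpow]; exact hc.pow_right _
  exact hfpf b hb hc2.eq

end abstract

section main

variable {G : Type u} [Group G]

/-- the action of `G` on the Frattini quotient of a normal subgroup -/
noncomputable def frat (R : Subgroup G) [R.Normal] : G →* MulAut (↥R ⧸ frattini ↥R) :=
  (Cfsg.H5.APS.frattiniAut ↥R).comp MulAut.conjNormal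

theorem frat_mk (R : Subgroup G) [R.Normal] (g : G) (r : ↥R) :
    frat R g (QuotientGroup.mk r) = QuotientGroup.mk (MulAut.conjNormal g r) := rfl

theorem pow_mul_eq (R : Subgroup G) [R.Normal] (z : G) (r : ↥R) (k : ℕ) :
    ((r : G) * z) ^ k =
      ((((List.range k).map (fun i => MulAut.conjNormal (z ^ i) r)).prod : ↥R) : G) * z ^ k := by
  induction k with
  | zero => simp
  | succ k ih =>
    rw [pow_succ, ih, List.range_succ, List.map_append, List.prod_append]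
    simp only [List.map_cons, List.map_nil, List.prod_cons, List.prod_nil, mul_one,
      Subgroup.coe_mul, MulAut.conjNormal_apply]
    rw [pow_succ]; group

theorem mk_list_prod (R : Subgroup G) [R.Normal] (z : G) (r : ↥R) (k : ℕ) :
    ((List.range k).map (fun i => frat R (z ^ i) (QuotientGroup.mk r))).prod =
      (QuotientGroup.mk (((List.range k).map (fun i => MulAut.conjNormal (z ^ i) r)).prod) :
        ↥R ⧸ frattini ↥R) := by
  have h := map_list_prod (QuotientGroup.mk' (frattini ↥R))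
    ((List.range k).map (fun i => MulAut.conjNormal (z ^ i) r))
  rw [List.map_map] at h
  exact h.symm

variable [Finite G] {p : ℕ} [Fact p.Prime]

theorem pCore_quot_eq_bot : pCore p (G ⧸ pCore p G) = ⊥ := by
  have h1 : IsPGroup p ((pCore p (G ⧸ pCore p G)).comap (QuotientGroup.mk' (pCore p G))) := by
    apply (Cfsg.H5.pCore_isPGroup p _).comap_of_ker_isPGroup
    rw [QuotientGroup.ker_mk']
    exact Cfsg.H5.pCore_isPGroup p G
  have h2 : (pCore p (G ⧸ pCore p G)).comap (QuotientGroup.mk' (pCore p G)) ≤ pCore p G :=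
    Cfsg.H5.le_pCore (Subgroup.Normal.comap inferInstance _) h1
  rw [eq_bot_iff]
  intro y hy
  obtain ⟨g, rfl⟩ := QuotientGroup.mk'_surjective _ y
  have h3 : g ∈ pCore p G := h2 (Subgroup.mem_comap.mpr hy)
  rw [Subgroup.mem_bot]
  exact (QuotientGroup.eq_one_iff g).mpr h3

theorem frat_ker_le (hsol : IsPSolvable p G) (hO : pPrimeCore p G = ⊥) :
    (frat (pCore p G)).ker ≤ pCore p G := by
  have hp : p.Prime := Fact.out
  have hRp : IsPGroup p (pCore p G) := Cfsg.H5.pCore_isPGroup p G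
  apply Cfsg.H5.le_pCore (MonoidHom.normal_ker _)
  rintro ⟨g, hg⟩
  have ho : orderOf g ≠ 0 := (orderOf_pos g).ne'
  obtain ⟨e, u, hu, heu⟩ := Nat.exists_eq_pow_mul_and_not_dvd ho p hp.ne_one
  refine ⟨e, ?_⟩
  apply Subtype.ext
  rw [Subgroup.coe_pow]
  show g ^ p ^ e = 1
  have hg'ker : g ^ p ^ e ∈ (frat (pCore p G)).ker := pow_mem hg _
  have hord : orderOf (g ^ p ^ e) = u := by
    rw [orderOf_pow_of_dvd (pow_ne_zero _ hp.ne_zero) ⟨u, heu⟩, heu]
    exact Nat.mul_div_cancel_left u (pow_pos hp.pos e)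
  have hcop : (orderOf (g ^ p ^ e)).Coprime p := by
    rw [hord]; exact ((Nat.Prime.coprime_iff_not_dvd hp).mpr hu).symm
  have hA : zpowers (g ^ p ^ e) ≤ centralizer ((pCore p G : Subgroup G) : Set G) := by
    apply Cfsg.Agent.Lib.Helper1.le_centralizer_of_commutator_le_frattini
      (zpowers (g ^ p ^ e)) (pCore p G)
    · rw [Subgroup.normalizer_eq_top]; exact le_top
    · rw [Nat.card_zpowers]
      obtain ⟨j, hj⟩ := (IsPGroup.iff_card).mp (hRp.to_subgroup (frattini ↥(pCore p G)))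
      rw [hj]; exact Nat.Coprime.pow_right j hcop
    · intro a ha k hk
      have haker : a ∈ (frat (pCore p G)).ker := (zpowers_le.mpr hg'ker) ha
      have h1 : frat (pCore p G) a (QuotientGroup.mk ⟨k, hk⟩) = QuotientGroup.mk ⟨k, hk⟩ := by
        rw [MonoidHom.mem_ker.mp haker]; rfl
      rw [frat_mk, QuotientGroup.eq_iff_div_mem] at h1
      refine ⟨_, h1, ?_⟩
      simp [MulAut.conjNormal_apply, div_eq_mul_inv]
  have hgR : g ^ p ^ e ∈ pCore p G :=
    Cfsg.H5.centralizer_pCore_le_of_isPSolvable hsol hO (hA (mem_zpowers _))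
  exact Cfsg.H5.eq_one_of_coprime_of_mem_pgroup hcop hRp hgR

theorem exists_sylow_mem {x : G} (hx : ∃ j, x ^ p ^ j = 1) :
    ∃ P : Sylow p G, x ∈ (P : Subgroup G) := by
  obtain ⟨j, hj⟩ := hx
  have h1 : IsPGroup p (zpowers x) := by
    have hdvd : orderOf x ∣ p ^ j := orderOf_dvd_of_pow_eq_one hj
    obtain ⟨i, _, hi⟩ := (Nat.dvd_prime_pow (Fact.out : p.Prime)).mp hdvd
    apply IsPGroup.of_card (n := i)
    rw [Nat.card_zpowers, hi]
  obtain ⟨P, hP⟩ := h1.exists_le_sylow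
  exact ⟨P, hP (mem_zpowers x)⟩

theorem comm_of_isPGroup_quotient {q : ℕ} [Fact q.Prime] (N : Subgroup G) [N.Normal]
    (hab : ∀ Q : Sylow q G, ∀ a ∈ (Q : Subgroup G), ∀ b ∈ (Q : Subgroup G), a * b = b * a)
    (Q : Subgroup (G ⧸ N)) (hQ : IsPGroup q Q) : ∀ a ∈ Q, ∀ b ∈ Q, a * b = b * a := by
  obtain ⟨S, hS⟩ := hQ.exists_le_sylow
  obtain ⟨S0, hS0⟩ := Sylow.mapSurjective_surjective (QuotientGroup.mk'_surjective N) q S
  have hmap : (S : Subgroup (G ⧸ N)) = (S0 : Subgroup G).map (QuotientGroup.mk' N) := by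
    rw [← hS0]; rfl
  intro a ha b hb
  have ha' : a ∈ (S0 : Subgroup G).map (QuotientGroup.mk' N) := hmap ▸ hS ha
  have hb' : b ∈ (S0 : Subgroup G).map (QuotientGroup.mk' N) := hmap ▸ hS hb
  obtain ⟨a0, ha0, rfl⟩ := ha'
  obtain ⟨b0, hb0, rfl⟩ := hb'
  rw [← map_mul, ← map_mul, hab S0 a0 ha0 b0 hb0]

end main

end Cfsg.Agent.Lib.Helper20.HHAbel
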