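import Mathlib
import Cfsg.Prelude
import Cfsg.Agent.Lib.Helper20.HHAbel

/-!
The exponent of a Sylow `p`-subgroup drops when passing to `G / O_{p',p}(G)`, for `p`-soluble groups
with abelian Sylow `q`-subgroups (`q ≠ p`); consequently `l_p(G) ≤ e_p(G)`.
-/

set_option autoImplicit false

namespace Cfsg.Agent.Lib.Helper20.HHAbel

open Cfsg Subgroup

universe u

variable {G : Type u} [Group G] [Finite G] {p : ℕ} [Fact p.Prime]

theorem pow_mem_of_ker (R : Subgroup G) [R.Normal] (hRp : IsPGroup p R)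
    (hker : (frat R).ker ≤ R) (hOpH : pCore p (G ⧸ R) = ⊥)
    (hsol : IsPSolvable p G)
    (hab : ∀ (q : ℕ) [Fact q.Prime], q ≠ p → ∀ Q : Sylow q G,
      ∀ a ∈ (Q : Subgroup G), ∀ b ∈ (Q : Subgroup G), a * b = b * a)
    (n : ℕ) (hexp : ∀ x : G, (∃ j, x ^ p ^ j = 1) → x ^ p ^ (n + 1) = 1)
    (x : G) (hx : ∃ j, x ^ p ^ j = 1) : x ^ p ^ n ∈ R := by
  classical
  by_contra hy
  have hp : p.Prime := Fact.out
  have hπs : Function.Surjective (QuotientGroup.mk' R) := QuotientGroup.mk'_surjective R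
  obtain ⟨xb, hxb⟩ : ∃ xb : G ⧸ R, xb = QuotientGroup.mk' R x := ⟨_, rfl⟩
  obtain ⟨yb, hyb⟩ : ∃ yb : G ⧸ R, yb = xb ^ p ^ n := ⟨_, rfl⟩
  have hyb1 : yb ≠ 1 := by
    intro h
    apply hy
    rw [hyb, hxb, ← map_pow] at h
    exact (QuotientGroup.eq_one_iff _).mp h
  have hxbpow : xb ^ p ^ (n + 1) = 1 := by
    rw [hxb, ← map_pow, hexp x hx, map_one]
  have hybp : yb ^ p = 1 := by
    rw [hyb, ← pow_mul, ← pow_succ]; exact hxbpow
  have hH : IsPSolvable p (G ⧸ R) := Cfsg.H5.isPSolvable_quotient R hsol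
  have hKcop : (Nat.card (pPrimeCore p (G ⧸ R))).Coprime p :=
    Cfsg.H5.coprime_card_pPrimeCore p (G ⧸ R)
  have hCK : centralizer ((pPrimeCore p (G ⧸ R) : Subgroup (G ⧸ R)) : Set (G ⧸ R)) ≤
      pPrimeCore p (G ⧸ R) := Cfsg.H5.centralizer_pPrimeCore_le_of_isPSolvable hH hOpH
  have hybK : yb ∉ pPrimeCore p (G ⧸ R) := by
    intro h
    have h1 : (orderOf yb).Coprime p := Cfsg.H5.coprime_orderOf_of_mem hKcop h
    have h2 : orderOf yb ∣ p := orderOf_dvd_of_pow_eq_one hybp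
    have h3 : orderOf yb = 1 := Nat.Coprime.eq_one_of_dvd h1 h2
    exact hyb1 (orderOf_eq_one_iff.mp h3)
  have hybC : yb ∉ centralizer ((pPrimeCore p (G ⧸ R) : Subgroup (G ⧸ R)) : Set (G ⧸ R)) :=
    fun h => hybK (hCK h)
  have hAcard : Nat.card (zpowers xb) ∣ p ^ (n + 1) := by
    rw [Nat.card_zpowers]; exact orderOf_dvd_of_pow_eq_one hxbpow
  have hcopAK : (Nat.card (zpowers xb)).Coprime (Nat.card (pPrimeCore p (G ⧸ R))) := by
    apply Nat.Coprime.coprime_dvd_left hAcard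
    exact Nat.Coprime.pow_left _ hKcop.symm
  have hact : Cfsg.Agent.Lib.Helper1.CoprimeAct (zpowers xb) (pPrimeCore p (G ⧸ R)) := by
    refine ⟨?_, hcopAK, Or.inl ?_⟩
    · rw [Subgroup.normalizer_eq_top]; exact le_top
    · exact isSolvable_of_comm (fun a b => Std.Commutative.comm a b)
  have hybA : yb ∈ zpowers xb := by rw [hyb]; exact pow_mem (mem_zpowers xb) _
  have hxbA : xb ∈ zpowers xb := mem_zpowers xb
  -- an invariant Sylow subgroup of `O_{p'}` not centralized by `yb`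
  have hex : ∃ (q : ℕ) (_ : Fact q.Prime) (Q : Sylow q ↥(pPrimeCore p (G ⧸ R))),
      zpowers xb ≤ normalizer (((Q : Subgroup ↥(pPrimeCore p (G ⧸ R))).map
        (pPrimeCore p (G ⧸ R)).subtype : Subgroup (G ⧸ R)) : Set (G ⧸ R)) ∧
      ∃ a ∈ (Q : Subgroup ↥(pPrimeCore p (G ⧸ R))).map (pPrimeCore p (G ⧸ R)).subtype,
        yb * a ≠ a * yb := by
    by_contra hno
    push Not at hno
    apply hybC
    have hCK' : pPrimeCore p (G ⧸ R) ⊓ centralizer ({yb} : Set (G ⧸ R)) ≤ pPrimeCore p (G ⧸ R) :=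
      inf_le_left
    have hdvd : Nat.card (pPrimeCore p (G ⧸ R)) ∣
        Nat.card ↥(pPrimeCore p (G ⧸ R) ⊓ centralizer ({yb} : Set (G ⧸ R))) := by
      rw [← Nat.factorization_le_iff_dvd (Nat.card_pos.ne') (Nat.card_pos.ne')]
      rw [Finsupp.le_def]
      intro q
      by_cases hq : q.Prime
      · haveI : Fact q.Prime := ⟨hq⟩
        obtain ⟨Q, hQ⟩ := hact.exists_invariant_sylow q
        have hQC : (Q : Subgroup ↥(pPrimeCore p (G ⧸ R))).map (pPrimeCore p (G ⧸ R)).subtype ≤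
            pPrimeCore p (G ⧸ R) ⊓ centralizer ({yb} : Set (G ⧸ R)) := by
          intro a ha
          refine mem_inf.mpr ⟨map_subtype_le _ ha, ?_⟩
          rw [mem_centralizer_iff]
          intro z hz
          rw [Set.mem_singleton_iff] at hz
          rw [hz]
          exact hno q ⟨hq⟩ Q hQ a ha
        have hcardQ : Nat.card ((Q : Subgroup ↥(pPrimeCore p (G ⧸ R))).map
            (pPrimeCore p (G ⧸ R)).subtype) =
            q ^ (Nat.card (pPrimeCore p (G ⧸ R))).factorization q := by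
          rw [Subgroup.card_map_of_injective (pPrimeCore p (G ⧸ R)).subtype_injective]
          exact Q.card_eq_multiplicity
        have h1 : q ^ (Nat.card (pPrimeCore p (G ⧸ R))).factorization q ∣
            Nat.card ↥(pPrimeCore p (G ⧸ R) ⊓ centralizer ({yb} : Set (G ⧸ R))) := by
          rw [← hcardQ]; exact Subgroup.card_dvd_of_le hQC
        exact (hq.pow_dvd_iff_le_factorization Nat.card_pos.ne').mp h1
      · rw [Nat.factorization_eq_zero_of_not_prime _ hq]; exact Nat.zero_le _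
    have hCeq : pPrimeCore p (G ⧸ R) ⊓ centralizer ({yb} : Set (G ⧸ R)) =
        pPrimeCore p (G ⧸ R) :=
      Subgroup.eq_of_le_of_card_ge hCK' (Nat.le_of_dvd Nat.card_pos hdvd)
    rw [mem_centralizer_iff]
    intro h hh
    have h1 : h ∈ pPrimeCore p (G ⧸ R) ⊓ centralizer ({yb} : Set (G ⧸ R)) := by
      rw [hCeq]; exact hh
    have h2 := (mem_inf.mp h1).2
    exact (mem_centralizer_iff.mp h2 yb (Set.mem_singleton _)).symm
  obtain ⟨q, hqF, Q, hAQ, a0, ha0, hne0⟩ := hex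
  haveI := hqF
  obtain ⟨Q', hQ'⟩ : ∃ Q' : Subgroup (G ⧸ R), Q' = (Q : Subgroup ↥(pPrimeCore p (G ⧸ R))).map
    (pPrimeCore p (G ⧸ R)).subtype := ⟨_, rfl⟩
  rw [← hQ'] at hAQ ha0
  have hQ'K : Q' ≤ pPrimeCore p (G ⧸ R) := by rw [hQ']; exact map_subtype_le _
  have hQ'q : IsPGroup q Q' := by rw [hQ']; exact Q.2.map _
  have hqp : q ≠ p := by
    intro hqp
    apply hne0
    have h1 : (orderOf a0).Coprime p := Cfsg.H5.coprime_orderOf_of_mem hKcop (hQ'K ha0)
    obtain ⟨j, hj⟩ := hQ'q ⟨a0, ha0⟩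
    have hj' : a0 ^ q ^ j = 1 := by simpa using congrArg Subtype.val hj
    have h2 : orderOf a0 ∣ q ^ j := orderOf_dvd_of_pow_eq_one hj'
    rw [hqp] at h2
    have h3 : orderOf a0 = 1 := Nat.Coprime.eq_one_of_dvd (Nat.Coprime.pow_right j h1) h2
    rw [orderOf_eq_one_iff.mp h3]; simp
  have hQab : ∀ a ∈ Q', ∀ b ∈ Q', a * b = b * a :=
    comm_of_isPGroup_quotient R (hab q hqp) Q' hQ'q
  have hnormQ : ∀ g ∈ zpowers xb, ∀ a ∈ Q', g * a * g⁻¹ ∈ Q' := by
    intro g hg a ha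
    exact (mem_normalizer_iff.mp (hAQ hg) a).mp ha
  obtain ⟨Q1, hQ1Q, hQ1ne, hQ1x, hQ1fpf⟩ := exists_fpf_subgroup p Q' xb yb hQab
    (by rw [hyb]; exact ((Commute.refl xb).pow_right _).eq)
    (hnormQ yb hybA) (hnormQ xb hxbA) hybp
    (by
      intro b hb hbp
      have h1 : (orderOf b).Coprime p := Cfsg.H5.coprime_orderOf_of_mem hKcop (hQ'K hb)
      have h2 : orderOf b ∣ p := orderOf_dvd_of_pow_eq_one hbp
      exact orderOf_eq_one_iff.mp (Nat.Coprime.eq_one_of_dvd h1 h2))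
    ⟨a0, ha0, hne0⟩
  have hfix := fix_of_pow hp n Q1 xb yb hyb hybp hQ1fpf
  -- the Frattini quotient
  have hVcommI : IsMulCommutative (↥R ⧸ frattini ↥R) :=
    (Subgroup.Normal.quotient_commutative_iff_commutator_le).mpr
      (Cfsg.Agent.Lib.Helper1.IsPGroup.commutator_le_frattini hRp)
  have hVcomm : ∀ a b : ↥R ⧸ frattini ↥R, a * b = b * a :=
    fun a b => hVcommI.is_comm.comm a b
  have hRker : R ≤ (frat R).ker := by
    intro r hr
    rw [MonoidHom.mem_ker]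
    ext v
    obtain ⟨s, rfl⟩ := QuotientGroup.mk_surjective v
    rw [frat_mk, MulAut.one_apply]
    have e : (MulAut.conjNormal r s : ↥R) = (⟨r, hr⟩ : ↥R) * s * (⟨r, hr⟩ : ↥R)⁻¹ := by
      apply Subtype.ext; simp [MulAut.conjNormal_apply]
    rw [e, QuotientGroup.mk_mul, QuotientGroup.mk_mul, QuotientGroup.mk_inv,
      hVcomm (QuotientGroup.mk ⟨r, hr⟩) (QuotientGroup.mk s), mul_inv_cancel_right]
  have hψb_mk : ∀ g : G, QuotientGroup.lift R (frat R) hRker (QuotientGroup.mk' R g) = frat R g :=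
    fun g => QuotientGroup.lift_mk R hRker g
  have hcopV : ∀ v : ↥R ⧸ frattini ↥R, v ^ Nat.card Q1 = 1 → v = 1 := by
    intro v hv
    have hVp : IsPGroup p (↥R ⧸ frattini ↥R) := hRp.to_quotient (frattini ↥R)
    obtain ⟨j, hj⟩ := hVp v
    have hQ1q : IsPGroup q Q1 := hQ'q.to_le hQ1Q
    obtain ⟨m, hm⟩ := (IsPGroup.iff_card).mp hQ1q
    have hg : Nat.gcd (p ^ j) (Nat.card Q1) = 1 := by
      rw [hm]
      exact Nat.Coprime.pow _ _ ((Nat.coprime_primes hp hqF.out).mpr (Ne.symm hqp))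
    have h1 := (pow_gcd_eq_one (a := v) (m := p ^ j) (n := Nat.card Q1)).mpr ⟨hj, hv⟩
    rwa [hg, pow_one] at h1
  have hnorm : ∀ b ∈ Q1, ∀ v : ↥R ⧸ frattini ↥R,
      ((List.range (p ^ (n + 1))).map
        (fun i => QuotientGroup.lift R (frat R) hRker (b * xb ^ i * b⁻¹) v)).prod = 1 := by
    intro b hb v
    obtain ⟨g, rfl⟩ := hπs b
    obtain ⟨r, rfl⟩ := QuotientGroup.mk_surjective v
    obtain ⟨z, hz⟩ : ∃ z : G, z = g * x * g⁻¹ := ⟨_, rfl⟩
    have hzp : ∃ j, z ^ p ^ j = 1 := by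
      obtain ⟨j, hj⟩ := hx
      exact ⟨j, by rw [hz, conj_pow, hj]; group⟩
    have hzk : z ^ p ^ (n + 1) = 1 := hexp z hzp
    have hrzp : ∃ j, ((r : G) * z) ^ p ^ j = 1 := by
      have h1 : ((r : G) * z) ^ p ^ (n + 1) ∈ R := by
        rw [← QuotientGroup.eq_one_iff, QuotientGroup.mk_pow, QuotientGroup.mk_mul,
          (QuotientGroup.eq_one_iff (r : G)).mpr r.2, one_mul, ← QuotientGroup.mk_pow, hzk]
        rfl
      obtain ⟨j, hj⟩ := hRp ⟨_, h1⟩
      refine ⟨n + 1 + j, ?_⟩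
      rw [pow_add, pow_mul]
      simpa using congrArg Subtype.val hj
    have hrzk : ((r : G) * z) ^ p ^ (n + 1) = 1 := hexp _ hrzp
    have hP := pow_mul_eq R z r (p ^ (n + 1))
    rw [hrzk, hzk, mul_one] at hP
    have hP' : ((List.range (p ^ (n + 1))).map (fun i => MulAut.conjNormal (z ^ i) r)).prod
        = 1 := by
      apply Subtype.ext; rw [← hP]; rfl
    have hfun : (fun i => QuotientGroup.lift R (frat R) hRker
        (QuotientGroup.mk' R g * xb ^ i * (QuotientGroup.mk' R g)⁻¹) (QuotientGroup.mk r)) =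
        (fun i => frat R (z ^ i) (QuotientGroup.mk r)) := by
      funext i
      have h1 : QuotientGroup.mk' R g * xb ^ i * (QuotientGroup.mk' R g)⁻¹ =
          QuotientGroup.mk' R (z ^ i) := by
        rw [hz, conj_pow, map_mul, map_mul, map_inv, map_pow, hxb]
      rw [h1, hψb_mk]
    rw [hfun, mk_list_prod, hP']
    rfl
  have htriv := Cfsg.Agent.Lib.Helper20.FrobNorm.acts_trivially hVcomm
    (QuotientGroup.lift R (frat R) hRker) Q1 xb (p ^ (n + 1)) (pow_pos hp.pos _)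
    hQ1x hfix hcopV hnorm
  apply hQ1ne
  rw [eq_bot_iff]
  intro c hc
  obtain ⟨g, rfl⟩ := hπs c
  have hgker : g ∈ (frat R).ker := by
    rw [MonoidHom.mem_ker]
    ext v
    rw [← hψb_mk, htriv _ hc v, MulAut.one_apply]
  have hgR : g ∈ R := hker hgker
  rw [mem_bot]
  exact (QuotientGroup.eq_one_iff g).mpr hgR

end Cfsg.Agent.Lib.Helper20.HHAbel
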