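import Mathlib
import Cfsg.Prelude
import Cfsg.Agent.Lib.Helper20.HHAbelMain

/-!
`l_p(G) ≤ e_p(G)` for `p`-soluble groups with abelian Sylow `q`-subgroups, `q ≠ p`.
-/

set_option autoImplicit false

namespace Cfsg.Agent.Lib.Helper20.HHAbel

open Cfsg Subgroup
open Cfsg.Agent.Lib.Helper20.PLen

universe u

section

variable {G : Type u} [Group G] [Finite G] {p : ℕ} [Fact p.Prime]

theorem pow_mem_pCore (hsol : IsPSolvable p G) (hO : pPrimeCore p G = ⊥)
    (hab : ∀ (q : ℕ) [Fact q.Prime], q ≠ p → ∀ Q : Sylow q G,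
      ∀ a ∈ (Q : Subgroup G), ∀ b ∈ (Q : Subgroup G), a * b = b * a)
    (n : ℕ) (hexp : ∀ x : G, (∃ j, x ^ p ^ j = 1) → x ^ p ^ (n + 1) = 1)
    (x : G) (hx : ∃ j, x ^ p ^ j = 1) : x ^ p ^ n ∈ pCore p G :=
  pow_mem_of_ker (pCore p G) (Cfsg.H5.pCore_isPGroup p G) (frat_ker_le hsol hO)
    pCore_quot_eq_bot hsol hab n hexp x hx

/-- transfer of the hypotheses to a quotient -/
theorem hab_quotient (N : Subgroup G) [N.Normal]
    (hab : ∀ (q : ℕ) [Fact q.Prime], q ≠ p → ∀ Q : Sylow q G,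
      ∀ a ∈ (Q : Subgroup G), ∀ b ∈ (Q : Subgroup G), a * b = b * a) :
    ∀ (q : ℕ) [Fact q.Prime], q ≠ p → ∀ Q : Sylow q (G ⧸ N),
      ∀ a ∈ (Q : Subgroup (G ⧸ N)), ∀ b ∈ (Q : Subgroup (G ⧸ N)), a * b = b * a :=
  fun q _ hq Q => comm_of_isPGroup_quotient N (hab q hq) Q Q.2

theorem exists_lift_sylow (N : Subgroup G) [N.Normal] (Pb : Sylow p (G ⧸ N)) (xb : G ⧸ N)
    (hxb : xb ∈ (Pb : Subgroup (G ⧸ N))) :
    ∃ (P : Sylow p G) (x : G), x ∈ (P : Subgroup G) ∧ QuotientGroup.mk' N x = xb := by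
  obtain ⟨P0, hP0⟩ := Sylow.mapSurjective_surjective (QuotientGroup.mk'_surjective N) p Pb
  have hmap : (Pb : Subgroup (G ⧸ N)) = (P0 : Subgroup G).map (QuotientGroup.mk' N) := by
    rw [← hP0]; rfl
  have h1 : xb ∈ (P0 : Subgroup G).map (QuotientGroup.mk' N) := hmap ▸ hxb
  obtain ⟨x0, hx0, rfl⟩ := h1
  exact ⟨P0, x0, hx0, rfl⟩

end

theorem pLengthLE_of_exponent {p : ℕ} [Fact p.Prime] (n : ℕ) :
    ∀ (G : Type u) [Group G] [Finite G], IsPSolvable p G →
    (∀ (q : ℕ) [Fact q.Prime], q ≠ p → ∀ Q : Sylow q G,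
      ∀ a ∈ (Q : Subgroup G), ∀ b ∈ (Q : Subgroup G), a * b = b * a) →
    (∀ (P : Sylow p G), ∀ x ∈ (P : Subgroup G), x ^ p ^ n = 1) → PLengthLE p n G := by
  have hp : p.Prime := Fact.out
  induction n with
  | zero =>
    intro G _ _ hsol hab hexp
    rw [pLengthLE_zero_iff]
    apply Nat.Coprime.symm
    rw [Nat.Prime.coprime_iff_not_dvd hp]
    intro hdvd
    obtain ⟨g, hg⟩ := exists_prime_orderOf_dvd_card' p hdvd
    obtain ⟨P, hP⟩ := exists_sylow_mem (p := p) (x := g)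
      ⟨1, by rw [pow_one, ← hg]; exact pow_orderOf_eq_one g⟩
    have h1 := hexp P g hP
    rw [pow_zero, pow_one] at h1
    rw [h1, orderOf_one] at hg
    exact hp.one_lt.ne' hg.symm
  | succ n ih =>
    intro G _ _ hsol hab hexp
    -- the quotient by `O_{p'}`
    have hsolb : IsPSolvable p (G ⧸ pPrimeCore p G) :=
      Cfsg.H5.isPSolvable_quotient (pPrimeCore p G) hsol
    have hOb : pPrimeCore p (G ⧸ pPrimeCore p G) = ⊥ :=
      Cfsg.Agent.Lib.Helper10.pPrimeCore_quotient_eq_bot p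
    have habb := hab_quotient (pPrimeCore p G) hab
    have hexpb : ∀ xb : G ⧸ pPrimeCore p G, (∃ j, xb ^ p ^ j = 1) → xb ^ p ^ (n + 1) = 1 := by
      intro xb hxb
      obtain ⟨Pb, hPb⟩ := exists_sylow_mem hxb
      obtain ⟨P0, x0, hx0, rfl⟩ := exists_lift_sylow (pPrimeCore p G) Pb xb hPb
      rw [← map_pow, hexp P0 x0 hx0, map_one]
    obtain ⟨M2, hM2⟩ : ∃ M2 : Subgroup G, M2 = (pCore p (G ⧸ pPrimeCore p G)).comap
      (QuotientGroup.mk' (pPrimeCore p G)) := ⟨_, rfl⟩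
    haveI hM2n : M2.Normal := by rw [hM2]; exact Subgroup.Normal.comap inferInstance _
    have hE : ∀ P : Sylow p G, ∀ x ∈ (P : Subgroup G), x ^ p ^ n ∈ M2 := by
      intro P x hxP
      have h1 := pow_mem_pCore hsolb hOb habb n hexpb (QuotientGroup.mk' (pPrimeCore p G) x)
        ⟨n + 1, by rw [← map_pow, hexp P x hxP, map_one]⟩
      rw [← map_pow] at h1
      rw [hM2]
      exact Subgroup.mem_comap.mpr h1
    -- `M2` has `p`-length at most one
    have hN1M2 : pPrimeCore p G ≤ M2 := by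
      rw [hM2]
      intro g hg
      rw [Subgroup.mem_comap]
      have : QuotientGroup.mk' (pPrimeCore p G) g = 1 := (QuotientGroup.eq_one_iff g).mpr hg
      rw [this]; exact one_mem _
    have hlenM2 : PLengthLE p 1 ↥M2 := by
      have h0 : PLengthLE p 0 ↥((pPrimeCore p G).subgroupOf M2) := by
        rw [pLengthLE_zero_iff]
        rw [Nat.card_congr (Subgroup.subgroupOfEquivOfLe hN1M2).toEquiv]
        exact Cfsg.H5.coprime_card_pPrimeCore p G
      have h1 : PLengthLE p 1 (↥M2 ⧸ (pPrimeCore p G).subgroupOf M2) := by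
        apply pLengthLE_one_of_isPGroup
        intro y
        obtain ⟨⟨m, hm⟩, rfl⟩ := QuotientGroup.mk_surjective y
        have hm' : QuotientGroup.mk' (pPrimeCore p G) m ∈ pCore p (G ⧸ pPrimeCore p G) := by
          rw [hM2] at hm; exact Subgroup.mem_comap.mp hm
        obtain ⟨j, hj⟩ := (Cfsg.H5.pCore_isPGroup p (G ⧸ pPrimeCore p G)) ⟨_, hm'⟩
        refine ⟨j, ?_⟩
        rw [← QuotientGroup.mk_pow, QuotientGroup.eq_one_iff, Subgroup.mem_subgroupOf]
        have h2 : (QuotientGroup.mk' (pPrimeCore p G) m) ^ p ^ j = 1 := by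
          simpa using congrArg Subtype.val hj
        rw [← map_pow] at h2
        simpa using (QuotientGroup.eq_one_iff _).mp h2
      have := pLengthLE_of_extension ((pPrimeCore p G).subgroupOf M2) h0 h1
      simpa using this
    -- the quotient by `M2`
    have hlenQ : PLengthLE p n (G ⧸ M2) := by
      apply ih (G ⧸ M2) (Cfsg.H5.isPSolvable_quotient M2 hsol) (hab_quotient M2 hab)
      intro Pb xb hxb
      obtain ⟨P0, x0, hx0, rfl⟩ := exists_lift_sylow M2 Pb xb hxb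
      rw [← map_pow]
      exact (QuotientGroup.eq_one_iff _).mpr (hE P0 x0 hx0)
    have := pLengthLE_of_extension M2 hlenM2 hlenQ
    rwa [Nat.add_comm] at this

end Cfsg.Agent.Lib.Helper20.HHAbel
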