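import Mathlib
import Cfsg.Agent.Lib.Helper23.HBInd4

/-!
Theorem B of Hall and Higman for an element acting quadratically: such an element of a group of
linear maps in odd characteristic `p` can only act nontrivially on a `q`-subgroup it normalizes
when `p = 3`, `q = 2` and the `q`-subgroup is nonabelian.
-/

set_option autoImplicit false

namespace Cfsg.Agent.Lib.Helper20.HHQuad

open Cfsg.Agent.Lib.Helper23.HB Module

theorem one_add_pow_of_sq_zero {R : Type*} [Ring R] {T : R} (hT : T * T = 0) (n : ℕ) :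
    (1 + T) ^ n = 1 + n • T := by
  induction n with
  | zero => simp
  | succ n ih =>
    have e : (n • T) * T = 0 := by rw [smul_mul_assoc, hT, smul_zero]
    rw [pow_succ, ih, add_mul, mul_add, mul_add, e, succ_nsmul]
    simp only [mul_one, one_mul, add_zero]
    abel

theorem pow_eq_zero_of_sq_zero {R : Type*} [Ring R] {T : R} (hT : T * T = 0) {n : ℕ}
    (hn : 2 ≤ n) : T ^ n = 0 := by
  obtain ⟨k, rfl⟩ := Nat.exists_eq_add_of_le hn
  rw [pow_add, pow_two, hT, zero_mul]

theorem hh_quadratic {F : Type*} [Field F] {p : ℕ} [Fact p.Prime] [CharP F p] (hp2 : p ≠ 2)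
    {V : Type*} [AddCommGroup V] [Module F V] [FiniteDimensional F V]
    {Γ : Type*} [Group Γ] (ρ : Γ →* Module.End F V) {q : ℕ} (hq : q.Prime) (hqp : q ≠ p)
    (Q : Subgroup Γ) [Finite Q] (hQ : IsPGroup q Q) (x : Γ)
    (hx : x ∈ Subgroup.normalizer (Q : Set Γ)) (hquad : (ρ x - 1) * (ρ x - 1) = 0)
    (hy : ∃ g ∈ Q, ρ (x * g * x⁻¹) ≠ ρ g) :
    p = 3 ∧ q = 2 ∧ ∃ a ∈ Q, ∃ b ∈ Q, ρ (a * b) ≠ ρ (b * a) := by
  have hp : p.Prime := Fact.out
  have hxp : ρ x ^ p = 1 := by
    have e : ρ x = 1 + (ρ x - 1) := by abel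
    rw [e, one_add_pow_of_sq_zero hquad]
    have : (p : ℕ) • (ρ x - 1) = 0 := by
      ext v
      rw [LinearMap.smul_apply, LinearMap.zero_apply]
      have : (p : ℕ) • ((ρ x - 1) v) = ((p : ℕ) : F) • ((ρ x - 1) v) := by
        rw [Nat.cast_smul_eq_nsmul]
      rw [this, CharP.cast_eq_zero, zero_smul]
    rw [this, add_zero]
  let K := AlgebraicClosure F
  have hcharK : CharP K p := charP_of_injective_algebraMap (algebraMap F K).injective p
  let W := TensorProduct F K V
  let bc : Module.End F V →ₐ[F] Module.End K W := Module.End.baseChangeHom F K V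
  have hbcinj : Function.Injective bc := LinearMap.baseChangeHom_injective F V K
  let ρK : Γ →* Module.End K W := (bc : Module.End F V →* Module.End K W).comp ρ
  have hρK : ∀ g, ρK g = bc (ρ g) := fun g => rfl
  have h1 : ρK x ^ (p ^ 1) = 1 := by rw [pow_one, hρK, ← map_pow, hxp, map_one]
  have h2 : ∃ g ∈ Q, ρK (x ^ (p ^ (1 - 1)) * g * (x ^ (p ^ (1 - 1)))⁻¹) ≠ ρK g := by
    obtain ⟨g, hg, hne⟩ := hy
    refine ⟨g, hg, ?_⟩
    rw [Nat.sub_self, pow_zero, pow_one]
    intro h
    exact hne (hbcinj h)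
  have hres := hallHigmanC (E := K) (p := p) ρK hq hqp Q hQ x hx (le_refl 1) h1 h2
  have e : ρK x - 1 = bc (ρ x - 1) := by
    rw [map_sub, map_one]
    rfl
  have hp3 : 3 ≤ p := by
    have := hp.two_le
    omega
  rcases hres with h | ⟨hnonab, n₀, m, hn1, hn2, hm, heq, hT⟩
  · exfalso
    apply h
    rw [pow_one, e, ← map_pow, pow_eq_zero_of_sq_zero hquad (by omega), map_zero]
  · have hn0 : n₀ = 1 := le_antisymm hn2 hn1
    subst hn0
    rw [pow_one] at heq
    rw [Nat.sub_self, pow_zero, one_mul, pow_one, e, ← map_pow] at hT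
    have hp3' : p = 3 := by
      by_contra hne
      apply hT
      rw [pow_eq_zero_of_sq_zero hquad (by omega), map_zero]
    subst hp3'
    have hq2 : q = 2 := by
      have h2 : q ∣ 2 := by
        have : q ∣ q ^ m := dvd_pow_self q (by omega)
        rw [← heq] at this
        exact this
      exact (Nat.prime_dvd_prime_iff_eq hq Nat.prime_two).mp h2
    refine ⟨rfl, hq2, ?_⟩
    obtain ⟨a, ha, b, hb, hab⟩ := hnonab
    exact ⟨a, ha, b, hb, fun h => hab (by rw [hρK, hρK, h])⟩

end Cfsg.Agent.Lib.Helper20.HHQuad
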