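import Mathlib

/-!
A `3`-group permuting three "axes" `±X 0, ±X 1, ±X 2` of a ring by conjugation: its commutator
subgroup fixes every axis.
-/

set_option autoImplicit false
set_option linter.unusedVariables false

namespace Cfsg.Agent.Lib.Helper20.K3Axes

open Subgroup

theorem perm_three_cube : ∀ e : Equiv.Perm (Fin 3), e ^ 3 = 1 ∨ e ^ 2 = 1 := by decide

theorem perm_three_comm : ∀ u v : Equiv.Perm (Fin 3), u ^ 3 = 1 → v ^ 3 = 1 → u * v = v * u := by
  decide

theorem perm_cube_of_pow (e : Equiv.Perm (Fin 3)) (k : ℕ) (h : e ^ (3 ^ k) = 1) : e ^ 3 = 1 := by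
  rcases perm_three_cube e with h3 | h2
  · exact h3
  · have hodd : Odd (3 ^ k) := Odd.pow (by decide)
    obtain ⟨m, hm⟩ := hodd
    rw [hm, pow_succ, pow_mul, h2, one_pow, one_mul] at h
    rw [h, one_pow]

variable {Γ : Type*} [Group Γ] {R : Type*} [Ring R] (σ : Γ →* R) (X : Fin 3 → R)

/-- `g` sends the axis `i` to the axis `j`. -/
def Rel (g : Γ) (i j : Fin 3) : Prop :=
  σ g * X i * σ g⁻¹ = X j ∨ σ g * X i * σ g⁻¹ = -X j

variable {σ X}

theorem rel_one (i : Fin 3) : Rel σ X 1 i i := by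
  left
  rw [inv_one, map_one, one_mul, mul_one]

theorem rel_mul {g h : Γ} {i j k : Fin 3} (h1 : Rel σ X g i j) (h2 : Rel σ X h j k) :
    Rel σ X (h * g) i k := by
  have e : σ (h * g) * X i * σ (h * g)⁻¹ = σ h * (σ g * X i * σ g⁻¹) * σ h⁻¹ := by
    rw [mul_inv_rev, map_mul, map_mul]
    noncomm_ring
  unfold Rel
  rw [e]
  rcases h1 with h1 | h1 <;> rcases h2 with h2 | h2
  · left; rw [h1, h2]
  · right; rw [h1, h2]
  · right; rw [h1, mul_neg, neg_mul, h2]
  · left; rw [h1, mul_neg, neg_mul, h2, neg_neg]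

theorem rel_unique (hinj : ∀ i j, (X i = X j ∨ X i = -X j) → i = j) {g : Γ} {i j j' : Fin 3}
    (h1 : Rel σ X g i j) (h2 : Rel σ X g i j') : j = j' := by
  apply hinj
  rcases h1 with h1 | h1 <;> rcases h2 with h2 | h2
  · left; rw [← h1, h2]
  · right; rw [← h1, h2]
  · right; rw [← h2, h1, neg_neg]
  · left
    have : -X j = -X j' := by rw [← h1, h2]
    exact neg_injective this

theorem rel_self_inv {g : Γ} {i : Fin 3} (h1 : Rel σ X g i i) : Rel σ X g⁻¹ i i := by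
  have hgg : σ g⁻¹ * σ g = 1 := by rw [← map_mul, inv_mul_cancel, map_one]
  have hgg' : σ g * σ g⁻¹ = 1 := by rw [← map_mul, mul_inv_cancel, map_one]
  have e : σ g⁻¹ * (σ g * X i * σ g⁻¹) * σ g = X i := by
    calc σ g⁻¹ * (σ g * X i * σ g⁻¹) * σ g = (σ g⁻¹ * σ g) * X i * (σ g⁻¹ * σ g) := by
          noncomm_ring
      _ = X i := by rw [hgg, one_mul, mul_one]
  unfold Rel
  rw [inv_inv]
  rcases h1 with h1 | h1
  · left
    rw [h1] at e
    exact e
  · right
    rw [h1, mul_neg, neg_mul] at e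
    exact neg_eq_iff_eq_neg.mp e

/-- the subgroup fixing all axes -/
def fixAxes (σ : Γ →* R) (X : Fin 3 → R) : Subgroup Γ where
  carrier := {g | ∀ i, Rel σ X g i i}
  one_mem' := fun i => rel_one i
  mul_mem' := fun {g h} hg hh i => rel_mul (hh i) (hg i)
  inv_mem' := fun {g} hg i => rel_self_inv (hg i)

theorem commutator_le_fixAxes (hinj : ∀ i j, (X i = X j ∨ X i = -X j) → i = j)
    (B : Subgroup Γ) (hB3 : IsPGroup 3 B)
    (hrel : ∀ b ∈ B, ∀ i, ∃ j, Rel σ X b i j) : ⁅B, B⁆ ≤ fixAxes σ X := by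
  -- the permutation attached to an element of `B`
  have hperm : ∀ b ∈ B, ∃ e : Equiv.Perm (Fin 3), (∀ i, Rel σ X b i (e i)) ∧
      (∀ i, Rel σ X b⁻¹ i (e⁻¹ i)) ∧ e ^ 3 = 1 := by
    intro b hb
    choose u hu using hrel b hb
    choose u' hu' using hrel b⁻¹ (inv_mem hb)
    have h1 : ∀ i, u (u' i) = i := by
      intro i
      have h := rel_mul (hu' i) (hu (u' i))
      rw [mul_inv_cancel] at h
      exact rel_unique hinj h (rel_one i)
    have h2 : ∀ i, u' (u i) = i := by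
      intro i
      have h := rel_mul (hu i) (hu' (u i))
      rw [inv_mul_cancel] at h
      exact rel_unique hinj h (rel_one i)
    let e : Equiv.Perm (Fin 3) := ⟨u, u', h2, h1⟩
    have hpow : ∀ m : ℕ, ∀ i, Rel σ X (b ^ m) i ((e ^ m) i) := by
      intro m
      induction m with
      | zero => intro i; rw [pow_zero, pow_zero]; exact rel_one i
      | succ m ih =>
        intro i
        rw [pow_succ', pow_succ']
        exact rel_mul (ih i) (hu _)
    obtain ⟨k, hk⟩ := hB3 ⟨b, hb⟩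
    have hk' : b ^ 3 ^ k = 1 := by simpa using congrArg Subtype.val hk
    have he : e ^ 3 ^ k = 1 := by
      ext i
      have h := hpow (3 ^ k) i
      rw [hk'] at h
      rw [rel_unique hinj h (rel_one i)]
      rfl
    exact ⟨e, hu, hu', perm_cube_of_pow e k he⟩
  rw [Subgroup.commutator_le]
  intro b₁ hb₁ b₂ hb₂
  obtain ⟨e₁, hu, hu', he₁⟩ := hperm b₁ hb₁
  obtain ⟨e₂, hv, hv', he₂⟩ := hperm b₂ hb₂
  have hc := perm_three_comm e₁ e₂ he₁ he₂
  intro i
  rw [commutatorElement_def]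
  have h := rel_mul (rel_mul (rel_mul (hv' i) (hu' _)) (hv _)) (hu _)
  have e : e₁ (e₂ (e₁⁻¹ (e₂⁻¹ i))) = i := by
    have : e₁ * e₂ * e₁⁻¹ * e₂⁻¹ = 1 := by
      rw [hc, mul_assoc e₂, mul_inv_cancel, mul_one, mul_inv_cancel]
    have h3 := congrArg (fun f : Equiv.Perm (Fin 3) => f i) this
    simpa using h3
  rw [e] at h
  have e2 : b₁ * (b₂ * (b₁⁻¹ * b₂⁻¹)) = b₁ * b₂ * b₁⁻¹ * b₂⁻¹ := by group
  rw [e2] at h
  exact h

end Cfsg.Agent.Lib.Helper20.K3Axes
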