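import Mathlib

/-!
Quaternion units in a ring of characteristic three: the element `1 - (I + J + J * I)` and
the automorphism of order three it induces.
-/

set_option autoImplicit false
set_option linter.unusedSimpArgs false
set_option linter.unusedVariables false

namespace Cfsg.Agent.Lib.Helper20.QuatAlg

variable {R : Type*} [Ring R]

/-- quaternion units in a ring of characteristic three -/
structure QT (I J : R) : Prop where
  three : (3 : R) = 0
  II : I * I = -1
  JJ : J * J = -1
  IJ : I * J = -(J * I)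

/-- the sum of the three units -/
def ss (I J : R) : R := I + J + J * I

/-- conjugation by `1 - t` when `t * t = 0` -/
def cj (t u : R) : R := (1 - t) * u * (1 + t)

/-- the six units `±I, ±J, ±K` -/
def Ax (I J u : R) : Prop :=
  u = I ∨ u = -I ∨ u = J ∨ u = -J ∨ u = J * I ∨ u = -(J * I)

theorem cj_neg (t u : R) : cj t (-u) = -cj t u := by
  unfold cj; noncomm_ring

namespace QT

variable {I J : R} (h : QT I J)

include h

theorem triple (x : R) : x + x + x = 0 := by
  have e : x + x + x = 3 * x := by noncomm_ring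
  rw [e, h.three, zero_mul]

theorem II' (x : R) : I * (I * x) = -x := by rw [← mul_assoc, h.II, neg_mul, one_mul]

theorem JJ' (x : R) : J * (J * x) = -x := by rw [← mul_assoc, h.JJ, neg_mul, one_mul]

theorem IJ' (x : R) : I * (J * x) = -(J * (I * x)) := by
  rw [← mul_assoc, h.IJ, neg_mul, mul_assoc]

theorem ss_mul_ss : ss I J * ss I J = 0 := by
  have e : ss I J * ss I J = -(1 + 1 + 1) := by
    simp only [ss, mul_add, add_mul, mul_assoc, h.II, h.JJ, h.IJ, h.II', h.JJ', h.IJ', mul_neg,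
      neg_mul, neg_neg, mul_one, one_mul]
    abel
  rw [e, h.triple, neg_zero]

theorem one_add_mul_one_sub : (1 + ss I J) * (1 - ss I J) = 1 := by
  have e : (1 + ss I J) * (1 - ss I J) = 1 - ss I J * ss I J := by noncomm_ring
  rw [e, h.ss_mul_ss, sub_zero]

theorem one_sub_mul_one_add : (1 - ss I J) * (1 + ss I J) = 1 := by
  have e : (1 - ss I J) * (1 + ss I J) = 1 - ss I J * ss I J := by noncomm_ring
  rw [e, h.ss_mul_ss, sub_zero]

theorem cj_I : cj (ss I J) I = J := by
  have e : cj (ss I J) I = J + (J + J + J) := by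
    simp only [cj, ss, mul_add, add_mul, mul_sub, sub_mul, mul_assoc, h.II, h.JJ, h.IJ, h.II',
      h.JJ', h.IJ', mul_neg, neg_mul, neg_neg, mul_one, one_mul]
    abel
  rw [e, h.triple, add_zero]

theorem cj_J : cj (ss I J) J = J * I := by
  have e : cj (ss I J) J = J * I + (J * I + J * I + J * I) := by
    simp only [cj, ss, mul_add, add_mul, mul_sub, sub_mul, mul_assoc, h.II, h.JJ, h.IJ, h.II',
      h.JJ', h.IJ', mul_neg, neg_mul, neg_neg, mul_one, one_mul]
    abel
  rw [e, h.triple, add_zero]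

theorem cj_K : cj (ss I J) (J * I) = I := by
  have e : cj (ss I J) (J * I) = I + (I + I + I) := by
    simp only [cj, ss, mul_add, add_mul, mul_sub, sub_mul, mul_assoc, h.II, h.JJ, h.IJ, h.II',
      h.JJ', h.IJ', mul_neg, neg_mul, neg_neg, mul_one, one_mul]
    abel
  rw [e, h.triple, add_zero]

theorem ax_cj {u : R} (hu : Ax I J u) : Ax I J (cj (ss I J) u) := by
  rcases hu with rfl | rfl | rfl | rfl | rfl | rfl
  · rw [h.cj_I]; exact Or.inr (Or.inr (Or.inl rfl))
  · rw [cj_neg, h.cj_I]; exact Or.inr (Or.inr (Or.inr (Or.inl rfl)))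
  · rw [h.cj_J]; exact Or.inr (Or.inr (Or.inr (Or.inr (Or.inl rfl))))
  · rw [cj_neg, h.cj_J]; exact Or.inr (Or.inr (Or.inr (Or.inr (Or.inr rfl))))
  · rw [h.cj_K]; exact Or.inl rfl
  · rw [cj_neg, h.cj_K]; exact Or.inr (Or.inl rfl)

theorem cj_pp {m : R} (hI : m * I = I * m) (hJ : m * J = J * m) :
    cj (ss I J) m = m := by
  have hI' : ∀ x, m * (I * x) = I * (m * x) := fun x => by rw [← mul_assoc, hI, mul_assoc]
  have hJ' : ∀ x, m * (J * x) = J * (m * x) := fun x => by rw [← mul_assoc, hJ, mul_assoc]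
  have e : cj (ss I J) m = m + (m + m + m) := by
    simp only [cj, ss, mul_add, add_mul, mul_sub, sub_mul, mul_assoc, hI, hJ, hI', hJ',
      h.II, h.JJ, h.IJ, h.II', h.JJ', h.IJ', mul_neg, neg_mul, neg_neg, mul_one, one_mul]
    abel
  rw [e, h.triple, add_zero]

theorem cj_pm {m : R} (hI : m * I = I * m) (hJ : m * J = -(J * m)) :
    cj (ss I J) m = -(J * I * m) := by
  have hI' : ∀ x, m * (I * x) = I * (m * x) := fun x => by rw [← mul_assoc, hI, mul_assoc]
  have hJ' : ∀ x, m * (J * x) = -(J * (m * x)) := fun x => by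
    rw [← mul_assoc, hJ, neg_mul, mul_assoc]
  have e : cj (ss I J) m = -(J * I * m) - (J * I * m + J * I * m + J * I * m) := by
    simp only [cj, ss, mul_add, add_mul, mul_sub, sub_mul, mul_assoc, hI, hJ, hI', hJ',
      h.II, h.JJ, h.IJ, h.II', h.JJ', h.IJ', mul_neg, neg_mul, neg_neg, mul_one, one_mul]
    abel
  rw [e, h.triple, sub_zero]

theorem cj_mp {m : R} (hI : m * I = -(I * m)) (hJ : m * J = J * m) :
    cj (ss I J) m = -(I * m) := by
  have hI' : ∀ x, m * (I * x) = -(I * (m * x)) := fun x => by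
    rw [← mul_assoc, hI, neg_mul, mul_assoc]
  have hJ' : ∀ x, m * (J * x) = J * (m * x) := fun x => by rw [← mul_assoc, hJ, mul_assoc]
  have e : cj (ss I J) m = -(I * m) - (I * m + I * m + I * m) := by
    simp only [cj, ss, mul_add, add_mul, mul_sub, sub_mul, mul_assoc, hI, hJ, hI', hJ',
      h.II, h.JJ, h.IJ, h.II', h.JJ', h.IJ', mul_neg, neg_mul, neg_neg, mul_one, one_mul]
    abel
  rw [e, h.triple, sub_zero]

theorem cj_mm {m : R} (hI : m * I = -(I * m)) (hJ : m * J = -(J * m)) :
    cj (ss I J) m = -(J * m) := by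
  have hI' : ∀ x, m * (I * x) = -(I * (m * x)) := fun x => by
    rw [← mul_assoc, hI, neg_mul, mul_assoc]
  have hJ' : ∀ x, m * (J * x) = -(J * (m * x)) := fun x => by
    rw [← mul_assoc, hJ, neg_mul, mul_assoc]
  have e : cj (ss I J) m = -(J * m) - (J * m + J * m + J * m) := by
    simp only [cj, ss, mul_add, add_mul, mul_sub, sub_mul, mul_assoc, hI, hJ, hI', hJ',
      h.II, h.JJ, h.IJ, h.II', h.JJ', h.IJ', mul_neg, neg_mul, neg_neg, mul_one, one_mul]
    abel
  rw [e, h.triple, sub_zero]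

/-- the commutator of a unit with sign pattern against `1 - s` is `1`, `I`, `J` or `K`. -/
theorem cj_cases {m m' : R} (h2 : m' * m = 1)
    (hI : m * I = I * m ∨ m * I = -(I * m)) (hJ : m * J = J * m ∨ m * J = -(J * m)) :
    m' * cj (ss I J) m = 1 ∨ m' * cj (ss I J) m = I ∨ m' * cj (ss I J) m = J ∨
      m' * cj (ss I J) m = J * I := by
  rcases hI with hI | hI <;> rcases hJ with hJ | hJ
  · left
    rw [h.cj_pp hI hJ, h2]
  · right; right; right
    rw [h.cj_pm hI hJ]
    have e : J * I * m = -(m * (J * I)) := by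
      have e1 : m * (J * I) = -(J * I * m) := by
        rw [← mul_assoc, hJ, neg_mul, mul_assoc, hI, mul_assoc]
      rw [e1, neg_neg]
    rw [e, neg_neg, ← mul_assoc, h2, one_mul]
  · right; left
    rw [h.cj_mp hI hJ]
    have e : I * m = -(m * I) := by rw [hI, neg_neg]
    rw [e, neg_neg, ← mul_assoc, h2, one_mul]
  · right; right; left
    rw [h.cj_mm hI hJ]
    have e : J * m = -(m * J) := by rw [hJ, neg_neg]
    rw [e, neg_neg, ← mul_assoc, h2, one_mul]

theorem one_add_mul_I : (1 + ss I J) * I = J * I * (1 + ss I J) := by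
  have e := h.cj_K
  unfold cj at e
  calc (1 + ss I J) * I = (1 + ss I J) * ((1 - ss I J) * (J * I) * (1 + ss I J)) := by rw [e]
    _ = ((1 + ss I J) * (1 - ss I J)) * (J * I) * (1 + ss I J) := by noncomm_ring
    _ = J * I * (1 + ss I J) := by rw [h.one_add_mul_one_sub, one_mul]

theorem one_add_mul_J : (1 + ss I J) * J = I * (1 + ss I J) := by
  have e := h.cj_I
  unfold cj at e
  calc (1 + ss I J) * J = (1 + ss I J) * ((1 - ss I J) * I * (1 + ss I J)) := by rw [e]
    _ = ((1 + ss I J) * (1 - ss I J)) * I * (1 + ss I J) := by noncomm_ring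
    _ = I * (1 + ss I J) := by rw [h.one_add_mul_one_sub, one_mul]

theorem JIJ : J * I * J = I := by
  rw [mul_assoc, h.IJ, mul_neg, ← mul_assoc, h.JJ, neg_mul, one_mul, neg_neg]

/-- a unit `A` with `(A - 1) ^ 2 = 0` permuting `I, J, K` cyclically is `1 - s`. -/
theorem eq_one_sub_ss {A A' : R} (h1 : A * A' = 1)
    (hq : (A - 1) * (A - 1) = 0) (hAI : A * I = J * A) (hAJ : A * J = J * I * A) :
    A = 1 - ss I J := by
  have hAK : A * (J * I) = I * A := by
    calc A * (J * I) = (A * J) * I := by rw [mul_assoc]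
      _ = J * I * (A * I) := by rw [hAJ, mul_assoc]
      _ = (J * I * J) * A := by rw [hAI]; noncomm_ring
      _ = I * A := by rw [h.JIJ]
  obtain ⟨c, hc⟩ : ∃ c : R, c = A * (1 + ss I J) := ⟨_, rfl⟩
  have hcI : I * c = c * I := by
    symm
    calc c * I = A * ((1 + ss I J) * I) := by rw [hc, mul_assoc]
      _ = A * (J * I) * (1 + ss I J) := by rw [h.one_add_mul_I]; noncomm_ring
      _ = I * (A * (1 + ss I J)) := by rw [hAK, mul_assoc]
      _ = I * c := by rw [hc]
  have hcJ : J * c = c * J := by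
    symm
    calc c * J = A * ((1 + ss I J) * J) := by rw [hc, mul_assoc]
      _ = A * I * (1 + ss I J) := by rw [h.one_add_mul_J]; noncomm_ring
      _ = J * (A * (1 + ss I J)) := by rw [hAI, mul_assoc]
      _ = J * c := by rw [hc]
  have hcI' : ∀ x, I * (c * x) = c * (I * x) := fun x => by rw [← mul_assoc, hcI, mul_assoc]
  have hcJ' : ∀ x, J * (c * x) = c * (J * x) := fun x => by rw [← mul_assoc, hcJ, mul_assoc]
  have hAc : A = c * (1 - ss I J) := by
    rw [hc, mul_assoc, h.one_add_mul_one_sub, mul_one]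
  have hsc : ss I J * c = c * ss I J := by
    simp only [ss, mul_add, add_mul, mul_assoc, hcI, hcJ, hcI', hcJ']
  have hA2 : c * c * (1 + ss I J) + c * (1 - ss I J) + 1 = 0 := by
    have e1 : A * A + A + 1 = (A - 1) * (A - 1) + (A + A + A) := by noncomm_ring
    have e2 : A * A = c * c * (1 + ss I J) := by
      have e3 : (1 - ss I J) * c = c * (1 - ss I J) := by
        rw [sub_mul, mul_sub, hsc, one_mul, mul_one]
      have e4 : (1 - ss I J) * (1 - ss I J) = 1 + ss I J := by
        have e5 : (1 - ss I J) * (1 - ss I J) =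
            1 + ss I J + ss I J * ss I J - (ss I J + ss I J + ss I J) := by noncomm_ring
        rw [e5, h.ss_mul_ss, h.triple, add_zero, sub_zero]
      calc A * A = c * ((1 - ss I J) * c) * (1 - ss I J) := by rw [hAc]; noncomm_ring
        _ = c * c * ((1 - ss I J) * (1 - ss I J)) := by rw [e3]; noncomm_ring
        _ = c * c * (1 + ss I J) := by rw [e4]
    rw [hq, h.triple, add_zero, e2] at e1
    rw [← hAc]
    exact e1
  obtain ⟨y, hy⟩ : ∃ y : R, y = (J + J * I) * (c * c - c) := ⟨_, rfl⟩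
  have hyy : y + y = 0 := by
    have e : y + y = (c * c * (1 + ss I J) + c * (1 - ss I J) + 1) +
        I * (c * c * (1 + ss I J) + c * (1 - ss I J) + 1) * I := by
      rw [hy]
      simp only [ss, mul_add, add_mul, mul_sub, sub_mul, mul_assoc, hcI, hcJ, hcI', hcJ',
        h.II, h.JJ, h.IJ, h.II', h.JJ', h.IJ', mul_neg, neg_mul, neg_neg, mul_one, one_mul]
      abel
    rw [e, hA2, mul_zero, zero_mul, add_zero]
  have hy0 : y = 0 := by
    have e : y = (y + y + y) - (y + y) := by abel
    rw [e, h.triple, hyy, sub_zero]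
  have hX1 : c * c - c = 0 := by
    have e : (J + J * I) * y = (c * c - c) - ((c * c - c) + (c * c - c) + (c * c - c)) := by
      rw [hy]
      simp only [ss, mul_add, add_mul, mul_sub, sub_mul, mul_assoc, hcI, hcJ, hcI', hcJ',
        h.II, h.JJ, h.IJ, h.II', h.JJ', h.IJ', mul_neg, neg_mul, neg_neg, mul_one, one_mul]
      abel
    rw [hy0, mul_zero, h.triple, sub_zero] at e
    exact e.symm
  have hcinv : c * ((1 - ss I J) * A') = 1 := by
    rw [hc]
    calc A * (1 + ss I J) * ((1 - ss I J) * A')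
        = A * ((1 + ss I J) * (1 - ss I J)) * A' := by noncomm_ring
      _ = 1 := by rw [h.one_add_mul_one_sub, mul_one, h1]
  have hc1 : c = 1 := by
    have e : c * c = c := sub_eq_zero.mp hX1
    calc c = c * (c * ((1 - ss I J) * A')) := by rw [hcinv, mul_one]
      _ = c * c * ((1 - ss I J) * A') := by rw [mul_assoc]
      _ = 1 := by rw [e, hcinv]
  rw [hAc, hc1, one_mul]

theorem I_mul_ss_add : I * ss I J + ss I J * I = 1 - (1 + 1 + 1) := by
  simp only [ss, mul_add, add_mul, mul_sub, sub_mul, mul_assoc,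
    h.II, h.JJ, h.IJ, h.II', h.JJ', h.IJ', mul_neg, neg_mul, neg_neg, mul_one, one_mul]
  abel

theorem I_mul_ss_add' : I * ss I J + ss I J * I = 1 := by
  rw [h.I_mul_ss_add, h.triple, sub_zero]

omit h in
theorem ss_comm {I' J' x : R} (c1 : x * I' = I' * x) (c2 : x * J' = J' * x) :
    x * ss I' J' = ss I' J' * x := by
  have c1' : ∀ y, x * (I' * y) = I' * (x * y) := fun y => by rw [← mul_assoc, c1, mul_assoc]
  have c2' : ∀ y, x * (J' * y) = J' * (x * y) := fun y => by rw [← mul_assoc, c2, mul_assoc]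
  simp only [ss, mul_add, add_mul, mul_assoc, c1, c2, c1', c2']

/-- for two commuting quaternion systems the product `s * s'` does not vanish. -/
theorem ss_mul_ss_ne_zero {I' J' : R} (h' : QT I' J') (c1 : I' * I = I * I')
    (c2 : I' * J = J * I') (c3 : J' * I = I * J') (c4 : J' * J = J * J')
    (hz : ss I J * ss I' J' = 0) : (1 : R) = 0 := by
  have hI's : I' * ss I J = ss I J * I' := ss_comm c1 c2
  have hJ's : J' * ss I J = ss I J * J' := ss_comm c3 c4
  have hIs' : I * ss I' J' = ss I' J' * I := ss_comm c1.symm c3.symm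
  have hJs' : J * ss I' J' = ss I' J' * J := ss_comm c2.symm c4.symm
  have hss : ss I J * ss I' J' = ss I' J' * ss I J := ss_comm hI's.symm hJ's.symm
  have t1 : I * ss I J * (I' * ss I' J') = 0 := by
    calc I * ss I J * (I' * ss I' J') = I * (ss I J * I') * ss I' J' := by noncomm_ring
      _ = I * I' * (ss I J * ss I' J') := by rw [← hI's]; noncomm_ring
      _ = 0 := by rw [hz, mul_zero]
  have t2 : I * ss I J * (ss I' J' * I') = 0 := by
    calc I * ss I J * (ss I' J' * I') = I * (ss I J * ss I' J') * I' := by noncomm_ring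
      _ = 0 := by rw [hz, mul_zero, zero_mul]
  have t3 : ss I J * I * (I' * ss I' J') = 0 := by
    calc ss I J * I * (I' * ss I' J') = ss I J * (I' * I) * ss I' J' := by rw [c1]; noncomm_ring
      _ = (ss I J * I') * (I * ss I' J') := by noncomm_ring
      _ = I' * (ss I J * ss I' J') * I := by rw [← hI's, hIs']; noncomm_ring
      _ = 0 := by rw [hz, mul_zero, zero_mul]
  have t4 : ss I J * I * (ss I' J' * I') = 0 := by
    calc ss I J * I * (ss I' J' * I') = ss I J * (I * ss I' J') * I' := by noncomm_ring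
      _ = (ss I J * ss I' J') * I * I' := by rw [hIs']; noncomm_ring
      _ = 0 := by rw [hz, zero_mul, zero_mul]
  calc (1 : R) = (I * ss I J + ss I J * I) * (I' * ss I' J' + ss I' J' * I') := by
        rw [h.I_mul_ss_add', h'.I_mul_ss_add', one_mul]
    _ = I * ss I J * (I' * ss I' J') + I * ss I J * (ss I' J' * I') +
        (ss I J * I * (I' * ss I' J') + ss I J * I * (ss I' J' * I')) := by noncomm_ring
    _ = 0 := by rw [t1, t2, t3, t4]; simp

omit h in
theorem sq_prod {t t' : R} (hc : t * t' = t' * t) (ht : t * t = 0) (ht' : t' * t' = 0) :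
    ((1 - t) * (1 - t') - 1) * ((1 - t) * (1 - t') - 1) = t * t' + t * t' := by
  have hc' : ∀ x, t' * (t * x) = t * (t' * x) := fun x => by rw [← mul_assoc, ← hc, mul_assoc]
  have ht2 : ∀ x, t * (t * x) = 0 := fun x => by rw [← mul_assoc, ht, zero_mul]
  have ht2' : ∀ x, t' * (t' * x) = 0 := fun x => by rw [← mul_assoc, ht', zero_mul]
  simp only [mul_add, add_mul, mul_sub, sub_mul, mul_assoc, mul_one, one_mul, ← hc, hc', ht, ht',
    ht2, ht2', mul_zero, zero_mul, sub_zero, add_zero, zero_add]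
  abel

theorem KK : J * I * (J * I) = -1 := by
  simp only [mul_assoc, h.II, h.JJ, h.IJ, h.II', h.JJ', h.IJ', mul_neg, neg_mul, neg_neg,
    mul_one, one_mul]

omit h in
theorem one_ne_neg_one (h3 : (3 : R) = 0) (hne : (1 : R) ≠ 0) : (1 : R) ≠ -1 := by
  intro e
  apply hne
  have e2 : (1 : R) + 1 = 0 := by nth_rewrite 2 [e]; exact add_neg_cancel 1
  have e4 : (1 : R) + 1 + 1 = 0 := by
    have : (1 : R) + 1 + 1 = 3 := by norm_num
    rw [this, h3]
  have e3 : (1 : R) = (1 + 1 + 1) - (1 + 1) := by abel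
  rw [e3, e4, e2, sub_zero]

theorem ax_mul_I (hne : (1 : R) ≠ 0) {u Y : R} (hu : Ax I J u) (hY : Y * Y = -1)
    (e : Y = u * I) : Ax I J Y := by
  have h1 := one_ne_neg_one h.three hne
  rcases hu with rfl | rfl | rfl | rfl | rfl | rfl
  · exfalso
    rw [h.II] at e
    rw [e, neg_mul_neg, one_mul] at hY
    exact h1 hY
  · exfalso
    rw [neg_mul, h.II, neg_neg] at e
    rw [e, one_mul] at hY
    exact h1 hY
  · exact Or.inr (Or.inr (Or.inr (Or.inr (Or.inl e))))
  · rw [neg_mul] at e
    exact Or.inr (Or.inr (Or.inr (Or.inr (Or.inr e))))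
  · rw [mul_assoc, h.II, mul_neg, mul_one] at e
    exact Or.inr (Or.inr (Or.inr (Or.inl e)))
  · rw [neg_mul, mul_assoc, h.II, mul_neg, mul_one, neg_neg] at e
    exact Or.inr (Or.inr (Or.inl e))

theorem ax_mul_J (hne : (1 : R) ≠ 0) {u Y : R} (hu : Ax I J u) (hY : Y * Y = -1)
    (e : Y = u * J) : Ax I J Y := by
  have h1 := one_ne_neg_one h.three hne
  rcases hu with rfl | rfl | rfl | rfl | rfl | rfl
  · rw [h.IJ] at e
    exact Or.inr (Or.inr (Or.inr (Or.inr (Or.inr e))))
  · rw [neg_mul, h.IJ, neg_neg] at e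
    exact Or.inr (Or.inr (Or.inr (Or.inr (Or.inl e))))
  · exfalso
    rw [h.JJ] at e
    rw [e, neg_mul_neg, one_mul] at hY
    exact h1 hY
  · exfalso
    rw [neg_mul, h.JJ, neg_neg] at e
    rw [e, one_mul] at hY
    exact h1 hY
  · rw [h.JIJ] at e
    exact Or.inl e
  · rw [neg_mul, h.JIJ] at e
    exact Or.inr (Or.inl e)

omit h in
theorem cj_cj_comm {t t' : R} (ht : (1 + t) * (1 - t) = 1) (ht' : (1 + t') * (1 - t') = 1)
    (ht2 : (1 - t) * (1 + t) = 1) (ht2' : (1 - t') * (1 + t') = 1)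
    (hcm : (1 - t) * (1 - t') = (1 - t') * (1 - t)) (u : R) :
    cj t' (cj t u) = cj t (cj t' u) := by
  have e1 : (1 + t) * (1 + t') = (1 + t') * (1 + t) := by
    calc (1 + t) * (1 + t') = (1 + t) * (1 + t') * (((1 - t) * (1 - t')) * ((1 + t') * (1 + t))) := by
          have : ((1 - t) * (1 - t')) * ((1 + t') * (1 + t)) = 1 := by
            calc ((1 - t) * (1 - t')) * ((1 + t') * (1 + t))
                = (1 - t) * ((1 - t') * (1 + t')) * (1 + t) := by noncomm_ring
              _ = 1 := by rw [ht2', mul_one, ht2]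
          rw [this, mul_one]
      _ = (1 + t) * (1 + t') * (((1 - t') * (1 - t)) * ((1 + t') * (1 + t))) := by rw [hcm]
      _ = (1 + t) * ((1 + t') * (1 - t')) * (1 - t) * ((1 + t') * (1 + t)) := by noncomm_ring
      _ = (1 + t') * (1 + t) := by rw [ht', mul_one, ht, one_mul]
  unfold cj
  calc (1 - t') * ((1 - t) * u * (1 + t)) * (1 + t')
      = ((1 - t') * (1 - t)) * u * ((1 + t) * (1 + t')) := by noncomm_ring
    _ = ((1 - t) * (1 - t')) * u * ((1 + t') * (1 + t)) := by rw [hcm, e1]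
    _ = (1 - t) * ((1 - t') * u * (1 + t')) * (1 + t) := by noncomm_ring

/-- a conjugate quaternion system whose element `1 - s'` commutes with `1 - s` has the same axes. -/
theorem axes_of_conj {I' J' : R} (h' : QT I' J') (hne : (1 : R) ≠ 0)
    (cII : I * I' = I' * I ∨ I * I' = -(I' * I)) (cIJ : I * J' = J' * I ∨ I * J' = -(J' * I))
    (cJI : J * I' = I' * J ∨ J * I' = -(I' * J)) (cJJ : J * J' = J' * J ∨ J * J' = -(J' * J))
    (hq : ((1 - ss I J) * (1 - ss I' J') - 1) * ((1 - ss I J) * (1 - ss I' J') - 1) = 0)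
    (hcm : (1 - ss I J) * (1 - ss I' J') = (1 - ss I' J') * (1 - ss I J))
    (hax : Ax I J (cj (ss I' J') I)) :
    Ax I J I' ∧ Ax I J J' ∧ Ax I J (J' * I') := by
  have hcc : ∀ u, cj (ss I' J') (cj (ss I J) u) = cj (ss I J) (cj (ss I' J') u) :=
    cj_cj_comm h.one_add_mul_one_sub h'.one_add_mul_one_sub h.one_sub_mul_one_add
      h'.one_sub_mul_one_add hcm
  have haxJ : Ax I J (cj (ss I' J') J) := by
    have e : cj (ss I' J') J = cj (ss I J) (cj (ss I' J') I) := by rw [← hcc, h.cj_I]
    rw [e]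
    exact h.ax_cj hax
  have haxK : Ax I J (cj (ss I' J') (J * I)) := by
    have e : cj (ss I' J') (J * I) = cj (ss I J) (cj (ss I' J') J) := by rw [← hcc, h.cj_J]
    rw [e]
    exact h.ax_cj haxJ
  have hall : ∀ u, Ax I J u → Ax I J (cj (ss I' J') u) := by
    intro u hu
    have hneg : ∀ v, Ax I J v → Ax I J (-v) := by
      intro v hv
      rcases hv with rfl | rfl | rfl | rfl | rfl | rfl
      · exact Or.inr (Or.inl rfl)
      · rw [neg_neg]; exact Or.inl rfl
      · exact Or.inr (Or.inr (Or.inr (Or.inl rfl)))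
      · rw [neg_neg]; exact Or.inr (Or.inr (Or.inl rfl))
      · exact Or.inr (Or.inr (Or.inr (Or.inr (Or.inr rfl))))
      · rw [neg_neg]; exact Or.inr (Or.inr (Or.inr (Or.inr (Or.inl rfl))))
    rcases hu with rfl | rfl | rfl | rfl | rfl | rfl
    · exact hax
    · rw [cj_neg]; exact hneg _ hax
    · exact haxJ
    · rw [cj_neg]; exact hneg _ haxJ
    · exact haxK
    · rw [cj_neg]; exact hneg _ haxK
  have hfin : ∀ Y, (I' = Y ∨ J' = Y ∨ J' * I' = Y) → Ax I J Y →
      Ax I J I' ∧ Ax I J J' ∧ Ax I J (J' * I') := by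
    intro Y hY hYax
    rcases hY with rfl | rfl | rfl
    · have hJ' : Ax I J J' := by rw [← h'.cj_I]; exact hall _ hYax
      have hK' : Ax I J (J' * I') := by rw [← h'.cj_J]; exact hall _ hJ'
      exact ⟨hYax, hJ', hK'⟩
    · have hK' : Ax I J (J' * I') := by rw [← h'.cj_J]; exact hall _ hYax
      have hI' : Ax I J I' := by rw [← h'.cj_K]; exact hall _ hK'
      exact ⟨hI', hYax, hK'⟩
    · have hI' : Ax I J I' := by rw [← h'.cj_K]; exact hall _ hYax
      have hJ' : Ax I J J' := by rw [← h'.cj_I]; exact hall _ hI'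
      exact ⟨hI', hJ', hYax⟩
  -- the element `Y' = u * X` from a sign pattern
  have key : ∀ X : R, X * X = -1 → ∀ Y : R, Y * Y = -1 →
      cj (ss I' J') X = -(Y * X) → Y = cj (ss I' J') X * X := by
    intro X hX Y _ e
    rw [e, neg_mul, mul_assoc, hX, mul_neg, mul_one, neg_neg]
  rcases cII with cII | cII <;> rcases cIJ with cIJ | cIJ
  · -- `I` commutes with the primed system
    rcases cJI with cJI | cJI <;> rcases cJJ with cJJ | cJJ
    · exfalso
      have hsc : ss I J * ss I' J' = ss I' J' * ss I J := by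
        have a1 : I' * ss I J = ss I J * I' := ss_comm cII.symm cJI.symm
        have a2 : J' * ss I J = ss I J * J' := ss_comm cIJ.symm cJJ.symm
        exact ss_comm a1.symm a2.symm
      have e := sq_prod hsc h.ss_mul_ss h'.ss_mul_ss
      rw [hq] at e
      have hz : ss I J * ss I' J' = 0 := by
        have e2 : ss I J * ss I' J' = (ss I J * ss I' J' + ss I J * ss I' J' + ss I J * ss I' J') -
          (ss I J * ss I' J' + ss I J * ss I' J') := by abel
        rw [e2, h.triple, ← e, sub_zero]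
      exact hne (h.ss_mul_ss_ne_zero h' cII.symm cJI.symm cIJ.symm cJJ.symm hz)
    · have e := h'.cj_pm cJI cJJ
      exact hfin (J' * I') (Or.inr (Or.inr rfl))
        (h.ax_mul_J hne haxJ h'.KK (key J h.JJ _ h'.KK e))
    · have e := h'.cj_mp cJI cJJ
      exact hfin I' (Or.inl rfl) (h.ax_mul_J hne haxJ h'.II (key J h.JJ _ h'.II e))
    · have e := h'.cj_mm cJI cJJ
      exact hfin J' (Or.inr (Or.inl rfl)) (h.ax_mul_J hne haxJ h'.JJ (key J h.JJ _ h'.JJ e))
  · have e := h'.cj_pm cII cIJ
    exact hfin (J' * I') (Or.inr (Or.inr rfl))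
      (h.ax_mul_I hne hax h'.KK (key I h.II _ h'.KK e))
  · have e := h'.cj_mp cII cIJ
    exact hfin I' (Or.inl rfl) (h.ax_mul_I hne hax h'.II (key I h.II _ h'.II e))
  · have e := h'.cj_mm cII cIJ
    exact hfin J' (Or.inr (Or.inl rfl)) (h.ax_mul_I hne hax h'.JJ (key I h.II _ h'.JJ e))

omit h in
theorem eq_zero_of_eq_neg (h3 : (3 : R) = 0) {x : R} (e : x = -x) : x = 0 := by
  have e2 : x + x = 0 := by nth_rewrite 2 [e]; exact add_neg_cancel x
  have e4 : x + x + x = 0 := by
    have : x + x + x = 3 * x := by noncomm_ring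
    rw [this, h3, zero_mul]
  have e3 : x = (x + x + x) - (x + x) := by abel
  rw [e3, e4, e2, sub_zero]

omit h in
theorem absurd_of_eq_pm (h3 : (3 : R) = 0) {u v : R} (hanti : u * v = -(v * u))
    (hunit : v * u * (v * u) = -1) (e : u = v ∨ u = -v) : (1 : R) = 0 := by
  have hc : u * v = v * u := by
    rcases e with rfl | rfl
    · rfl
    · rw [neg_mul, mul_neg]
  have h0 : v * u = 0 := eq_zero_of_eq_neg h3 (by rw [← hanti, hc])
  rw [h0, mul_zero] at hunit
  have := neg_eq_zero.mp hunit.symm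
  exact this

/-- the three axes are distinct. -/
theorem axis_inj (hne : (1 : R) ≠ 0) {i j : Fin 3}
    (e : ![I, J, J * I] i = ![I, J, J * I] j ∨ ![I, J, J * I] i = -![I, J, J * I] j) : i = j := by
  fin_cases i <;> fin_cases j
  · rfl
  · exfalso
    exact hne (absurd_of_eq_pm h.three h.IJ h.KK e)
  · exfalso
    refine hne (absurd_of_eq_pm h.three (u := I) (v := J * I) ?_ ?_ e)
    · simp only [mul_assoc, h.II, h.JJ, h.IJ, h.II', h.JJ', h.IJ', mul_neg, neg_mul, neg_neg,
        mul_one, one_mul]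
    · simp only [mul_assoc, h.II, h.JJ, h.IJ, h.II', h.JJ', h.IJ', mul_neg, neg_mul, neg_neg,
        mul_one, one_mul]
  · exfalso
    refine hne (absurd_of_eq_pm h.three (u := J) (v := I) ?_ ?_ e)
    · simp only [mul_assoc, h.II, h.JJ, h.IJ, h.II', h.JJ', h.IJ', mul_neg, neg_mul, neg_neg,
        mul_one, one_mul]
    · simp only [mul_assoc, h.II, h.JJ, h.IJ, h.II', h.JJ', h.IJ', mul_neg, neg_mul, neg_neg,
        mul_one, one_mul]
  · rfl
  · exfalso
    refine hne (absurd_of_eq_pm h.three (u := J) (v := J * I) ?_ ?_ e)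
    · simp only [mul_assoc, h.II, h.JJ, h.IJ, h.II', h.JJ', h.IJ', mul_neg, neg_mul, neg_neg,
        mul_one, one_mul]
    · simp only [mul_assoc, h.II, h.JJ, h.IJ, h.II', h.JJ', h.IJ', mul_neg, neg_mul, neg_neg,
        mul_one, one_mul]
  · exfalso
    refine hne (absurd_of_eq_pm h.three (u := J * I) (v := I) ?_ ?_ e)
    · simp only [mul_assoc, h.II, h.JJ, h.IJ, h.II', h.JJ', h.IJ', mul_neg, neg_mul, neg_neg,
        mul_one, one_mul]
    · simp only [mul_assoc, h.II, h.JJ, h.IJ, h.II', h.JJ', h.IJ', mul_neg, neg_mul, neg_neg,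
        mul_one, one_mul]
  · exfalso
    refine hne (absurd_of_eq_pm h.three (u := J * I) (v := J) ?_ ?_ e)
    · simp only [mul_assoc, h.II, h.JJ, h.IJ, h.II', h.JJ', h.IJ', mul_neg, neg_mul, neg_neg,
        mul_one, one_mul]
    · simp only [mul_assoc, h.II, h.JJ, h.IJ, h.II', h.JJ', h.IJ', mul_neg, neg_mul, neg_neg,
        mul_one, one_mul]
  · rfl

end QT

/-- three anticommuting units with product one and equal squares of two-power order form a
quaternion system. -/
theorem qt_of_units {I J K' E : R} (h3 : (3 : R) = 0) (hIJ : I * J = -(J * I))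
    (hI : I * I = E) (hJ : J * J = E) (hK : K' * K' = E) (h1 : I * J * K' = 1) (k : ℕ)
    (hE : E ^ (2 ^ k) = 1) : QT I J ∧ K' = J * I := by
  have e1 : I * J * (I * J) = -(E * E) := by
    calc I * J * (I * J) = I * (J * I) * J := by noncomm_ring
      _ = -(I * I * (J * J)) := by
        have : J * I = -(I * J) := by rw [hIJ, neg_neg]
        rw [this]; noncomm_ring
      _ = -(E * E) := by rw [hI, hJ]
  have e2 : I * J * (I * J) * (K' * K') = 1 := by
    calc I * J * (I * J) * (K' * K') = I * J * (I * J * K') * K' := by noncomm_ring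
      _ = 1 := by rw [h1, mul_one, h1]
  have e3 : E * E * E = -1 := by
    rw [e1, hK, neg_mul] at e2
    rw [← e2, neg_neg]
  have e6 : E ^ 6 = 1 := by
    have : E ^ 6 = (E * E * E) * (E * E * E) := by noncomm_ring
    rw [this, e3, neg_mul_neg, one_mul]
  have hg : Nat.gcd 6 (2 ^ k) ∣ 2 := by
    have hc : Nat.Coprime 3 (2 ^ k) := Nat.Coprime.pow_right k (by decide)
    have : Nat.gcd (3 * 2) (2 ^ k) = Nat.gcd 2 (2 ^ k) := Nat.Coprime.gcd_mul_left_cancel 2 hc
    rw [show (6 : ℕ) = 3 * 2 from rfl, this]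
    exact Nat.gcd_dvd_left _ _
  have e7 : E ^ (Nat.gcd 6 (2 ^ k)) = 1 := pow_gcd_eq_one.mpr ⟨e6, hE⟩
  have e8 : E * E = 1 := by
    obtain ⟨c, hc⟩ := hg
    have : E * E = E ^ 2 := by rw [pow_two]
    rw [this, hc, pow_mul, e7, one_pow]
  have hE1 : E = -1 := by
    rw [e8, one_mul] at e3
    exact e3
  refine ⟨⟨h3, by rw [hI, hE1], by rw [hJ, hE1], hIJ⟩, ?_⟩
  have e9 : J * I * (I * J) = 1 := by
    calc J * I * (I * J) = J * (I * I) * J := by noncomm_ring
      _ = 1 := by rw [hI, hE1, mul_neg, mul_one, neg_mul, hJ, hE1, neg_neg]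
  calc K' = J * I * (I * J) * K' := by rw [e9, one_mul]
    _ = J * I * (I * J * K') := by noncomm_ring
    _ = J * I := by rw [h1, mul_one]

end Cfsg.Agent.Lib.Helper20.QuatAlg
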