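import Mathlib
import Cfsg.Agent.Lib.Helper20.QuatAlg
import Cfsg.Agent.Lib.Helper20.HHQuad
import Cfsg.Agent.Lib.Helper20.K3Axes

/-!
The final contradiction for `p = 3`: a `3`-group `B` acting on a `2`-group `N` of linear maps
of a space of characteristic three, such that the elements of `⁅B, B⁆` act quadratically.
-/

set_option autoImplicit false
set_option linter.unusedVariables false

namespace Cfsg.Agent.Lib.Helper20.K3End

open Subgroup Cfsg.Agent.Lib.Helper20.QuatAlg Cfsg.Agent.Lib.Helper20.K3Axes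
open scoped commutatorElement

variable {Γ : Type*} [Group Γ] [Finite Γ] {W : Type*} [AddCommGroup W] [Module (ZMod 3) W]
  [Finite W] (σ : Γ →* Module.End (ZMod 3) W)

omit [Finite W] in
theorem three_eq_zero : (3 : Module.End (ZMod 3) W) = 0 := by
  have e : (3 : Module.End (ZMod 3) W) = (3 : ℕ) • (1 : Module.End (ZMod 3) W) := by
    rw [nsmul_eq_mul, mul_one]; rfl
  rw [e]
  exact ZModModule.char_nsmul_eq_zero 3 _

/-- an element `x` of a `2`-group with `x * x^a * x^(a^2) = 1` whose image commutes with the image of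
its conjugate under the quadratic element `a` has trivial image. -/
theorem sigma_eq_one_of_comm (N : Subgroup Γ) (hN2 : IsPGroup 2 N) (a : Γ)
    (haN : a ∈ normalizer (N : Set Γ)) (ha3 : a ^ 3 = 1)
    (hquad : (σ a - 1) * (σ a - 1) = 0) (x : Γ) (hx : x ∈ N)
    (hprod : x * (a * x * a⁻¹) * (a * (a * x * a⁻¹) * a⁻¹) = 1)
    (hcomm : σ x * σ (a * x * a⁻¹) = σ (a * x * a⁻¹) * σ x) : σ x = 1 := by
  have : Fact (Nat.Prime 3) := ⟨Nat.prime_three⟩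
  have : Module.Finite (ZMod 3) W := Module.Finite.of_finite
  obtain ⟨y, hy⟩ : ∃ y : Γ, y = a * x * a⁻¹ := ⟨_, rfl⟩
  rw [← hy] at hprod hcomm
  have hyN : y ∈ N := by rw [hy]; exact (mem_normalizer_iff.mp haN x).mp hx
  have hw : a * y * a⁻¹ = (x * y)⁻¹ := eq_inv_of_mul_eq_one_right hprod
  obtain ⟨Q, hQ⟩ : ∃ Q : Subgroup Γ, Q = closure {x, y} := ⟨_, rfl⟩
  have hxQ : x ∈ Q := by rw [hQ]; exact subset_closure (by simp)
  have hyQ : y ∈ Q := by rw [hQ]; exact subset_closure (by simp)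
  have hQN : Q ≤ N := by
    rw [hQ, closure_le]
    intro z hz
    rcases hz with rfl | rfl
    · exact hx
    · exact hyN
  have hQ2 : IsPGroup 2 Q := hN2.to_le hQN
  have hconj : ∀ g ∈ Q, a * g * a⁻¹ ∈ Q := by
    intro g hg
    rw [hQ] at hg
    induction hg using closure_induction with
    | mem z hz =>
      rcases hz with rfl | rfl
      · rw [← hy]; exact hyQ
      · rw [hw]; exact inv_mem (mul_mem hxQ hyQ)
    | one => simp
    | mul g h _ _ hg hh =>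
      have : a * (g * h) * a⁻¹ = (a * g * a⁻¹) * (a * h * a⁻¹) := by group
      rw [this]; exact mul_mem hg hh
    | inv g _ hg =>
      have : a * g⁻¹ * a⁻¹ = (a * g * a⁻¹)⁻¹ := by group
      rw [this]; exact inv_mem hg
  have haQ : a ∈ normalizer (Q : Set Γ) := by
    rw [mem_normalizer_iff]
    intro g
    refine ⟨hconj g, fun hg => ?_⟩
    have h1 := hconj _ (hconj _ hg)
    have ha3' : a * a * a = 1 := by rw [← ha3, pow_succ, pow_two]
    have e : a * (a * (a * g * a⁻¹) * a⁻¹) * a⁻¹ = (a * a * a) * g * (a * a * a)⁻¹ := by group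
    rw [e, ha3'] at h1
    simpa using h1
  have hab : ∀ g ∈ Q, ∀ h ∈ Q, σ (g * h) = σ (h * g) := by
    have h1 : ∀ g ∈ Q, σ g * σ x = σ x * σ g ∧ σ g * σ y = σ y * σ g := by
      intro g hg
      rw [hQ] at hg
      induction hg using closure_induction with
      | mem z hz =>
        rcases hz with rfl | rfl
        · exact ⟨rfl, hcomm⟩
        · exact ⟨hcomm.symm, rfl⟩
      | one => simp
      | mul g h _ _ hg hh =>
        rw [map_mul]
        constructor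
        · rw [mul_assoc, hh.1, ← mul_assoc, hg.1, mul_assoc]
        · rw [mul_assoc, hh.2, ← mul_assoc, hg.2, mul_assoc]
      | inv g _ hg =>
        have hgg : σ g⁻¹ * σ g = 1 := by rw [← map_mul, inv_mul_cancel, map_one]
        have hgg' : σ g * σ g⁻¹ = 1 := by rw [← map_mul, mul_inv_cancel, map_one]
        constructor
        · calc σ g⁻¹ * σ x = σ g⁻¹ * σ x * (σ g * σ g⁻¹) := by rw [hgg', mul_one]
            _ = σ g⁻¹ * (σ x * σ g) * σ g⁻¹ := by noncomm_ring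
            _ = (σ g⁻¹ * σ g) * σ x * σ g⁻¹ := by rw [← hg.1]; noncomm_ring
            _ = σ x * σ g⁻¹ := by rw [hgg, one_mul]
        · calc σ g⁻¹ * σ y = σ g⁻¹ * σ y * (σ g * σ g⁻¹) := by rw [hgg', mul_one]
            _ = σ g⁻¹ * (σ y * σ g) * σ g⁻¹ := by noncomm_ring
            _ = (σ g⁻¹ * σ g) * σ y * σ g⁻¹ := by rw [← hg.2]; noncomm_ring
            _ = σ y * σ g⁻¹ := by rw [hgg, one_mul]
    intro g hg h hh
    rw [hQ] at hh
    rw [map_mul, map_mul]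
    induction hh using closure_induction with
    | mem z hz =>
      rcases hz with rfl | rfl
      · exact (h1 g hg).1
      · exact (h1 g hg).2
    | one => simp
    | mul h k _ _ ih ik =>
      rw [map_mul, ← mul_assoc, ih, mul_assoc, ik, mul_assoc]
    | inv h _ ih =>
      have hgg : σ h⁻¹ * σ h = 1 := by rw [← map_mul, inv_mul_cancel, map_one]
      have hgg' : σ h * σ h⁻¹ = 1 := by rw [← map_mul, mul_inv_cancel, map_one]
      calc σ g * σ h⁻¹ = (σ h⁻¹ * σ h) * σ g * σ h⁻¹ := by rw [hgg, one_mul]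
        _ = σ h⁻¹ * (σ h * σ g) * σ h⁻¹ := by noncomm_ring
        _ = σ h⁻¹ * σ g * (σ h * σ h⁻¹) := by rw [← ih]; noncomm_ring
        _ = σ h⁻¹ * σ g := by rw [hgg', mul_one]
  have hfix : ∀ g ∈ Q, σ (a * g * a⁻¹) = σ g := by
    by_contra hcon
    push Not at hcon
    obtain ⟨g, hg, hne⟩ := hcon
    obtain ⟨-, -, c, hc, d, hd, hcd⟩ :=
      Cfsg.Agent.Lib.Helper20.HHQuad.hh_quadratic (F := ZMod 3) (p := 3) (by decide) σ
        Nat.prime_two (by decide) Q hQ2 a haQ hquad ⟨g, hg, hne⟩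
    exact hcd (hab c hc d hd)
  have e1 : σ y = σ x := by rw [hy]; exact hfix x hxQ
  have e2 : σ (a * y * a⁻¹) = σ x := by rw [hfix y hyQ, e1]
  have e3 : σ x ^ 3 = 1 := by
    have := congrArg σ hprod
    rw [map_mul, map_mul, e1, e2, map_one] at this
    rw [pow_succ, pow_two]
    exact this
  obtain ⟨k, hk⟩ := hN2 ⟨x, hx⟩
  have hk' : x ^ 2 ^ k = 1 := by simpa using congrArg Subtype.val hk
  have e4 : σ x ^ 2 ^ k = 1 := by rw [← map_pow, hk', map_one]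
  have hg : Nat.gcd 3 (2 ^ k) = 1 := Nat.Coprime.pow_right k (by decide)
  have e5 := (pow_gcd_eq_one (a := σ x) (m := 3) (n := 2 ^ k)).mpr ⟨e3, e4⟩
  rwa [hg, pow_one] at e5

/-- the elements of `N` whose image commutes with the image of `N`. -/
def sigmaCentre (N : Subgroup Γ) : Subgroup Γ where
  carrier := {x | x ∈ N ∧ ∀ y ∈ N, σ x * σ y = σ y * σ x}
  one_mem' := ⟨one_mem _, fun y _ => by rw [map_one, one_mul, mul_one]⟩
  mul_mem' := fun {x x'} hx hx' => ⟨mul_mem hx.1 hx'.1, fun y hy => by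
    rw [map_mul, mul_assoc, hx'.2 y hy, ← mul_assoc, hx.2 y hy, mul_assoc]⟩
  inv_mem' := fun {x} hx => ⟨inv_mem hx.1, fun y hy => by
    have hgg : σ x⁻¹ * σ x = 1 := by rw [← map_mul, inv_mul_cancel, map_one]
    have hgg' : σ x * σ x⁻¹ = 1 := by rw [← map_mul, mul_inv_cancel, map_one]
    calc σ x⁻¹ * σ y = σ x⁻¹ * σ y * (σ x * σ x⁻¹) := by rw [hgg', mul_one]
      _ = σ x⁻¹ * (σ y * σ x) * σ x⁻¹ := by noncomm_ring
      _ = (σ x⁻¹ * σ x) * σ y * σ x⁻¹ := by rw [← hx.2 y hy]; noncomm_ring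
      _ = σ y * σ x⁻¹ := by rw [hgg, one_mul]⟩

theorem stage2 (N B : Subgroup Γ)
    (hN2 : IsPGroup 2 N) (hB3 : IsPGroup 3 B) (hBN : B ≤ normalizer (N : Set Γ))
    (hAab : ∀ a ∈ ⁅B, B⁆, ∀ a' ∈ ⁅B, B⁆, a * a' = a' * a)
    (hA3 : ∀ a ∈ ⁅B, B⁆, a ^ 3 = 1)
    (h2 : ∀ a ∈ ⁅B, B⁆, (σ a - 1) * (σ a - 1) = 0)
    (hpm : ∀ x ∈ N, ∀ y ∈ N, σ (x * y) = σ (y * x) ∨ σ (x * y) = -σ (y * x))
    (hne : ∃ x ∈ N, ∃ y ∈ N, σ (x * y) ≠ σ (y * x))
    (hsq : ∀ x ∈ N, ∀ a ∈ ⁅B, B⁆, σ (a * (x * x) * a⁻¹) = σ (x * x))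
    (hNA : N ≤ ⁅N, ⁅B, B⁆⁆) : False := by
  have h3 : (3 : Module.End (ZMod 3) W) = 0 := three_eq_zero
  have hAB : ⁅B, B⁆ ≤ B := by
    rw [commutator_le]
    intro g₁ h₁ g₂ h₂
    rw [commutatorElement_def]
    exact mul_mem (mul_mem (mul_mem h₁ h₂) (inv_mem h₁)) (inv_mem h₂)
  have hne1 : (1 : Module.End (ZMod 3) W) ≠ 0 := by
    intro h
    obtain ⟨x, hx, y, hy, hxy⟩ := hne
    apply hxy
    have : ∀ u : Module.End (ZMod 3) W, u = 0 := fun u => by rw [← mul_one u, h, mul_zero]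
    rw [this (σ (x * y)), this (σ (y * x))]
  have hinv : ∀ g : Γ, σ g * σ g⁻¹ = 1 := fun g => by rw [← map_mul, mul_inv_cancel, map_one]
  have hinv' : ∀ g : Γ, σ g⁻¹ * σ g = 1 := fun g => by rw [← map_mul, inv_mul_cancel, map_one]
  have hconjN : ∀ b ∈ B, ∀ n ∈ N, b * n * b⁻¹ ∈ N :=
    fun b hb n hn => (mem_normalizer_iff.mp (hBN hb) n).mp hn
  -- a commutator outside the centre
  have hex : ∃ a ∈ ⁅B, B⁆, ∃ n ∈ N, ⁅n, a⁆ ∉ sigmaCentre σ N := by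
    by_contra hcon
    push Not at hcon
    have h1 : ⁅N, ⁅B, B⁆⁆ ≤ sigmaCentre σ N := by
      rw [commutator_le]
      intro n hn a ha
      exact hcon a ha n hn
    obtain ⟨x, hx, y, hy, hxy⟩ := hne
    apply hxy
    rw [map_mul, map_mul]
    exact (h1 (hNA hx)).2 y hy
  obtain ⟨a₀, ha₀, n₀, hn₀, hx₀R⟩ := hex
  obtain ⟨x₀, hx₀⟩ : ∃ x₀ : Γ, x₀ = ⁅n₀, a₀⁆ := ⟨_, rfl⟩
  rw [← hx₀] at hx₀R
  have ha₀B : a₀ ∈ B := hAB ha₀
  have hx₀N : x₀ ∈ N := by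
    rw [hx₀, commutatorElement_def]
    have h1 := hconjN a₀ ha₀B n₀⁻¹ (inv_mem hn₀)
    have e : n₀ * a₀ * n₀⁻¹ * a₀⁻¹ = n₀ * (a₀ * n₀⁻¹ * a₀⁻¹) := by group
    rw [e]
    exact mul_mem hn₀ h1
  obtain ⟨y₀, hy₀⟩ : ∃ y₀ : Γ, y₀ = a₀ * x₀ * a₀⁻¹ := ⟨_, rfl⟩
  obtain ⟨w₀, hw₀⟩ : ∃ w₀ : Γ, w₀ = a₀ * y₀ * a₀⁻¹ := ⟨_, rfl⟩
  have hy₀N : y₀ ∈ N := by rw [hy₀]; exact hconjN a₀ ha₀B x₀ hx₀N
  have hw₀N : w₀ ∈ N := by rw [hw₀]; exact hconjN a₀ ha₀B y₀ hy₀N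
  have ha3 : a₀ ^ 3 = 1 := hA3 a₀ ha₀
  have ha3' : a₀ * a₀ * a₀ = 1 := by rw [← ha3, pow_succ, pow_two]
  have hprod : x₀ * y₀ * w₀ = 1 := by
    rw [hw₀, hy₀, hx₀, commutatorElement_def]
    have e : n₀ * a₀ * n₀⁻¹ * a₀⁻¹ * (a₀ * (n₀ * a₀ * n₀⁻¹ * a₀⁻¹) * a₀⁻¹) *
        (a₀ * (a₀ * (n₀ * a₀ * n₀⁻¹ * a₀⁻¹) * a₀⁻¹) * a₀⁻¹) =
        n₀ * (a₀ * a₀ * a₀) * n₀⁻¹ * (a₀ * a₀ * a₀)⁻¹ := by group
    rw [e, ha3']
    group
  have hanti : σ x₀ * σ y₀ = -(σ y₀ * σ x₀) := by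
    rcases hpm x₀ hx₀N y₀ hy₀N with h | h
    · exfalso
      apply hx₀R
      have h1 : σ x₀ = 1 := sigma_eq_one_of_comm σ N hN2 a₀ (hBN ha₀B) ha3 (h2 a₀ ha₀) x₀ hx₀N
        (by rw [← hy₀, ← hw₀]; exact hprod)
        (by rw [← hy₀, ← map_mul, ← map_mul]; exact h)
      exact ⟨hx₀N, fun y hy => by rw [h1, one_mul, mul_one]⟩
    · rw [← map_mul, ← map_mul]; exact h
  obtain ⟨I, hI⟩ : ∃ I : Module.End (ZMod 3) W, I = σ x₀ := ⟨_, rfl⟩
  obtain ⟨J, hJ⟩ : ∃ J : Module.End (ZMod 3) W, J = σ y₀ := ⟨_, rfl⟩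
  obtain ⟨A, hA⟩ : ∃ A : Module.End (ZMod 3) W, A = σ a₀ := ⟨_, rfl⟩
  obtain ⟨A', hA'⟩ : ∃ A' : Module.End (ZMod 3) W, A' = σ a₀⁻¹ := ⟨_, rfl⟩
  have hAA' : A * A' = 1 := by rw [hA, hA']; exact hinv a₀
  have hA'A : A' * A = 1 := by rw [hA, hA']; exact hinv' a₀
  have hsqJ : J * J = I * I := by
    rw [hJ, hI, ← map_mul, ← map_mul]
    have e : y₀ * y₀ = a₀ * (x₀ * x₀) * a₀⁻¹ := by rw [hy₀]; group
    rw [e]
    exact hsq x₀ hx₀N a₀ ha₀
  have hsqK : σ w₀ * σ w₀ = I * I := by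
    rw [← hsqJ, hJ, ← map_mul, ← map_mul]
    have e : w₀ * w₀ = a₀ * (y₀ * y₀) * a₀⁻¹ := by rw [hw₀]; group
    rw [e]
    exact hsq y₀ hy₀N a₀ ha₀
  obtain ⟨k, hk⟩ := hN2 ⟨x₀, hx₀N⟩
  have hk' : x₀ ^ 2 ^ k = 1 := by simpa using congrArg Subtype.val hk
  have hE : (I * I) ^ (2 ^ k) = 1 := by
    rw [hI, ← map_mul, ← map_pow]
    have : (x₀ * x₀) ^ (2 ^ k) = 1 := by
      rw [← pow_two, ← pow_mul, mul_comm, pow_mul, hk', one_pow]
    rw [this, map_one]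
  obtain ⟨hQT, hK⟩ := qt_of_units h3 (by rw [hI, hJ]; exact hanti) rfl hsqJ hsqK
    (by rw [hI, hJ, ← map_mul, ← map_mul, hprod, map_one]) k hE
  have hAI : A * I = J * A := by
    rw [hA, hI, hJ, ← map_mul, ← map_mul]
    congr 1
    rw [hy₀]; group
  have hAJ : A * J = J * I * A := by
    rw [← hK, hA, hJ, ← map_mul, ← map_mul]
    congr 1
    rw [hw₀]; group
  have hAeq : A = 1 - ss I J :=
    hQT.eq_one_sub_ss hAA' (by rw [hA]; exact h2 a₀ ha₀) hAI hAJ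
  have hA'eq : A' = 1 + ss I J := by
    calc A' = A' * (A * (1 + ss I J)) := by rw [hAeq, hQT.one_sub_mul_one_add, mul_one]
      _ = (A' * A) * (1 + ss I J) := by rw [mul_assoc]
      _ = 1 + ss I J := by rw [hA'A, one_mul]
  -- commutators with `a₀`
  have hS1 : ∀ n ∈ N, σ ⁅n, a₀⁆ = 1 ∨ σ ⁅n, a₀⁆ = I ∨ σ ⁅n, a₀⁆ = J ∨ σ ⁅n, a₀⁆ = J * I := by
    intro n hn
    have e : σ ⁅n, a₀⁆ = σ n * cj (ss I J) (σ n⁻¹) := by
      rw [commutatorElement_def, map_mul, map_mul, map_mul, ← hA, ← hA', hAeq, hA'eq]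
      unfold cj
      noncomm_ring
    rw [e]
    apply hQT.cj_cases (hinv n)
    · rw [hI, ← map_mul, ← map_mul]
      exact hpm n⁻¹ (inv_mem hn) x₀ hx₀N
    · rw [hJ, ← map_mul, ← map_mul]
      exact hpm n⁻¹ (inv_mem hn) y₀ hy₀N
  -- conjugates of the system under `B`
  have hS2 : ∀ b ∈ B, ∀ i, ∃ j, Rel σ ![I, J, J * I] b i j := by
    intro b hb
    obtain ⟨β, hβ⟩ : ∃ β : Module.End (ZMod 3) W, β = σ b := ⟨_, rfl⟩
    obtain ⟨β', hβ'⟩ : ∃ β' : Module.End (ZMod 3) W, β' = σ b⁻¹ := ⟨_, rfl⟩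
    have hββ' : β * β' = 1 := by rw [hβ, hβ']; exact hinv b
    have hβ'β : β' * β = 1 := by rw [hβ, hβ']; exact hinv' b
    obtain ⟨I', hI'⟩ : ∃ I' : Module.End (ZMod 3) W, I' = β * I * β' := ⟨_, rfl⟩
    obtain ⟨J', hJ'⟩ : ∃ J' : Module.End (ZMod 3) W, J' = β * J * β' := ⟨_, rfl⟩
    have hI'σ : I' = σ (b * x₀ * b⁻¹) := by rw [hI', hβ, hβ', hI, map_mul, map_mul]
    have hJ'σ : J' = σ (b * y₀ * b⁻¹) := by rw [hJ', hβ, hβ', hJ, map_mul, map_mul]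
    have hconj2 : ∀ u v : Module.End (ZMod 3) W, (β * u * β') * (β * v * β') = β * (u * v) * β' := by
      intro u v
      calc (β * u * β') * (β * v * β') = β * u * (β' * β) * v * β' := by noncomm_ring
        _ = β * (u * v) * β' := by rw [hβ'β, mul_one]; noncomm_ring
    have hK' : J' * I' = β * (J * I) * β' := by rw [hI', hJ', hconj2]
    have hQT' : QT I' J' := by
      refine ⟨h3, ?_, ?_, ?_⟩
      · rw [hI', hconj2, hQT.II, mul_neg, mul_one, neg_mul, hββ']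
      · rw [hJ', hconj2, hQT.JJ, mul_neg, mul_one, neg_mul, hββ']
      · rw [hK', hI', hJ', hconj2, hQT.IJ, mul_neg, neg_mul]
    have hss' : ss I' J' = β * ss I J * β' := by
      unfold ss
      rw [hK', hI', hJ']
      noncomm_ring
    obtain ⟨a', ha'⟩ : ∃ a' : Γ, a' = b * a₀ * b⁻¹ := ⟨_, rfl⟩
    have ha'A : a' ∈ ⁅B, B⁆ := by
      have e : a' = ⁅b, a₀⁆ * a₀ := by rw [ha', commutatorElement_def]; group
      rw [e]
      exact mul_mem (commutator_mem_commutator hb ha₀B) ha₀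
    have hσa' : σ a' = 1 - ss I' J' := by
      rw [ha', map_mul, map_mul, ← hA, ← hβ, ← hβ', hAeq, hss']
      calc β * (1 - ss I J) * β' = β * β' - β * ss I J * β' := by noncomm_ring
        _ = 1 - β * ss I J * β' := by rw [hββ']
    have hσa'inv : σ a'⁻¹ = 1 + ss I' J' := by
      have e : a'⁻¹ = b * a₀⁻¹ * b⁻¹ := by rw [ha']; group
      rw [e, map_mul, map_mul, ← hA', ← hβ, ← hβ', hA'eq, hss']
      calc β * (1 + ss I J) * β' = β * β' + β * ss I J * β' := by noncomm_ring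
        _ = 1 + β * ss I J * β' := by rw [hββ']
    have hxN' : b * x₀ * b⁻¹ ∈ N := hconjN b hb x₀ hx₀N
    have hyN' : b * y₀ * b⁻¹ ∈ N := hconjN b hb y₀ hy₀N
    have cII : I * I' = I' * I ∨ I * I' = -(I' * I) := by
      rw [hI, hI'σ, ← map_mul, ← map_mul]; exact hpm x₀ hx₀N _ hxN'
    have cIJ : I * J' = J' * I ∨ I * J' = -(J' * I) := by
      rw [hI, hJ'σ, ← map_mul, ← map_mul]; exact hpm x₀ hx₀N _ hyN'
    have cJI : J * I' = I' * J ∨ J * I' = -(I' * J) := by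
      rw [hJ, hI'σ, ← map_mul, ← map_mul]; exact hpm y₀ hy₀N _ hxN'
    have cJJ : J * J' = J' * J ∨ J * J' = -(J' * J) := by
      rw [hJ, hJ'σ, ← map_mul, ← map_mul]; exact hpm y₀ hy₀N _ hyN'
    have hq : ((1 - ss I J) * (1 - ss I' J') - 1) * ((1 - ss I J) * (1 - ss I' J') - 1) = 0 := by
      have := h2 (a₀ * a') (mul_mem ha₀ ha'A)
      rw [map_mul, ← hA, hAeq, hσa'] at this
      exact this
    have hcm : (1 - ss I J) * (1 - ss I' J') = (1 - ss I' J') * (1 - ss I J) := by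
      have := congrArg σ (hAab a₀ ha₀ a' ha'A)
      rw [map_mul, map_mul, ← hA, hAeq, hσa'] at this
      exact this
    have hax : Ax I J (cj (ss I' J') I) := by
      have e1 : cj (ss I' J') I = σ (a' * x₀ * a'⁻¹) := by
        rw [map_mul, map_mul, hσa', hσa'inv, ← hI]
        rfl
      have e2 : a' * x₀ * a'⁻¹ = ⁅a' * n₀ * a'⁻¹, a₀⁆ := by
        rw [hx₀, commutatorElement_def, commutatorElement_def]
        have hc : a' * a₀ = a₀ * a' := hAab a' ha'A a₀ ha₀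
        have hc2 : a₀⁻¹ * a'⁻¹ = a'⁻¹ * a₀⁻¹ := by rw [← mul_inv_rev, ← mul_inv_rev, hc]
        calc a' * (n₀ * a₀ * n₀⁻¹ * a₀⁻¹) * a'⁻¹
            = a' * n₀ * a₀ * n₀⁻¹ * (a₀⁻¹ * a'⁻¹) := by group
          _ = a' * n₀ * a₀ * n₀⁻¹ * (a'⁻¹ * a₀⁻¹) := by rw [hc2]
          _ = a' * n₀ * (a'⁻¹ * (a' * a₀)) * n₀⁻¹ * a'⁻¹ * a₀⁻¹ := by group
          _ = a' * n₀ * (a'⁻¹ * (a₀ * a')) * n₀⁻¹ * a'⁻¹ * a₀⁻¹ := by rw [hc]
          _ = a' * n₀ * a'⁻¹ * a₀ * (a' * n₀ * a'⁻¹)⁻¹ * a₀⁻¹ := by group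
      have hn'' : a' * n₀ * a'⁻¹ ∈ N := hconjN a' (hAB ha'A) n₀ hn₀
      have hsq1 : cj (ss I' J') I * cj (ss I' J') I = -1 := by
        unfold cj
        calc (1 - ss I' J') * I * (1 + ss I' J') * ((1 - ss I' J') * I * (1 + ss I' J'))
            = (1 - ss I' J') * I * ((1 + ss I' J') * (1 - ss I' J')) * I * (1 + ss I' J') := by
              noncomm_ring
          _ = (1 - ss I' J') * (I * I) * (1 + ss I' J') := by
              rw [hQT'.one_add_mul_one_sub, mul_one]; noncomm_ring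
          _ = -((1 - ss I' J') * (1 + ss I' J')) := by rw [hQT.II]; noncomm_ring
          _ = -1 := by rw [hQT'.one_sub_mul_one_add]
      have h := hS1 _ hn''
      rw [← e2, ← e1] at h
      rcases h with h | h | h | h
      · exfalso
        rw [h, one_mul] at hsq1
        exact QT.one_ne_neg_one h3 hne1 hsq1
      · exact Or.inl h
      · exact Or.inr (Or.inr (Or.inl h))
      · exact Or.inr (Or.inr (Or.inr (Or.inr (Or.inl h))))
    obtain ⟨hI'ax, hJ'ax, hK'ax⟩ := hQT.axes_of_conj hQT' hne1 cII cIJ cJI cJJ hq hcm hax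
    have hAxRel : ∀ u, Ax I J u →
        ∃ j : Fin 3, u = ![I, J, J * I] j ∨ u = -![I, J, J * I] j := by
      intro u hu
      rcases hu with h | h | h | h | h | h
      · exact ⟨0, Or.inl h⟩
      · exact ⟨0, Or.inr h⟩
      · exact ⟨1, Or.inl h⟩
      · exact ⟨1, Or.inr h⟩
      · exact ⟨2, Or.inl h⟩
      · exact ⟨2, Or.inr h⟩
    intro i
    fin_cases i
    · obtain ⟨j, hj⟩ := hAxRel I' hI'ax
      refine ⟨j, ?_⟩
      show σ b * I * σ b⁻¹ = _ ∨ σ b * I * σ b⁻¹ = _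
      rw [← hβ, ← hβ', ← hI']
      exact hj
    · obtain ⟨j, hj⟩ := hAxRel J' hJ'ax
      refine ⟨j, ?_⟩
      show σ b * J * σ b⁻¹ = _ ∨ σ b * J * σ b⁻¹ = _
      rw [← hβ, ← hβ', ← hJ']
      exact hj
    · obtain ⟨j, hj⟩ := hAxRel (J' * I') hK'ax
      refine ⟨j, ?_⟩
      show σ b * (J * I) * σ b⁻¹ = _ ∨ σ b * (J * I) * σ b⁻¹ = _
      rw [← hβ, ← hβ', ← hK']
      exact hj
  have hinj : ∀ i j, (![I, J, J * I] i = ![I, J, J * I] j ∨
      ![I, J, J * I] i = -![I, J, J * I] j) → i = j := fun i j e => hQT.axis_inj hne1 e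
  have hfix := commutator_le_fixAxes hinj B hB3 hS2
  have h00 : Rel σ ![I, J, J * I] a₀ 0 0 := hfix ha₀ 0
  have h01 : Rel σ ![I, J, J * I] a₀ 0 1 := by
    left
    show σ a₀ * I * σ a₀⁻¹ = J
    rw [← hA, ← hA', hAI, mul_assoc, hAA', mul_one]
  have h := rel_unique hinj h00 h01
  exact absurd h (by decide)

end Cfsg.Agent.Lib.Helper20.K3End
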