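import Mathlib
import Cfsg.Agent.Lib.Helper20.K3End

/-!
Reduction of the `p = 3` case to the final configuration: a common eigenspace of the central
involutions of the `2`-group `N`, which is invariant under `B`.
-/

set_option autoImplicit false
set_option linter.unusedVariables false

namespace Cfsg.Agent.Lib.Helper20.K3Eigen

open Subgroup
open scoped commutatorElement

variable {Γ : Type*} [Group Γ] {M : Type*} [AddCommGroup M] [Module (ZMod 3) M]
  (ρ : Γ →* Module.End (ZMod 3) M)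

/-- the stabilizer of a submodule -/
def stab (W : Submodule (ZMod 3) M) : Subgroup Γ where
  carrier := {g | (∀ w ∈ W, ρ g w ∈ W) ∧ (∀ w ∈ W, ρ g⁻¹ w ∈ W)}
  one_mem' := ⟨fun w hw => by rw [map_one]; exact hw, fun w hw => by rw [inv_one, map_one]; exact hw⟩
  mul_mem' := fun {g h} hg hh => ⟨fun w hw => by rw [map_mul]; exact hg.1 _ (hh.1 w hw),
    fun w hw => by rw [mul_inv_rev, map_mul]; exact hh.2 _ (hg.2 w hw)⟩
  inv_mem' := fun {g} hg => ⟨hg.2, fun w hw => by rw [inv_inv]; exact hg.1 w hw⟩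

/-- the restricted representation -/
def res (W : Submodule (ZMod 3) M) : ↥(stab ρ W) →* Module.End (ZMod 3) ↥W where
  toFun g := (ρ (g : Γ)).restrict g.2.1
  map_one' := by
    ext w
    simp
  map_mul' g h := by
    ext w
    simp

theorem res_apply (W : Submodule (ZMod 3) M) (g : ↥(stab ρ W)) (w : ↥W) :
    ((res ρ W g w : ↥W) : M) = ρ (g : Γ) (w : M) := rfl

theorem comm_sq_eq_one {x y : Γ} (hcx : ⁅x, y⁆ * x = x * ⁅x, y⁆)
    (hxxy : x * x * y = y * (x * x)) : ⁅x, y⁆ * ⁅x, y⁆ = 1 := by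
  have e : ⁅x, y⁆ = x * y * x⁻¹ * y⁻¹ := commutatorElement_def x y
  calc ⁅x, y⁆ * ⁅x, y⁆ = ⁅x, y⁆ * (x * y * x⁻¹ * y⁻¹) := by rw [← e]
    _ = (⁅x, y⁆ * x) * y * x⁻¹ * y⁻¹ := by group
    _ = (x * ⁅x, y⁆) * y * x⁻¹ * y⁻¹ := by rw [hcx]
    _ = (x * x * y) * x⁻¹ * x⁻¹ * y⁻¹ := by rw [e]; group
    _ = (y * (x * x)) * x⁻¹ * x⁻¹ * y⁻¹ := by rw [hxxy]
    _ = 1 := by group

theorem eq_zero_of_eq_neg (v : M) (h : v = -v) : v = 0 := by
  have e2 : v + v = 0 := by nth_rewrite 2 [h]; exact add_neg_cancel v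
  have e3 : (3 : ℕ) • v = 0 := ZModModule.char_nsmul_eq_zero 3 v
  have e4 : v = (3 : ℕ) • v - (v + v) := by
    rw [succ_nsmul, succ_nsmul, one_nsmul]; abel
  rw [e4, e3, e2, sub_zero]

variable [Finite M]

theorem exists_eigen (Pz : Γ → Prop) (hPc : ∀ z z', Pz z → Pz z' → z * z' = z' * z)
    (hP2 : ∀ z, Pz z → z * z = 1) (z₀ : Γ) (hz₀ : Pz z₀) (hρz₀ : ρ z₀ ≠ 1) :
    ∃ (lam : Γ → ZMod 3) (Wl : Submodule (ZMod 3) M), Wl ≠ ⊥ ∧ (∀ z, lam z = 1 ∨ lam z = -1) ∧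
      lam z₀ = -1 ∧ (∀ v, v ∈ Wl ↔ ∀ z, Pz z → ρ z v = lam z • v) := by
  classical
  have hinvol : ∀ z, Pz z → ∀ v, ρ z (ρ z v) = v := by
    intro z hz v
    rw [← Module.End.mul_apply, ← map_mul, hP2 z hz, map_one]
    rfl
  have hcomm : ∀ z z', Pz z → Pz z' → ∀ v, ρ z (ρ z' v) = ρ z' (ρ z v) := by
    intro z z' hz hz' v
    rw [← Module.End.mul_apply, ← map_mul, hPc z z' hz hz', map_mul]
    rfl
  let S : Set (Submodule (ZMod 3) M) :=
    {U | U ≠ ⊥ ∧ (∀ z, Pz z → ∀ u ∈ U, ρ z u ∈ U) ∧ ∀ u ∈ U, ρ z₀ u = -u}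
  have hS0 : LinearMap.ker (ρ z₀ + 1) ∈ S := by
    refine ⟨?_, ?_, ?_⟩
    · intro h
      have hinj : Function.Injective ((ρ z₀ + 1 : Module.End (ZMod 3) M) : M → M) :=
        LinearMap.ker_eq_bot.mp h
      apply hρz₀
      ext v
      have h1 : (ρ z₀ + 1) (ρ z₀ v - v) = 0 := by
        rw [LinearMap.add_apply, map_sub, hinvol z₀ hz₀]
        simp
      have h2 := hinj (h1.trans (map_zero _).symm)
      rw [Module.End.one_apply]
      exact sub_eq_zero.mp h2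
    · intro z hz u hu
      rw [LinearMap.mem_ker, LinearMap.add_apply, Module.End.one_apply] at hu ⊢
      rw [hcomm z₀ z hz₀ hz, ← map_add, hu, map_zero]
    · intro u hu
      rw [LinearMap.mem_ker, LinearMap.add_apply, Module.End.one_apply] at hu
      exact eq_neg_of_add_eq_zero_left hu
  have hex : ∃ n, ∃ U ∈ S, Nat.card U = n := ⟨_, _, hS0, rfl⟩
  obtain ⟨U, hUS, hUn⟩ := Nat.find_spec hex
  have hmin : ∀ U' ∈ S, Nat.card U ≤ Nat.card U' := fun U' hU' => by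
    rw [hUn]; exact Nat.find_min' hex ⟨U', hU', rfl⟩
  have hdich : ∀ z, Pz z → (∀ u ∈ U, ρ z u = u) ∨ (∀ u ∈ U, ρ z u = -u) := by
    intro z hz
    obtain ⟨Up, hUp⟩ : ∃ Up : Submodule (ZMod 3) M, Up = U ⊓ LinearMap.ker (ρ z - 1) := ⟨_, rfl⟩
    have hmemUp : ∀ u, u ∈ Up ↔ u ∈ U ∧ ρ z u = u := by
      intro u
      rw [hUp, Submodule.mem_inf, LinearMap.mem_ker, LinearMap.sub_apply, Module.End.one_apply,
        sub_eq_zero]
    by_cases hbot : Up = ⊥
    · right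
      intro u hu
      have h1 : u + ρ z u ∈ Up := by
        rw [hmemUp]
        refine ⟨U.add_mem hu (hUS.2.1 z hz u hu), ?_⟩
        rw [map_add, hinvol z hz, add_comm]
      rw [hbot, Submodule.mem_bot] at h1
      exact eq_neg_of_add_eq_zero_right h1
    · left
      have hUpS : Up ∈ S := by
        refine ⟨hbot, ?_, fun u hu => hUS.2.2 u ((hmemUp u).mp hu).1⟩
        intro z' hz' u hu
        rw [hmemUp] at hu ⊢
        refine ⟨hUS.2.1 z' hz' u hu.1, ?_⟩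
        rw [hcomm z z' hz hz', hu.2]
      have hle : Up ≤ U := by rw [hUp]; exact inf_le_left
      have hcard := hmin Up hUpS
      have heq : (Up : Set M) = (U : Set M) := by
        apply Set.eq_of_subset_of_ncard_le hle _ (Set.toFinite _)
        rw [← Nat.card_coe_set_eq, ← Nat.card_coe_set_eq]
        exact hcard
      intro u hu
      have : u ∈ (Up : Set M) := by rw [heq]; exact hu
      exact ((hmemUp u).mp this).2
  have hUne : ∃ u ∈ U, u ≠ 0 := by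
    by_contra hcon
    push Not at hcon
    apply hUS.1
    rw [eq_bot_iff]
    intro u hu
    rw [Submodule.mem_bot]
    exact hcon u hu
  let lam : Γ → ZMod 3 := fun z => if ∀ u ∈ U, ρ z u = u then 1 else -1
  let Wl : Submodule (ZMod 3) M :=
    { carrier := {v | ∀ z, Pz z → ρ z v = lam z • v}
      add_mem' := fun {v w} hv hw z hz => by rw [map_add, hv z hz, hw z hz, smul_add]
      zero_mem' := fun z hz => by rw [map_zero, smul_zero]
      smul_mem' := fun c v hv z hz => by rw [map_smul, hv z hz, smul_comm] }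
  have hUW : U ≤ Wl := by
    intro u hu z hz
    show ρ z u = lam z • u
    by_cases hl : ∀ u ∈ U, ρ z u = u
    · have : lam z = 1 := if_pos hl
      rw [this, one_smul]
      exact hl u hu
    · have : lam z = -1 := if_neg hl
      rw [this, neg_smul, one_smul]
      rcases hdich z hz with h | h
      · exact absurd h hl
      · exact h u hu
  refine ⟨lam, Wl, ?_, ?_, ?_, fun v => Iff.rfl⟩
  · intro h
    apply hUS.1
    rw [eq_bot_iff, ← h]
    exact hUW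
  · intro z
    show (if ∀ u ∈ U, ρ z u = u then (1 : ZMod 3) else -1) = 1 ∨
      (if ∀ u ∈ U, ρ z u = u then (1 : ZMod 3) else -1) = -1
    split_ifs
    · exact Or.inl rfl
    · exact Or.inr rfl
  · have hl : ¬ ∀ u ∈ U, ρ z₀ u = u := by
      intro h
      obtain ⟨u, hu, hu0⟩ := hUne
      apply hu0
      apply eq_zero_of_eq_neg
      rw [← hUS.2.2 u hu]
      exact (h u hu).symm
    exact if_neg hl

omit [Finite M] in
theorem res_sub_one_apply (W : Submodule (ZMod 3) M) (g : ↥(stab ρ W)) (w : ↥W) :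
    (((res ρ W g - 1) w : ↥W) : M) = (ρ (g : Γ) - 1) (w : M) := rfl

variable [Finite Γ]

theorem stage1b (hinj : Function.Injective ρ) (N B Z : Subgroup Γ)
    (hN2 : IsPGroup 2 N) (hB3 : IsPGroup 3 B) (hBN : B ≤ normalizer (N : Set Γ))
    (hAab : ∀ a ∈ ⁅B, B⁆, ∀ a' ∈ ⁅B, B⁆, a * a' = a' * a)
    (h2 : ∀ a ∈ ⁅B, B⁆, (ρ a - 1) * (ρ a - 1) = 0)
    (h3 : ∀ a ∈ ⁅B, B⁆, ∀ b ∈ B, ∀ b' ∈ B,
      ρ a * ((ρ b - 1) * (ρ b' - 1)) = (ρ b - 1) * (ρ b' - 1))
    (hNA : N ≤ ⁅N, ⁅B, B⁆⁆)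
    (hZN : Z ≤ N) (hBZ : B ≤ normalizer (Z : Set Γ))
    (hZc : ∀ z ∈ Z, ∀ g ∈ N, z * g = g * z)
    (hZA : ∀ z ∈ Z, ∀ a ∈ ⁅B, B⁆, a * z = z * a)
    (hsq : ∀ x ∈ N, x * x ∈ Z) (hcomm : ∀ x ∈ N, ∀ y ∈ N, ⁅x, y⁆ ∈ Z)
    (hnonab : ∃ g ∈ N, ∃ h ∈ N, g * h ≠ h * g) : False := by
  classical
  have hAB : ⁅B, B⁆ ≤ B := by
    rw [commutator_le]
    intro g₁ h₁ g₂ h₂
    rw [commutatorElement_def]
    exact mul_mem (mul_mem (mul_mem h₁ h₂) (inv_mem h₁)) (inv_mem h₂)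
  have hA3 : ∀ a ∈ ⁅B, B⁆, a ^ 3 = 1 := by
    intro a ha
    apply hinj
    rw [map_pow, map_one]
    have e : ρ a = 1 + (ρ a - 1) := by abel
    rw [e, Cfsg.Agent.Lib.Helper20.HHQuad.one_add_pow_of_sq_zero (h2 a ha),
      ZModModule.char_nsmul_eq_zero 3, add_zero]
  let Pz : Γ → Prop := fun z => z ∈ Z ∧ z * z = 1
  have hPc : ∀ z z', Pz z → Pz z' → z * z' = z' * z :=
    fun z z' hz hz' => hZc z hz.1 z' (hZN hz'.1)
  have hP2 : ∀ z, Pz z → z * z = 1 := fun z hz => hz.2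
  have hPcomm : ∀ x ∈ N, ∀ y ∈ N, Pz ⁅x, y⁆ := by
    intro x hx y hy
    exact ⟨hcomm x hx y hy, comm_sq_eq_one (hZc _ (hcomm x hx y hy) x hx)
      (hZc _ (hsq x hx) y hy)⟩
  obtain ⟨g, hg, h, hh, hgh⟩ := hnonab
  obtain ⟨z₀, hz₀⟩ : ∃ z₀ : Γ, z₀ = ⁅g, h⁆ := ⟨_, rfl⟩
  have hz₀P : Pz z₀ := by rw [hz₀]; exact hPcomm g hg h hh
  have hz₀1 : z₀ ≠ 1 := by
    intro e
    apply hgh
    rw [hz₀, commutatorElement_eq_one_iff_mul_comm] at e
    exact e
  have hρz₀ : ρ z₀ ≠ 1 := fun e => hz₀1 (hinj (e.trans (map_one ρ).symm))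
  obtain ⟨lam, Wl, hWne, hlam, hlamz₀, hWmem⟩ := exists_eigen ρ Pz hPc hP2 z₀ hz₀P hρz₀
  have hlamsq : ∀ z, lam z * lam z = 1 := by
    intro z
    rcases hlam z with e | e <;> rw [e] <;> simp
  have hNmem : ∀ n ∈ N, ∀ w ∈ Wl, ρ n w ∈ Wl := by
    intro n hn w hw
    rw [hWmem] at hw ⊢
    intro z hz
    have e : z * n = n * z := hZc z hz.1 n hn
    rw [← Module.End.mul_apply, ← map_mul, e, map_mul, Module.End.mul_apply, hw z hz, map_smul]
  have hNS : N ≤ stab ρ Wl := fun n hn => ⟨hNmem n hn, hNmem n⁻¹ (inv_mem hn)⟩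
  have hWex : ∃ v ∈ Wl, v ≠ 0 := by
    by_contra hcon
    push Not at hcon
    apply hWne
    rw [eq_bot_iff]
    intro u hu
    rw [Submodule.mem_bot]
    exact hcon u hu
  have hconjP : ∀ b ∈ B, ∀ z, Pz z → Pz (b⁻¹ * z * b) := by
    intro b hb z hz
    refine ⟨?_, ?_⟩
    · have := (mem_normalizer_iff.mp (hBZ (inv_mem hb)) z).mp hz.1
      rwa [inv_inv] at this
    · have e : b⁻¹ * z * b * (b⁻¹ * z * b) = b⁻¹ * (z * z) * b := by group
      rw [e, hz.2]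
      group
  have hlamB : ∀ b ∈ B, ∀ z, Pz z → lam (b⁻¹ * z * b) = lam z := by
    by_contra hcon
    push Not at hcon
    obtain ⟨b, hb, z₁, hz₁, hne⟩ := hcon
    obtain ⟨z₂, hz₂e⟩ : ∃ z₂ : Γ, z₂ = b⁻¹ * z₁ * b := ⟨_, rfl⟩
    rw [← hz₂e] at hne
    have hz₂ : Pz z₂ := by rw [hz₂e]; exact hconjP b hb z₁ hz₁
    have hl12 : lam z₁ * lam z₂ = -1 := by
      rcases hlam z₁ with e1 | e1 <;> rcases hlam z₂ with e2 | e2
      · exact absurd (e2.trans e1.symm) hne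
      · rw [e1, e2]; simp
      · rw [e1, e2]; simp
      · exact absurd (e2.trans e1.symm) hne
    have hl21 : lam z₂ * lam z₁ = -1 := by rw [mul_comm]; exact hl12
    have htriv : ∀ a ∈ ⁅B, B⁆, ∀ v ∈ Wl, ρ a v = v := by
      intro a ha v hv
      have hv' := (hWmem v).mp hv
      have f₁ : ρ z₁ v = lam z₁ • v := hv' z₁ hz₁
      have f₂ : ρ z₂ v = lam z₂ • v := hv' z₂ hz₂
      have f₃ : ρ z₁ (ρ b v) = lam z₂ • ρ b v := by
        have e : z₁ * b = b * z₂ := by rw [hz₂e]; group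
        rw [← Module.End.mul_apply, ← map_mul, e, map_mul, Module.End.mul_apply, f₂, map_smul]
      have f₄ : ρ z₂ (ρ b⁻¹ v) = lam z₁ • ρ b⁻¹ v := by
        have e : z₂ * b⁻¹ = b⁻¹ * z₁ := by rw [hz₂e]; group
        rw [← Module.End.mul_apply, ← map_mul, e, map_mul, Module.End.mul_apply, f₁, map_smul]
      obtain ⟨E₁, hE₁⟩ : ∃ E₁ : Module.End (ZMod 3) M, E₁ = 1 + lam z₁ • ρ z₁ := ⟨_, rfl⟩
      obtain ⟨E₂, hE₂⟩ : ∃ E₂ : Module.End (ZMod 3) M, E₂ = 1 + lam z₂ • ρ z₂ := ⟨_, rfl⟩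
      have hE₁a : ∀ x, E₁ x = x + lam z₁ • ρ z₁ x := fun x => by rw [hE₁]; rfl
      have hE₂a : ∀ x, E₂ x = x + lam z₂ • ρ z₂ x := fun x => by rw [hE₂]; rfl
      have hE₁v : E₁ v = v + v := by rw [hE₁a, f₁, smul_smul, hlamsq, one_smul]
      have hE₂v : E₂ v = v + v := by rw [hE₂a, f₂, smul_smul, hlamsq, one_smul]
      have hE₁b : E₁ (ρ b v) = 0 := by
        rw [hE₁a, f₃, smul_smul, hl12, neg_smul, one_smul, add_neg_cancel]
      have hE₂b : E₂ (ρ b⁻¹ v) = 0 := by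
        rw [hE₂a, f₄, smul_smul, hl21, neg_smul, one_smul, add_neg_cancel]
      have hzz : ρ z₁ * ρ z₂ = ρ z₂ * ρ z₁ := by
        rw [← map_mul, ← map_mul, hPc z₁ z₂ hz₁ hz₂]
      have hE₁₂ : E₁ * E₂ = E₂ * E₁ := by
        have c0 : Commute (ρ z₁) (ρ z₂) := hzz
        have c1 : Commute (lam z₁ • ρ z₁) (lam z₂ • ρ z₂) :=
          Commute.smul_left (Commute.smul_right c0 _) _
        rw [hE₁, hE₂]
        exact Commute.add_left (Commute.one_left _) (Commute.add_right (Commute.one_right _) c1)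
      have haz₁ : Commute (ρ a) (ρ z₁) := by
        show ρ a * ρ z₁ = ρ z₁ * ρ a
        rw [← map_mul, ← map_mul, hZA z₁ hz₁.1 a ha]
      have haz₂ : Commute (ρ a) (ρ z₂) := by
        show ρ a * ρ z₂ = ρ z₂ * ρ a
        rw [← map_mul, ← map_mul, hZA z₂ hz₂.1 a ha]
      have haE₁ : ρ a * E₁ = E₁ * ρ a := by
        rw [hE₁]
        exact Commute.add_right (Commute.one_right _) (Commute.smul_right haz₁ _)
      have haE₂ : ρ a * E₂ = E₂ * ρ a := by
        rw [hE₂]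
        exact Commute.add_right (Commute.one_right _) (Commute.smul_right haz₂ _)
      obtain ⟨Y, hY⟩ : ∃ Y : Module.End (ZMod 3) M, Y = (ρ b - 1) * (ρ b⁻¹ - 1) := ⟨_, rfl⟩
      have hbb : ρ b (ρ b⁻¹ v) = v := by
        rw [← Module.End.mul_apply, ← map_mul, mul_inv_cancel, map_one]; rfl
      have hYv : Y v = v + v - ρ b v - ρ b⁻¹ v := by
        rw [hY, Module.End.mul_apply, LinearMap.sub_apply, LinearMap.sub_apply, Module.End.one_apply,
          Module.End.one_apply, map_sub, hbb]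
        abel
      have haY : ρ a * Y = Y := by rw [hY]; exact h3 a ha b hb b⁻¹ (inv_mem hb)
      have hX : (E₂ * E₁ * Y) v = -v := by
        have k1 : E₂ (E₁ v) = (v + v) + (v + v) := by rw [hE₁v, map_add, hE₂v]
        have k2 : E₂ (E₁ (ρ b v)) = 0 := by rw [hE₁b, map_zero]
        have k3 : E₂ (E₁ (ρ b⁻¹ v)) = 0 := by
          rw [← Module.End.mul_apply, ← hE₁₂, Module.End.mul_apply, hE₂b, map_zero]
        rw [Module.End.mul_apply, Module.End.mul_apply, hYv]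
        simp only [map_sub, map_add]
        rw [k1, k2, k3, sub_zero, sub_zero]
        have e9 : (3 : ℕ) • v = 0 := ZModModule.char_nsmul_eq_zero 3 v
        have e : v + v + (v + v) + (v + v + (v + v)) = (3 : ℕ) • ((3 : ℕ) • v) - v := by
          rw [succ_nsmul, succ_nsmul, one_nsmul, succ_nsmul, succ_nsmul, one_nsmul]; abel
        rw [e, e9, smul_zero, zero_sub]
      have haX : ρ a * (E₂ * E₁ * Y) = E₂ * E₁ * Y := by
        calc ρ a * (E₂ * E₁ * Y) = (ρ a * E₂) * E₁ * Y := by noncomm_ring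
          _ = E₂ * (ρ a * E₁) * Y := by rw [haE₂]; noncomm_ring
          _ = E₂ * E₁ * (ρ a * Y) := by rw [haE₁]; noncomm_ring
          _ = E₂ * E₁ * Y := by rw [haY]
      have h9 := congrArg (fun f : Module.End (ZMod 3) M => f v) haX
      simp only [Module.End.mul_apply] at h9
      have h10 : ρ a ((E₂ * E₁ * Y) v) = (E₂ * E₁ * Y) v := by
        simp only [Module.End.mul_apply]
        exact h9
      rw [hX, map_neg] at h10
      exact neg_injective h10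
    -- the subgroup acting trivially
    let T : Subgroup Γ :=
      { carrier := {t | ∀ v ∈ Wl, ρ t v = v}
        one_mem' := fun v _ => by rw [map_one]; rfl
        mul_mem' := fun {s t} hs ht v hv => by
          rw [map_mul, Module.End.mul_apply, ht v hv, hs v hv]
        inv_mem' := fun {s} hs v hv => by
          have : ρ s⁻¹ (ρ s v) = v := by
            rw [← Module.End.mul_apply, ← map_mul, inv_mul_cancel, map_one]; rfl
          rw [hs v hv] at this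
          exact this }
    have hNT : N ≤ T := by
      refine le_trans hNA ?_
      rw [commutator_le]
      intro n hn a ha v hv
      rw [commutatorElement_def, map_mul, map_mul, map_mul, Module.End.mul_apply,
        Module.End.mul_apply, Module.End.mul_apply, htriv a⁻¹ (inv_mem ha) v hv,
        htriv a ha _ (hNmem n⁻¹ (inv_mem hn) v hv), ← Module.End.mul_apply, ← map_mul,
        mul_inv_cancel, map_one]
      rfl
    obtain ⟨v, hv, hv0⟩ := hWex
    apply hv0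
    apply eq_zero_of_eq_neg
    have h1 : ρ z₀ v = v := hNT (hZN hz₀P.1) v hv
    have h2' : ρ z₀ v = lam z₀ • v := (hWmem v).mp hv z₀ hz₀P
    rw [hlamz₀, neg_smul, one_smul] at h2'
    rw [← h2', h1]
  have hBmem : ∀ b ∈ B, ∀ w ∈ Wl, ρ b w ∈ Wl := by
    intro b hb w hw
    rw [hWmem] at hw ⊢
    intro z hz
    have e : z * b = b * (b⁻¹ * z * b) := by group
    rw [← Module.End.mul_apply, ← map_mul, e, map_mul, Module.End.mul_apply,
      hw _ (hconjP b hb z hz), map_smul, hlamB b hb z hz]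
  have hBS : B ≤ stab ρ Wl := fun b hb => ⟨hBmem b hb, hBmem b⁻¹ (inv_mem hb)⟩
  have hkey : ∀ x ∈ N, ∀ y ∈ N, ∀ w ∈ Wl, ρ (x * y) w = lam ⁅x, y⁆ • ρ (y * x) w := by
    intro x hx y hy w hw
    have e : x * y = ⁅x, y⁆ * (y * x) := by rw [commutatorElement_def]; group
    have hw' : ρ (y * x) w ∈ Wl := hNmem _ (mul_mem hy hx) w hw
    nth_rewrite 1 [e]
    rw [map_mul, Module.End.mul_apply]
    exact (hWmem _).mp hw' _ (hPcomm x hx y hy)
  -- the restricted configuration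
  obtain ⟨σ, hσ⟩ : ∃ σ : ↥(stab ρ Wl) →* Module.End (ZMod 3) ↥Wl, σ = res ρ Wl := ⟨_, rfl⟩
  have hσa : ∀ (t : ↥(stab ρ Wl)) (w : ↥Wl), ((σ t w : ↥Wl) : M) = ρ (t : Γ) (w : M) := by
    intro t w; rw [hσ]; rfl
  obtain ⟨N₂, hN₂⟩ : ∃ N₂ : Subgroup ↥(stab ρ Wl), N₂ = N.subgroupOf (stab ρ Wl) := ⟨_, rfl⟩
  obtain ⟨B₂, hB₂⟩ : ∃ B₂ : Subgroup ↥(stab ρ Wl), B₂ = B.subgroupOf (stab ρ Wl) := ⟨_, rfl⟩
  have hmapB : B₂.map (stab ρ Wl).subtype = B := by rw [hB₂]; exact map_subgroupOf_eq_of_le hBS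
  have hmapN : N₂.map (stab ρ Wl).subtype = N := by rw [hN₂]; exact map_subgroupOf_eq_of_le hNS
  have hmapA : (⁅B₂, B₂⁆).map (stab ρ Wl).subtype = ⁅B, B⁆ := by rw [map_commutator, hmapB]
  have hA₂ : ∀ a ∈ ⁅B₂, B₂⁆, (a : Γ) ∈ ⁅B, B⁆ := fun a ha => by
    rw [← hmapA]; exact mem_map_of_mem _ ha
  have hN₂mem : ∀ n : ↥(stab ρ Wl), n ∈ N₂ ↔ (n : Γ) ∈ N := fun n => by
    rw [hN₂]; exact mem_subgroupOf
  have hB₂mem : ∀ n : ↥(stab ρ Wl), n ∈ B₂ ↔ (n : Γ) ∈ B := fun n => by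
    rw [hB₂]; exact mem_subgroupOf
  have hWfin : Finite ↥Wl := inferInstance
  apply Cfsg.Agent.Lib.Helper20.K3End.stage2 σ N₂ B₂
  · rw [hN₂]; exact hN2.of_equiv (subgroupOfEquivOfLe hNS).symm
  · rw [hB₂]; exact hB3.of_equiv (subgroupOfEquivOfLe hBS).symm
  · intro b hb
    rw [mem_normalizer_iff]
    intro n
    rw [hN₂mem, hN₂mem]
    exact mem_normalizer_iff.mp (hBN ((hB₂mem b).mp hb)) n
  · intro a ha a' ha'
    apply Subtype.ext
    exact hAab _ (hA₂ a ha) _ (hA₂ a' ha')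
  · intro a ha
    apply Subtype.ext
    rw [coe_pow]
    exact hA3 _ (hA₂ a ha)
  · intro a ha
    ext w
    show (((σ a - 1) ((σ a - 1) w) : ↥Wl) : M) = 0
    rw [hσ, res_sub_one_apply, res_sub_one_apply, ← Module.End.mul_apply, h2 _ (hA₂ a ha)]
    rfl
  · intro x hx y hy
    have hx' := (hN₂mem x).mp hx
    have hy' := (hN₂mem y).mp hy
    rcases hlam ⁅(x : Γ), (y : Γ)⁆ with e | e
    · left
      ext w
      rw [hσa, hσa]
      have := hkey _ hx' _ hy' w w.2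
      rw [e, one_smul] at this
      exact this
    · right
      ext w
      rw [LinearMap.neg_apply, Submodule.coe_neg, hσa, hσa]
      have := hkey _ hx' _ hy' w w.2
      rw [e, neg_smul, one_smul] at this
      exact this
  · refine ⟨⟨g, hNS hg⟩, (hN₂mem _).mpr hg, ⟨h, hNS hh⟩, (hN₂mem _).mpr hh, ?_⟩
    intro e
    obtain ⟨v, hv, hv0⟩ := hWex
    apply hv0
    have h1 := hkey g hg h hh v hv
    rw [← hz₀, hlamz₀, neg_smul, one_smul] at h1
    have h2' := congrArg (fun f : Module.End (ZMod 3) ↥Wl => ((f ⟨v, hv⟩ : ↥Wl) : M)) e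
    simp only [hσa] at h2'
    have h3' : ρ (h * g) v = 0 := by
      apply eq_zero_of_eq_neg
      rw [← h1]
      exact h2'.symm
    have h4 : ρ (h * g)⁻¹ (ρ (h * g) v) = v := by
      rw [← Module.End.mul_apply, ← map_mul, inv_mul_cancel, map_one]; rfl
    rw [h3', map_zero] at h4
    exact h4.symm
  · intro x hx a ha
    have hx' := (hN₂mem x).mp hx
    congr 1
    apply Subtype.ext
    show (a : Γ) * ((x : Γ) * (x : Γ)) * (a : Γ)⁻¹ = (x : Γ) * (x : Γ)
    rw [hZA _ (hsq _ hx') _ (hA₂ a ha)]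
    group
  · intro n hn
    have hn' := (hN₂mem n).mp hn
    have h1 := hNA hn'
    rw [← hmapN, ← hmapA, ← map_commutator] at h1
    obtain ⟨n', hn'', e⟩ := h1
    have : n' = n := Subtype.ext e
    rw [← this]
    exact hn''

end Cfsg.Agent.Lib.Helper20.K3Eigen
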