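import Mathlib
import Cfsg.Agent.Lib.Helper20.K3Eigen
import Cfsg.Agent.Lib.Helper1.Frattini
import Cfsg.Agent.Lib.Helper1.CoprimeSylow

/-!
A `p`-group `B` (`p` odd) of linear maps in characteristic `p` whose commutator subgroup is abelian,
acts quadratically, and acts faithfully on a normalized `p'`-group, has trivial commutator
subgroup, provided `⁅B, B⁆` fixes the images of `(b - 1) * (b' - 1)`.
-/

set_option autoImplicit false
set_option linter.unusedVariables false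

namespace Cfsg.Agent.Lib.Helper20.K3Setup

open Subgroup
open scoped commutatorElement

universe u

theorem le_normalizer_commutator {G : Type u} [Group G] {X H₁ H₂ : Subgroup G}
    (h1 : X ≤ normalizer (H₁ : Set G)) (h2 : X ≤ normalizer (H₂ : Set G)) :
    X ≤ normalizer ((⁅H₁, H₂⁆ : Subgroup G) : Set G) := by
  apply Cfsg.Agent.Lib.Helper1.le_normalizer_of_forall_conj_mem
  intro x hx n hn
  induction hn using Subgroup.closure_induction with
  | mem y hy =>
    obtain ⟨k, hk, a, ha, rfl⟩ := hy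
    have e : x * ⁅k, a⁆ * x⁻¹ = ⁅x * k * x⁻¹, x * a * x⁻¹⁆ := by
      simp only [commutatorElement_def]; group
    rw [e]
    exact Subgroup.commutator_mem_commutator ((mem_normalizer_iff.mp (h1 hx) k).mp hk)
      ((mem_normalizer_iff.mp (h2 hx) a).mp ha)
  | one => simp
  | mul y z _ _ hy hz =>
    have : x * (y * z) * x⁻¹ = (x * y * x⁻¹) * (x * z * x⁻¹) := by group
    rw [this]; exact mul_mem hy hz
  | inv y _ hy =>
    have : x * y⁻¹ * x⁻¹ = (x * y * x⁻¹)⁻¹ := by group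
    rw [this]; exact inv_mem hy

/-- an element not centralizing `K` fails to centralize some invariant Sylow subgroup of `K`. -/
theorem exists_sylow_not_comm {G : Type u} [Group G] [Finite G] {A K : Subgroup G}
    (hact : Cfsg.Agent.Lib.Helper1.CoprimeAct A K) (y : G) (hy : ∃ g ∈ K, y * g ≠ g * y) :
    ∃ (q : ℕ) (_ : Fact q.Prime) (Q : Sylow q ↥K),
      A ≤ normalizer (((Q : Subgroup ↥K).map K.subtype : Subgroup G) : Set G) ∧
      ∃ a ∈ (Q : Subgroup ↥K).map K.subtype, y * a ≠ a * y := by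
  by_contra hno
  push Not at hno
  obtain ⟨g, hg, hne⟩ := hy
  apply hne
  have hCK' : K ⊓ centralizer ({y} : Set G) ≤ K := inf_le_left
  have hdvd : Nat.card K ∣ Nat.card ↥(K ⊓ centralizer ({y} : Set G)) := by
    rw [← Nat.factorization_le_iff_dvd (Nat.card_pos.ne') (Nat.card_pos.ne')]
    rw [Finsupp.le_def]
    intro q
    by_cases hq : q.Prime
    · have : Fact q.Prime := ⟨hq⟩
      obtain ⟨Q, hQ⟩ := hact.exists_invariant_sylow q
      have hQC : (Q : Subgroup ↥K).map K.subtype ≤ K ⊓ centralizer ({y} : Set G) := by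
        intro a ha
        refine mem_inf.mpr ⟨map_subtype_le _ ha, ?_⟩
        rw [mem_centralizer_iff]
        intro z hz
        rw [Set.mem_singleton_iff] at hz
        rw [hz]
        exact hno q ⟨hq⟩ Q hQ a ha
      have hcardQ : Nat.card ((Q : Subgroup ↥K).map K.subtype) =
          q ^ (Nat.card K).factorization q := by
        rw [Subgroup.card_map_of_injective K.subtype_injective]
        exact Q.card_eq_multiplicity
      have h1 : q ^ (Nat.card K).factorization q ∣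
          Nat.card ↥(K ⊓ centralizer ({y} : Set G)) := by
        rw [← hcardQ]; exact Subgroup.card_dvd_of_le hQC
      exact (hq.pow_dvd_iff_le_factorization Nat.card_pos.ne').mp h1
    · rw [Nat.factorization_eq_zero_of_not_prime _ hq]; exact Nat.zero_le _
  have hCeq : K ⊓ centralizer ({y} : Set G) = K :=
    Subgroup.eq_of_le_of_card_ge hCK' (Nat.le_of_dvd Nat.card_pos hdvd)
  have h1 : g ∈ K ⊓ centralizer ({y} : Set G) := by rw [hCeq]; exact hg
  have h2 := (mem_inf.mp h1).2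
  exact mem_centralizer_iff.mp h2 y (Set.mem_singleton _)

theorem commutator_eq_bot {p : ℕ} [Fact p.Prime] (hp2 : p ≠ 2) {Γ : Type u} [Group Γ] [Finite Γ]
    {M : Type*} [AddCommGroup M] [Module (ZMod p) M] [Finite M]
    (ρ : Γ →* Module.End (ZMod p) M) (hinj : Function.Injective ρ) (B L : Subgroup Γ)
    (hBp : IsPGroup p B) (hBL : B ≤ normalizer (L : Set Γ)) (hL : (Nat.card L).Coprime p)
    (hAab : ∀ a ∈ ⁅B, B⁆, ∀ a' ∈ ⁅B, B⁆, a * a' = a' * a)
    (hfaith : ∀ a ∈ ⁅B, B⁆, (∀ g ∈ L, a * g = g * a) → a = 1)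
    (h2 : ∀ a ∈ ⁅B, B⁆, (ρ a - 1) * (ρ a - 1) = 0)
    (h3 : ∀ a ∈ ⁅B, B⁆, ∀ b ∈ B, ∀ b' ∈ B,
      ρ a * ((ρ b - 1) * (ρ b' - 1)) = (ρ b - 1) * (ρ b' - 1)) :
    ⁅B, B⁆ = ⊥ := by
  classical
  by_contra hne
  have hp : p.Prime := Fact.out
  obtain ⟨a₁, ha₁, ha₁1⟩ : ∃ a ∈ ⁅B, B⁆, a ≠ 1 := by
    by_contra h
    push Not at h
    exact hne ((eq_bot_iff_forall _).mpr h)
  have hL0 : ∃ a ∈ ⁅B, B⁆, ∃ g ∈ L, a * g ≠ g * a := by
    by_contra h
    push Not at h
    exact ha₁1 (hfaith a₁ ha₁ (h a₁ ha₁))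
  let S : Set (Subgroup Γ) :=
    {N | N ≤ L ∧ B ≤ normalizer (N : Set Γ) ∧ ∃ a ∈ ⁅B, B⁆, ∃ g ∈ N, a * g ≠ g * a}
  have hex : ∃ n, ∃ N ∈ S, Nat.card N = n := ⟨_, L, ⟨le_rfl, hBL, hL0⟩, rfl⟩
  obtain ⟨N, ⟨hNL, hBN, a, ha, g, hg, hag⟩, hNn⟩ := Nat.find_spec hex
  have hmin : ∀ N' ∈ S, Nat.card N ≤ Nat.card N' := fun N' hN' => by
    rw [hNn]; exact Nat.find_min' hex ⟨N', hN', rfl⟩
  have hM : ∀ Y : Subgroup Γ, Y ≤ N → B ≤ normalizer (Y : Set Γ) → Y ≠ N →
      ∀ a ∈ ⁅B, B⁆, ∀ g ∈ Y, a * g = g * a := by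
    intro Y hYN hBY hYne
    by_contra hcon
    push Not at hcon
    obtain ⟨a, ha, g, hg, hne'⟩ := hcon
    have hYS : Y ∈ S := ⟨hYN.trans hNL, hBY, a, ha, g, hg, hne'⟩
    exact hYne (Subgroup.eq_of_le_of_card_ge hYN (hmin Y hYS))
  have hAB : ⁅B, B⁆ ≤ B := by
    rw [commutator_le]
    intro g₁ h₁ g₂ h₂
    rw [commutatorElement_def]
    exact mul_mem (mul_mem (mul_mem h₁ h₂) (inv_mem h₁)) (inv_mem h₂)
  have hcopN : (Nat.card N).Coprime p :=
    Nat.Coprime.coprime_dvd_left (card_dvd_of_le hNL) hL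
  have hcopBN : (Nat.card B).Coprime (Nat.card N) := by
    obtain ⟨k, hk⟩ := IsPGroup.iff_card.mp hBp
    rw [hk]
    exact Nat.Coprime.pow_left _ hcopN.symm
  have hBsolv : Group.IsSolvable B := by
    have := hBp.isNilpotent
    infer_instance
  have hactB : Cfsg.Agent.Lib.Helper1.CoprimeAct B N := ⟨hBN, hcopBN, Or.inl hBsolv⟩
  obtain ⟨q, hqF, Q, hBQ, g', hg', hag'⟩ := exists_sylow_not_comm hactB a ⟨g, hg, hag⟩
  have hQN : (Q : Subgroup ↥N).map N.subtype = N := by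
    by_contra hne'
    exact hag' (hM _ (map_subtype_le _) hBQ hne' a ha g' hg')
  have hNq : IsPGroup q N := by
    have h1 : IsPGroup q ((Q : Subgroup ↥N).map N.subtype) := Q.2.map _
    rwa [hQN] at h1
  have hg1 : g ≠ 1 := by
    intro e
    apply hag
    rw [e, mul_one, one_mul]
  have hNcard : ∃ k, k ≠ 0 ∧ Nat.card N = q ^ k := by
    obtain ⟨k, hk⟩ := IsPGroup.iff_card.mp hNq
    refine ⟨k, ?_, hk⟩
    intro h0
    rw [h0, pow_zero] at hk
    apply hg1
    have h1 : N = ⊥ := Subgroup.eq_bot_of_card_eq N hk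
    rw [h1, mem_bot] at hg
    exact hg
  have hqp : q ≠ p := by
    intro e
    obtain ⟨k, hk0, hk⟩ := hNcard
    rw [hk, e] at hcopN
    exact hp.one_lt.ne' (Nat.Coprime.eq_one_of_dvd hcopN.symm (dvd_pow_self p hk0))
  have : Module.Finite (ZMod p) M := Module.Finite.of_finite
  have haN : a ∈ normalizer (N : Set Γ) := hBN (hAB ha)
  obtain ⟨hp3, hq2, c, hc, d, hd, hcd⟩ :=
    Cfsg.Agent.Lib.Helper20.HHQuad.hh_quadratic (F := ZMod p) (p := p) hp2 ρ hqF.out hqp N hNq a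
      haN (h2 a ha) ⟨g, hg, fun e => hag (by
        have h1 := hinj e
        calc a * g = (a * g * a⁻¹) * a := by group
          _ = g * a := by rw [h1])⟩
  subst hp3
  subst hq2
  have hnonab : ∃ g ∈ N, ∃ h ∈ N, g * h ≠ h * g :=
    ⟨c, hc, d, hd, fun e => hcd (by rw [e])⟩
  -- the structure of `N`
  have hAN : ⁅B, B⁆ ≤ normalizer (N : Set Γ) := hAB.trans hBN
  have hcopAN : (Nat.card ↥⁅B, B⁆).Coprime (Nat.card N) :=
    Nat.Coprime.coprime_dvd_left (card_dvd_of_le hAB) hcopBN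
  have hNsolv : Group.IsSolvable N := by
    have := hNq.isNilpotent
    infer_instance
  have hactA : Cfsg.Agent.Lib.Helper1.CoprimeAct ⁅B, B⁆ N := ⟨hAN, hcopAN, Or.inr hNsolv⟩
  have hBA : B ≤ normalizer ((⁅B, B⁆ : Subgroup Γ) : Set Γ) :=
    le_normalizer_commutator le_normalizer le_normalizer
  have hNA : N ≤ ⁅N, ⁅B, B⁆⁆ := by
    by_contra hcon
    have hYN : ⁅N, ⁅B, B⁆⁆ ≤ N := Cfsg.Agent.Lib.Helper1.commutator_le_of_le_normalizer hAN
    have hYne : ⁅N, ⁅B, B⁆⁆ ≠ N := fun e => hcon e.symm.le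
    have hBY : B ≤ normalizer ((⁅N, ⁅B, B⁆⁆ : Subgroup Γ) : Set Γ) :=
      le_normalizer_commutator hBN hBA
    have hcent := hM _ hYN hBY hYne
    have h1 : ⁅⁅N, ⁅B, B⁆⁆, ⁅B, B⁆⁆ = ⊥ := by
      rw [commutator_eq_bot_iff_le_centralizer]
      intro y hy
      rw [mem_centralizer_iff]
      intro a' ha'
      exact hcent a' ha' y hy
    rw [hactA.commutator_commutator_eq] at h1
    apply hag
    have h4 : ⁅g, a⁆ ∈ ⁅N, ⁅B, B⁆⁆ := commutator_mem_commutator hg ha
    rw [h1, mem_bot, commutatorElement_eq_one_iff_mul_comm] at h4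
    exact h4.symm
  obtain ⟨Z, hZ⟩ : ∃ Z : Subgroup Γ, Z = (frattini ↥N).map N.subtype := ⟨_, rfl⟩
  have hZN : Z ≤ N := by rw [hZ]; exact map_subtype_le _
  have hNZ' : normalizer (N : Set Γ) ≤ normalizer (Z : Set Γ) := by
    rw [hZ]
    exact Cfsg.Agent.Lib.Helper1.normalizer_le_normalizer_map_of_characteristic N (frattini ↥N)
  have hBZ : B ≤ normalizer (Z : Set Γ) := hBN.trans hNZ'
  have hNnZ : N ≤ normalizer (Z : Set Γ) := le_normalizer.trans hNZ'
  have hZne : Z ≠ N := by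
    intro e
    obtain ⟨k, hk0, hk⟩ := hNcard
    have h2N : 2 ∣ Nat.card N := by rw [hk]; exact dvd_pow_self 2 hk0
    have h5 := Cfsg.Agent.Lib.Helper1.prime_dvd_index_frattini (G := ↥N) 2 Nat.prime_two h2N
    have htop : frattini ↥N = ⊤ := by
      apply map_injective N.subtype_injective
      rw [← hZ, e, ← MonoidHom.range_eq_map, range_subtype]
    rw [htop, index_top] at h5
    exact absurd h5 (by decide)
  have hZA : ∀ z ∈ Z, ∀ a ∈ ⁅B, B⁆, a * z = z * a :=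
    fun z hz a ha => hM Z hZN hBZ hZne a ha z hz
  have hZc : ∀ z ∈ Z, ∀ g ∈ N, z * g = g * z := by
    have h1 : ⁅⁅⁅B, B⁆, Z⁆, N⁆ = ⊥ := by
      have h6 : ⁅⁅B, B⁆, Z⁆ = ⊥ := by
        rw [commutator_eq_bot_iff_le_centralizer]
        intro a ha
        rw [mem_centralizer_iff]
        intro z hz
        exact (hZA z hz a ha).symm
      rw [h6, commutator_bot_left]
    have h2' : ⁅⁅Z, N⁆, ⁅B, B⁆⁆ = ⊥ := by
      have hle : ⁅Z, N⁆ ≤ Z := Cfsg.Agent.Lib.Helper1.commutator_le_of_le_normalizer hNnZ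
      have h6 : ⁅Z, ⁅B, B⁆⁆ = ⊥ := by
        rw [commutator_eq_bot_iff_le_centralizer]
        intro z hz
        rw [mem_centralizer_iff]
        intro a ha
        exact hZA z hz a ha
      rw [eq_bot_iff, ← h6]
      exact commutator_mono hle le_rfl
    have h3' := commutator_commutator_eq_bot_of_rotate (H₁ := N) (H₂ := ⁅B, B⁆) (H₃ := Z) h1 h2'
    have h4 : ⁅N, Z⁆ = ⊥ := by
      rw [eq_bot_iff, ← h3']
      exact commutator_mono hNA le_rfl
    rw [commutator_eq_bot_iff_le_centralizer] at h4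
    intro z hz g hg
    exact mem_centralizer_iff.mp (h4 hg) z hz
  have hsq : ∀ x ∈ N, x * x ∈ Z := by
    intro x hx
    have h5 := Cfsg.Agent.Lib.Helper1.IsPGroup.pow_mem_frattini (p := 2) hNq ⟨x, hx⟩
    rw [hZ]
    refine ⟨_, h5, ?_⟩
    simp [pow_two]
  have hcomm : ∀ x ∈ N, ∀ y ∈ N, ⁅x, y⁆ ∈ Z := by
    intro x hx y hy
    have h5 : ⁅(⟨x, hx⟩ : ↥N), ⟨y, hy⟩⁆ ∈ commutator ↥N := by
      rw [_root_.commutator_def]
      exact commutator_mem_commutator (mem_top _) (mem_top _)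
    have h6 := Cfsg.Agent.Lib.Helper1.IsPGroup.commutator_le_frattini hNq h5
    rw [hZ]
    exact ⟨_, h6, by simp [commutatorElement_def]⟩
  exact Cfsg.Agent.Lib.Helper20.K3Eigen.stage1b ρ hinj N B Z hNq hBp hBN hAab h2 h3 hNA hZN hBZ
    hZc hZA hsq hcomm hnonab

end Cfsg.Agent.Lib.Helper20.K3Setup
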