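import Mathlib
import Cfsg.Prelude
import Cfsg.Agent.Lib.Helper20.K3Setup
import Cfsg.Agent.Lib.Helper20.HHAbelLen
import Cfsg.Agent.Lib.Helper10.FrobAction

/-!
For an odd prime `p`, the `p`-length of a `p`-soluble group is at most the derived length of its
Sylow `p`-subgroups.
-/

set_option autoImplicit false
set_option linter.unusedVariables false

namespace Cfsg.Agent.Lib.Helper20.DerLen

open Cfsg Subgroup
open Cfsg.Agent.Lib.Helper20.PLen Cfsg.Agent.Lib.Helper20.HHAbel
open scoped commutatorElement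

universe u

section dser

variable {G : Type u} [Group G]

/-- the derived series of a subgroup, inside the ambient group -/
def dser (P : Subgroup G) : ℕ → Subgroup G
  | 0 => P
  | n + 1 => ⁅dser P n, dser P n⁆

theorem dser_zero (P : Subgroup G) : dser P 0 = P := rfl

theorem dser_succ (P : Subgroup G) (n : ℕ) : dser P (n + 1) = ⁅dser P n, dser P n⁆ := rfl

theorem map_derivedSeries (P : Subgroup G) (n : ℕ) :
    (derivedSeries ↥P n).map P.subtype = dser P n := by
  induction n with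
  | zero => rw [derivedSeries_zero, dser_zero, ← MonoidHom.range_eq_map, range_subtype]
  | succ n ih => rw [derivedSeries_succ, map_commutator, ih, dser_succ]

theorem dser_map {H : Type*} [Group H] (f : G →* H) (P : Subgroup G) (n : ℕ) :
    dser (P.map f) n = (dser P n).map f := by
  induction n with
  | zero => rfl
  | succ n ih => rw [dser_succ, dser_succ, ih, map_commutator]

theorem comm_le_self (P : Subgroup G) : ⁅P, P⁆ ≤ P := by
  rw [commutator_le]
  intro g₁ h₁ g₂ h₂
  rw [commutatorElement_def]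
  exact mul_mem (mul_mem (mul_mem h₁ h₂) (inv_mem h₁)) (inv_mem h₂)

theorem dser_le (P : Subgroup G) (n : ℕ) : dser P n ≤ P := by
  induction n with
  | zero => exact le_rfl
  | succ n ih => exact (commutator_mono ih ih).trans (comm_le_self P)

theorem le_normalizer_dser (P : Subgroup G) (n : ℕ) :
    P ≤ normalizer ((dser P n : Subgroup G) : Set G) := by
  induction n with
  | zero => exact le_normalizer
  | succ n ih => exact Cfsg.Agent.Lib.Helper20.K3Setup.le_normalizer_commutator ih ih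

end dser

section aux

variable {p : ℕ} [Fact p.Prime] {Γ : Type u} [Group Γ] [Finite Γ] {V : Type*} [CommGroup V]
  [Finite V] [Module (ZMod p) (Additive V)] (ψ : Γ →* MulAut V)

theorem comm_eq_bot_aux (hp2 : p ≠ 2) (hψ : Function.Injective ψ) (B L : Subgroup Γ)
    (hBp : IsPGroup p B) (hBL : B ≤ normalizer (L : Set Γ)) (hL : (Nat.card L).Coprime p)
    (hAab : ∀ a ∈ ⁅B, B⁆, ∀ a' ∈ ⁅B, B⁆, a * a' = a' * a)
    (hfaith : ∀ a ∈ ⁅B, B⁆, (∀ g ∈ L, a * g = g * a) → a = 1)
    (h2 : ∀ a ∈ ⁅B, B⁆, ∀ v : V, ψ a (ψ a v / v) = ψ a v / v)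
    (h3 : ∀ a ∈ ⁅B, B⁆, ∀ b ∈ B, ∀ b' ∈ B, ∀ v : V,
      ψ a (ψ b (ψ b' v / v) / (ψ b' v / v)) = ψ b (ψ b' v / v) / (ψ b' v / v)) :
    ⁅B, B⁆ = ⊥ := by
  obtain ⟨ρ, hρ⟩ : ∃ ρ : Γ →* Module.End (ZMod p) (Additive V),
    ρ = Cfsg.Agent.Lib.Helper10.FrobAction.actEnd (ℓ := p) ψ := ⟨_, rfl⟩
  have hρa : ∀ (g : Γ) (v : V), (ρ g - 1) (Additive.ofMul v) = Additive.ofMul (ψ g v / v) := by
    intro g v; rw [hρ]; rfl
  have hρb : ∀ (g : Γ) (v : V), ρ g (Additive.ofMul v) = Additive.ofMul (ψ g v) := by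
    intro g v; rw [hρ]; rfl
  have hinj : Function.Injective ρ := by
    intro g h e
    apply hψ
    ext v
    have h1 := congrArg (fun f : Module.End (ZMod p) (Additive V) => f (Additive.ofMul v)) e
    simp only [hρb] at h1
    exact Additive.ofMul.injective h1
  apply Cfsg.Agent.Lib.Helper20.K3Setup.commutator_eq_bot hp2 ρ hinj B L hBp hBL hL hAab hfaith
  · intro a ha
    ext x
    obtain ⟨v, rfl⟩ : ∃ v : V, Additive.ofMul v = x := ⟨Additive.toMul x, rfl⟩
    rw [Module.End.mul_apply, hρa, hρa, h2 a ha v, div_self']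
    rfl
  · intro a ha b hb b' hb'
    ext x
    obtain ⟨v, rfl⟩ : ∃ v : V, Additive.ofMul v = x := ⟨Additive.toMul x, rfl⟩
    rw [Module.End.mul_apply, Module.End.mul_apply, hρa, hρa, hρb, h3 a ha b hb b' hb' v]

end aux

/-- the instance-free form -/
theorem comm_eq_bot {p : ℕ} [Fact p.Prime] (hp2 : p ≠ 2) {Γ : Type u} [Group Γ] [Finite Γ]
    {V : Type*} [Group V] [Finite V] (hcomm : ∀ a b : V, a * b = b * a)
    (hexp : ∀ a : V, a ^ p = 1) (ψ : Γ →* MulAut V)
    (hψ : Function.Injective ψ) (B L : Subgroup Γ)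
    (hBp : IsPGroup p B) (hBL : B ≤ normalizer (L : Set Γ)) (hL : (Nat.card L).Coprime p)
    (hAab : ∀ a ∈ ⁅B, B⁆, ∀ a' ∈ ⁅B, B⁆, a * a' = a' * a)
    (hfaith : ∀ a ∈ ⁅B, B⁆, (∀ g ∈ L, a * g = g * a) → a = 1)
    (h2 : ∀ a ∈ ⁅B, B⁆, ∀ v : V, ψ a (ψ a v / v) = ψ a v / v)
    (h3 : ∀ a ∈ ⁅B, B⁆, ∀ b ∈ B, ∀ b' ∈ B, ∀ v : V,
      ψ a (ψ b (ψ b' v / v) / (ψ b' v / v)) = ψ b (ψ b' v / v) / (ψ b' v / v)) :
    ⁅B, B⁆ = ⊥ := by
  let iC : CommGroup V := { (inferInstance : Group V) with mul_comm := hcomm }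
  let iM : @Module (ZMod p) (Additive V) _
      (@AddCommGroup.toAddCommMonoid _ (@Additive.addCommGroup _ iC)) :=
    @AddCommGroup.zmodModule p (Additive V) (@Additive.addCommGroup _ iC) (by
      intro x
      show Additive.ofMul ((Additive.toMul x) ^ p) = 0
      rw [hexp]
      rfl)
  exact @comm_eq_bot_aux p _ Γ _ _ V iC _ iM ψ hp2 hψ B L hBp hBL hL hAab hfaith h2 h3

section main

variable {G : Type u} [Group G] [Finite G] {p : ℕ} [Fact p.Prime]

/-- the core computation, for a normal `p`-subgroup `R` containing the kernel of the action on its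
Frattini quotient and with `O_p(G / R) = 1`. -/
theorem comm_le_of_ker (hp2 : p ≠ 2) (hsol : IsPSolvable p G) (R : Subgroup G) [R.Normal]
    (hRp : IsPGroup p R) (hker : (frat R).ker ≤ R) (hOpH : pCore p (G ⧸ R) = ⊥)
    (P : Sylow p G) (hRP : R ≤ (P : Subgroup G)) (B : Subgroup G) (hBP : B ≤ (P : Subgroup G))
    (hPB : (P : Subgroup G) ≤ normalizer (B : Set G))
    (hAA : ⁅⁅B, B⁆, ⁅B, B⁆⁆ = ⊥) : ⁅B, B⁆ ≤ R := by
  have hp : p.Prime := Fact.out
  obtain ⟨A, hA⟩ : ∃ A : Subgroup G, A = ⁅B, B⁆ := ⟨_, rfl⟩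
  rw [← hA] at hAA ⊢
  have hAcomm : ∀ a ∈ A, ∀ a' ∈ A, a * a' = a' * a := by
    rw [commutator_eq_bot_iff_le_centralizer] at hAA
    intro a ha a' ha'
    exact (mem_centralizer_iff.mp (hAA ha') a ha)
  have hAB : A ≤ B := by rw [hA]; exact comm_le_self B
  have hPA : (P : Subgroup G) ≤ normalizer (A : Set G) := by
    rw [hA]; exact Cfsg.Agent.Lib.Helper20.K3Setup.le_normalizer_commutator hPB hPB
  -- the Frattini quotient of `R`
  have hVcommI : IsMulCommutative (↥R ⧸ frattini ↥R) :=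
    (Subgroup.Normal.quotient_commutative_iff_commutator_le).mpr
      (Cfsg.Agent.Lib.Helper1.IsPGroup.commutator_le_frattini hRp)
  have hVcomm : ∀ a b : ↥R ⧸ frattini ↥R, a * b = b * a :=
    fun a b => hVcommI.is_comm.comm a b
  have hVexp : ∀ v : ↥R ⧸ frattini ↥R, v ^ p = 1 := by
    intro v
    obtain ⟨r, rfl⟩ := QuotientGroup.mk_surjective v
    rw [← QuotientGroup.mk_pow, QuotientGroup.eq_one_iff]
    exact Cfsg.Agent.Lib.Helper1.IsPGroup.pow_mem_frattini hRp r
  have hRker : R ≤ (frat R).ker := by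
    intro r hr
    rw [MonoidHom.mem_ker]
    ext v
    obtain ⟨s, rfl⟩ := QuotientGroup.mk_surjective v
    rw [frat_mk, MulAut.one_apply]
    have e : (MulAut.conjNormal r s : ↥R) = (⟨r, hr⟩ : ↥R) * s * (⟨r, hr⟩ : ↥R)⁻¹ := by
      apply Subtype.ext; simp [MulAut.conjNormal_apply]
    rw [e, QuotientGroup.mk_mul, QuotientGroup.mk_mul, QuotientGroup.mk_inv,
      hVcomm (QuotientGroup.mk ⟨r, hr⟩) (QuotientGroup.mk s), mul_inv_cancel_right]
  obtain ⟨ψ, hψ⟩ : ∃ ψ : G ⧸ R →* MulAut (↥R ⧸ frattini ↥R),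
    ψ = QuotientGroup.lift R (frat R) hRker := ⟨_, rfl⟩
  have hψmk : ∀ (g : G) (r : ↥R), ψ (QuotientGroup.mk' R g) (QuotientGroup.mk r) =
      QuotientGroup.mk (MulAut.conjNormal g r) := by
    intro g r
    rw [hψ]
    rfl
  have hψinj : Function.Injective ψ := by
    rw [injective_iff_map_eq_one]
    intro x hx
    obtain ⟨g, rfl⟩ := QuotientGroup.mk'_surjective R x
    have h1 : g ∈ (frat R).ker := by
      rw [MonoidHom.mem_ker]
      rw [hψ] at hx
      exact hx
    exact (QuotientGroup.eq_one_iff g).mpr (hker h1)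
  -- the configuration in the quotient
  have hH : IsPSolvable p (G ⧸ R) := Cfsg.H5.isPSolvable_quotient R hsol
  have hKcop : (Nat.card (pPrimeCore p (G ⧸ R))).Coprime p :=
    Cfsg.H5.coprime_card_pPrimeCore p (G ⧸ R)
  have hCK : centralizer ((pPrimeCore p (G ⧸ R) : Subgroup (G ⧸ R)) : Set (G ⧸ R)) ≤
      pPrimeCore p (G ⧸ R) := Cfsg.H5.centralizer_pPrimeCore_le_of_isPSolvable hH hOpH
  have hmapA : ⁅B.map (QuotientGroup.mk' R), B.map (QuotientGroup.mk' R)⁆ =
      A.map (QuotientGroup.mk' R) := by rw [← map_commutator, ← hA]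
  have hfin := comm_eq_bot hp2 hVcomm hVexp ψ hψinj (B.map (QuotientGroup.mk' R))
    (pPrimeCore p (G ⧸ R)) ((P.2.to_le hBP).map _)
    (by rw [normalizer_eq_top]; exact le_top) hKcop
    (by
      rw [hmapA]
      rintro _ ⟨a, ha, rfl⟩ _ ⟨a', ha', rfl⟩
      rw [← map_mul, ← map_mul, hAcomm a ha a' ha'])
    (by
      rw [hmapA]
      rintro _ ⟨a, ha, rfl⟩ hcent
      have h1 : QuotientGroup.mk' R a ∈
          centralizer ((pPrimeCore p (G ⧸ R) : Subgroup (G ⧸ R)) : Set (G ⧸ R)) := by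
        rw [mem_centralizer_iff]
        intro g hg
        exact (hcent g hg).symm
      have h2 := Cfsg.H5.coprime_orderOf_of_mem hKcop (hCK h1)
      have h3 : IsPGroup p ((P : Subgroup G).map (QuotientGroup.mk' R)) := P.2.map _
      exact Cfsg.H5.eq_one_of_coprime_of_mem_pgroup h2 h3
        (mem_map_of_mem _ (hBP (hAB ha))))
    (by
      rw [hmapA]
      rintro _ ⟨a, ha, rfl⟩ v
      obtain ⟨r, rfl⟩ := QuotientGroup.mk_surjective v
      rw [hψmk, ← QuotientGroup.mk_div]
      obtain ⟨c, hc⟩ : ∃ c : ↥R, c = MulAut.conjNormal a r / r := ⟨_, rfl⟩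
      rw [← hc, hψmk]
      congr 1
      have hcA : (c : G) ∈ A := by
        rw [hc]
        have e : ((MulAut.conjNormal a r / r : ↥R) : G) = a * ((r : G) * a⁻¹ * (r : G)⁻¹) := by
          simp [MulAut.conjNormal_apply, div_eq_mul_inv, mul_assoc]
        rw [e]
        exact mul_mem ha ((mem_normalizer_iff.mp (hPA (hRP r.2)) a⁻¹).mp (inv_mem ha))
      apply Subtype.ext
      rw [MulAut.conjNormal_apply, hAcomm a ha c hcA, mul_inv_cancel_right])
    (by
      rw [hmapA]
      rintro _ ⟨a, ha, rfl⟩ _ ⟨b, hb, rfl⟩ _ ⟨b', hb', rfl⟩ v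
      obtain ⟨r, rfl⟩ := QuotientGroup.mk_surjective v
      rw [hψmk, ← QuotientGroup.mk_div]
      obtain ⟨c, hc⟩ : ∃ c : ↥R, c = MulAut.conjNormal b' r / r := ⟨_, rfl⟩
      rw [← hc, hψmk, ← QuotientGroup.mk_div]
      obtain ⟨c2, hc2⟩ : ∃ c2 : ↥R, c2 = MulAut.conjNormal b c / c := ⟨_, rfl⟩
      rw [← hc2, hψmk]
      congr 1
      have hcB : (c : G) ∈ B := by
        rw [hc]
        have e : ((MulAut.conjNormal b' r / r : ↥R) : G) =
            b' * ((r : G) * b'⁻¹ * (r : G)⁻¹) := by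
          simp [MulAut.conjNormal_apply, div_eq_mul_inv, mul_assoc]
        rw [e]
        exact mul_mem hb' ((mem_normalizer_iff.mp (hPB (hRP r.2)) b'⁻¹).mp (inv_mem hb'))
      have hc2A : (c2 : G) ∈ A := by
        rw [hc2, hA]
        have e : ((MulAut.conjNormal b c / c : ↥R) : G) = ⁅b, (c : G)⁆ := by
          simp [MulAut.conjNormal_apply, div_eq_mul_inv, commutatorElement_def]
        rw [e]
        exact commutator_mem_commutator hb hcB
      apply Subtype.ext
      rw [MulAut.conjNormal_apply, hAcomm a ha c2 hc2A, mul_inv_cancel_right])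
  rw [hmapA, Subgroup.map_eq_bot_iff, QuotientGroup.ker_mk'] at hfin
  exact hfin

/-- in a `p`-soluble group with `O_{p'} = 1`, `p` odd, the last nontrivial term of the derived
series of a Sylow `p`-subgroup lies in `O_p`. -/
theorem dser_le_pCore (hp2 : p ≠ 2) (hsol : IsPSolvable p G) (hO : pPrimeCore p G = ⊥)
    (P : Sylow p G) (d : ℕ) (hd : dser (P : Subgroup G) (d + 1) = ⊥) :
    dser (P : Subgroup G) d ≤ pCore p G := by
  have hRp : IsPGroup p (pCore p G) := Cfsg.H5.pCore_isPGroup p G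
  have hRP : pCore p G ≤ (P : Subgroup G) := hRp.le_sylow_of_normal P
  cases d with
  | zero =>
    rw [dser_succ, dser_zero, commutator_eq_bot_iff_le_centralizer] at hd
    rw [dser_zero]
    refine le_trans ?_ (Cfsg.H5.centralizer_pCore_le_of_isPSolvable hsol hO)
    intro x hx
    rw [mem_centralizer_iff]
    intro r hr
    exact (mem_centralizer_iff.mp (hd (hRP hr)) x hx).symm
  | succ d =>
    rw [dser_succ]
    apply comm_le_of_ker hp2 hsol (pCore p G) hRp (frat_ker_le hsol hO) pCore_quot_eq_bot P hRP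
      (dser (P : Subgroup G) d) (dser_le _ _) (le_normalizer_dser _ _)
    rw [← dser_succ, ← dser_succ]
    exact hd

end main

theorem pLengthLE_of_dser {p : ℕ} [Fact p.Prime] (hp2 : p ≠ 2) (d : ℕ) :
    ∀ (G : Type u) [Group G] [Finite G], IsPSolvable p G →
    (∀ P : Sylow p G, dser (P : Subgroup G) d = ⊥) → PLengthLE p d G := by
  have hp : p.Prime := Fact.out
  induction d with
  | zero =>
    intro G _ _ hsol hd
    rw [pLengthLE_zero_iff]
    apply Nat.Coprime.symm
    rw [Nat.Prime.coprime_iff_not_dvd hp]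
    intro hdvd
    obtain ⟨g, hg⟩ := exists_prime_orderOf_dvd_card' p hdvd
    obtain ⟨P, hP⟩ := exists_sylow_mem (p := p) (x := g)
      ⟨1, by rw [pow_one, ← hg]; exact pow_orderOf_eq_one g⟩
    have h1 := hd P
    rw [dser_zero] at h1
    rw [h1, mem_bot] at hP
    rw [hP, orderOf_one] at hg
    exact hp.one_lt.ne' hg.symm
  | succ d ih =>
    intro G _ _ hsol hd
    have hsolb : IsPSolvable p (G ⧸ pPrimeCore p G) :=
      Cfsg.H5.isPSolvable_quotient (pPrimeCore p G) hsol
    have hOb : pPrimeCore p (G ⧸ pPrimeCore p G) = ⊥ :=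
      Cfsg.Agent.Lib.Helper10.pPrimeCore_quotient_eq_bot p
    have hdb : ∀ Pb : Sylow p (G ⧸ pPrimeCore p G),
        dser (Pb : Subgroup (G ⧸ pPrimeCore p G)) d ≤ pCore p (G ⧸ pPrimeCore p G) := by
      intro Pb
      apply dser_le_pCore hp2 hsolb hOb Pb d
      obtain ⟨P0, hP0⟩ :=
        Sylow.mapSurjective_surjective (QuotientGroup.mk'_surjective (pPrimeCore p G)) p Pb
      have hmap : (Pb : Subgroup (G ⧸ pPrimeCore p G)) =
          (P0 : Subgroup G).map (QuotientGroup.mk' (pPrimeCore p G)) := by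
        rw [← hP0]; rfl
      rw [hmap, dser_map, hd P0, Subgroup.map_bot]
    obtain ⟨M2, hM2⟩ : ∃ M2 : Subgroup G, M2 = (pCore p (G ⧸ pPrimeCore p G)).comap
      (QuotientGroup.mk' (pPrimeCore p G)) := ⟨_, rfl⟩
    haveI hM2n : M2.Normal := by rw [hM2]; exact Subgroup.Normal.comap inferInstance _
    have hE : ∀ P : Sylow p G, dser (P : Subgroup G) d ≤ M2 := by
      intro P
      have h1 := hdb (P.mapSurjective (QuotientGroup.mk'_surjective (pPrimeCore p G)))
      have hmap : ((P.mapSurjective (QuotientGroup.mk'_surjective (pPrimeCore p G)) :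
          Sylow p (G ⧸ pPrimeCore p G)) : Subgroup (G ⧸ pPrimeCore p G)) =
          (P : Subgroup G).map (QuotientGroup.mk' (pPrimeCore p G)) := rfl
      rw [hmap, dser_map] at h1
      rw [hM2]
      exact map_le_iff_le_comap.mp h1
    have hN1M2 : pPrimeCore p G ≤ M2 := by
      rw [hM2]
      intro g hg
      rw [Subgroup.mem_comap]
      have : QuotientGroup.mk' (pPrimeCore p G) g = 1 := (QuotientGroup.eq_one_iff g).mpr hg
      rw [this]; exact one_mem _
    have hlenM2 : PLengthLE p 1 ↥M2 := by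
      have h0 : PLengthLE p 0 ↥((pPrimeCore p G).subgroupOf M2) := by
        rw [pLengthLE_zero_iff]
        rw [Nat.card_congr (Subgroup.subgroupOfEquivOfLe hN1M2).toEquiv]
        exact Cfsg.H5.coprime_card_pPrimeCore p G
      have h1 : PLengthLE p 1 (↥M2 ⧸ (pPrimeCore p G).subgroupOf M2) := by
        apply pLengthLE_one_of_isPGroup
        intro y
        obtain ⟨⟨m, hm⟩, rfl⟩ := QuotientGroup.mk_surjective y
        have hm' : QuotientGroup.mk' (pPrimeCore p G) m ∈ pCore p (G ⧸ pPrimeCore p G) := by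
          rw [hM2] at hm; exact Subgroup.mem_comap.mp hm
        obtain ⟨j, hj⟩ := (Cfsg.H5.pCore_isPGroup p (G ⧸ pPrimeCore p G)) ⟨_, hm'⟩
        refine ⟨j, ?_⟩
        rw [← QuotientGroup.mk_pow, QuotientGroup.eq_one_iff, Subgroup.mem_subgroupOf]
        have h2 : (QuotientGroup.mk' (pPrimeCore p G) m) ^ p ^ j = 1 := by
          simpa using congrArg Subtype.val hj
        rw [← map_pow] at h2
        simpa using (QuotientGroup.eq_one_iff _).mp h2
      have := pLengthLE_of_extension ((pPrimeCore p G).subgroupOf M2) h0 h1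
      simpa using this
    have hlenQ : PLengthLE p d (G ⧸ M2) := by
      apply ih (G ⧸ M2) (Cfsg.H5.isPSolvable_quotient M2 hsol)
      intro Pb
      obtain ⟨P0, hP0⟩ := Sylow.mapSurjective_surjective (QuotientGroup.mk'_surjective M2) p Pb
      have hmap : (Pb : Subgroup (G ⧸ M2)) = (P0 : Subgroup G).map (QuotientGroup.mk' M2) := by
        rw [← hP0]; rfl
      rw [hmap, dser_map, Subgroup.map_eq_bot_iff, QuotientGroup.ker_mk']
      exact hE P0
    have := pLengthLE_of_extension M2 hlenM2 hlenQ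
    rwa [Nat.add_comm] at this

end Cfsg.Agent.Lib.Helper20.DerLen
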