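import Mathlib

/-!
Dihedral model lemma for S2861 (farm-out piece 3 of helper27).
-/

namespace Cfsg.Agent.Lib.Helper20.DihModel

open DihedralGroup

/-- a rotation of 2-power order in `D_r`, `r` an odd prime, is trivial -/
theorem rot_eq_zero {r : ℕ} (hr : r.Prime) (hr2 : r ≠ 2) {i : ZMod r} {k : ℕ}
    (h : (DihedralGroup.r i) ^ (2 ^ k) = 1) : i = 0 := by
  have : Fact r.Prime := ⟨hr⟩
  rw [r_pow, one_def] at h
  have h1 : i * ((2 ^ k : ℕ) : ZMod r) = 0 := by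
    injection h
  rcases mul_eq_zero.mp h1 with h2 | h2
  · exact h2
  · exfalso
    rw [ZMod.natCast_eq_zero_iff] at h2
    have h3 : r ∣ 2 := hr.dvd_of_dvd_pow h2
    exact hr2 ((Nat.prime_dvd_prime_iff_eq hr Nat.prime_two).mp h3)

/-- elements of a 2-subgroup of `D_r` are trivial or reflections -/
theorem mem_two_subgroup {r : ℕ} (hr : r.Prime) (hr2 : r ≠ 2) {Y : Subgroup (DihedralGroup r)}
    (hYp : IsPGroup 2 Y) {y : DihedralGroup r} (hy : y ∈ Y) : y = 1 ∨ ∃ i, y = sr i := by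
  obtain ⟨k, hk⟩ := hYp ⟨y, hy⟩
  have hk' : y ^ (2 ^ k) = 1 := by
    have := congrArg Subtype.val hk
    simpa using this
  cases y with
  | r i =>
    left
    rw [rot_eq_zero hr hr2 hk', r_zero]
  | sr i => right; exact ⟨i, rfl⟩

/-- FO-3 (dihedral model) -/
theorem dihedral_model {r : ℕ} (hr : r.Prime) (hr2 : r ≠ 2)
    (Y B V : Subgroup (DihedralGroup r))
    (hYp : IsPGroup 2 Y) (hY1 : Y ≠ ⊥)
    (hgen : Subgroup.normalClosure (Y : Set (DihedralGroup r)) = ⊤)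
    (hYB : Y ≤ B) (hBN : B ≤ Subgroup.normalizer (Y : Set (DihedralGroup r)))
    (hmax : ∀ P : Subgroup (DihedralGroup r), Y ≤ P → P ≠ ⊤ → P ≤ B)
    (hVB : V ≤ B) (hVn : ∀ b ∈ B, ∀ v ∈ V, b * v * b⁻¹ ∈ V)
    (hVp : IsPGroup 2 V) (hV1 : V ≠ ⊥) : V = Y := by
  have : Fact r.Prime := ⟨hr⟩
  -- key: a reflection of `V` and a reflection of `Y` coincide
  have key : ∀ i j : ZMod r, sr j ∈ V → sr i ∈ Y → j = i := by
    intro i j hv hy
    have h1 : sr j ∈ Subgroup.normalizer (Y : Set (DihedralGroup r)) := hBN (hVB hv)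
    have h2 : sr j * sr i * (sr j)⁻¹ ∈ Y := (Subgroup.mem_set_normalizer_iff.mp h1 (sr i)).mp hy
    have h3 : sr i * (sr j * sr i * (sr j)⁻¹) ∈ Y := Y.mul_mem hy h2
    have h4 : sr i * (sr j * sr i * (sr j)⁻¹) = DihedralGroup.r (j - (i - j) - i) := by
      rw [inv_sr, sr_mul_sr, r_mul_sr, sr_mul_sr]
    rw [h4] at h3
    obtain ⟨k, hk⟩ := hYp ⟨_, h3⟩
    have hk' : (DihedralGroup.r (j - (i - j) - i)) ^ (2 ^ k) = 1 := by
      have := congrArg Subtype.val hk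
      simpa using this
    have h5 := rot_eq_zero hr hr2 hk'
    have h6 : (2 : ZMod r) * (j - i) = 0 := by rw [← h5]; ring
    rcases mul_eq_zero.mp h6 with h7 | h7
    · exfalso
      have h8 : ((2 : ℕ) : ZMod r) = 0 := by exact_mod_cast h7
      rw [ZMod.natCast_eq_zero_iff] at h8
      exact hr2 ((Nat.prime_dvd_prime_iff_eq hr Nat.prime_two).mp h8)
    · exact sub_eq_zero.mp h7
  obtain ⟨y0, hy01⟩ := (Subgroup.ne_bot_iff_exists_ne_one).mp hY1
  obtain ⟨v0, hv01⟩ := (Subgroup.ne_bot_iff_exists_ne_one).mp hV1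
  have hy0' : (y0 : DihedralGroup r) ∈ Y := y0.2
  have hv0' : (v0 : DihedralGroup r) ∈ V := v0.2
  obtain ⟨i0, hi0⟩ : ∃ i, (y0 : DihedralGroup r) = sr i := by
    rcases mem_two_subgroup hr hr2 hYp hy0' with h | h
    · exact absurd (Subtype.ext h) hy01
    · exact h
  obtain ⟨j0, hj0⟩ : ∃ j, (v0 : DihedralGroup r) = sr j := by
    rcases mem_two_subgroup hr hr2 hVp hv0' with h | h
    · exact absurd (Subtype.ext h) hv01
    · exact h
  rw [hi0] at hy0'
  rw [hj0] at hv0'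
  apply le_antisymm
  · intro v hv
    rcases mem_two_subgroup hr hr2 hVp hv with h | ⟨j, hj⟩
    · rw [h]; exact Y.one_mem
    · rw [hj] at hv ⊢
      rw [key i0 j hv hy0']; exact hy0'
  · intro y hy
    rcases mem_two_subgroup hr hr2 hYp hy with h | ⟨i, hi⟩
    · rw [h]; exact V.one_mem
    · rw [hi] at hy ⊢
      rw [← key i j0 hv0' hy]; exact hv0'

end Cfsg.Agent.Lib.Helper20.DihModel
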