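import Mathlib

/-!
# A diophantine lemma for S4018
-/

set_option autoImplicit false

namespace Cfsg.Agent.Lib.Helper20.Dioph4018

/-- if `3^(N+j)` divides `u*w`, both nonzero, and `3^(j+1)` does not divide `u+w`, then `3^N`
divides `u` or `w` -/
theorem three_split (u w : ℤ) (hu : u ≠ 0) (hw : w ≠ 0) (N j : ℕ)
    (h1 : (3 : ℤ) ^ (N + j) ∣ u * w) (h2 : ¬ (3 : ℤ) ^ (j + 1) ∣ u + w) :
    (3 : ℤ) ^ N ∣ u ∨ (3 : ℤ) ^ N ∣ w := by
  have : Fact (Nat.Prime 3) := ⟨Nat.prime_three⟩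
  have huw : u * w ≠ 0 := mul_ne_zero hu hw
  have h3 : N + j ≤ padicValInt 3 u + padicValInt 3 w := by
    have := (padicValInt_dvd_iff (p := 3) (N + j) (u * w)).1 (by exact_mod_cast h1)
    rcases this with h | h
    · exact absurd h huw
    · rwa [padicValInt.mul hu hw] at h
  by_cases hA : padicValInt 3 u ≤ j
  · right
    have : N ≤ padicValInt 3 w := by omega
    have := (padicValInt_dvd_iff (p := 3) N w).2 (Or.inr this)
    exact_mod_cast this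
  · by_cases hB : padicValInt 3 w ≤ j
    · left
      have : N ≤ padicValInt 3 u := by omega
      have := (padicValInt_dvd_iff (p := 3) N u).2 (Or.inr this)
      exact_mod_cast this
    · exfalso
      apply h2
      have hu' : ((3 : ℕ) : ℤ) ^ (j + 1) ∣ u :=
        (padicValInt_dvd_iff (p := 3) (j + 1) u).2 (Or.inr (by omega))
      have hw' : ((3 : ℕ) : ℤ) ^ (j + 1) ∣ w :=
        (padicValInt_dvd_iff (p := 3) (j + 1) w).2 (Or.inr (by omega))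
      exact_mod_cast dvd_add hu' hw'

set_option maxHeartbeats 800000 in
theorem dioph (a : ℕ) (ha : 1 ≤ a) (m K d : ℕ) (s e : ℤ) (hm : m = 3 ^ a)
    (hK : K + 2 * m = 4 * m ^ 2 + 1) (hd : 0 < d) (hdvd : d ∣ 4 * m * K)
    (hd2 : d ^ 2 ≤ 4 * m * K) (hs : s ^ 2 ≤ 4 * m)
    (heq : (K : ℤ) * ((d : ℤ) ^ 2 - s ^ 2) = 4 * (m : ℤ) ^ 2 * d * e) :
    (d : ℤ) ^ 2 = s ^ 2 := by
  by_contra hne
  have : Fact (Nat.Prime 3) := ⟨Nat.prime_three⟩
  have hm3 : 3 ≤ m := by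
    rw [hm]
    calc 3 = 3 ^ 1 := by norm_num
      _ ≤ 3 ^ a := Nat.pow_le_pow_right (by norm_num) ha
  have h3m : (3 : ℤ) ∣ (m : ℤ) := by
    rw [hm]
    push_cast
    exact dvd_pow_self 3 (by omega)
  have hKz : (K : ℤ) = 4 * (m : ℤ) ^ 2 - 2 * m + 1 := by
    have : ((K + 2 * m : ℕ) : ℤ) = ((4 * m ^ 2 + 1 : ℕ) : ℤ) := by rw [hK]
    push_cast at this
    linarith
  -- `K` is coprime to `2` and to `3`
  have hK2 : IsCoprime (K : ℤ) 2 := by
    refine ⟨1, -(2 * (m : ℤ) ^ 2 - m), ?_⟩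
    rw [hKz]; ring
  have hK3 : IsCoprime (K : ℤ) 3 := by
    obtain ⟨t, ht⟩ := h3m
    refine ⟨1, -(4 * (m : ℤ) * t - 2 * t), ?_⟩
    rw [hKz, ht]; ring
  obtain ⟨u, hu⟩ : ∃ u : ℤ, u = (d : ℤ) - s := ⟨_, rfl⟩
  obtain ⟨w, hw⟩ : ∃ w : ℤ, w = (d : ℤ) + s := ⟨_, rfl⟩
  have huw : u * w = (d : ℤ) ^ 2 - s ^ 2 := by rw [hu, hw]; ring
  have huw0 : u * w ≠ 0 := by
    rw [huw]
    intro h
    exact hne (by linarith)
  have hu0 : u ≠ 0 := left_ne_zero_of_mul huw0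
  have hw0 : w ≠ 0 := right_ne_zero_of_mul huw0
  rw [← huw] at heq
  -- the `3`-part
  obtain ⟨j, hj⟩ : ∃ j, j = padicValNat 3 d := ⟨_, rfl⟩
  have hjd : (3 : ℤ) ^ j ∣ (d : ℤ) := by
    have := pow_padicValNat_dvd (p := 3) (n := d)
    rw [← hj] at this
    exact_mod_cast this
  have hjd' : ¬ (3 : ℤ) ^ (j + 1) ∣ (d : ℤ) := by
    have := pow_succ_padicValNat_not_dvd (p := 3) (n := d) hd.ne'
    rw [← hj] at this
    intro h
    apply this
    exact_mod_cast h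
  have h3uw : (3 : ℤ) ^ (2 * a + j) ∣ u * w := by
    have h1 : (3 : ℤ) ^ (2 * a + j) ∣ (K : ℤ) * (u * w) := by
      rw [heq]
      obtain ⟨c, hc⟩ := hjd
      refine ⟨4 * c * e, ?_⟩
      rw [hm]
      push_cast
      rw [hc, pow_add]
      ring
    exact (IsCoprime.pow_left (hK3.symm)).dvd_of_dvd_mul_left h1
  have hsum : u + w = 2 * (d : ℤ) := by rw [hu, hw]; ring
  have hnot : ¬ (3 : ℤ) ^ (j + 1) ∣ u + w := by
    rw [hsum]
    intro h
    apply hjd'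
    have hc : IsCoprime ((3 : ℤ) ^ (j + 1)) 2 :=
      IsCoprime.pow_left ⟨1, -1, by norm_num⟩
    exact hc.dvd_of_dvd_mul_left h
  have h3 := three_split u w hu0 hw0 (2 * a) j h3uw hnot
  -- the `2`-part
  have h4uw : (4 : ℤ) ∣ u * w := by
    have h1 : (4 : ℤ) ∣ (K : ℤ) * (u * w) := by
      rw [heq]
      exact ⟨(m : ℤ) ^ 2 * d * e, by ring⟩
    have hc : IsCoprime (4 : ℤ) (K : ℤ) := by
      have : (4 : ℤ) = 2 ^ 2 := by norm_num
      rw [this]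
      exact IsCoprime.pow_left hK2.symm
    exact hc.dvd_of_dvd_mul_left h1
  have hdiff : w - u = 2 * s := by rw [hu, hw]; ring
  have hu2 : (2 : ℤ) ∣ u := by
    by_contra h
    have hu1 : u % 2 = 1 := by omega
    have hw1 : w % 2 = 1 := by omega
    obtain ⟨c, hc⟩ := h4uw
    have : (u * w) % 2 = 1 := by
      rw [Int.mul_emod, hu1, hw1]; norm_num
    omega
  have hw2 : (2 : ℤ) ∣ w := by
    have : w = u + 2 * s := by linarith
    rw [this]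
    exact dvd_add hu2 ⟨s, rfl⟩
  have hcop : IsCoprime (2 : ℤ) ((3 : ℤ) ^ (2 * a)) :=
    IsCoprime.pow_right ⟨-1, 1, by norm_num⟩
  have hm2 : (m : ℤ) ^ 2 = (3 : ℤ) ^ (2 * a) := by
    rw [hm]; push_cast; rw [← pow_mul, mul_comm]
  -- size bound
  have hbig : 2 * (m : ℤ) ^ 2 ≤ (d : ℤ) + |s| := by
    rcases h3 with h | h
    · have hdiv : 2 * (m : ℤ) ^ 2 ∣ u := by
        rw [hm2]
        exact hcop.mul_dvd hu2 h
      have h1 := Int.le_of_dvd (abs_pos.2 hu0) ((dvd_abs _ _).2 hdiv)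
      have h2 : |u| ≤ (d : ℤ) + |s| := by
        rw [hu]
        calc |(d : ℤ) - s| ≤ |(d : ℤ)| + |s| := abs_sub _ _
          _ = (d : ℤ) + |s| := by rw [abs_of_nonneg (Int.natCast_nonneg d)]
      linarith
    · have hdiv : 2 * (m : ℤ) ^ 2 ∣ w := by
        rw [hm2]
        exact hcop.mul_dvd hw2 h
      have h1 := Int.le_of_dvd (abs_pos.2 hw0) ((dvd_abs _ _).2 hdiv)
      have h2 : |w| ≤ (d : ℤ) + |s| := by
        rw [hw]
        calc |(d : ℤ) + s| ≤ |(d : ℤ)| + |s| := abs_add_le _ _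
          _ = (d : ℤ) + |s| := by rw [abs_of_nonneg (Int.natCast_nonneg d)]
      linarith
  have hd2z : (d : ℤ) ^ 2 ≤ 4 * m * K := by exact_mod_cast hd2
  have hsq : ((d : ℤ) + |s|) ^ 2 ≤ 2 * ((d : ℤ) ^ 2 + s ^ 2) := by
    have h1 : 0 ≤ ((d : ℤ) - |s|) ^ 2 := sq_nonneg _
    have h2 : |s| ^ 2 = s ^ 2 := sq_abs s
    nlinarith
  have hdpos : (0 : ℤ) ≤ (d : ℤ) + |s| := add_nonneg (Int.natCast_nonneg d) (abs_nonneg s)
  have hmz : (3 : ℤ) ≤ m := by exact_mod_cast hm3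
  have hlow : (2 * (m : ℤ) ^ 2) ^ 2 ≤ ((d : ℤ) + |s|) ^ 2 := by
    apply pow_le_pow_left₀ (by positivity) hbig
  have hup : ((d : ℤ) + |s|) ^ 2 ≤ 8 * m * (4 * (m : ℤ) ^ 2 - 2 * m + 2) := by
    calc ((d : ℤ) + |s|) ^ 2 ≤ 2 * ((d : ℤ) ^ 2 + s ^ 2) := hsq
      _ ≤ 2 * (4 * m * K + 4 * m) := by linarith
      _ = 8 * m * (4 * (m : ℤ) ^ 2 - 2 * m + 2) := by rw [hKz]; ring
  -- `m ≥ 9` or `m = 3`
  rcases Nat.lt_or_ge a 2 with ha2 | ha2
  · -- `a = 1`, `m = 3`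
    have ha1 : a = 1 := by omega
    subst ha1
    have hm' : m = 3 := by rw [hm]; norm_num
    subst hm'
    have hK31 : K = 31 := by omega
    subst hK31
    have hdle : d ≤ 19 := by nlinarith
    have hsle : |s| ≤ 3 := by
      have h2 : |s| ^ 2 = s ^ 2 := sq_abs s
      have : |s| ^ 2 ≤ 12 := by rw [h2]; exact_mod_cast hs
      nlinarith [abs_nonneg s]
    have hdge : 15 ≤ d := by
      have : (18 : ℤ) ≤ (d : ℤ) + |s| := by norm_num at hbig; linarith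
      have : (15 : ℤ) ≤ (d : ℤ) := by linarith
      exact_mod_cast this
    interval_cases d <;> omega
  · have hm9 : (9 : ℤ) ≤ m := by
      have : 9 ≤ m := by
        rw [hm]
        calc 9 = 3 ^ 2 := by norm_num
          _ ≤ 3 ^ a := Nat.pow_le_pow_right (by norm_num) ha2
      exact_mod_cast this
    have : 8 * (m : ℤ) * (4 * (m : ℤ) ^ 2 - 2 * m + 2) < (2 * (m : ℤ) ^ 2) ^ 2 := by
      have h1 : 0 < (m : ℤ) := by linarith
      have h9 : 9 * (m : ℤ) ^ 2 ≤ (m : ℤ) ^ 3 := by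
        have h := mul_le_mul_of_nonneg_right hm9 (sq_nonneg (m : ℤ))
        have e : (m : ℤ) * (m : ℤ) ^ 2 = (m : ℤ) ^ 3 := by ring
        linarith
      have h2 : 2 * (4 * (m : ℤ) ^ 2 - 2 * m + 2) < (m : ℤ) ^ 3 := by
        linarith [sq_nonneg (m : ℤ)]
      have e1 : (2 * (m : ℤ) ^ 2) ^ 2 = 4 * m * (m : ℤ) ^ 3 := by ring
      have e2 : 8 * (m : ℤ) * (4 * (m : ℤ) ^ 2 - 2 * m + 2) =
          4 * m * (2 * (4 * (m : ℤ) ^ 2 - 2 * m + 2)) := by ring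
      rw [e1, e2]
      exact mul_lt_mul_of_pos_left h2 (by linarith)
    linarith

end Cfsg.Agent.Lib.Helper20.Dioph4018
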