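import Cfsg.Agent.Lib.Helper10.E8CC.Defs
import Cfsg.Agent.Lib.Helper9.StCCBBTDefs

set_option autoImplicit false

/-! Generic Bool checkers (any Chevalley datum `D`) for the table facts `SL1`, `Dec1`, `CanP` of
helper10's `E8CC/Defs.lean` (S2107 / S2105 / S2106 farms), with their specifications. -/

namespace Cfsg.Agent.Lib.Helper10.E8CC.Helper20

open Cfsg.Lie Cfsg.Agent.Lib.Helper8.Chev Cfsg.Agent.Lib.Helper14.StCC
open Cfsg.Agent.Lib.Helper14.StCC.B.Helper9

/-- `N = ±1` as a Bool -/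
def pm1 (N : ℤ) : Bool := N == 1 || N == -1

theorem pm1_spec {N : ℤ} (h : pm1 N = true) : N = 1 ∨ N = -1 := by
  simpa [pm1] using h

/-! ### `SL1` -/

def sl1B (D : ChevalleyDatum) (r s : ℕ) : Bool :=
  match D.commTerms r s with
  | [] => true
  | [c] => decide (c.2.2 = (1, 1)) && pm1 c.2.1
  | _ => false

theorem sl1B_spec {D : ChevalleyDatum} {r s : ℕ} (h : sl1B D r s = true) : SL1 D r s := by
  unfold sl1B at h
  unfold SL1
  generalize D.commTerms r s = l at h ⊢
  rcases l with _ | ⟨⟨q, N, i, j⟩, _ | ⟨c2, l⟩⟩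
  · exact Or.inl rfl
  · simp only [Bool.and_eq_true, decide_eq_true_eq, Prod.mk.injEq] at h
    obtain ⟨⟨rfl, rfl⟩, hN⟩ := h
    exact Or.inr ⟨q, N, rfl, pm1_spec hN⟩
  · exact absurd h (by simp)

/-- all admissible pairs `(r, s)` with `r ∈ rs` have simply laced shape -/
def rowsSL (D : ChevalleyDatum) (rs : List ℕ) : Bool :=
  rs.all fun r => (List.range D.nroots).all fun s => s == r || s == D.neg r || sl1B D r s

theorem rowsSL_spec {D : ChevalleyDatum} {rs : List ℕ} (h : rowsSL D rs = true) {r s : ℕ}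
    (hr : r ∈ rs) (hs : s < D.nroots) (h1 : s ≠ r) (h2 : s ≠ D.neg r) : SL1 D r s := by
  simp only [rowsSL, List.all_eq_true, List.mem_range, Bool.or_eq_true, beq_iff_eq] at h
  rcases h r hr s hs with (h | h) | h
  · exact absurd h h1
  · exact absurd h h2
  · exact sl1B_spec h

/-! ### `Dec1` -/

/-- `Dec1 D r s` with explicit witnesses `(a, b)` -/
def dec1B (D : ChevalleyDatum) (r s a b : ℕ) : Bool :=
  oneB D a b s (hdC D a b) && pm1 (hdC D a b) && nilB D r a && nilB D r b

theorem dec1B_spec {D : ChevalleyDatum} {r s a b : ℕ} (h : dec1B D r s a b = true) :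
    Dec1 D r s := by
  simp only [dec1B, Bool.and_eq_true] at h
  obtain ⟨⟨⟨h1, h2⟩, h3⟩, h4⟩ := h
  exact ⟨a, b, hdC D a b, oneB_spec h1, pm1_spec h2, nilB_spec h3, nilB_spec h4⟩

/-- row `r` of the certificate: entry `s` is the pair `(a, b)` -/
def rowDec (D : ChevalleyDatum) (r : ℕ) (row : List (ℕ × ℕ)) : Bool :=
  (List.range D.nroots).all fun s =>
    s == r || s == D.neg r || !(D.commTerms r s).isEmpty ||
      dec1B D r s (row.getD s (0, 0)).1 (row.getD s (0, 0)).2

/-- the rows `lo ≤ r < lo + n` of the certificate `tab` are correct -/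
def rowsDec (D : ChevalleyDatum) (tab : List (List (ℕ × ℕ))) (lo n : ℕ) : Bool :=
  (List.range n).all fun k => rowDec D (lo + k) (tab.getD (lo + k) [])

theorem rowsDec_spec {D : ChevalleyDatum} {tab : List (List (ℕ × ℕ))} {lo n : ℕ}
    (h : rowsDec D tab lo n = true) {r s : ℕ} (hlo : lo ≤ r) (hhi : r < lo + n)
    (hs : s < D.nroots) (h1 : s ≠ r) (h2 : s ≠ D.neg r) (h0 : D.commTerms r s = []) :
    Dec1 D r s := by
  simp only [rowsDec, List.all_eq_true, List.mem_range] at h
  have h' := h (r - lo) (by omega)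
  rw [show lo + (r - lo) = r by omega] at h'
  simp only [rowDec, List.all_eq_true, List.mem_range, Bool.or_eq_true, beq_iff_eq,
    Bool.not_eq_true', List.isEmpty_eq_false_iff] at h'
  rcases h' s hs with ((h | h) | h) | h
  · exact absurd h h1
  · exact absurd h h2
  · exact absurd h0 h
  · exact dec1B_spec h

/-! ### `CanP` -/

def adjIB (D : ChevalleyDatum) (a b a' b' q c : ℕ) : Bool :=
  oneB D a c a' (hdC D a c) && pm1 (hdC D a c) && oneB D c b' b (hdC D c b') &&
    pm1 (hdC D c b') && nilB D a b' && nilB D a' b && nilB D a' q && nilB D b q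

theorem adjIB_spec {D : ChevalleyDatum} {a b a' b' q c : ℕ} (h : adjIB D a b a' b' q c = true) :
    AdjI D a b a' b' q := by
  simp only [adjIB, Bool.and_eq_true] at h
  obtain ⟨⟨⟨⟨⟨⟨⟨h1, h2⟩, h3⟩, h4⟩, h5⟩, h6⟩, h7⟩, h8⟩ := h
  exact ⟨c, hdC D a c, hdC D c b', oneB_spec h1, pm1_spec h2, oneB_spec h3, pm1_spec h4,
    nilB_spec h5, nilB_spec h6, nilB_spec h7, nilB_spec h8⟩

def adjB (D : ChevalleyDatum) (a b a₀ b₀ q c : ℕ) : Bool :=
  (a == a₀ && b == b₀) || (a == b₀ && b == a₀) || adjIB D a b a₀ b₀ q c || adjIB D a b b₀ a₀ q c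

theorem adjB_spec {D : ChevalleyDatum} {a b a₀ b₀ q c : ℕ} (h : adjB D a b a₀ b₀ q c = true) :
    Adj D a b a₀ b₀ q := by
  simp only [adjB, Bool.or_eq_true, Bool.and_eq_true, beq_iff_eq] at h
  rcases h with ((h | h) | h) | h
  · exact Or.inl h
  · exact Or.inr (Or.inl h)
  · exact Or.inr (Or.inr (Or.inl (adjIB_spec h)))
  · exact Or.inr (Or.inr (Or.inr (adjIB_spec h)))

/-- the certificate of the root `q`: the reference decomposition `(a₀, b₀)` and, for every `a`,
the root `c` used for the decomposition `(a, q - a)` -/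
def canB (D : ChevalleyDatum) (q a₀ b₀ : ℕ) (cs : List ℕ) : Bool :=
  oneB D a₀ b₀ q (hdC D a₀ b₀) && pm1 (hdC D a₀ b₀) && nilB D b₀ q &&
    (List.range D.nroots).all fun a => (List.range D.nroots).all fun b =>
      !(admB D a b) ||
      match D.commTerms a b with
      | [c1] => !(decide (c1.1 = q ∧ c1.2.2 = (1, 1))) || adjB D a b a₀ b₀ q (cs.getD a 0)
      | _ => true

theorem canB_spec {D : ChevalleyDatum} {q a₀ b₀ : ℕ} {cs : List ℕ}
    (h : canB D q a₀ b₀ cs = true) : CanP D q := by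
  simp only [canB, Bool.and_eq_true, List.all_eq_true, List.mem_range] at h
  obtain ⟨⟨⟨h1, h2⟩, h3⟩, h4⟩ := h
  refine ⟨a₀, b₀, hdC D a₀ b₀, oneB_spec h1, pm1_spec h2, nilB_spec h3, ?_⟩
  rintro a b N ⟨ha, hb, hba, hbna, hT⟩
  have h5 := h4 a ha b hb
  have hadm : admB D a b = true := by
    simp only [admB, Bool.and_eq_true, decide_eq_true_eq, Bool.not_eq_true', beq_eq_false_iff_ne]
    exact ⟨⟨⟨ha, hb⟩, hba⟩, hbna⟩
  rw [hadm, hT] at h5
  simp only [Bool.not_true, Bool.false_or, and_self, decide_true, Bool.not_true] at h5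
  exact adjB_spec h5

/-- the rows `lo ≤ q < lo + n` of the certificate `tab` are correct -/
def rowsCan (D : ChevalleyDatum) (tab : List (ℕ × ℕ × List ℕ)) (lo n : ℕ) : Bool :=
  (List.range n).all fun k =>
    canB D (lo + k) (tab.getD (lo + k) (0, 0, [])).1 (tab.getD (lo + k) (0, 0, [])).2.1
      (tab.getD (lo + k) (0, 0, [])).2.2

theorem rowsCan_spec {D : ChevalleyDatum} {tab : List (ℕ × ℕ × List ℕ)} {lo n : ℕ}
    (h : rowsCan D tab lo n = true) {q : ℕ} (hlo : lo ≤ q) (hhi : q < lo + n) : CanP D q := by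
  simp only [rowsCan, List.all_eq_true, List.mem_range] at h
  have h' := h (q - lo) (by omega)
  rw [show lo + (q - lo) = q by omega] at h'
  exact canB_spec h'

end Cfsg.Agent.Lib.Helper10.E8CC.Helper20
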