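import Cfsg.Agent.Lib.Helper20.E67CCDefs

set_option autoImplicit false

/-! The `chevE6` instance of the table fact `CanP` (S2105 / S2106 / S2400 farms; statement shapes of
helper10's S2107 skeleton with `chevE6`).  Kernel-checked certificate. -/

namespace Cfsg.Agent.Lib.Helper10.E8CC

open Cfsg.Lie Cfsg.Agent.Lib.Helper8.Chev Cfsg.Agent.Lib.Helper14.StCC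

namespace Helper20

set_option maxHeartbeats 0 in
/-- certificate of `CanP`: entry `q` is `(a₀, b₀, cs)`, the reference decomposition of `q` and for
every `a` the root `c` linking the decomposition `(a, q - a)` to it -/
def canE6 : List (ℕ × ℕ × List ℕ) :=
  [(1, 25, [0, 0, 32, 31, 30, 28, 27, 26, 60, 59, 58, 0, 0, 0, 0, 0, 13, 12, 11, 45, 44, 43, 41,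
  40, 39, 0, 0, 0, 0, 0, 0, 0, 0, 0, 0, 0, 0, 0, 0, 0, 0, 0, 0, 0, 0, 0, 0, 0, 0, 0, 0, 0, 0, 0, 0,
  0, 0, 0, 0, 0, 0, 0, 0, 0, 0, 0, 0, 0, 0, 0, 0, 0]), (0, 46, [0, 0, 24, 23, 22, 21, 20, 19, 0, 0,
  0, 63, 62, 61, 0, 0, 10, 9, 8, 0, 0, 0, 0, 0, 0, 0, 52, 51, 50, 0, 49, 48, 47, 0, 0, 0, 0, 0, 0,
  0, 0, 0, 0, 0, 0, 0, 0, 0, 0, 0, 0, 0, 0, 0, 0, 0, 0, 0, 0, 0, 0, 0, 0, 0, 0, 0, 0, 0, 0, 0, 0,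
  0]), (0, 47, [0, 25, 0, 23, 22, 21, 0, 0, 18, 17, 0, 65, 64, 0, 61, 0, 10, 0, 0, 7, 6, 0, 0, 0,
  0, 0, 54, 53, 0, 50, 0, 0, 0, 49, 48, 0, 0, 0, 0, 46, 0, 0, 0, 0, 0, 0, 0, 0, 0, 0, 0, 0, 0, 0,
  0, 0, 0, 0, 0, 0, 0, 0, 0, 0, 0, 0, 0, 0, 0, 0, 0, 0]), (0, 48, [0, 25, 24, 0, 22, 0, 20, 0, 18,
  0, 16, 66, 0, 64, 62, 0, 0, 9, 0, 7, 0, 5, 0, 0, 0, 0, 55, 0, 53, 51, 0, 0, 0, 0, 0, 49, 0, 47,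
  0, 0, 46, 0, 0, 0, 0, 0, 0, 0, 0, 0, 0, 0, 0, 0, 0, 0, 0, 0, 0, 0, 0, 0, 0, 0, 0, 0, 0, 0, 0, 0,
  0, 0]), (0, 49, [0, 25, 24, 23, 0, 0, 0, 19, 0, 17, 16, 0, 66, 65, 63, 0, 0, 0, 8, 0, 6, 5, 0, 0,
  0, 0, 0, 55, 54, 52, 0, 0, 0, 0, 0, 0, 48, 0, 47, 0, 0, 46, 0, 0, 0, 0, 0, 0, 0, 0, 0, 0, 0, 0,
  0, 0, 0, 0, 0, 0, 0, 0, 0, 0, 0, 0, 0, 0, 0, 0, 0, 0]), (0, 50, [0, 25, 24, 0, 0, 0, 20, 19, 18,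
  17, 0, 68, 67, 0, 0, 61, 10, 0, 0, 0, 0, 0, 4, 3, 0, 0, 0, 0, 0, 0, 54, 53, 0, 52, 51, 0, 0, 0,
  0, 0, 0, 0, 47, 46, 0, 0, 0, 0, 0, 0, 0, 0, 0, 0, 0, 0, 0, 0, 0, 0, 0, 0, 0, 0, 0, 0, 0, 0, 0, 0,
  0, 0]), (0, 51, [0, 25, 0, 23, 0, 21, 0, 19, 18, 0, 16, 69, 0, 67, 0, 62, 0, 9, 0, 0, 0, 0, 4, 0,
  2, 0, 0, 0, 0, 0, 55, 0, 53, 0, 0, 52, 0, 50, 0, 0, 0, 0, 48, 0, 46, 0, 0, 0, 0, 0, 0, 0, 0, 0,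
  0, 0, 0, 0, 0, 0, 0, 0, 0, 0, 0, 0, 0, 0, 0, 0, 0, 0]), (0, 52, [0, 25, 0, 0, 22, 21, 20, 0, 0,
  17, 16, 0, 69, 68, 0, 63, 0, 0, 8, 0, 0, 0, 0, 3, 2, 0, 0, 0, 0, 0, 0, 55, 54, 0, 0, 0, 51, 0,
  50, 0, 0, 0, 49, 0, 0, 46, 0, 0, 0, 0, 0, 0, 0, 0, 0, 0, 0, 0, 0, 0, 0, 0, 0, 0, 0, 0, 0, 0, 0,
  0, 0, 0]), (0, 53, [0, 0, 24, 23, 0, 21, 20, 0, 0, 17, 16, 70, 0, 0, 67, 64, 0, 0, 0, 7, 0, 0, 4,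
  0, 0, 1, 0, 0, 0, 0, 0, 0, 0, 55, 0, 54, 0, 0, 0, 51, 50, 0, 0, 48, 47, 0, 0, 0, 0, 0, 0, 0, 0,
  0, 0, 0, 0, 0, 0, 0, 0, 0, 0, 0, 0, 0, 0, 0, 0, 0, 0, 0]), (0, 54, [0, 0, 24, 0, 22, 21, 0, 19,
  18, 0, 16, 0, 70, 0, 68, 65, 0, 0, 0, 0, 6, 0, 0, 3, 0, 1, 0, 0, 0, 0, 0, 0, 0, 0, 55, 0, 53, 0,
  0, 52, 0, 50, 0, 49, 0, 47, 0, 0, 0, 0, 0, 0, 0, 0, 0, 0, 0, 0, 0, 0, 0, 0, 0, 0, 0, 0, 0, 0, 0,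
  0, 0, 0]), (0, 55, [0, 0, 0, 23, 22, 0, 20, 19, 18, 17, 0, 0, 0, 70, 69, 66, 0, 0, 0, 0, 0, 5, 0,
  0, 2, 1, 0, 0, 0, 0, 0, 0, 0, 0, 0, 0, 0, 54, 53, 0, 52, 51, 0, 0, 49, 48, 0, 0, 0, 0, 0, 0, 0,
  0, 0, 0, 0, 0, 0, 0, 0, 0, 0, 0, 0, 0, 0, 0, 0, 0, 0, 0]), (1, 53, [0, 0, 32, 31, 0, 28, 27, 0,
  71, 0, 0, 0, 17, 16, 67, 64, 0, 0, 0, 0, 0, 0, 0, 0, 0, 0, 7, 0, 0, 0, 4, 0, 0, 55, 0, 54, 0, 0,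
  0, 0, 0, 0, 0, 0, 0, 0, 0, 44, 43, 0, 40, 39, 0, 0, 0, 0, 0, 0, 0, 0, 0, 0, 0, 0, 0, 0, 0, 0, 0,
  0, 0, 0]), (1, 54, [0, 0, 32, 0, 30, 28, 0, 26, 0, 71, 0, 18, 0, 16, 68, 65, 0, 0, 0, 0, 0, 0, 0,
  0, 0, 0, 0, 6, 0, 0, 0, 3, 0, 0, 55, 0, 53, 0, 0, 0, 0, 0, 0, 0, 0, 0, 0, 45, 0, 43, 41, 0, 39,
  0, 0, 0, 0, 0, 0, 0, 0, 0, 0, 0, 0, 0, 0, 0, 0, 0, 0, 0]), (1, 55, [0, 0, 0, 31, 30, 0, 27, 26,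
  0, 0, 71, 18, 17, 0, 69, 66, 0, 0, 0, 0, 0, 0, 0, 0, 0, 0, 0, 0, 5, 0, 0, 0, 2, 0, 0, 0, 0, 54,
  53, 0, 0, 0, 0, 0, 0, 0, 0, 0, 45, 44, 0, 41, 40, 0, 0, 0, 0, 0, 0, 0, 0, 0, 0, 0, 0, 0, 0, 0, 0,
  0, 0, 0]), (2, 55, [0, 0, 0, 34, 33, 0, 0, 0, 27, 26, 71, 20, 19, 70, 0, 66, 0, 0, 0, 0, 0, 0, 0,
  0, 0, 0, 0, 0, 0, 5, 0, 0, 0, 0, 0, 0, 0, 0, 0, 1, 52, 51, 0, 0, 0, 0, 0, 0, 45, 44, 0, 0, 0, 38,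
  37, 0, 0, 0, 0, 0, 0, 0, 0, 0, 0, 0, 0, 0, 0, 0, 0, 0]), (5, 55, [0, 0, 0, 0, 0, 0, 34, 33, 31,
  30, 71, 23, 22, 70, 69, 0, 0, 0, 0, 0, 0, 0, 0, 0, 0, 0, 0, 0, 0, 0, 0, 0, 0, 0, 0, 0, 0, 0, 0,
  0, 0, 0, 2, 1, 49, 48, 0, 0, 0, 0, 0, 41, 40, 38, 37, 0, 0, 0, 0, 0, 0, 0, 0, 0, 0, 0, 0, 0, 0,
  0, 0, 0]), (0, 61, [0, 25, 24, 0, 0, 21, 0, 0, 0, 0, 0, 0, 0, 0, 0, 0, 0, 9, 8, 7, 6, 0, 4, 3, 0,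
  0, 68, 67, 0, 0, 65, 64, 0, 63, 62, 0, 0, 0, 0, 0, 0, 0, 0, 0, 0, 0, 0, 0, 0, 0, 0, 0, 0, 0, 0,
  0, 50, 47, 46, 0, 0, 0, 0, 0, 0, 0, 0, 0, 0, 0, 0, 0]), (0, 62, [0, 25, 0, 23, 0, 0, 20, 0, 0, 0,
  0, 0, 0, 0, 0, 0, 10, 0, 8, 7, 0, 5, 4, 0, 2, 0, 69, 0, 67, 0, 66, 0, 64, 0, 0, 63, 0, 61, 0, 0,
  0, 0, 0, 0, 0, 0, 0, 0, 0, 0, 0, 0, 0, 0, 0, 0, 51, 48, 0, 46, 0, 0, 0, 0, 0, 0, 0, 0, 0, 0, 0,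
  0]), (0, 63, [0, 25, 0, 0, 22, 0, 0, 19, 0, 0, 0, 0, 0, 0, 0, 0, 10, 9, 0, 0, 6, 5, 0, 3, 2, 0,
  0, 69, 68, 0, 0, 66, 65, 0, 0, 0, 62, 0, 61, 0, 0, 0, 0, 0, 0, 0, 0, 0, 0, 0, 0, 0, 0, 0, 0, 0,
  52, 49, 0, 0, 46, 0, 0, 0, 0, 0, 0, 0, 0, 0, 0, 0]), (0, 64, [0, 0, 24, 23, 0, 0, 0, 0, 18, 0, 0,
  0, 0, 0, 0, 0, 10, 9, 0, 0, 6, 5, 4, 0, 0, 1, 70, 0, 0, 67, 0, 0, 0, 66, 0, 65, 0, 0, 0, 62, 61,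
  0, 0, 0, 0, 0, 0, 0, 0, 0, 0, 0, 0, 0, 0, 0, 53, 0, 48, 47, 0, 0, 0, 0, 0, 0, 0, 0, 0, 0, 0, 0]),
  (0, 65, [0, 0, 24, 0, 22, 0, 0, 0, 0, 17, 0, 0, 0, 0, 0, 0, 10, 0, 8, 7, 0, 5, 0, 3, 0, 1, 0, 70,
  0, 68, 0, 0, 0, 0, 66, 0, 64, 0, 0, 63, 0, 61, 0, 0, 0, 0, 0, 0, 0, 0, 0, 0, 0, 0, 0, 0, 54, 0,
  49, 0, 47, 0, 0, 0, 0, 0, 0, 0, 0, 0, 0, 0]), (0, 66, [0, 0, 0, 23, 22, 0, 0, 0, 0, 0, 16, 0, 0,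
  0, 0, 0, 0, 9, 8, 7, 6, 0, 0, 0, 2, 1, 0, 0, 70, 69, 0, 0, 0, 0, 0, 0, 0, 65, 64, 0, 63, 62, 0,
  0, 0, 0, 0, 0, 0, 0, 0, 0, 0, 0, 0, 0, 55, 0, 0, 49, 48, 0, 0, 0, 0, 0, 0, 0, 0, 0, 0, 0]), (0,
  67, [0, 0, 0, 0, 0, 21, 20, 0, 18, 0, 0, 0, 0, 0, 0, 0, 10, 9, 0, 7, 0, 0, 0, 3, 2, 1, 0, 0, 0,
  0, 70, 0, 0, 69, 0, 68, 0, 0, 0, 0, 0, 0, 64, 62, 61, 0, 0, 0, 0, 0, 0, 0, 0, 0, 0, 0, 0, 53, 51,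
  50, 0, 0, 0, 0, 0, 0, 0, 0, 0, 0, 0, 0]), (0, 68, [0, 0, 0, 0, 0, 21, 0, 19, 0, 17, 0, 0, 0, 0,
  0, 0, 10, 0, 8, 0, 6, 0, 4, 0, 2, 1, 0, 0, 0, 0, 0, 70, 0, 0, 69, 0, 67, 0, 0, 0, 0, 0, 65, 63,
  0, 61, 0, 0, 0, 0, 0, 0, 0, 0, 0, 0, 0, 54, 52, 0, 50, 0, 0, 0, 0, 0, 0, 0, 0, 0, 0, 0]), (0, 69,
  [0, 0, 0, 0, 0, 0, 20, 19, 0, 0, 16, 0, 0, 0, 0, 0, 0, 9, 8, 0, 0, 5, 4, 3, 0, 1, 0, 0, 0, 0, 0,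
  0, 70, 0, 0, 0, 0, 68, 67, 0, 0, 0, 66, 0, 63, 62, 0, 0, 0, 0, 0, 0, 0, 0, 0, 0, 0, 55, 0, 52,
  51, 0, 0, 0, 0, 0, 0, 0, 0, 0, 0, 0]), (0, 70, [0, 0, 0, 0, 0, 0, 0, 0, 18, 17, 16, 0, 0, 0, 0,
  0, 0, 0, 0, 7, 6, 5, 4, 3, 2, 0, 0, 0, 0, 0, 0, 0, 0, 0, 0, 0, 0, 0, 0, 69, 68, 67, 0, 66, 65,
  64, 0, 0, 0, 0, 0, 0, 0, 0, 0, 0, 0, 0, 55, 54, 53, 0, 0, 0, 0, 0, 0, 0, 0, 0, 0, 0]), (1, 64,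
  [0, 0, 32, 31, 0, 0, 0, 0, 0, 0, 0, 18, 0, 0, 0, 0, 13, 12, 0, 71, 0, 0, 0, 0, 0, 0, 0, 6, 5, 67,
  4, 0, 0, 66, 0, 65, 0, 0, 0, 0, 0, 0, 0, 0, 0, 0, 0, 59, 58, 0, 0, 0, 0, 0, 0, 0, 53, 0, 0, 0, 0,
  40, 39, 0, 0, 0, 0, 0, 0, 0, 0, 0]), (1, 65, [0, 0, 32, 0, 30, 0, 0, 0, 0, 0, 0, 0, 17, 0, 0, 0,
  13, 0, 11, 0, 71, 0, 0, 0, 0, 0, 7, 0, 5, 68, 0, 3, 0, 0, 66, 0, 64, 0, 0, 0, 0, 0, 0, 0, 0, 0,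
  0, 60, 0, 58, 0, 0, 0, 0, 0, 0, 54, 0, 0, 0, 0, 41, 0, 39, 0, 0, 0, 0, 0, 0, 0, 0]), (1, 66, [0,
  0, 0, 31, 30, 0, 0, 0, 0, 0, 0, 0, 0, 16, 0, 0, 0, 12, 11, 0, 0, 71, 0, 0, 0, 0, 7, 6, 0, 69, 0,
  0, 2, 0, 0, 0, 0, 65, 64, 0, 0, 0, 0, 0, 0, 0, 0, 0, 60, 59, 0, 0, 0, 0, 0, 0, 55, 0, 0, 0, 0, 0,
  41, 40, 0, 0, 0, 0, 0, 0, 0, 0]), (2, 66, [0, 0, 0, 34, 33, 0, 0, 0, 0, 0, 0, 0, 0, 0, 16, 0, 0,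
  0, 0, 12, 11, 71, 0, 0, 0, 0, 9, 8, 70, 0, 0, 0, 0, 0, 0, 0, 0, 0, 0, 1, 63, 62, 0, 0, 0, 0, 0,
  0, 60, 59, 0, 0, 0, 0, 0, 0, 55, 0, 0, 0, 0, 0, 0, 0, 38, 37, 0, 0, 0, 0, 0, 0]), (1, 67, [0, 0,
  0, 0, 0, 28, 27, 0, 0, 0, 0, 18, 0, 0, 0, 0, 13, 12, 0, 0, 0, 0, 71, 0, 0, 0, 7, 0, 0, 0, 0, 3,
  2, 69, 0, 68, 0, 0, 0, 0, 0, 0, 64, 0, 0, 0, 0, 0, 0, 0, 59, 58, 0, 0, 0, 0, 0, 53, 0, 0, 0, 44,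
  43, 0, 0, 0, 0, 0, 0, 0, 0, 0]), (1, 68, [0, 0, 0, 0, 0, 28, 0, 26, 0, 0, 0, 0, 17, 0, 0, 0, 13,
  0, 11, 0, 0, 0, 0, 71, 0, 0, 0, 6, 0, 0, 4, 0, 2, 0, 69, 0, 67, 0, 0, 0, 0, 0, 65, 0, 0, 0, 0, 0,
  0, 0, 60, 0, 58, 0, 0, 0, 0, 54, 0, 0, 0, 45, 0, 43, 0, 0, 0, 0, 0, 0, 0, 0]), (1, 69, [0, 0, 0,
  0, 0, 0, 27, 26, 0, 0, 0, 0, 0, 16, 0, 0, 0, 12, 11, 0, 0, 0, 0, 0, 71, 0, 0, 0, 5, 0, 4, 3, 0,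
  0, 0, 0, 0, 68, 67, 0, 0, 0, 66, 0, 0, 0, 0, 0, 0, 0, 0, 60, 59, 0, 0, 0, 0, 55, 0, 0, 0, 0, 45,
  44, 0, 0, 0, 0, 0, 0, 0, 0]), (2, 67, [0, 0, 0, 0, 0, 29, 0, 0, 27, 0, 0, 20, 0, 0, 0, 0, 14, 0,
  0, 12, 0, 0, 71, 0, 0, 0, 9, 0, 0, 0, 70, 0, 0, 0, 3, 68, 0, 0, 0, 1, 0, 0, 0, 62, 0, 0, 0, 0, 0,
  0, 59, 0, 0, 57, 0, 0, 0, 0, 51, 0, 0, 44, 0, 0, 42, 0, 0, 0, 0, 0, 0, 0]), (2, 68, [0, 0, 0, 0,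
  0, 29, 0, 0, 0, 26, 0, 0, 19, 0, 0, 0, 14, 0, 0, 0, 11, 0, 0, 71, 0, 0, 0, 8, 0, 0, 0, 70, 0, 4,
  0, 0, 67, 0, 0, 1, 0, 0, 0, 63, 0, 0, 0, 0, 0, 0, 60, 0, 0, 0, 57, 0, 0, 0, 52, 0, 0, 45, 0, 0,
  0, 42, 0, 0, 0, 0, 0, 0]), (3, 67, [0, 0, 0, 0, 0, 0, 29, 0, 28, 0, 0, 21, 0, 0, 0, 0, 0, 14, 0,
  13, 0, 0, 71, 0, 0, 0, 10, 0, 0, 0, 70, 0, 0, 69, 0, 0, 0, 2, 0, 0, 1, 0, 0, 0, 61, 0, 0, 0, 0,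
  0, 0, 58, 0, 57, 0, 0, 0, 0, 0, 50, 0, 0, 43, 0, 42, 0, 0, 0, 0, 0, 0, 0]), (4, 68, [0, 0, 0, 0,
  0, 0, 0, 29, 0, 28, 0, 0, 21, 0, 0, 0, 0, 0, 14, 0, 13, 0, 0, 71, 0, 0, 0, 10, 0, 0, 0, 70, 0, 0,
  69, 0, 0, 0, 2, 0, 0, 1, 0, 0, 0, 61, 0, 0, 0, 0, 0, 0, 58, 0, 57, 0, 0, 0, 0, 0, 50, 0, 0, 43,
  0, 42, 0, 0, 0, 0, 0, 0]), (3, 69, [0, 0, 0, 0, 0, 0, 29, 0, 0, 0, 26, 0, 0, 19, 0, 0, 0, 14, 0,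
  0, 0, 11, 0, 0, 71, 0, 0, 0, 8, 0, 0, 0, 70, 0, 0, 4, 0, 0, 67, 0, 1, 0, 0, 0, 63, 0, 0, 0, 0, 0,
  0, 60, 0, 0, 0, 57, 0, 0, 0, 52, 0, 0, 45, 0, 0, 0, 42, 0, 0, 0, 0, 0]), (4, 69, [0, 0, 0, 0, 0,
  0, 0, 29, 0, 0, 27, 0, 0, 20, 0, 0, 0, 0, 14, 0, 0, 12, 0, 0, 71, 0, 0, 0, 9, 0, 0, 0, 70, 0, 0,
  0, 3, 68, 0, 0, 0, 1, 0, 0, 0, 62, 0, 0, 0, 0, 0, 0, 59, 0, 0, 57, 0, 0, 0, 0, 51, 0, 0, 44, 0,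
  0, 42, 0, 0, 0, 0, 0]), (2, 70, [0, 0, 0, 0, 0, 0, 0, 0, 27, 26, 0, 0, 0, 0, 16, 0, 0, 0, 0, 12,
  11, 0, 0, 0, 0, 71, 0, 0, 0, 5, 0, 0, 0, 4, 3, 0, 0, 0, 0, 0, 68, 67, 0, 66, 0, 0, 0, 0, 0, 0, 0,
  0, 0, 60, 59, 0, 0, 0, 55, 0, 0, 0, 0, 0, 45, 44, 0, 0, 0, 0, 0, 0]), (3, 70, [0, 0, 0, 0, 0, 0,
  0, 0, 28, 0, 26, 0, 0, 0, 17, 0, 0, 0, 0, 13, 0, 11, 0, 0, 0, 71, 0, 0, 0, 6, 0, 0, 0, 0, 0, 4,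
  0, 2, 0, 69, 0, 67, 0, 0, 65, 0, 0, 0, 0, 0, 0, 0, 0, 60, 0, 58, 0, 0, 0, 54, 0, 0, 0, 0, 45, 0,
  43, 0, 0, 0, 0, 0]), (4, 70, [0, 0, 0, 0, 0, 0, 0, 0, 0, 28, 27, 0, 0, 0, 18, 0, 0, 0, 0, 0, 13,
  12, 0, 0, 0, 71, 0, 0, 0, 7, 0, 0, 0, 0, 0, 0, 3, 0, 2, 69, 68, 0, 0, 0, 0, 64, 0, 0, 0, 0, 0, 0,
  0, 0, 59, 58, 0, 0, 0, 0, 53, 0, 0, 0, 0, 44, 43, 0, 0, 0, 0, 0]), (5, 69, [0, 0, 0, 0, 0, 0, 34,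
  33, 0, 0, 0, 0, 0, 0, 0, 16, 0, 0, 0, 0, 0, 0, 12, 11, 71, 0, 0, 0, 0, 0, 9, 8, 70, 0, 0, 0, 0,
  0, 0, 0, 0, 0, 0, 1, 63, 62, 0, 0, 0, 0, 0, 60, 59, 0, 0, 0, 0, 55, 0, 0, 0, 0, 0, 0, 0, 0, 0,
  38, 37, 0, 0, 0]), (5, 70, [0, 0, 0, 0, 0, 0, 0, 0, 31, 30, 0, 0, 0, 0, 0, 16, 0, 0, 0, 0, 0, 0,
  12, 11, 0, 71, 0, 0, 0, 0, 0, 0, 0, 7, 6, 0, 0, 0, 0, 69, 0, 0, 2, 0, 65, 64, 0, 0, 0, 0, 0, 0,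
  0, 60, 59, 0, 0, 0, 55, 0, 0, 0, 0, 0, 0, 0, 0, 41, 40, 0, 0, 0]), (6, 70, [0, 0, 0, 0, 0, 0, 0,
  0, 32, 0, 30, 0, 0, 0, 0, 17, 0, 0, 0, 0, 0, 0, 13, 0, 11, 71, 0, 0, 0, 0, 0, 0, 0, 0, 0, 7, 0,
  5, 0, 0, 68, 0, 3, 66, 0, 64, 0, 0, 0, 0, 0, 0, 0, 60, 0, 58, 0, 0, 0, 54, 0, 0, 0, 0, 0, 0, 0,
  41, 0, 39, 0, 0]), (7, 70, [0, 0, 0, 0, 0, 0, 0, 0, 0, 32, 31, 0, 0, 0, 0, 18, 0, 0, 0, 0, 0, 0,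
  0, 13, 12, 71, 0, 0, 0, 0, 0, 0, 0, 0, 0, 0, 6, 0, 5, 0, 0, 67, 4, 66, 65, 0, 0, 0, 0, 0, 0, 0,
  0, 0, 59, 58, 0, 0, 0, 0, 53, 0, 0, 0, 0, 0, 0, 0, 40, 39, 0, 0]), (1, 71, [0, 0, 0, 0, 0, 0, 0,
  0, 0, 0, 0, 18, 17, 16, 0, 0, 0, 0, 0, 0, 0, 0, 0, 0, 0, 0, 7, 6, 5, 0, 4, 3, 2, 0, 0, 0, 0, 0,
  0, 0, 0, 0, 0, 0, 0, 0, 0, 69, 68, 67, 66, 65, 64, 0, 0, 0, 0, 0, 0, 0, 0, 55, 54, 53, 0, 0, 0,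
  0, 0, 0, 0, 0]), (2, 71, [0, 0, 0, 0, 0, 0, 0, 0, 0, 0, 0, 20, 19, 0, 16, 0, 0, 0, 0, 0, 0, 0, 0,
  0, 0, 0, 9, 8, 0, 5, 0, 0, 0, 4, 3, 0, 0, 0, 0, 1, 0, 0, 0, 0, 0, 0, 70, 0, 68, 67, 66, 0, 0, 63,
  62, 0, 0, 0, 0, 0, 0, 55, 0, 0, 52, 51, 0, 0, 0, 0, 0, 0]), (3, 71, [0, 0, 0, 0, 0, 0, 0, 0, 0,
  0, 0, 21, 0, 19, 17, 0, 0, 0, 0, 0, 0, 0, 0, 0, 0, 0, 10, 0, 8, 6, 0, 0, 0, 0, 0, 4, 0, 2, 0, 0,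
  1, 0, 0, 0, 0, 0, 70, 69, 0, 67, 0, 65, 0, 63, 0, 61, 0, 0, 0, 0, 0, 0, 54, 0, 52, 0, 50, 0, 0,
  0, 0, 0]), (4, 71, [0, 0, 0, 0, 0, 0, 0, 0, 0, 0, 0, 0, 21, 20, 18, 0, 0, 0, 0, 0, 0, 0, 0, 0, 0,
  0, 0, 10, 9, 7, 0, 0, 0, 0, 0, 0, 3, 0, 2, 0, 0, 1, 0, 0, 0, 0, 70, 69, 68, 0, 0, 0, 64, 0, 62,
  61, 0, 0, 0, 0, 0, 0, 0, 53, 0, 51, 50, 0, 0, 0, 0, 0]), (5, 71, [0, 0, 0, 0, 0, 0, 0, 0, 0, 0,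
  0, 23, 22, 0, 0, 16, 0, 0, 0, 0, 0, 0, 0, 0, 0, 0, 0, 0, 0, 0, 9, 8, 0, 7, 6, 0, 0, 0, 0, 0, 0,
  0, 2, 1, 0, 0, 70, 69, 0, 0, 0, 65, 64, 63, 62, 0, 0, 0, 0, 0, 0, 55, 0, 0, 0, 0, 0, 49, 48, 0,
  0, 0]), (6, 71, [0, 0, 0, 0, 0, 0, 0, 0, 0, 0, 0, 24, 0, 22, 0, 17, 0, 0, 0, 0, 0, 0, 0, 0, 0, 0,
  0, 0, 0, 0, 10, 0, 8, 0, 0, 7, 0, 5, 0, 0, 0, 0, 3, 0, 1, 0, 70, 0, 68, 0, 66, 0, 64, 63, 0, 61,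
  0, 0, 0, 0, 0, 0, 54, 0, 0, 0, 0, 49, 0, 47, 0, 0]), (7, 71, [0, 0, 0, 0, 0, 0, 0, 0, 0, 0, 0, 0,
  24, 23, 0, 18, 0, 0, 0, 0, 0, 0, 0, 0, 0, 0, 0, 0, 0, 0, 0, 10, 9, 0, 0, 0, 6, 0, 5, 0, 0, 0, 4,
  0, 0, 1, 70, 0, 0, 67, 66, 65, 0, 0, 62, 61, 0, 0, 0, 0, 0, 0, 0, 53, 0, 0, 0, 0, 48, 47, 0, 0]),
  (8, 71, [0, 0, 0, 0, 0, 0, 0, 0, 0, 0, 0, 25, 0, 0, 22, 19, 0, 0, 0, 0, 0, 0, 0, 0, 0, 0, 0, 0,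
  0, 0, 0, 0, 0, 10, 0, 9, 0, 0, 0, 6, 5, 0, 0, 3, 2, 0, 0, 69, 68, 0, 66, 65, 0, 0, 62, 61, 0, 0,
  0, 0, 0, 0, 0, 0, 52, 0, 0, 49, 0, 0, 46, 0]), (9, 71, [0, 0, 0, 0, 0, 0, 0, 0, 0, 0, 0, 0, 25,
  0, 23, 20, 0, 0, 0, 0, 0, 0, 0, 0, 0, 0, 0, 0, 0, 0, 0, 0, 0, 0, 10, 0, 8, 0, 0, 7, 0, 5, 0, 4,
  0, 2, 0, 69, 0, 67, 66, 0, 64, 63, 0, 61, 0, 0, 0, 0, 0, 0, 0, 0, 0, 51, 0, 0, 48, 0, 46, 0]),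
  (10, 71, [0, 0, 0, 0, 0, 0, 0, 0, 0, 0, 0, 0, 0, 25, 24, 21, 0, 0, 0, 0, 0, 0, 0, 0, 0, 0, 0, 0,
  0, 0, 0, 0, 0, 0, 0, 0, 0, 9, 8, 0, 7, 6, 0, 0, 4, 3, 0, 0, 68, 67, 0, 65, 64, 63, 62, 0, 0, 0,
  0, 0, 0, 0, 0, 0, 0, 0, 50, 0, 0, 47, 46, 0]), (16, 66, [0, 0, 0, 0, 0, 0, 0, 0, 0, 0, 0, 0, 0,
  0, 0, 0, 0, 34, 33, 31, 30, 71, 0, 0, 0, 0, 23, 22, 70, 69, 0, 0, 0, 0, 0, 0, 0, 0, 0, 0, 0, 0,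
  0, 0, 0, 0, 0, 0, 0, 0, 0, 0, 0, 0, 0, 0, 0, 2, 1, 49, 48, 0, 41, 40, 38, 37, 0, 0, 0, 0, 0, 0]),
  (16, 69, [0, 0, 0, 0, 0, 0, 0, 0, 0, 0, 0, 0, 0, 0, 0, 0, 0, 34, 33, 0, 0, 0, 27, 26, 71, 0, 0,
  0, 0, 0, 20, 19, 70, 0, 0, 0, 0, 0, 0, 0, 0, 0, 66, 0, 0, 0, 0, 0, 0, 0, 0, 0, 0, 0, 0, 0, 5, 0,
  1, 52, 51, 0, 45, 44, 0, 0, 0, 38, 37, 0, 0, 0]), (16, 70, [0, 0, 0, 0, 0, 0, 0, 0, 0, 0, 0, 0,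
  0, 0, 0, 0, 0, 0, 0, 31, 30, 0, 27, 26, 0, 71, 0, 0, 0, 0, 0, 0, 0, 18, 17, 0, 0, 0, 0, 69, 0, 0,
  0, 66, 0, 0, 0, 0, 0, 0, 0, 0, 0, 0, 0, 0, 5, 2, 0, 54, 53, 0, 0, 0, 45, 44, 0, 41, 40, 0, 0,
  0]), (17, 70, [0, 0, 0, 0, 0, 0, 0, 0, 0, 0, 0, 0, 0, 0, 0, 0, 0, 0, 0, 32, 0, 30, 28, 0, 26, 71,
  0, 0, 0, 0, 0, 0, 0, 0, 0, 18, 0, 16, 0, 0, 68, 0, 0, 0, 65, 0, 0, 0, 0, 0, 0, 0, 0, 0, 0, 0, 6,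
  3, 55, 0, 53, 0, 0, 0, 45, 0, 43, 41, 0, 39, 0, 0]), (18, 70, [0, 0, 0, 0, 0, 0, 0, 0, 0, 0, 0,
  0, 0, 0, 0, 0, 0, 0, 0, 0, 32, 31, 0, 28, 27, 71, 0, 0, 0, 0, 0, 0, 0, 0, 0, 0, 17, 0, 16, 0, 0,
  67, 0, 0, 0, 64, 0, 0, 0, 0, 0, 0, 0, 0, 0, 0, 7, 4, 55, 54, 0, 0, 0, 0, 0, 44, 43, 0, 40, 39, 0,
  0]), (16, 71, [0, 0, 0, 0, 0, 0, 0, 0, 0, 0, 0, 0, 0, 0, 0, 0, 0, 0, 0, 0, 0, 0, 0, 0, 0, 0, 23,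
  22, 0, 0, 20, 19, 0, 18, 17, 0, 0, 0, 0, 0, 0, 0, 0, 0, 0, 0, 70, 69, 0, 0, 66, 0, 0, 0, 0, 0, 5,
  2, 1, 0, 0, 0, 54, 53, 52, 51, 0, 49, 48, 0, 0, 0]), (17, 71, [0, 0, 0, 0, 0, 0, 0, 0, 0, 0, 0,
  0, 0, 0, 0, 0, 0, 0, 0, 0, 0, 0, 0, 0, 0, 0, 24, 0, 22, 0, 21, 0, 19, 0, 0, 18, 0, 16, 0, 0, 0,
  0, 0, 0, 0, 0, 70, 0, 68, 0, 0, 65, 0, 0, 0, 0, 6, 3, 0, 1, 0, 55, 0, 53, 52, 0, 50, 49, 0, 47,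
  0, 0]), (18, 71, [0, 0, 0, 0, 0, 0, 0, 0, 0, 0, 0, 0, 0, 0, 0, 0, 0, 0, 0, 0, 0, 0, 0, 0, 0, 0,
  0, 24, 23, 0, 0, 21, 20, 0, 0, 0, 17, 0, 16, 0, 0, 0, 0, 0, 0, 0, 70, 0, 0, 67, 0, 0, 64, 0, 0,
  0, 7, 4, 0, 0, 1, 55, 54, 0, 0, 51, 50, 0, 48, 47, 0, 0]), (19, 71, [0, 0, 0, 0, 0, 0, 0, 0, 0,
  0, 0, 0, 0, 0, 0, 0, 0, 0, 0, 0, 0, 0, 0, 0, 0, 0, 25, 0, 0, 22, 0, 0, 0, 21, 0, 20, 0, 0, 0, 17,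
  16, 0, 0, 0, 0, 0, 0, 69, 68, 0, 0, 0, 0, 63, 0, 0, 8, 0, 3, 2, 0, 55, 54, 0, 0, 51, 50, 49, 0,
  0, 46, 0]), (20, 71, [0, 0, 0, 0, 0, 0, 0, 0, 0, 0, 0, 0, 0, 0, 0, 0, 0, 0, 0, 0, 0, 0, 0, 0, 0,
  0, 0, 25, 0, 23, 0, 0, 0, 0, 21, 0, 19, 0, 0, 18, 0, 16, 0, 0, 0, 0, 0, 69, 0, 67, 0, 0, 0, 0,
  62, 0, 9, 0, 4, 0, 2, 55, 0, 53, 52, 0, 50, 0, 48, 0, 46, 0]), (21, 71, [0, 0, 0, 0, 0, 0, 0, 0,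
  0, 0, 0, 0, 0, 0, 0, 0, 0, 0, 0, 0, 0, 0, 0, 0, 0, 0, 0, 0, 25, 24, 0, 0, 0, 0, 0, 0, 0, 20, 19,
  0, 18, 17, 0, 0, 0, 0, 0, 0, 68, 67, 0, 0, 0, 0, 0, 61, 10, 0, 0, 4, 3, 0, 54, 53, 52, 51, 0, 0,
  0, 47, 46, 0]), (22, 71, [0, 0, 0, 0, 0, 0, 0, 0, 0, 0, 0, 0, 0, 0, 0, 0, 0, 0, 0, 0, 0, 0, 0, 0,
  0, 0, 0, 0, 0, 0, 25, 0, 0, 24, 0, 23, 0, 0, 0, 0, 0, 0, 19, 17, 16, 0, 0, 0, 0, 0, 66, 65, 0,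
  63, 0, 0, 0, 8, 6, 5, 0, 55, 54, 0, 52, 0, 0, 0, 48, 47, 46, 0]), (23, 71, [0, 0, 0, 0, 0, 0, 0,
  0, 0, 0, 0, 0, 0, 0, 0, 0, 0, 0, 0, 0, 0, 0, 0, 0, 0, 0, 0, 0, 0, 0, 0, 25, 0, 0, 24, 0, 22, 0,
  0, 0, 0, 0, 20, 18, 0, 16, 0, 0, 0, 0, 66, 0, 64, 0, 62, 0, 0, 9, 7, 0, 5, 55, 0, 53, 0, 51, 0,
  49, 0, 47, 46, 0]), (24, 71, [0, 0, 0, 0, 0, 0, 0, 0, 0, 0, 0, 0, 0, 0, 0, 0, 0, 0, 0, 0, 0, 0,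
  0, 0, 0, 0, 0, 0, 0, 0, 0, 0, 25, 0, 0, 0, 0, 23, 22, 0, 0, 0, 21, 0, 18, 17, 0, 0, 0, 0, 0, 65,
  64, 0, 0, 61, 0, 10, 0, 7, 6, 0, 54, 53, 0, 0, 50, 49, 48, 0, 46, 0]), (25, 71, [0, 0, 0, 0, 0,
  0, 0, 0, 0, 0, 0, 0, 0, 0, 0, 0, 0, 0, 0, 0, 0, 0, 0, 0, 0, 0, 0, 0, 0, 0, 0, 0, 0, 0, 0, 0, 0,
  0, 0, 24, 23, 22, 0, 21, 20, 19, 0, 0, 0, 0, 0, 0, 0, 63, 62, 61, 0, 0, 10, 9, 8, 0, 0, 0, 52,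
  51, 50, 49, 48, 47, 0, 0]), (46, 70, [0, 0, 0, 0, 0, 0, 0, 0, 0, 0, 0, 0, 0, 0, 0, 0, 0, 0, 0, 0,
  0, 0, 0, 0, 0, 0, 0, 0, 0, 0, 0, 0, 0, 0, 0, 0, 0, 0, 0, 0, 0, 0, 0, 0, 0, 0, 0, 32, 31, 30, 28,
  27, 26, 60, 59, 58, 0, 0, 0, 0, 0, 13, 12, 11, 45, 44, 43, 41, 40, 39, 0, 0])]

set_option maxRecDepth 1000000 in
theorem checkCan_E6_0 : rowsCan chevE6 canE6 0 12 = true := by decide +kernel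

set_option maxRecDepth 1000000 in
theorem checkCan_E6_12 : rowsCan chevE6 canE6 12 12 = true := by decide +kernel

set_option maxRecDepth 1000000 in
theorem checkCan_E6_24 : rowsCan chevE6 canE6 24 12 = true := by decide +kernel

set_option maxRecDepth 1000000 in
theorem checkCan_E6_36 : rowsCan chevE6 canE6 36 12 = true := by decide +kernel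

set_option maxRecDepth 1000000 in
theorem checkCan_E6_48 : rowsCan chevE6 canE6 48 12 = true := by decide +kernel

set_option maxRecDepth 1000000 in
theorem checkCan_E6_60 : rowsCan chevE6 canE6 60 12 = true := by decide +kernel

theorem nrootsC_E6 : chevE6.nroots = 72 := by decide

end Helper20

/-- reference decompositions and adjacency for `chevE6` -/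
theorem canP_E6 {q : ℕ} (hq : q < chevE6.nroots) : CanP chevE6 q := by
  rw [Helper20.nrootsC_E6] at hq
  by_cases h_0 : q < 12
  · exact Helper20.rowsCan_spec Helper20.checkCan_E6_0 (by omega) (by omega)
  by_cases h_12 : q < 24
  · exact Helper20.rowsCan_spec Helper20.checkCan_E6_12 (by omega) (by omega)
  by_cases h_24 : q < 36
  · exact Helper20.rowsCan_spec Helper20.checkCan_E6_24 (by omega) (by omega)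
  by_cases h_36 : q < 48
  · exact Helper20.rowsCan_spec Helper20.checkCan_E6_36 (by omega) (by omega)
  by_cases h_48 : q < 60
  · exact Helper20.rowsCan_spec Helper20.checkCan_E6_48 (by omega) (by omega)
  exact Helper20.rowsCan_spec Helper20.checkCan_E6_60 (by omega) (by omega)

end Cfsg.Agent.Lib.Helper10.E8CC
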