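import Cfsg.Agent.Lib.Helper20.E67CCPerp
import Cfsg.Agent.Lib.Helper20.F4CCFT1
import Cfsg.Agent.Lib.Helper13.StCCBBME6
import Cfsg.Agent.Lib.Helper10.E8CC.Defs

set_option autoImplicit false

/-! The `chevE6` instance of the table fact `CommData1` + a coweight of value `1`, and `perp1` / `PerpP` (S2105 / S2106 / S2400 farms; statement shapes of
helper10's S2107 skeleton with `chevE6`).  Kernel-checked certificate. -/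

namespace Cfsg.Agent.Lib.Helper10.E8CC

open Cfsg.Lie Cfsg.Agent.Lib.Helper8.Chev Cfsg.Agent.Lib.Helper14.StCC

namespace Helper20

set_option maxHeartbeats 0 in
/-- certificate of `CommData1`: `(a, b, ε)` per root -/
def cdE6 : List (ℕ × ℕ × ℤ) :=
  [(1, 25, 1), (0, 46, 1), (0, 47, -1), (0, 48, 1), (0, 49, -1), (0, 50, 1), (0, 51, -1), (0, 52,
  1), (0, 53, 1), (0, 54, -1), (0, 55, 1), (1, 53, 1), (1, 54, -1), (1, 55, 1), (2, 55, 1), (5, 55,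
  1), (0, 61, -1), (0, 62, 1), (0, 63, -1), (0, 64, -1), (0, 65, 1), (0, 66, -1), (0, 67, 1), (0,
  68, -1), (0, 69, 1), (0, 70, -1), (1, 64, -1), (1, 65, 1), (1, 66, -1), (2, 66, -1), (1, 67, -1),
  (1, 68, 1), (1, 69, -1), (2, 67, 1), (2, 68, -1), (3, 67, -1), (4, 68, -1), (3, 69, -1), (4, 69,
  1), (2, 70, -1), (3, 70, 1), (4, 70, -1), (5, 69, -1), (5, 70, -1), (6, 70, 1), (7, 70, -1), (1,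
  71, -1), (2, 71, 1), (3, 71, -1), (4, 71, 1), (5, 71, -1), (6, 71, 1), (7, 71, -1), (8, 71, -1),
  (9, 71, 1), (10, 71, -1), (16, 66, 1), (16, 69, 1), (16, 70, 1), (17, 70, -1), (18, 70, 1), (16,
  71, 1), (17, 71, -1), (18, 71, 1), (19, 71, 1), (20, 71, -1), (21, 71, 1), (22, 71, -1), (23, 71,
  1), (24, 71, -1), (25, 71, 1), (46, 70, 1)]

set_option maxHeartbeats 0 in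
/-- certificate of `perp1`: for every root `r` a few coweights orthogonal to `r` -/
def perpE6 : List (List (List ℤ)) :=
  [[[0, 0, 0, 0, 0, 1], [0, 0, 0, 0, 1, 0], [0, 0, 0, 1, 0, 0], [0, 0, 1, 0, 0, 0]], [[0, 0, 0, 0,
  0, 1], [0, 0, 0, 0, 1, 0], [0, 1, 0, 1, 0, 0], [0, 0, 1, 0, 0, 0]], [[0, 0, 0, 0, 0, 1], [0, 0,
  0, 1, 1, 0], [0, 1, 0, 0, 0, 0], [0, 0, 1, 0, -1, 0]], [[0, 0, 0, 0, 1, 1], [0, 0, 0, 1, 0, 0],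
  [0, 1, 0, 0, 0, 0], [0, 0, 1, 0, 0, -1]], [[0, 0, 0, 0, 1, 0], [0, 0, 0, 1, 0, 0], [0, 1, 0, 0,
  0, 0], [0, 0, 1, 0, 0, 1]], [[0, 0, 0, 0, 0, 1], [0, 0, 1, 1, 1, 0], [0, 1, 0, 0, 0, 0], [0, 0,
  0, 1, 0, 0]], [[0, 0, 0, 0, 1, 1], [0, 0, 1, 1, 0, 0], [0, 1, 0, 0, 0, 0], [0, 0, 0, 1, 0, -1]],
  [[0, 0, 0, 0, 1, 0], [0, 0, 1, 1, 0, 0], [0, 1, 0, 0, 0, 0], [0, 0, 0, 1, 0, 1]], [[0, 0, 0, 0,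
  1, 0], [0, 1, 0, 1, 0, 0], [0, 0, 1, 0, 0, 0], [0, 0, 0, 1, 0, 1]], [[0, 0, 0, 0, 1, 1], [0, 1,
  0, 1, 0, 0], [0, 0, 1, 0, 0, 0], [0, 0, 0, 1, 0, -1]], [[0, 0, 0, 0, 0, 1], [0, 1, 0, 1, 1, 0],
  [0, 0, 1, 0, 0, 0], [0, 0, 0, 1, 0, 0]], [[0, 0, 0, 0, 1, 0], [0, 0, 0, 1, 0, 0], [0, 0, 1, 0, 0,
  0], [0, 1, 0, 0, 0, 1]], [[0, 0, 0, 0, 1, 1], [0, 0, 0, 1, 0, 0], [0, 0, 1, 0, 0, 0], [0, 1, 0,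
  0, 0, -1]], [[0, 0, 0, 0, 0, 1], [0, 0, 0, 1, 1, 0], [0, 0, 1, 0, 0, 0], [0, 1, 0, 0, -1, 0]],
  [[0, 0, 0, 0, 0, 1], [0, 0, 0, 0, 1, 0], [0, 0, 1, 1, 0, 0], [0, 1, 0, 0, 0, 0]], [[0, 0, 0, 0,
  0, 1], [0, 0, 0, 0, 1, 0], [0, 0, 0, 1, 0, 0], [0, 1, 0, 0, 0, 0]], [[0, 0, 0, 0, 0, 1], [1, 0,
  1, 1, 1, 0], [0, 1, 0, 0, 0, 0], [0, 0, 0, 1, 0, 0]], [[0, 0, 0, 0, 1, 1], [1, 0, 1, 1, 0, 0],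
  [0, 1, 0, 0, 0, 0], [0, 0, 0, 1, 0, -1]], [[0, 0, 0, 0, 1, 0], [1, 0, 1, 1, 0, 0], [0, 1, 0, 0,
  0, 0], [0, 0, 0, 1, 0, 1]], [[0, 0, 0, 0, 1, 0], [0, 0, 1, 1, 0, 0], [0, 1, 0, 1, 0, 0], [1, 0,
  0, 0, 0, 1]], [[0, 0, 0, 0, 1, 1], [0, 0, 1, 1, 0, 0], [0, 1, 0, 1, 0, 0], [1, 0, 0, 0, 0, -1]],
  [[0, 0, 0, 0, 0, 1], [0, 0, 1, 1, 1, 0], [0, 1, 0, 1, 1, 0], [1, 0, 0, 0, -1, 0]], [[0, 0, 0, 0,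
  1, 0], [0, 0, 0, 1, 0, 0], [0, 1, 1, 0, 0, 0], [1, 0, 0, 0, 0, 0]], [[0, 0, 0, 0, 1, 1], [0, 0,
  0, 1, 0, 0], [0, 1, 1, 0, 0, 0], [1, 0, 0, 0, 0, 0]], [[0, 0, 0, 0, 0, 1], [0, 0, 0, 1, 1, 0],
  [0, 1, 1, 0, 0, 0], [1, 0, 0, 0, 0, 0]], [[0, 0, 0, 0, 0, 1], [0, 0, 0, 0, 1, 0], [0, 1, 1, 2, 0,
  0], [1, 0, 0, 0, 0, 0]], [[0, 0, 0, 0, 1, 0], [0, 0, 0, 1, 0, 0], [0, 1, 1, 0, 0, 0], [1, 0, 0,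
  0, 0, 1]], [[0, 0, 0, 0, 1, 1], [0, 0, 0, 1, 0, 0], [0, 1, 1, 0, 0, 0], [1, 0, 0, 0, 0, -1]],
  [[0, 0, 0, 0, 0, 1], [0, 0, 0, 1, 1, 0], [0, 1, 1, 0, 0, 0], [1, 0, 0, 0, -1, 0]], [[0, 0, 0, 0,
  0, 1], [0, 0, 0, 0, 1, 0], [0, 1, 1, 2, 0, 0], [1, 0, 0, -1, 0, 0]], [[0, 0, 0, 0, 1, 0], [0, 0,
  1, 1, 0, 0], [0, 1, 0, 1, 0, 0], [1, 0, 0, 0, 0, 0]], [[0, 0, 0, 0, 1, 1], [0, 0, 1, 1, 0, 0],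
  [0, 1, 0, 1, 0, 0], [1, 0, 0, 0, 0, 0]], [[0, 0, 0, 0, 0, 1], [0, 0, 1, 1, 1, 0], [0, 1, 0, 1, 1,
  0], [1, 0, 0, 0, 0, 0]], [[0, 0, 0, 1, 1, 0], [0, 0, 1, 0, 0, 0], [0, 1, 0, 0, 0, 0], [1, 0, 0,
  0, 0, 0]], [[0, 0, 0, 1, 1, 1], [0, 0, 1, 0, 0, 0], [0, 1, 0, 0, 0, 0], [1, 0, 0, 0, 0, 0]], [[0,
  0, 0, 1, 0, 0], [0, 0, 1, 0, 0, 0], [0, 1, 0, 0, 0, 0], [1, 0, 0, 0, 0, 0]], [[0, 0, 0, 1, 0, 0],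
  [0, 0, 1, 0, 0, 0], [0, 1, 0, 0, 0, 0], [1, 0, 0, 0, 0, 0]], [[0, 0, 0, 1, 1, 1], [0, 0, 1, 0, 0,
  0], [0, 1, 0, 0, 0, 0], [1, 0, 0, 0, 0, 0]], [[0, 0, 0, 1, 1, 0], [0, 0, 1, 0, 0, 0], [0, 1, 0,
  0, 0, 0], [1, 0, 0, 0, 0, 0]], [[0, 0, 0, 0, 0, 1], [0, 0, 1, 1, 1, 0], [0, 1, 0, 1, 1, 0], [1,
  0, 0, 0, 0, 0]], [[0, 0, 0, 0, 1, 1], [0, 0, 1, 1, 0, 0], [0, 1, 0, 1, 0, 0], [1, 0, 0, 0, 0,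
  0]], [[0, 0, 0, 0, 1, 0], [0, 0, 1, 1, 0, 0], [0, 1, 0, 1, 0, 0], [1, 0, 0, 0, 0, 0]], [[0, 0, 0,
  0, 0, 1], [0, 0, 0, 0, 1, 0], [0, 1, 1, 2, 0, 0], [1, 0, 0, -1, 0, 0]], [[0, 0, 0, 0, 0, 1], [0,
  0, 0, 1, 1, 0], [0, 1, 1, 0, 0, 0], [1, 0, 0, 0, -1, 0]], [[0, 0, 0, 0, 1, 1], [0, 0, 0, 1, 0,
  0], [0, 1, 1, 0, 0, 0], [1, 0, 0, 0, 0, -1]], [[0, 0, 0, 0, 1, 0], [0, 0, 0, 1, 0, 0], [0, 1, 1,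
  0, 0, 0], [1, 0, 0, 0, 0, 1]], [[0, 0, 0, 0, 0, 1], [0, 0, 0, 0, 1, 0], [0, 1, 1, 2, 0, 0], [1,
  0, 0, 0, 0, 0]], [[0, 0, 0, 0, 0, 1], [0, 0, 0, 1, 1, 0], [0, 1, 1, 0, 0, 0], [1, 0, 0, 0, 0,
  0]], [[0, 0, 0, 0, 1, 1], [0, 0, 0, 1, 0, 0], [0, 1, 1, 0, 0, 0], [1, 0, 0, 0, 0, 0]], [[0, 0, 0,
  0, 1, 0], [0, 0, 0, 1, 0, 0], [0, 1, 1, 0, 0, 0], [1, 0, 0, 0, 0, 0]], [[0, 0, 0, 0, 0, 1], [0,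
  0, 1, 1, 1, 0], [0, 1, 0, 1, 1, 0], [1, 0, 0, 0, -1, 0]], [[0, 0, 0, 0, 1, 1], [0, 0, 1, 1, 0,
  0], [0, 1, 0, 1, 0, 0], [1, 0, 0, 0, 0, -1]], [[0, 0, 0, 0, 1, 0], [0, 0, 1, 1, 0, 0], [0, 1, 0,
  1, 0, 0], [1, 0, 0, 0, 0, 1]], [[0, 0, 0, 0, 1, 0], [1, 0, 1, 1, 0, 0], [0, 1, 0, 0, 0, 0], [0,
  0, 0, 1, 0, 1]], [[0, 0, 0, 0, 1, 1], [1, 0, 1, 1, 0, 0], [0, 1, 0, 0, 0, 0], [0, 0, 0, 1, 0,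
  -1]], [[0, 0, 0, 0, 0, 1], [1, 0, 1, 1, 1, 0], [0, 1, 0, 0, 0, 0], [0, 0, 0, 1, 0, 0]], [[0, 0,
  0, 0, 0, 1], [0, 0, 0, 0, 1, 0], [0, 0, 0, 1, 0, 0], [0, 1, 0, 0, 0, 0]], [[0, 0, 0, 0, 0, 1],
  [0, 0, 0, 0, 1, 0], [0, 0, 1, 1, 0, 0], [0, 1, 0, 0, 0, 0]], [[0, 0, 0, 0, 0, 1], [0, 0, 0, 1, 1,
  0], [0, 0, 1, 0, 0, 0], [0, 1, 0, 0, -1, 0]], [[0, 0, 0, 0, 1, 1], [0, 0, 0, 1, 0, 0], [0, 0, 1,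
  0, 0, 0], [0, 1, 0, 0, 0, -1]], [[0, 0, 0, 0, 1, 0], [0, 0, 0, 1, 0, 0], [0, 0, 1, 0, 0, 0], [0,
  1, 0, 0, 0, 1]], [[0, 0, 0, 0, 0, 1], [0, 1, 0, 1, 1, 0], [0, 0, 1, 0, 0, 0], [0, 0, 0, 1, 0,
  0]], [[0, 0, 0, 0, 1, 1], [0, 1, 0, 1, 0, 0], [0, 0, 1, 0, 0, 0], [0, 0, 0, 1, 0, -1]], [[0, 0,
  0, 0, 1, 0], [0, 1, 0, 1, 0, 0], [0, 0, 1, 0, 0, 0], [0, 0, 0, 1, 0, 1]], [[0, 0, 0, 0, 1, 0],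
  [0, 0, 1, 1, 0, 0], [0, 1, 0, 0, 0, 0], [0, 0, 0, 1, 0, 1]], [[0, 0, 0, 0, 1, 1], [0, 0, 1, 1, 0,
  0], [0, 1, 0, 0, 0, 0], [0, 0, 0, 1, 0, -1]], [[0, 0, 0, 0, 0, 1], [0, 0, 1, 1, 1, 0], [0, 1, 0,
  0, 0, 0], [0, 0, 0, 1, 0, 0]], [[0, 0, 0, 0, 1, 0], [0, 0, 0, 1, 0, 0], [0, 1, 0, 0, 0, 0], [0,
  0, 1, 0, 0, 1]], [[0, 0, 0, 0, 1, 1], [0, 0, 0, 1, 0, 0], [0, 1, 0, 0, 0, 0], [0, 0, 1, 0, 0,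
  -1]], [[0, 0, 0, 0, 0, 1], [0, 0, 0, 1, 1, 0], [0, 1, 0, 0, 0, 0], [0, 0, 1, 0, -1, 0]], [[0, 0,
  0, 0, 0, 1], [0, 0, 0, 0, 1, 0], [0, 1, 0, 1, 0, 0], [0, 0, 1, 0, 0, 0]], [[0, 0, 0, 0, 0, 1],
  [0, 0, 0, 0, 1, 0], [0, 0, 0, 1, 0, 0], [0, 0, 1, 0, 0, 0]]]

set_option maxRecDepth 1000000 in
theorem checkCD_E6 : Cfsg.Agent.Lib.Helper16.F4CC.Helper20.checkCD1 chevE6 cdE6 = true := by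
  decide +kernel

set_option maxRecDepth 1000000 in
theorem checkPerp_E6 :
    checkCert1 chevE6.nroots Cfsg.Agent.Lib.Helper14.StCC.B.Helper13.tabE6 perpE6 = true := by
  decide +kernel

end Helper20

/-- table for Part A (`|K| ≥ 3`), type `E6` -/
theorem commData1_E6 {r : ℕ} (hr : r < chevE6.nroots) :
    (∃ m : ℕ → ℤ, wt chevE6 m r = 1) ∧ Cfsg.Agent.Lib.Helper16.F4CC.CommData1 chevE6 r := by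
  refine ⟨?_, Cfsg.Agent.Lib.Helper16.F4CC.Helper20.checkCD1_spec Helper20.checkCD_E6 hr⟩
  refine Cfsg.Agent.Lib.Helper14.StCC.A.Helper27.exists_wt_one (by simp) hr ?_
  intro h
  exact absurd (congrArg ChevalleyDatum.nroots h) (by decide)

/-- table for Part B (`|K| ≥ 3`), type `E6`: a coweight orthogonal to `r` with value `±1` on `s` -/
theorem perp1_E6 {r s : ℕ} (hr : r < chevE6.nroots) (hs : s < chevE6.nroots) (h1 : s ≠ r)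
    (h2 : s ≠ chevE6.neg r) :
    ∃ m : ℕ → ℤ, wt chevE6 m r = 0 ∧ (wt chevE6 m s = 1 ∨ wt chevE6 m s = -1) :=
  Helper20.exists_perp1_of_check
    (Cfsg.Agent.Lib.Helper8.Chev.validJ_of_mem (D := chevE6) (by simp)).V
    Cfsg.Agent.Lib.Helper14.StCC.B.Helper13.checkTab_E6 Helper20.checkPerp_E6 hr hs h1 h2

/-- the same as helper16's `PerpP` (first alternative) -/
theorem perpP_E6 {r s : ℕ} (hr : r < chevE6.nroots) (hs : s < chevE6.nroots) (h1 : s ≠ r)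
    (h2 : s ≠ chevE6.neg r) : Cfsg.Agent.Lib.Helper16.F4CC.PerpP chevE6 r s :=
  Or.inl (perp1_E6 hr hs h1 h2)

end Cfsg.Agent.Lib.Helper10.E8CC
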