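import Cfsg.Agent.Lib.Helper20.E6CCDec
import Cfsg.Agent.Lib.Helper20.E6CCCan
import Cfsg.Agent.Lib.Helper20.E6CCT

/-! Umbrella: the `chevE6` table facts `dec1_E6`, `canP_E6`, `commData1_E6`, `perp1_E6`, `perpP_E6`
(namespace `Cfsg.Agent.Lib.Helper10.E8CC`). -/
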