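import Cfsg.Agent.Lib.Helper13.StCCBBMDefs

set_option autoImplicit false

/-! Generic certificate checker for the table fact "a coweight orthogonal to `r` with value `±1` on
`s`" (the first alternative of helper16's `PerpP`; `perp1` of helper10's S2107 skeleton), on top of
helper13's checked `aco`-tables (`checkTab`). -/

namespace Cfsg.Agent.Lib.Helper10.E8CC.Helper20

open Cfsg.Lie Cfsg.Agent.Lib.Helper8.Chev Cfsg.Agent.Lib.Helper14.StCC
open Cfsg.Agent.Lib.Helper14.StCC.B.Helper13 (anyF anyF_eq_true tab_spec checkTab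
  getElem?_getD_of_lt)

/-- `w = ±1` -/
noncomputable def okVal1 (w : ℤ) : Bool :=
  withNat (Int.natAbs w) fun k => Nat.beq k 1

theorem okVal1_spec {w : ℤ} (h : okVal1 w = true) : w = 1 ∨ w = -1 := by
  unfold okVal1 at h
  rw [withNat_eq, Nat.beq_eq] at h
  omega

/-- the certificate check: pure list data, no datum involved.  `cert[r]` lists coweights orthogonal
to the root `r`; every root `s ≠ ±r` has the value `±1` on one of them. -/
noncomputable def checkCert1 (n : ℕ) (tab : List (List ℤ)) (cert : List (List (List ℤ))) : Bool :=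
  Nat.beq cert.length n &&
  allIdxF (fun r ms =>
    allF (fun m => decide (B.Helper13.dotF m (tab.getD r []) = 0)) ms &&
    allIdxF (fun s row => Nat.beq s r || Nat.beq (s + r + 1) n ||
      anyF (fun m => okVal1 (B.Helper13.dotF m row)) ms) tab 0) cert 0

theorem exists_perp1_of_check {D : ChevalleyDatum} (V : Valid0 D) {tab : List (List ℤ)}
    {cert : List (List (List ℤ))}
    (htab : checkTab D tab = true) (hcert : checkCert1 D.nroots tab cert = true)
    {r s : ℕ} (hr : r < D.nroots) (hs : s < D.nroots) (h1 : s ≠ r) (h2 : s ≠ D.neg r) :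
    ∃ m : ℕ → ℤ, wt D m r = 0 ∧ (wt D m s = 1 ∨ wt D m s = -1) := by
  have hlen : tab.length = D.nroots := by
    unfold checkTab at htab
    rw [Bool.and_eq_true, Nat.beq_eq] at htab
    exact htab.1
  unfold checkCert1 at hcert
  rw [Bool.and_eq_true, Nat.beq_eq, allIdxF_eq_true] at hcert
  obtain ⟨hcl, hall⟩ := hcert
  have hr' : r < cert.length := by omega
  have hget : cert[r]? = some (cert.getD r []) := getElem?_getD_of_lt cert r [] hr'
  have hrr := hall r _ hget
  rw [zero_add, Bool.and_eq_true, allF_eq_true, allIdxF_eq_true] at hrr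
  obtain ⟨hzero, hss⟩ := hrr
  have hs' : s < tab.length := by omega
  have hgs : tab[s]? = some (tab.getD s []) := getElem?_getD_of_lt tab s [] hs'
  have hsr := hss s _ hgs
  rw [zero_add, Bool.or_eq_true, Bool.or_eq_true, Nat.beq_eq, Nat.beq_eq, anyF_eq_true] at hsr
  rcases hsr with (hsr | hsr) | hsr
  · exact absurd hsr h1
  · exfalso
    apply h2
    rw [V.neg_eq r hr]
    omega
  · obtain ⟨m, hm, hok⟩ := hsr
    refine ⟨fun i => m.getD i 0, ?_, ?_⟩
    · rw [tab_spec htab hr]
      have := hzero m hm
      rwa [decide_eq_true_eq] at this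
    · rw [tab_spec htab hs]
      exact okVal1_spec hok

end Cfsg.Agent.Lib.Helper10.E8CC.Helper20
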