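import Cfsg.Agent.Lib.Helper20.E67CCDefs

set_option autoImplicit false

/-! The `chevE6` instance of the table fact `Dec1` (S2105 / S2106 / S2400 farms; statement shapes of
helper10's S2107 skeleton with `chevE6`).  Kernel-checked certificate. -/

namespace Cfsg.Agent.Lib.Helper10.E8CC

open Cfsg.Lie Cfsg.Agent.Lib.Helper8.Chev Cfsg.Agent.Lib.Helper14.StCC

namespace Helper20

set_option maxHeartbeats 0 in
/-- certificate of `Dec1`: entry `[r][s]` is a pair `(a, b)` of roots commuting with `r` with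
`s = a + b` (`(0, 0)` where nothing is asked) -/
def decE6 : List (List (ℕ × ℕ)) :=
  [[(0, 0), (2, 32), (1, 39), (1, 40), (1, 41), (1, 43), (1, 44), (1, 45), (2, 44), (2, 45), (3,
  45), (12, 35), (11, 36), (11, 38), (11, 41), (11, 45), (1, 58), (1, 59), (1, 60), (2, 59), (2,
  60), (3, 60), (5, 59), (5, 60), (6, 60), (8, 60), (11, 56), (12, 56), (13, 56), (14, 56), (11,
  57), (12, 57), (13, 57), (11, 58), (12, 58), (11, 59), (12, 60), (13, 59), (13, 60), (14, 58),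
  (14, 59), (14, 60), (15, 57), (15, 58), (15, 59), (15, 60), (0, 0), (0, 0), (0, 0), (0, 0), (0,
  0), (0, 0), (0, 0), (0, 0), (0, 0), (0, 0), (26, 60), (30, 60), (33, 60), (35, 60), (36, 59), (0,
  0), (0, 0), (0, 0), (0, 0), (0, 0), (0, 0), (0, 0), (0, 0), (0, 0), (0, 0), (0, 0)], [(2, 24),
  (0, 0), (0, 47), (0, 48), (0, 49), (0, 50), (0, 51), (0, 52), (9, 35), (8, 36), (8, 38), (2, 51),
  (2, 52), (3, 52), (8, 49), (8, 52), (0, 61), (0, 62), (0, 63), (8, 56), (9, 56), (10, 56), (8,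
  57), (9, 57), (10, 57), (0, 0), (2, 62), (2, 63), (3, 63), (14, 56), (5, 62), (5, 63), (6, 63),
  (8, 61), (9, 61), (8, 62), (9, 63), (10, 62), (10, 63), (0, 0), (0, 0), (0, 0), (15, 57), (0, 0),
  (0, 0), (0, 0), (11, 63), (14, 61), (14, 62), (14, 63), (15, 61), (15, 62), (15, 63), (0, 0), (0,
  0), (0, 0), (19, 63), (22, 63), (0, 0), (0, 0), (0, 0), (33, 63), (35, 63), (36, 62), (0, 0), (0,
  0), (0, 0), (0, 0), (0, 0), (0, 0), (0, 0), (0, 0)], [(1, 25), (0, 46), (0, 0), (0, 48), (0, 49),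
  (0, 50), (7, 35), (6, 36), (0, 53), (0, 54), (6, 41), (1, 53), (1, 54), (6, 49), (3, 54), (6,
  54), (0, 61), (6, 56), (7, 56), (0, 64), (0, 65), (10, 56), (6, 58), (7, 58), (0, 0), (10, 58),
  (1, 64), (1, 65), (13, 56), (3, 65), (6, 61), (7, 61), (0, 0), (5, 64), (5, 65), (6, 64), (7,
  65), (0, 0), (0, 0), (8, 65), (10, 64), (10, 65), (0, 0), (15, 58), (0, 0), (0, 0), (13, 61),
  (11, 65), (13, 64), (13, 65), (15, 61), (0, 0), (0, 0), (15, 64), (15, 65), (0, 0), (17, 65), (0,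
  0), (22, 65), (0, 0), (0, 0), (30, 65), (0, 0), (0, 0), (35, 65), (36, 64), (0, 0), (0, 0), (0,
  0), (0, 0), (0, 0), (0, 0)], [(1, 25), (0, 46), (0, 47), (0, 0), (0, 49), (7, 33), (0, 51), (5,
  38), (0, 53), (5, 41), (0, 55), (1, 53), (5, 49), (1, 55), (2, 55), (5, 55), (5, 56), (0, 62),
  (7, 56), (0, 64), (9, 56), (0, 66), (5, 59), (0, 0), (7, 59), (9, 59), (1, 64), (12, 56), (1,
  66), (2, 66), (5, 62), (0, 0), (7, 62), (5, 64), (0, 0), (6, 64), (0, 0), (6, 66), (7, 66), (9,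
  64), (8, 66), (9, 66), (0, 0), (0, 0), (15, 59), (0, 0), (12, 62), (12, 64), (11, 66), (12, 66),
  (0, 0), (15, 62), (0, 0), (15, 64), (0, 0), (15, 66), (16, 66), (0, 0), (0, 0), (22, 66), (0, 0),
  (0, 0), (30, 66), (0, 0), (33, 66), (0, 0), (38, 64), (0, 0), (0, 0), (0, 0), (0, 0), (0, 0)],
  [(1, 25), (0, 46), (0, 47), (0, 48), (0, 0), (6, 34), (5, 37), (0, 52), (5, 40), (0, 54), (0,
  55), (5, 48), (1, 54), (1, 55), (2, 55), (5, 55), (5, 56), (6, 56), (0, 63), (8, 56), (0, 65),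
  (0, 66), (0, 0), (5, 60), (6, 60), (8, 60), (11, 56), (1, 65), (1, 66), (2, 66), (0, 0), (5, 63),
  (6, 63), (0, 0), (5, 65), (0, 0), (7, 65), (6, 66), (7, 66), (8, 65), (8, 66), (9, 66), (0, 0),
  (0, 0), (0, 0), (15, 60), (11, 63), (11, 65), (11, 66), (12, 66), (0, 0), (0, 0), (15, 63), (0,
  0), (15, 65), (15, 66), (16, 66), (0, 0), (0, 0), (0, 0), (23, 66), (0, 0), (0, 0), (31, 66), (0,
  0), (34, 66), (37, 65), (0, 0), (0, 0), (0, 0), (0, 0), (0, 0)], [(1, 25), (0, 46), (0, 47), (4,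
  35), (3, 36), (0, 0), (0, 51), (0, 52), (0, 53), (0, 54), (3, 45), (1, 53), (1, 54), (3, 52), (3,
  54), (6, 54), (0, 61), (3, 57), (4, 57), (3, 58), (4, 58), (0, 0), (0, 67), (0, 68), (10, 57),
  (10, 58), (3, 61), (4, 61), (0, 0), (0, 0), (1, 67), (1, 68), (13, 57), (2, 67), (2, 68), (3,
  67), (4, 68), (0, 0), (0, 0), (14, 58), (0, 0), (0, 0), (6, 68), (8, 68), (10, 67), (10, 68),
  (13, 61), (14, 61), (0, 0), (0, 0), (11, 68), (13, 67), (13, 68), (14, 67), (14, 68), (0, 0), (0,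
  0), (17, 68), (19, 68), (0, 0), (0, 0), (26, 68), (0, 0), (0, 0), (0, 0), (0, 0), (0, 0), (35,
  68), (36, 67), (0, 0), (0, 0), (0, 0)], [(1, 25), (0, 46), (4, 33), (0, 48), (2, 38), (0, 50),
  (0, 0), (0, 52), (0, 53), (2, 45), (0, 55), (1, 53), (2, 52), (1, 55), (2, 55), (5, 55), (2, 57),
  (0, 62), (4, 57), (2, 59), (0, 0), (4, 59), (0, 67), (9, 57), (0, 69), (9, 59), (2, 62), (0, 0),
  (4, 62), (0, 0), (1, 67), (12, 57), (1, 69), (2, 67), (0, 0), (3, 67), (0, 0), (3, 69), (4, 69),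
  (0, 0), (14, 59), (0, 0), (5, 69), (9, 67), (8, 69), (9, 69), (12, 62), (0, 0), (14, 62), (0, 0),
  (12, 67), (11, 69), (12, 69), (14, 67), (0, 0), (14, 69), (0, 0), (16, 69), (0, 0), (19, 69), (0,
  0), (0, 0), (26, 69), (0, 0), (0, 0), (0, 0), (0, 0), (33, 69), (0, 0), (38, 67), (0, 0), (0,
  0)], [(1, 25), (0, 46), (3, 34), (2, 37), (0, 49), (0, 50), (0, 51), (0, 0), (2, 44), (0, 54),
  (0, 55), (2, 51), (1, 54), (1, 55), (2, 55), (5, 55), (2, 57), (3, 57), (0, 63), (0, 0), (2, 60),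
  (3, 60), (8, 57), (0, 68), (0, 69), (8, 60), (0, 0), (2, 63), (3, 63), (0, 0), (11, 57), (1, 68),
  (1, 69), (0, 0), (2, 68), (0, 0), (4, 68), (3, 69), (4, 69), (0, 0), (0, 0), (14, 60), (5, 69),
  (8, 68), (8, 69), (9, 69), (11, 63), (0, 0), (0, 0), (14, 63), (11, 68), (11, 69), (12, 69), (0,
  0), (14, 68), (14, 69), (0, 0), (16, 69), (0, 0), (0, 0), (20, 69), (0, 0), (0, 0), (27, 69), (0,
  0), (0, 0), (0, 0), (0, 0), (34, 69), (37, 68), (0, 0), (0, 0)], [(1, 25), (4, 30), (0, 47), (0,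
  48), (1, 41), (0, 50), (0, 51), (1, 45), (0, 0), (0, 54), (0, 55), (1, 53), (1, 54), (1, 55), (2,
  55), (5, 55), (1, 58), (1, 59), (0, 0), (0, 64), (4, 58), (4, 59), (0, 67), (7, 58), (7, 59), (0,
  70), (1, 64), (0, 0), (0, 0), (4, 64), (1, 67), (0, 0), (0, 0), (2, 67), (12, 58), (3, 67), (0,
  0), (13, 59), (0, 0), (2, 70), (3, 70), (4, 70), (7, 67), (5, 70), (6, 70), (7, 70), (0, 0), (12,
  64), (13, 64), (0, 0), (12, 67), (13, 67), (0, 0), (11, 70), (12, 70), (13, 70), (0, 0), (0, 0),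
  (16, 70), (17, 70), (0, 0), (0, 0), (0, 0), (0, 0), (26, 70), (0, 0), (0, 0), (30, 70), (0, 0),
  (0, 0), (41, 67), (0, 0)], [(1, 25), (3, 31), (0, 47), (1, 40), (0, 49), (0, 50), (1, 44), (0,
  52), (0, 53), (0, 0), (0, 55), (1, 53), (1, 54), (1, 55), (2, 55), (5, 55), (1, 58), (0, 0), (1,
  60), (3, 58), (0, 65), (3, 60), (6, 58), (0, 68), (6, 60), (0, 70), (0, 0), (1, 65), (0, 0), (3,
  65), (0, 0), (1, 68), (0, 0), (11, 58), (2, 68), (0, 0), (4, 68), (0, 0), (13, 60), (2, 70), (3,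
  70), (4, 70), (6, 68), (5, 70), (6, 70), (7, 70), (0, 0), (11, 65), (0, 0), (13, 65), (11, 68),
  (0, 0), (13, 68), (11, 70), (12, 70), (13, 70), (0, 0), (0, 0), (16, 70), (0, 0), (18, 70), (0,
  0), (0, 0), (0, 0), (0, 0), (27, 70), (0, 0), (0, 0), (31, 70), (0, 0), (40, 68), (0, 0)], [(1,
  25), (2, 32), (1, 39), (0, 48), (0, 49), (1, 43), (0, 51), (0, 52), (0, 53), (0, 54), (0, 0), (1,
  53), (1, 54), (1, 55), (2, 55), (5, 55), (0, 0), (1, 59), (1, 60), (2, 59), (2, 60), (0, 66), (5,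
  59), (5, 60), (0, 69), (0, 70), (0, 0), (0, 0), (1, 66), (2, 66), (0, 0), (0, 0), (1, 69), (0,
  0), (0, 0), (11, 59), (12, 60), (3, 69), (4, 69), (2, 70), (3, 70), (4, 70), (5, 69), (5, 70),
  (6, 70), (7, 70), (0, 0), (0, 0), (11, 66), (12, 66), (0, 0), (11, 69), (12, 69), (11, 70), (12,
  70), (13, 70), (0, 0), (0, 0), (0, 0), (17, 70), (18, 70), (0, 0), (0, 0), (0, 0), (0, 0), (0,
  0), (28, 70), (0, 0), (0, 0), (32, 70), (39, 69), (0, 0)], [(4, 22), (0, 46), (0, 47), (0, 48),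
  (0, 49), (0, 50), (0, 51), (0, 52), (0, 53), (0, 54), (0, 55), (0, 0), (1, 54), (1, 55), (2, 55),
  (5, 55), (0, 61), (0, 62), (0, 0), (0, 64), (0, 0), (0, 0), (0, 67), (0, 0), (0, 0), (0, 0), (1,
  64), (4, 61), (4, 62), (4, 64), (1, 67), (7, 61), (7, 62), (2, 67), (9, 61), (3, 67), (0, 0),
  (10, 62), (0, 0), (9, 64), (10, 64), (0, 0), (7, 67), (9, 67), (10, 67), (0, 0), (1, 71), (2,
  71), (3, 71), (4, 71), (5, 71), (6, 71), (7, 71), (8, 71), (9, 71), (10, 71), (0, 0), (0, 0), (0,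
  0), (0, 0), (0, 0), (16, 71), (17, 71), (0, 0), (19, 71), (0, 0), (0, 0), (22, 71), (0, 0), (0,
  0), (0, 0), (49, 67)], [(3, 23), (0, 46), (0, 47), (0, 48), (0, 49), (0, 50), (0, 51), (0, 52),
  (0, 53), (0, 54), (0, 55), (1, 53), (0, 0), (1, 55), (2, 55), (5, 55), (0, 61), (0, 0), (0, 63),
  (0, 0), (0, 65), (0, 0), (0, 0), (0, 68), (0, 0), (0, 0), (3, 61), (1, 65), (3, 63), (3, 65), (6,
  61), (1, 68), (6, 63), (8, 61), (2, 68), (0, 0), (4, 68), (0, 0), (10, 63), (8, 65), (0, 0), (10,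
  65), (6, 68), (8, 68), (0, 0), (10, 68), (1, 71), (2, 71), (3, 71), (4, 71), (5, 71), (6, 71),
  (7, 71), (8, 71), (9, 71), (10, 71), (0, 0), (0, 0), (0, 0), (0, 0), (0, 0), (16, 71), (0, 0),
  (18, 71), (0, 0), (20, 71), (0, 0), (0, 0), (23, 71), (0, 0), (0, 0), (48, 68)], [(2, 24), (0,
  46), (0, 47), (0, 48), (0, 49), (0, 50), (0, 51), (0, 52), (0, 53), (0, 54), (0, 55), (1, 53),
  (1, 54), (0, 0), (2, 55), (5, 55), (0, 0), (0, 62), (0, 63), (0, 0), (0, 0), (0, 66), (0, 0), (0,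
  0), (0, 69), (0, 0), (2, 62), (2, 63), (1, 66), (2, 66), (5, 62), (5, 63), (1, 69), (0, 0), (0,
  0), (8, 62), (9, 63), (3, 69), (4, 69), (0, 0), (8, 66), (9, 66), (5, 69), (0, 0), (8, 69), (9,
  69), (1, 71), (2, 71), (3, 71), (4, 71), (5, 71), (6, 71), (7, 71), (8, 71), (9, 71), (10, 71),
  (0, 0), (0, 0), (0, 0), (0, 0), (0, 0), (0, 0), (17, 71), (18, 71), (0, 0), (0, 0), (21, 71), (0,
  0), (0, 0), (24, 71), (0, 0), (47, 69)], [(1, 25), (0, 46), (0, 47), (0, 48), (0, 49), (0, 50),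
  (0, 51), (0, 52), (0, 53), (0, 54), (0, 55), (1, 53), (1, 54), (1, 55), (0, 0), (5, 55), (0, 0),
  (0, 0), (0, 0), (0, 64), (0, 65), (0, 66), (0, 0), (0, 0), (0, 0), (0, 70), (1, 64), (1, 65), (1,
  66), (2, 66), (0, 0), (0, 0), (0, 0), (5, 64), (5, 65), (6, 64), (7, 65), (6, 66), (7, 66), (2,
  70), (3, 70), (4, 70), (0, 0), (5, 70), (6, 70), (7, 70), (1, 71), (2, 71), (3, 71), (4, 71), (5,
  71), (6, 71), (7, 71), (8, 71), (9, 71), (10, 71), (0, 0), (0, 0), (0, 0), (0, 0), (0, 0), (0,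
  0), (0, 0), (0, 0), (19, 71), (20, 71), (21, 71), (0, 0), (0, 0), (0, 0), (25, 71), (46, 70)],
  [(1, 25), (0, 46), (0, 47), (0, 48), (0, 49), (0, 50), (0, 51), (0, 52), (0, 53), (0, 54), (0,
  55), (1, 53), (1, 54), (1, 55), (2, 55), (0, 0), (0, 0), (0, 0), (0, 0), (0, 0), (0, 0), (0, 0),
  (0, 67), (0, 68), (0, 69), (0, 70), (0, 0), (0, 0), (0, 0), (0, 0), (1, 67), (1, 68), (1, 69),
  (2, 67), (2, 68), (3, 67), (4, 68), (3, 69), (4, 69), (2, 70), (3, 70), (4, 70), (5, 69), (5,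
  70), (6, 70), (7, 70), (1, 71), (2, 71), (3, 71), (4, 71), (5, 71), (6, 71), (7, 71), (8, 71),
  (9, 71), (10, 71), (0, 0), (0, 0), (0, 0), (0, 0), (0, 0), (0, 0), (0, 0), (0, 0), (0, 0), (0,
  0), (0, 0), (22, 71), (23, 71), (24, 71), (25, 71), (46, 70)], [(1, 25), (0, 46), (0, 47), (4,
  35), (3, 36), (0, 50), (3, 42), (4, 42), (3, 43), (4, 43), (0, 0), (3, 50), (4, 50), (0, 0), (0,
  0), (0, 0), (0, 0), (0, 62), (0, 63), (0, 64), (0, 65), (3, 60), (0, 67), (0, 68), (6, 60), (8,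
  60), (1, 64), (1, 65), (3, 63), (3, 65), (1, 67), (1, 68), (6, 63), (2, 67), (2, 68), (3, 67),
  (4, 68), (0, 0), (0, 0), (8, 65), (0, 0), (0, 0), (6, 68), (8, 68), (0, 0), (0, 0), (11, 63),
  (11, 65), (0, 0), (0, 0), (11, 68), (0, 0), (0, 0), (0, 0), (0, 0), (0, 0), (17, 65), (17, 68),
  (19, 68), (21, 67), (21, 68), (26, 68), (28, 67), (28, 68), (29, 67), (29, 68), (0, 0), (35, 68),
  (36, 67), (0, 0), (0, 0), (0, 0)], [(1, 25), (0, 46), (4, 33), (0, 48), (2, 38), (2, 42), (0,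
  51), (4, 42), (2, 44), (0, 0), (4, 44), (2, 51), (0, 0), (4, 51), (0, 0), (0, 0), (0, 61), (0,
  0), (0, 63), (0, 64), (2, 60), (0, 66), (0, 67), (5, 60), (0, 69), (8, 60), (1, 64), (2, 63), (1,
  66), (2, 66), (1, 67), (5, 63), (1, 69), (2, 67), (0, 0), (3, 67), (0, 0), (3, 69), (4, 69), (0,
  0), (8, 66), (0, 0), (5, 69), (0, 0), (8, 69), (0, 0), (11, 63), (0, 0), (11, 66), (0, 0), (0,
  0), (11, 69), (0, 0), (0, 0), (0, 0), (0, 0), (16, 66), (16, 69), (20, 67), (19, 69), (20, 69),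
  (27, 67), (26, 69), (27, 69), (29, 67), (0, 0), (29, 69), (33, 69), (0, 0), (38, 67), (0, 0), (0,
  0)], [(1, 25), (0, 46), (3, 34), (2, 37), (0, 49), (2, 42), (3, 42), (0, 52), (0, 0), (2, 45),
  (3, 45), (0, 0), (2, 52), (3, 52), (0, 0), (0, 0), (0, 61), (0, 62), (0, 0), (2, 59), (0, 65),
  (0, 66), (5, 59), (0, 68), (0, 69), (9, 59), (2, 62), (1, 65), (1, 66), (2, 66), (5, 62), (1,
  68), (1, 69), (0, 0), (2, 68), (0, 0), (4, 68), (3, 69), (4, 69), (0, 0), (0, 0), (9, 66), (5,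
  69), (0, 0), (0, 0), (9, 69), (12, 62), (0, 0), (0, 0), (12, 66), (0, 0), (0, 0), (12, 69), (0,
  0), (0, 0), (0, 0), (16, 66), (16, 69), (19, 68), (19, 69), (20, 69), (26, 68), (26, 69), (27,
  69), (0, 0), (29, 68), (29, 69), (0, 0), (34, 69), (37, 68), (0, 0), (0, 0)], [(1, 25), (4, 30),
  (0, 47), (0, 48), (1, 41), (1, 43), (1, 44), (0, 0), (0, 53), (4, 43), (4, 44), (1, 53), (0, 0),
  (0, 0), (4, 53), (0, 0), (0, 61), (0, 62), (1, 60), (0, 0), (0, 65), (0, 66), (0, 67), (5, 60),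
  (6, 60), (0, 70), (1, 64), (1, 65), (1, 66), (2, 66), (1, 67), (0, 0), (0, 0), (2, 67), (5, 65),
  (3, 67), (0, 0), (6, 66), (0, 0), (2, 70), (3, 70), (4, 70), (0, 0), (5, 70), (6, 70), (0, 0),
  (0, 0), (11, 65), (11, 66), (0, 0), (0, 0), (0, 0), (0, 0), (11, 70), (0, 0), (0, 0), (16, 66),
  (18, 67), (16, 70), (17, 70), (18, 70), (27, 67), (28, 67), (0, 0), (26, 70), (27, 70), (28, 70),
  (30, 70), (0, 0), (0, 0), (41, 67), (0, 0)], [(1, 25), (3, 31), (0, 47), (1, 40), (0, 49), (1,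
  43), (0, 0), (1, 45), (3, 43), (0, 54), (3, 45), (0, 0), (1, 54), (0, 0), (3, 54), (0, 0), (0,
  61), (1, 59), (0, 63), (0, 64), (0, 0), (0, 66), (5, 59), (0, 68), (7, 59), (0, 70), (1, 64), (1,
  65), (1, 66), (2, 66), (0, 0), (1, 68), (0, 0), (5, 64), (2, 68), (0, 0), (4, 68), (0, 0), (7,
  66), (2, 70), (3, 70), (4, 70), (0, 0), (5, 70), (0, 0), (7, 70), (0, 0), (12, 64), (0, 0), (12,
  66), (0, 0), (0, 0), (0, 0), (0, 0), (12, 70), (0, 0), (16, 66), (17, 68), (16, 70), (17, 70),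
  (18, 70), (26, 68), (0, 0), (28, 68), (26, 70), (27, 70), (28, 70), (0, 0), (31, 70), (0, 0),
  (40, 68), (0, 0)], [(1, 25), (2, 32), (1, 39), (0, 48), (0, 49), (0, 0), (1, 44), (1, 45), (2,
  44), (2, 45), (0, 55), (0, 0), (0, 0), (1, 55), (2, 55), (0, 0), (1, 58), (0, 62), (0, 63), (0,
  64), (0, 65), (0, 0), (6, 58), (7, 58), (0, 69), (0, 70), (1, 64), (1, 65), (1, 66), (2, 66), (0,
  0), (0, 0), (1, 69), (0, 0), (0, 0), (6, 64), (7, 65), (3, 69), (4, 69), (2, 70), (3, 70), (4,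
  70), (0, 0), (0, 0), (6, 70), (7, 70), (0, 0), (0, 0), (13, 64), (13, 65), (0, 0), (0, 0), (0,
  0), (0, 0), (0, 0), (13, 70), (16, 66), (16, 69), (16, 70), (17, 70), (18, 70), (0, 0), (26, 69),
  (27, 69), (26, 70), (27, 70), (28, 70), (0, 0), (0, 0), (32, 70), (39, 69), (0, 0)], [(1, 25),
  (2, 32), (1, 39), (1, 40), (0, 0), (0, 50), (0, 51), (1, 45), (0, 53), (2, 45), (3, 45), (1, 53),
  (0, 0), (0, 0), (0, 0), (7, 53), (0, 61), (0, 62), (1, 60), (0, 64), (2, 60), (3, 60), (0, 0),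
  (0, 68), (0, 69), (0, 70), (1, 64), (0, 0), (0, 0), (0, 0), (1, 67), (1, 68), (1, 69), (2, 67),
  (2, 68), (3, 67), (0, 0), (3, 69), (0, 0), (2, 70), (3, 70), (0, 0), (5, 69), (5, 70), (6, 70),
  (7, 70), (0, 0), (0, 0), (0, 0), (0, 0), (11, 68), (11, 69), (0, 0), (11, 70), (0, 0), (0, 0),
  (18, 64), (16, 69), (16, 70), (17, 70), (18, 70), (26, 68), (26, 69), (0, 0), (26, 70), (0, 0),
  (0, 0), (30, 70), (31, 70), (32, 70), (39, 69), (0, 0)], [(1, 25), (2, 32), (1, 39), (0, 0), (1,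
  41), (0, 50), (1, 44), (0, 52), (2, 44), (0, 54), (4, 44), (0, 0), (1, 54), (0, 0), (0, 0), (6,
  54), (0, 61), (1, 59), (0, 63), (2, 59), (0, 65), (4, 59), (0, 67), (0, 0), (0, 69), (0, 70), (0,
  0), (1, 65), (0, 0), (0, 0), (1, 67), (1, 68), (1, 69), (2, 67), (2, 68), (0, 0), (4, 68), (0,
  0), (4, 69), (2, 70), (0, 0), (4, 70), (5, 69), (5, 70), (6, 70), (7, 70), (0, 0), (0, 0), (0,
  0), (0, 0), (12, 67), (0, 0), (12, 69), (0, 0), (12, 70), (0, 0), (17, 65), (16, 69), (16, 70),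
  (17, 70), (18, 70), (27, 67), (0, 0), (27, 69), (0, 0), (27, 70), (0, 0), (30, 70), (31, 70),
  (32, 70), (39, 69), (0, 0)], [(1, 25), (3, 31), (0, 0), (1, 40), (1, 41), (1, 43), (0, 51), (0,
  52), (3, 43), (4, 43), (0, 55), (0, 0), (0, 0), (1, 55), (0, 0), (5, 55), (1, 58), (0, 62), (0,
  63), (3, 58), (4, 58), (0, 66), (0, 67), (0, 68), (0, 0), (0, 70), (0, 0), (0, 0), (1, 66), (0,
  0), (1, 67), (1, 68), (1, 69), (0, 0), (0, 0), (3, 67), (4, 68), (3, 69), (4, 69), (0, 0), (3,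
  70), (4, 70), (5, 69), (5, 70), (6, 70), (7, 70), (0, 0), (0, 0), (0, 0), (0, 0), (0, 0), (13,
  67), (13, 68), (0, 0), (0, 0), (13, 70), (16, 66), (16, 69), (16, 70), (17, 70), (18, 70), (0,
  0), (28, 67), (28, 68), (0, 0), (0, 0), (28, 70), (30, 70), (31, 70), (32, 70), (40, 68), (0,
  0)], [(2, 24), (0, 0), (3, 34), (2, 37), (2, 38), (2, 42), (3, 42), (4, 42), (0, 53), (0, 54),
  (0, 55), (0, 0), (0, 0), (0, 0), (2, 55), (5, 55), (2, 57), (3, 57), (4, 57), (0, 64), (0, 65),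
  (0, 66), (0, 67), (0, 68), (0, 69), (0, 0), (0, 0), (0, 0), (0, 0), (2, 66), (0, 0), (0, 0), (0,
  0), (2, 67), (2, 68), (3, 67), (4, 68), (3, 69), (4, 69), (2, 70), (3, 70), (4, 70), (5, 69), (5,
  70), (6, 70), (7, 70), (0, 0), (0, 0), (0, 0), (0, 0), (0, 0), (0, 0), (0, 0), (14, 67), (14,
  68), (14, 69), (16, 66), (16, 69), (16, 70), (17, 70), (18, 70), (0, 0), (0, 0), (0, 0), (29,
  67), (29, 68), (29, 69), (33, 69), (34, 69), (37, 68), (39, 69), (0, 0)], [(4, 22), (0, 46), (0,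
  47), (0, 48), (0, 49), (0, 50), (0, 51), (0, 0), (0, 53), (0, 0), (0, 0), (1, 53), (4, 50), (4,
  51), (4, 53), (0, 0), (0, 61), (0, 62), (0, 63), (0, 64), (0, 65), (0, 66), (0, 67), (0, 0), (0,
  0), (0, 0), (0, 0), (1, 65), (1, 66), (2, 66), (1, 67), (5, 63), (6, 63), (2, 67), (5, 65), (3,
  67), (0, 0), (6, 66), (0, 0), (8, 65), (8, 66), (0, 0), (0, 0), (0, 0), (0, 0), (0, 0), (1, 71),
  (2, 71), (3, 71), (4, 71), (5, 71), (6, 71), (0, 0), (8, 71), (0, 0), (0, 0), (16, 66), (18, 67),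
  (20, 67), (21, 67), (0, 0), (16, 71), (17, 71), (18, 71), (19, 71), (20, 71), (21, 71), (22, 71),
  (0, 0), (0, 0), (0, 0), (49, 67)], [(3, 23), (0, 46), (0, 47), (0, 48), (0, 49), (0, 50), (0, 0),
  (0, 52), (0, 0), (0, 54), (0, 0), (3, 50), (1, 54), (3, 52), (3, 54), (0, 0), (0, 61), (0, 62),
  (0, 63), (0, 64), (0, 65), (0, 66), (0, 0), (0, 68), (0, 0), (0, 0), (1, 64), (0, 0), (1, 66),
  (2, 66), (5, 62), (1, 68), (7, 62), (5, 64), (2, 68), (0, 0), (4, 68), (0, 0), (7, 66), (9, 64),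
  (0, 0), (9, 66), (0, 0), (0, 0), (0, 0), (0, 0), (1, 71), (2, 71), (3, 71), (4, 71), (5, 71), (0,
  0), (7, 71), (0, 0), (9, 71), (0, 0), (16, 66), (17, 68), (19, 68), (0, 0), (21, 68), (16, 71),
  (17, 71), (18, 71), (19, 71), (20, 71), (21, 71), (0, 0), (23, 71), (0, 0), (0, 0), (48, 68)],
  [(2, 24), (0, 46), (0, 47), (0, 48), (0, 49), (0, 0), (0, 51), (0, 52), (0, 0), (0, 0), (0, 55),
  (2, 51), (2, 52), (1, 55), (2, 55), (0, 0), (0, 61), (0, 62), (0, 63), (0, 64), (0, 65), (0, 66),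
  (0, 0), (0, 0), (0, 69), (0, 0), (1, 64), (1, 65), (0, 0), (2, 66), (6, 61), (7, 61), (1, 69),
  (0, 0), (0, 0), (6, 64), (7, 65), (3, 69), (4, 69), (0, 0), (10, 64), (10, 65), (0, 0), (0, 0),
  (0, 0), (0, 0), (1, 71), (2, 71), (3, 71), (4, 71), (0, 0), (6, 71), (7, 71), (0, 0), (0, 0),
  (10, 71), (16, 66), (16, 69), (0, 0), (19, 69), (20, 69), (16, 71), (17, 71), (18, 71), (19, 71),
  (20, 71), (21, 71), (0, 0), (0, 0), (24, 71), (0, 0), (47, 69)], [(1, 25), (0, 46), (0, 47), (0,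
  48), (0, 49), (0, 0), (0, 0), (0, 0), (0, 53), (0, 54), (0, 55), (1, 53), (1, 54), (1, 55), (2,
  55), (0, 0), (0, 61), (0, 62), (0, 63), (0, 64), (0, 65), (0, 66), (0, 0), (0, 0), (0, 0), (0,
  70), (1, 64), (1, 65), (1, 66), (0, 0), (0, 0), (0, 0), (0, 0), (8, 61), (9, 61), (8, 62), (9,
  63), (10, 62), (10, 63), (2, 70), (3, 70), (4, 70), (0, 0), (0, 0), (0, 0), (0, 0), (1, 71), (2,
  71), (3, 71), (4, 71), (0, 0), (0, 0), (0, 0), (8, 71), (9, 71), (10, 71), (16, 66), (0, 0), (16,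
  70), (17, 70), (18, 70), (16, 71), (17, 71), (18, 71), (19, 71), (20, 71), (21, 71), (0, 0), (0,
  0), (0, 0), (25, 71), (46, 70)], [(2, 24), (0, 46), (0, 47), (0, 48), (0, 0), (0, 50), (0, 51),
  (0, 52), (0, 53), (0, 0), (0, 0), (1, 53), (2, 52), (3, 52), (0, 0), (7, 53), (0, 61), (0, 62),
  (0, 63), (0, 64), (0, 0), (0, 0), (0, 67), (0, 68), (0, 69), (0, 0), (1, 64), (2, 63), (3, 63),
  (0, 0), (0, 0), (1, 68), (1, 69), (2, 67), (2, 68), (3, 67), (0, 0), (3, 69), (0, 0), (0, 0), (0,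
  0), (0, 0), (5, 69), (8, 68), (8, 69), (0, 0), (1, 71), (2, 71), (3, 71), (0, 0), (5, 71), (6,
  71), (7, 71), (8, 71), (0, 0), (0, 0), (18, 64), (16, 69), (19, 68), (19, 69), (0, 0), (16, 71),
  (17, 71), (18, 71), (19, 71), (0, 0), (0, 0), (22, 71), (23, 71), (24, 71), (0, 0), (47, 69)],
  [(2, 24), (0, 46), (0, 47), (0, 0), (0, 49), (0, 50), (0, 51), (0, 52), (0, 0), (0, 54), (0, 0),
  (2, 51), (1, 54), (4, 51), (0, 0), (6, 54), (0, 61), (0, 62), (0, 63), (0, 0), (0, 65), (0, 0),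
  (0, 67), (0, 68), (0, 69), (0, 0), (2, 62), (1, 65), (4, 62), (0, 0), (1, 67), (0, 0), (1, 69),
  (2, 67), (2, 68), (0, 0), (4, 68), (0, 0), (4, 69), (0, 0), (0, 0), (0, 0), (5, 69), (9, 67), (0,
  0), (9, 69), (1, 71), (2, 71), (0, 0), (4, 71), (5, 71), (6, 71), (7, 71), (0, 0), (9, 71), (0,
  0), (17, 65), (16, 69), (20, 67), (0, 0), (20, 69), (16, 71), (17, 71), (18, 71), (0, 0), (20,
  71), (0, 0), (22, 71), (23, 71), (24, 71), (0, 0), (47, 69)], [(3, 23), (0, 46), (0, 0), (0, 48),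
  (0, 49), (0, 50), (0, 51), (0, 52), (0, 0), (0, 0), (0, 55), (3, 50), (4, 50), (1, 55), (0, 0),
  (5, 55), (0, 61), (0, 62), (0, 63), (0, 0), (0, 0), (0, 66), (0, 67), (0, 68), (0, 69), (0, 0),
  (3, 61), (4, 61), (1, 66), (0, 0), (1, 67), (1, 68), (0, 0), (0, 0), (0, 0), (3, 67), (4, 68),
  (3, 69), (4, 69), (0, 0), (0, 0), (0, 0), (5, 69), (0, 0), (10, 67), (10, 68), (1, 71), (0, 0),
  (3, 71), (4, 71), (5, 71), (6, 71), (7, 71), (0, 0), (0, 0), (10, 71), (16, 66), (16, 69), (0,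
  0), (21, 67), (21, 68), (16, 71), (17, 71), (18, 71), (0, 0), (0, 0), (21, 71), (22, 71), (23,
  71), (24, 71), (0, 0), (48, 68)], [(1, 25), (0, 46), (0, 47), (0, 48), (0, 0), (0, 50), (0, 51),
  (0, 0), (0, 53), (0, 54), (0, 0), (1, 53), (1, 54), (0, 0), (3, 54), (6, 54), (0, 61), (0, 62),
  (0, 0), (0, 64), (0, 65), (0, 0), (0, 67), (0, 68), (0, 0), (0, 70), (1, 64), (1, 65), (0, 0),
  (3, 65), (1, 67), (1, 68), (0, 0), (0, 0), (2, 68), (3, 67), (0, 0), (0, 0), (0, 0), (2, 70), (3,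
  70), (0, 0), (6, 68), (5, 70), (6, 70), (0, 0), (1, 71), (2, 71), (3, 71), (0, 0), (5, 71), (6,
  71), (0, 0), (8, 71), (9, 71), (0, 0), (17, 65), (17, 68), (16, 70), (17, 70), (0, 0), (16, 71),
  (17, 71), (0, 0), (19, 71), (20, 71), (0, 0), (22, 71), (23, 71), (0, 0), (25, 71), (46, 70)],
  [(1, 25), (0, 46), (0, 47), (0, 0), (0, 49), (0, 50), (0, 0), (0, 52), (0, 53), (0, 54), (0, 0),
  (1, 53), (1, 54), (0, 0), (4, 53), (7, 53), (0, 61), (0, 0), (0, 63), (0, 64), (0, 65), (0, 0),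
  (0, 67), (0, 68), (0, 0), (0, 70), (1, 64), (1, 65), (0, 0), (4, 64), (1, 67), (1, 68), (0, 0),
  (2, 67), (0, 0), (0, 0), (4, 68), (0, 0), (0, 0), (2, 70), (0, 0), (4, 70), (7, 67), (5, 70), (0,
  0), (7, 70), (1, 71), (2, 71), (0, 0), (4, 71), (5, 71), (0, 0), (7, 71), (8, 71), (9, 71), (0,
  0), (18, 64), (18, 67), (16, 70), (0, 0), (18, 70), (16, 71), (0, 0), (18, 71), (19, 71), (20,
  71), (0, 0), (22, 71), (23, 71), (0, 0), (25, 71), (46, 70)], [(1, 25), (0, 46), (0, 47), (0,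
  48), (0, 0), (0, 50), (0, 51), (0, 0), (0, 53), (0, 0), (0, 55), (1, 53), (0, 0), (1, 55), (2,
  55), (5, 55), (0, 61), (0, 62), (0, 0), (0, 64), (0, 0), (0, 66), (0, 67), (0, 0), (0, 69), (0,
  70), (1, 64), (0, 0), (1, 66), (2, 66), (1, 67), (0, 0), (1, 69), (2, 67), (0, 0), (0, 0), (0,
  0), (3, 69), (0, 0), (2, 70), (3, 70), (0, 0), (5, 69), (5, 70), (6, 70), (0, 0), (1, 71), (2,
  71), (3, 71), (0, 0), (5, 71), (6, 71), (0, 0), (8, 71), (0, 0), (10, 71), (16, 66), (16, 69),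
  (16, 70), (17, 70), (0, 0), (16, 71), (17, 71), (0, 0), (19, 71), (0, 0), (21, 71), (22, 71), (0,
  0), (24, 71), (25, 71), (46, 70)], [(1, 25), (0, 46), (0, 47), (0, 0), (0, 49), (0, 50), (0, 0),
  (0, 52), (0, 0), (0, 54), (0, 55), (0, 0), (1, 54), (1, 55), (2, 55), (5, 55), (0, 61), (0, 0),
  (0, 63), (0, 0), (0, 65), (0, 66), (0, 0), (0, 68), (0, 69), (0, 70), (0, 0), (1, 65), (1, 66),
  (2, 66), (0, 0), (1, 68), (1, 69), (0, 0), (2, 68), (0, 0), (0, 0), (0, 0), (4, 69), (2, 70), (0,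
  0), (4, 70), (5, 69), (5, 70), (0, 0), (7, 70), (1, 71), (2, 71), (0, 0), (4, 71), (5, 71), (0,
  0), (7, 71), (0, 0), (9, 71), (10, 71), (16, 66), (16, 69), (16, 70), (0, 0), (18, 70), (16, 71),
  (0, 0), (18, 71), (0, 0), (20, 71), (21, 71), (0, 0), (23, 71), (24, 71), (25, 71), (46, 70)],
  [(1, 25), (0, 46), (0, 0), (0, 48), (0, 49), (0, 0), (0, 51), (0, 52), (0, 53), (0, 0), (0, 55),
  (1, 53), (0, 0), (1, 55), (4, 53), (7, 53), (0, 0), (0, 62), (0, 63), (0, 64), (0, 0), (0, 66),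
  (0, 67), (0, 0), (0, 69), (0, 70), (1, 64), (0, 0), (1, 66), (4, 64), (1, 67), (0, 0), (1, 69),
  (0, 0), (0, 0), (3, 67), (0, 0), (0, 0), (4, 69), (0, 0), (3, 70), (4, 70), (7, 67), (0, 0), (6,
  70), (7, 70), (1, 71), (0, 0), (3, 71), (4, 71), (0, 0), (6, 71), (7, 71), (8, 71), (0, 0), (10,
  71), (18, 64), (18, 67), (0, 0), (17, 70), (18, 70), (0, 0), (17, 71), (18, 71), (19, 71), (0,
  0), (21, 71), (22, 71), (0, 0), (24, 71), (25, 71), (46, 70)], [(1, 25), (0, 46), (0, 0), (0,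
  48), (0, 49), (0, 0), (0, 51), (0, 52), (0, 0), (0, 54), (0, 55), (0, 0), (1, 54), (1, 55), (3,
  54), (6, 54), (0, 0), (0, 62), (0, 63), (0, 0), (0, 65), (0, 66), (0, 0), (0, 68), (0, 69), (0,
  70), (0, 0), (1, 65), (1, 66), (3, 65), (0, 0), (1, 68), (1, 69), (0, 0), (0, 0), (0, 0), (4,
  68), (3, 69), (0, 0), (0, 0), (3, 70), (4, 70), (6, 68), (0, 0), (6, 70), (7, 70), (1, 71), (0,
  0), (3, 71), (4, 71), (0, 0), (6, 71), (7, 71), (0, 0), (9, 71), (10, 71), (17, 65), (17, 68),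
  (0, 0), (17, 70), (18, 70), (0, 0), (17, 71), (18, 71), (0, 0), (20, 71), (21, 71), (0, 0), (23,
  71), (24, 71), (25, 71), (46, 70)], [(3, 23), (0, 0), (0, 47), (0, 48), (0, 49), (0, 50), (0, 0),
  (0, 0), (0, 53), (0, 54), (0, 55), (3, 50), (4, 50), (0, 0), (2, 55), (5, 55), (0, 61), (0, 0),
  (0, 0), (0, 64), (0, 65), (0, 66), (0, 67), (0, 68), (0, 0), (0, 70), (3, 61), (4, 61), (0, 0),
  (2, 66), (0, 0), (0, 0), (0, 0), (2, 67), (2, 68), (3, 67), (4, 68), (0, 0), (0, 0), (0, 0), (3,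
  70), (4, 70), (0, 0), (5, 70), (10, 67), (10, 68), (0, 0), (2, 71), (3, 71), (4, 71), (5, 71),
  (0, 0), (0, 0), (8, 71), (9, 71), (10, 71), (16, 66), (0, 0), (16, 70), (21, 67), (21, 68), (16,
  71), (0, 0), (0, 0), (19, 71), (20, 71), (21, 71), (22, 71), (23, 71), (0, 0), (25, 71), (48,
  68)], [(2, 24), (0, 0), (0, 47), (0, 48), (0, 49), (0, 0), (0, 51), (0, 0), (0, 53), (0, 54), (0,
  55), (2, 51), (0, 0), (4, 51), (2, 55), (6, 54), (0, 0), (0, 62), (0, 0), (0, 64), (0, 65), (0,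
  66), (0, 67), (0, 0), (0, 69), (0, 70), (2, 62), (0, 0), (4, 62), (2, 66), (0, 0), (0, 0), (0,
  0), (2, 67), (0, 0), (3, 67), (0, 0), (3, 69), (4, 69), (2, 70), (0, 0), (4, 70), (0, 0), (9,
  67), (6, 70), (9, 69), (0, 0), (2, 71), (3, 71), (4, 71), (0, 0), (6, 71), (0, 0), (8, 71), (9,
  71), (10, 71), (17, 65), (0, 0), (20, 67), (17, 70), (20, 69), (0, 0), (17, 71), (0, 0), (19,
  71), (20, 71), (21, 71), (22, 71), (0, 0), (24, 71), (25, 71), (47, 69)], [(2, 24), (0, 0), (0,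
  47), (0, 48), (0, 49), (0, 0), (0, 0), (0, 52), (0, 53), (0, 54), (0, 55), (0, 0), (2, 52), (3,
  52), (2, 55), (7, 53), (0, 0), (0, 0), (0, 63), (0, 64), (0, 65), (0, 66), (0, 0), (0, 68), (0,
  69), (0, 70), (0, 0), (2, 63), (3, 63), (2, 66), (0, 0), (0, 0), (0, 0), (0, 0), (2, 68), (0, 0),
  (4, 68), (3, 69), (4, 69), (2, 70), (3, 70), (0, 0), (0, 0), (8, 68), (8, 69), (7, 70), (0, 0),
  (2, 71), (3, 71), (4, 71), (0, 0), (0, 0), (7, 71), (8, 71), (9, 71), (10, 71), (18, 64), (0, 0),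
  (19, 68), (19, 69), (18, 70), (0, 0), (0, 0), (18, 71), (19, 71), (20, 71), (21, 71), (0, 0),
  (23, 71), (24, 71), (25, 71), (47, 69)], [(1, 25), (0, 46), (0, 0), (0, 0), (0, 0), (0, 50), (0,
  51), (0, 52), (0, 53), (0, 54), (0, 55), (1, 53), (1, 54), (1, 55), (0, 0), (5, 55), (0, 61), (0,
  62), (0, 63), (0, 0), (0, 0), (0, 0), (0, 67), (0, 68), (0, 69), (0, 70), (0, 0), (0, 0), (0, 0),
  (0, 0), (1, 67), (1, 68), (1, 69), (8, 61), (9, 61), (8, 62), (9, 63), (10, 62), (10, 63), (0,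
  0), (0, 0), (0, 0), (0, 0), (5, 70), (6, 70), (7, 70), (1, 71), (0, 0), (0, 0), (0, 0), (5, 71),
  (6, 71), (7, 71), (8, 71), (9, 71), (10, 71), (0, 0), (16, 69), (16, 70), (17, 70), (18, 70),
  (16, 71), (17, 71), (18, 71), (0, 0), (0, 0), (0, 0), (22, 71), (23, 71), (24, 71), (25, 71),
  (46, 70)], [(2, 24), (0, 0), (0, 47), (0, 0), (0, 0), (0, 50), (0, 51), (0, 52), (0, 53), (0,
  54), (0, 55), (2, 51), (2, 52), (0, 0), (2, 55), (5, 55), (0, 61), (0, 0), (0, 0), (0, 64), (0,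
  65), (0, 0), (0, 67), (0, 68), (0, 69), (0, 70), (0, 0), (0, 0), (0, 0), (0, 0), (6, 61), (7,
  61), (0, 0), (2, 67), (2, 68), (6, 64), (7, 65), (0, 0), (0, 0), (2, 70), (10, 64), (10, 65), (5,
  69), (0, 0), (6, 70), (7, 70), (0, 0), (2, 71), (0, 0), (0, 0), (5, 71), (6, 71), (7, 71), (8,
  71), (9, 71), (10, 71), (0, 0), (16, 69), (16, 70), (19, 69), (20, 69), (16, 71), (0, 0), (0, 0),
  (19, 71), (20, 71), (0, 0), (22, 71), (23, 71), (24, 71), (25, 71), (47, 69)], [(3, 23), (0, 0),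
  (0, 0), (0, 48), (0, 0), (0, 50), (0, 51), (0, 52), (0, 53), (0, 54), (0, 55), (3, 50), (0, 0),
  (3, 52), (3, 54), (5, 55), (0, 0), (0, 62), (0, 0), (0, 64), (0, 0), (0, 66), (0, 67), (0, 68),
  (0, 69), (0, 70), (0, 0), (0, 0), (0, 0), (0, 0), (5, 62), (0, 0), (7, 62), (5, 64), (0, 0), (3,
  67), (0, 0), (3, 69), (7, 66), (9, 64), (3, 70), (9, 66), (5, 69), (5, 70), (0, 0), (7, 70), (0,
  0), (0, 0), (3, 71), (0, 0), (5, 71), (6, 71), (7, 71), (8, 71), (9, 71), (10, 71), (0, 0), (17,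
  68), (19, 68), (17, 70), (21, 68), (0, 0), (17, 71), (0, 0), (19, 71), (0, 0), (21, 71), (22,
  71), (23, 71), (24, 71), (25, 71), (48, 68)], [(4, 22), (0, 0), (0, 0), (0, 0), (0, 49), (0, 50),
  (0, 51), (0, 52), (0, 53), (0, 54), (0, 55), (0, 0), (4, 50), (4, 51), (4, 53), (5, 55), (0, 0),
  (0, 0), (0, 63), (0, 0), (0, 65), (0, 66), (0, 67), (0, 68), (0, 69), (0, 70), (0, 0), (0, 0),
  (0, 0), (0, 0), (0, 0), (5, 63), (6, 63), (0, 0), (5, 65), (0, 0), (4, 68), (6, 66), (4, 69), (8,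
  65), (8, 66), (4, 70), (5, 69), (5, 70), (6, 70), (0, 0), (0, 0), (0, 0), (0, 0), (4, 71), (5,
  71), (6, 71), (7, 71), (8, 71), (9, 71), (10, 71), (0, 0), (18, 67), (20, 67), (21, 67), (18,
  70), (0, 0), (0, 0), (18, 71), (0, 0), (20, 71), (21, 71), (22, 71), (23, 71), (24, 71), (25,
  71), (49, 67)], [(0, 0), (2, 32), (3, 34), (2, 37), (2, 38), (2, 42), (3, 42), (4, 42), (0, 0),
  (0, 0), (0, 0), (1, 53), (1, 54), (1, 55), (2, 55), (5, 55), (2, 57), (3, 57), (4, 57), (0, 0),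
  (0, 0), (0, 0), (0, 0), (0, 0), (0, 0), (0, 0), (1, 64), (1, 65), (1, 66), (2, 66), (1, 67), (1,
  68), (1, 69), (2, 67), (2, 68), (3, 67), (4, 68), (3, 69), (4, 69), (0, 0), (0, 0), (0, 0), (5,
  69), (0, 0), (0, 0), (0, 0), (0, 0), (2, 71), (3, 71), (4, 71), (5, 71), (6, 71), (7, 71), (14,
  67), (14, 68), (14, 69), (16, 66), (16, 69), (0, 0), (0, 0), (0, 0), (16, 71), (17, 71), (18,
  71), (29, 67), (29, 68), (29, 69), (33, 69), (34, 69), (37, 68), (0, 0), (47, 69)], [(0, 0), (3,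
  31), (1, 39), (1, 40), (1, 41), (1, 43), (0, 0), (0, 0), (3, 43), (4, 43), (0, 0), (1, 53), (1,
  54), (1, 55), (2, 55), (5, 55), (1, 58), (0, 0), (0, 0), (3, 58), (4, 58), (0, 0), (0, 0), (0,
  0), (0, 0), (0, 0), (1, 64), (1, 65), (1, 66), (2, 66), (1, 67), (1, 68), (0, 0), (2, 67), (2,
  68), (3, 67), (4, 68), (0, 0), (0, 0), (2, 70), (3, 70), (4, 70), (0, 0), (5, 70), (0, 0), (0,
  0), (1, 71), (0, 0), (3, 71), (4, 71), (5, 71), (13, 67), (13, 68), (8, 71), (9, 71), (13, 70),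
  (16, 66), (0, 0), (16, 70), (0, 0), (0, 0), (16, 71), (28, 67), (28, 68), (19, 71), (20, 71),
  (28, 70), (30, 70), (31, 70), (0, 0), (40, 68), (46, 70)], [(0, 0), (2, 32), (1, 39), (1, 40),
  (1, 41), (0, 0), (1, 44), (0, 0), (2, 44), (0, 0), (4, 44), (1, 53), (1, 54), (1, 55), (2, 55),
  (6, 54), (0, 0), (1, 59), (0, 0), (2, 59), (0, 0), (4, 59), (0, 0), (0, 0), (0, 0), (0, 0), (1,
  64), (1, 65), (1, 66), (2, 66), (1, 67), (0, 0), (1, 69), (2, 67), (0, 0), (3, 67), (0, 0), (3,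
  69), (4, 69), (2, 70), (3, 70), (4, 70), (0, 0), (0, 0), (6, 70), (0, 0), (1, 71), (2, 71), (0,
  0), (4, 71), (12, 67), (6, 71), (12, 69), (8, 71), (12, 70), (10, 71), (17, 65), (0, 0), (0, 0),
  (17, 70), (0, 0), (27, 67), (17, 71), (27, 69), (19, 71), (27, 70), (21, 71), (30, 70), (0, 0),
  (32, 70), (39, 69), (46, 70)], [(0, 0), (2, 32), (1, 39), (1, 40), (1, 41), (0, 0), (0, 0), (1,
  45), (0, 0), (2, 45), (3, 45), (1, 53), (1, 54), (1, 55), (2, 55), (7, 53), (0, 0), (0, 0), (1,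
  60), (0, 0), (2, 60), (3, 60), (0, 0), (0, 0), (0, 0), (0, 0), (1, 64), (1, 65), (1, 66), (2,
  66), (0, 0), (1, 68), (1, 69), (0, 0), (2, 68), (0, 0), (4, 68), (3, 69), (4, 69), (2, 70), (3,
  70), (4, 70), (0, 0), (0, 0), (0, 0), (7, 70), (1, 71), (2, 71), (3, 71), (0, 0), (11, 68), (11,
  69), (7, 71), (11, 70), (9, 71), (10, 71), (18, 64), (0, 0), (0, 0), (0, 0), (18, 70), (26, 68),
  (26, 69), (18, 71), (26, 70), (20, 71), (21, 71), (0, 0), (31, 70), (32, 70), (39, 69), (46,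
  70)], [(0, 0), (2, 32), (1, 39), (0, 0), (0, 0), (1, 43), (1, 44), (1, 45), (2, 44), (2, 45), (0,
  0), (1, 53), (1, 54), (1, 55), (2, 55), (5, 55), (1, 58), (0, 0), (0, 0), (0, 0), (0, 0), (0, 0),
  (6, 58), (7, 58), (0, 0), (0, 0), (1, 64), (1, 65), (0, 0), (0, 0), (1, 67), (1, 68), (1, 69),
  (2, 67), (2, 68), (6, 64), (7, 65), (0, 0), (0, 0), (2, 70), (0, 0), (0, 0), (5, 69), (5, 70),
  (6, 70), (7, 70), (1, 71), (2, 71), (13, 64), (13, 65), (0, 0), (6, 71), (7, 71), (8, 71), (9,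
  71), (13, 70), (0, 0), (16, 69), (16, 70), (0, 0), (0, 0), (16, 71), (26, 69), (27, 69), (26,
  70), (27, 70), (0, 0), (22, 71), (23, 71), (32, 70), (39, 69), (46, 70)], [(0, 0), (3, 31), (0,
  0), (1, 40), (0, 0), (1, 43), (1, 44), (1, 45), (3, 43), (0, 0), (3, 45), (1, 53), (1, 54), (1,
  55), (3, 54), (5, 55), (0, 0), (1, 59), (0, 0), (0, 0), (0, 0), (0, 0), (5, 59), (0, 0), (7, 59),
  (0, 0), (1, 64), (0, 0), (1, 66), (0, 0), (1, 67), (1, 68), (1, 69), (5, 64), (0, 0), (3, 67),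
  (0, 0), (3, 69), (7, 66), (0, 0), (3, 70), (0, 0), (5, 69), (5, 70), (6, 70), (7, 70), (1, 71),
  (12, 64), (3, 71), (12, 66), (5, 71), (0, 0), (7, 71), (8, 71), (12, 70), (10, 71), (0, 0), (17,
  68), (0, 0), (17, 70), (0, 0), (26, 68), (17, 71), (28, 68), (26, 70), (0, 0), (28, 70), (22,
  71), (31, 70), (24, 71), (40, 68), (46, 70)], [(0, 0), (4, 30), (0, 0), (0, 0), (1, 41), (1, 43),
  (1, 44), (1, 45), (0, 0), (4, 43), (4, 44), (1, 53), (1, 54), (1, 55), (4, 53), (5, 55), (0, 0),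
  (0, 0), (1, 60), (0, 0), (0, 0), (0, 0), (0, 0), (5, 60), (6, 60), (0, 0), (0, 0), (1, 65), (1,
  66), (0, 0), (1, 67), (1, 68), (1, 69), (0, 0), (5, 65), (0, 0), (4, 68), (6, 66), (4, 69), (0,
  0), (0, 0), (4, 70), (5, 69), (5, 70), (6, 70), (7, 70), (1, 71), (11, 65), (11, 66), (4, 71),
  (5, 71), (6, 71), (0, 0), (11, 70), (9, 71), (10, 71), (0, 0), (18, 67), (0, 0), (0, 0), (18,
  70), (27, 67), (28, 67), (18, 71), (0, 0), (27, 70), (28, 70), (30, 70), (23, 71), (24, 71), (41,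
  67), (46, 70)], [(0, 0), (0, 0), (3, 34), (2, 37), (0, 0), (2, 42), (3, 42), (0, 0), (2, 44), (2,
  45), (3, 45), (2, 51), (2, 52), (3, 52), (2, 55), (5, 55), (0, 0), (0, 0), (0, 0), (2, 59), (0,
  0), (0, 0), (5, 59), (0, 0), (0, 0), (9, 59), (2, 62), (0, 0), (0, 0), (2, 66), (5, 62), (0, 0),
  (0, 0), (2, 67), (2, 68), (3, 67), (0, 0), (3, 69), (0, 0), (2, 70), (3, 70), (9, 66), (5, 69),
  (5, 70), (6, 70), (9, 69), (12, 62), (2, 71), (3, 71), (12, 66), (5, 71), (6, 71), (12, 69), (0,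
  0), (9, 71), (10, 71), (0, 0), (0, 0), (19, 68), (19, 69), (0, 0), (26, 68), (26, 69), (0, 0),
  (19, 71), (29, 68), (29, 69), (22, 71), (34, 69), (37, 68), (25, 71), (46, 70)], [(0, 0), (0, 0),
  (4, 33), (0, 0), (2, 38), (2, 42), (0, 0), (4, 42), (2, 44), (2, 45), (4, 44), (2, 51), (2, 52),
  (4, 51), (2, 55), (5, 55), (0, 0), (0, 0), (0, 0), (0, 0), (2, 60), (0, 0), (0, 0), (5, 60), (0,
  0), (8, 60), (0, 0), (2, 63), (0, 0), (2, 66), (0, 0), (5, 63), (0, 0), (2, 67), (2, 68), (0, 0),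
  (4, 68), (0, 0), (4, 69), (2, 70), (8, 66), (4, 70), (5, 69), (5, 70), (8, 69), (7, 70), (11,
  63), (2, 71), (11, 66), (4, 71), (5, 71), (11, 69), (7, 71), (8, 71), (0, 0), (10, 71), (0, 0),
  (0, 0), (20, 67), (0, 0), (20, 69), (27, 67), (0, 0), (27, 69), (29, 67), (20, 71), (29, 69),
  (33, 69), (23, 71), (38, 67), (25, 71), (46, 70)], [(0, 0), (0, 0), (0, 0), (4, 35), (3, 36), (0,
  0), (3, 42), (4, 42), (3, 43), (4, 43), (3, 45), (3, 50), (4, 50), (3, 52), (3, 54), (6, 54), (0,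
  0), (0, 0), (0, 0), (0, 0), (0, 0), (3, 60), (0, 0), (0, 0), (6, 60), (8, 60), (0, 0), (0, 0),
  (3, 63), (3, 65), (0, 0), (0, 0), (6, 63), (0, 0), (0, 0), (3, 67), (4, 68), (3, 69), (4, 69),
  (8, 65), (3, 70), (4, 70), (6, 68), (8, 68), (6, 70), (7, 70), (11, 63), (11, 65), (3, 71), (4,
  71), (11, 68), (6, 71), (7, 71), (8, 71), (9, 71), (0, 0), (0, 0), (0, 0), (0, 0), (21, 67), (21,
  68), (0, 0), (28, 67), (28, 68), (29, 67), (29, 68), (21, 71), (35, 68), (36, 67), (24, 71), (25,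
  71), (46, 70)], [(1, 25), (0, 46), (0, 47), (0, 48), (0, 49), (0, 0), (0, 0), (0, 0), (0, 0), (0,
  0), (0, 0), (0, 0), (0, 0), (0, 0), (0, 0), (0, 0), (0, 61), (0, 62), (0, 63), (0, 64), (0, 65),
  (0, 66), (0, 67), (0, 68), (0, 69), (0, 70), (1, 64), (1, 65), (1, 66), (2, 66), (1, 67), (1,
  68), (1, 69), (2, 67), (2, 68), (3, 67), (4, 68), (3, 69), (4, 69), (2, 70), (3, 70), (4, 70),
  (0, 0), (0, 0), (0, 0), (0, 0), (1, 71), (2, 71), (3, 71), (4, 71), (0, 0), (0, 0), (0, 0), (0,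
  0), (0, 0), (0, 0), (0, 0), (16, 69), (16, 70), (17, 70), (18, 70), (16, 71), (17, 71), (18, 71),
  (19, 71), (20, 71), (21, 71), (22, 71), (23, 71), (24, 71), (25, 71), (46, 70)], [(1, 25), (0,
  46), (0, 0), (0, 0), (0, 0), (0, 50), (0, 51), (0, 52), (0, 0), (0, 0), (0, 0), (0, 0), (0, 0),
  (0, 0), (0, 0), (0, 0), (0, 61), (0, 62), (0, 63), (0, 64), (0, 65), (0, 66), (0, 67), (0, 68),
  (0, 69), (0, 70), (1, 64), (1, 65), (1, 66), (0, 0), (1, 67), (1, 68), (1, 69), (5, 64), (5, 65),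
  (6, 64), (7, 65), (6, 66), (7, 66), (0, 0), (0, 0), (0, 0), (5, 69), (5, 70), (6, 70), (7, 70),
  (1, 71), (0, 0), (0, 0), (0, 0), (5, 71), (6, 71), (7, 71), (0, 0), (0, 0), (0, 0), (16, 66), (0,
  0), (16, 70), (17, 70), (18, 70), (16, 71), (17, 71), (18, 71), (19, 71), (20, 71), (21, 71),
  (22, 71), (23, 71), (24, 71), (25, 71), (46, 70)], [(2, 24), (0, 0), (0, 47), (0, 0), (0, 0), (0,
  50), (0, 0), (0, 0), (0, 53), (0, 54), (0, 0), (0, 0), (0, 0), (0, 0), (0, 0), (0, 0), (0, 61),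
  (0, 62), (0, 63), (0, 64), (0, 65), (0, 66), (0, 67), (0, 68), (0, 69), (0, 70), (2, 62), (2,
  63), (0, 0), (2, 66), (5, 62), (5, 63), (0, 0), (2, 67), (2, 68), (8, 62), (9, 63), (0, 0), (0,
  0), (2, 70), (8, 66), (9, 66), (5, 69), (5, 70), (8, 69), (9, 69), (0, 0), (2, 71), (0, 0), (0,
  0), (5, 71), (0, 0), (0, 0), (8, 71), (9, 71), (0, 0), (16, 66), (16, 69), (0, 0), (17, 70), (18,
  70), (16, 71), (17, 71), (18, 71), (19, 71), (20, 71), (21, 71), (22, 71), (23, 71), (24, 71),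
  (25, 71), (47, 69)], [(3, 23), (0, 0), (0, 0), (0, 48), (0, 0), (0, 0), (0, 51), (0, 0), (0, 53),
  (0, 0), (0, 55), (0, 0), (0, 0), (0, 0), (0, 0), (0, 0), (0, 61), (0, 62), (0, 63), (0, 64), (0,
  65), (0, 66), (0, 67), (0, 68), (0, 69), (0, 70), (3, 61), (0, 0), (3, 63), (3, 65), (6, 61), (0,
  0), (6, 63), (8, 61), (0, 0), (3, 67), (0, 0), (3, 69), (10, 63), (8, 65), (3, 70), (10, 65), (6,
  68), (8, 68), (6, 70), (10, 68), (0, 0), (0, 0), (3, 71), (0, 0), (0, 0), (6, 71), (0, 0), (8,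
  71), (0, 0), (10, 71), (16, 66), (16, 69), (16, 70), (0, 0), (18, 70), (16, 71), (17, 71), (18,
  71), (19, 71), (20, 71), (21, 71), (22, 71), (23, 71), (24, 71), (25, 71), (48, 68)], [(4, 22),
  (0, 0), (0, 0), (0, 0), (0, 49), (0, 0), (0, 0), (0, 52), (0, 0), (0, 54), (0, 55), (0, 0), (0,
  0), (0, 0), (0, 0), (0, 0), (0, 61), (0, 62), (0, 63), (0, 64), (0, 65), (0, 66), (0, 67), (0,
  68), (0, 69), (0, 70), (0, 0), (4, 61), (4, 62), (4, 64), (0, 0), (7, 61), (7, 62), (0, 0), (9,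
  61), (0, 0), (4, 68), (10, 62), (4, 69), (9, 64), (10, 64), (4, 70), (7, 67), (9, 67), (10, 67),
  (7, 70), (0, 0), (0, 0), (0, 0), (4, 71), (0, 0), (0, 0), (7, 71), (0, 0), (9, 71), (10, 71),
  (16, 66), (16, 69), (16, 70), (17, 70), (0, 0), (16, 71), (17, 71), (18, 71), (19, 71), (20, 71),
  (21, 71), (22, 71), (23, 71), (24, 71), (25, 71), (49, 67)], [(0, 0), (2, 32), (1, 39), (0, 0),
  (0, 0), (1, 43), (0, 0), (0, 0), (0, 0), (0, 0), (0, 0), (1, 53), (1, 54), (0, 0), (0, 0), (0,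
  0), (1, 58), (1, 59), (1, 60), (2, 59), (2, 60), (0, 0), (5, 59), (5, 60), (0, 0), (0, 0), (1,
  64), (1, 65), (1, 66), (2, 66), (1, 67), (1, 68), (1, 69), (2, 67), (2, 68), (11, 59), (12, 60),
  (0, 0), (0, 0), (2, 70), (0, 0), (0, 0), (5, 69), (5, 70), (0, 0), (0, 0), (1, 71), (2, 71), (11,
  66), (12, 66), (5, 71), (11, 69), (12, 69), (11, 70), (12, 70), (0, 0), (16, 66), (16, 69), (16,
  70), (17, 70), (18, 70), (0, 0), (17, 71), (18, 71), (19, 71), (20, 71), (28, 70), (22, 71), (23,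
  71), (32, 70), (39, 69), (46, 70)], [(0, 0), (3, 31), (0, 0), (1, 40), (0, 0), (0, 0), (1, 44),
  (0, 0), (0, 0), (0, 0), (0, 0), (1, 53), (0, 0), (1, 55), (0, 0), (0, 0), (1, 58), (1, 59), (1,
  60), (3, 58), (0, 0), (3, 60), (6, 58), (0, 0), (6, 60), (0, 0), (1, 64), (1, 65), (1, 66), (3,
  65), (1, 67), (1, 68), (1, 69), (11, 58), (0, 0), (3, 67), (0, 0), (3, 69), (13, 60), (0, 0), (3,
  70), (0, 0), (6, 68), (0, 0), (6, 70), (0, 0), (1, 71), (11, 65), (3, 71), (13, 65), (11, 68),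
  (6, 71), (13, 68), (11, 70), (0, 0), (13, 70), (16, 66), (16, 69), (16, 70), (17, 70), (18, 70),
  (16, 71), (0, 0), (18, 71), (19, 71), (27, 70), (21, 71), (22, 71), (31, 70), (24, 71), (40, 68),
  (46, 70)], [(0, 0), (4, 30), (0, 0), (0, 0), (1, 41), (0, 0), (0, 0), (1, 45), (0, 0), (0, 0),
  (0, 0), (0, 0), (1, 54), (1, 55), (0, 0), (0, 0), (1, 58), (1, 59), (1, 60), (0, 0), (4, 58), (4,
  59), (0, 0), (7, 58), (7, 59), (0, 0), (1, 64), (1, 65), (1, 66), (4, 64), (1, 67), (1, 68), (1,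
  69), (0, 0), (12, 58), (0, 0), (4, 68), (13, 59), (4, 69), (0, 0), (0, 0), (4, 70), (7, 67), (0,
  0), (0, 0), (7, 70), (1, 71), (12, 64), (13, 64), (4, 71), (12, 67), (13, 67), (7, 71), (0, 0),
  (12, 70), (13, 70), (16, 66), (16, 69), (16, 70), (17, 70), (18, 70), (16, 71), (17, 71), (0, 0),
  (26, 70), (20, 71), (21, 71), (30, 70), (23, 71), (24, 71), (41, 67), (46, 70)], [(0, 0), (0, 0),
  (3, 34), (2, 37), (0, 0), (0, 0), (0, 0), (0, 0), (2, 44), (0, 0), (0, 0), (2, 51), (0, 0), (0,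
  0), (2, 55), (0, 0), (2, 57), (3, 57), (0, 0), (2, 59), (2, 60), (3, 60), (8, 57), (0, 0), (0,
  0), (8, 60), (2, 62), (2, 63), (3, 63), (2, 66), (11, 57), (0, 0), (0, 0), (2, 67), (2, 68), (3,
  67), (0, 0), (3, 69), (0, 0), (2, 70), (3, 70), (14, 60), (0, 0), (8, 68), (8, 69), (0, 0), (11,
  63), (2, 71), (3, 71), (14, 63), (11, 68), (11, 69), (0, 0), (8, 71), (14, 68), (14, 69), (16,
  66), (16, 69), (16, 70), (17, 70), (20, 69), (16, 71), (17, 71), (27, 69), (0, 0), (20, 71), (21,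
  71), (22, 71), (34, 69), (37, 68), (25, 71), (46, 70)], [(0, 0), (0, 0), (4, 33), (0, 0), (2,
  38), (0, 0), (0, 0), (0, 0), (0, 0), (2, 45), (0, 0), (0, 0), (2, 52), (0, 0), (2, 55), (0, 0),
  (2, 57), (0, 0), (4, 57), (2, 59), (2, 60), (4, 59), (0, 0), (9, 57), (0, 0), (9, 59), (2, 62),
  (2, 63), (4, 62), (2, 66), (0, 0), (12, 57), (0, 0), (2, 67), (2, 68), (0, 0), (4, 68), (0, 0),
  (4, 69), (2, 70), (14, 59), (4, 70), (0, 0), (9, 67), (0, 0), (9, 69), (12, 62), (2, 71), (14,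
  62), (4, 71), (12, 67), (0, 0), (12, 69), (14, 67), (9, 71), (14, 69), (16, 66), (16, 69), (16,
  70), (19, 69), (18, 70), (16, 71), (26, 69), (18, 71), (19, 71), (0, 0), (21, 71), (33, 69), (23,
  71), (38, 67), (25, 71), (46, 70)], [(0, 0), (0, 0), (0, 0), (4, 35), (3, 36), (0, 0), (0, 0),
  (0, 0), (0, 0), (0, 0), (3, 45), (0, 0), (0, 0), (3, 52), (3, 54), (0, 0), (0, 0), (3, 57), (4,
  57), (3, 58), (4, 58), (3, 60), (0, 0), (0, 0), (10, 57), (10, 58), (3, 61), (4, 61), (3, 63),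
  (3, 65), (0, 0), (0, 0), (13, 57), (0, 0), (0, 0), (3, 67), (4, 68), (3, 69), (4, 69), (14, 58),
  (3, 70), (4, 70), (0, 0), (0, 0), (10, 67), (10, 68), (13, 61), (14, 61), (3, 71), (4, 71), (0,
  0), (13, 67), (13, 68), (14, 67), (14, 68), (10, 71), (17, 65), (17, 68), (19, 68), (17, 70),
  (18, 70), (26, 68), (17, 71), (18, 71), (19, 71), (20, 71), (0, 0), (35, 68), (36, 67), (24, 71),
  (25, 71), (46, 70)], [(0, 0), (0, 0), (0, 0), (0, 0), (0, 0), (6, 34), (5, 37), (0, 0), (5, 40),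
  (0, 0), (0, 0), (5, 48), (0, 0), (0, 0), (0, 0), (5, 55), (5, 56), (6, 56), (0, 0), (8, 56), (0,
  0), (0, 0), (5, 59), (5, 60), (6, 60), (8, 60), (11, 56), (0, 0), (0, 0), (0, 0), (5, 62), (5,
  63), (6, 63), (5, 64), (5, 65), (6, 64), (0, 0), (6, 66), (0, 0), (8, 65), (8, 66), (0, 0), (5,
  69), (5, 70), (6, 70), (15, 60), (11, 63), (11, 65), (11, 66), (0, 0), (5, 71), (6, 71), (15,
  63), (8, 71), (15, 65), (15, 66), (16, 66), (16, 69), (16, 70), (17, 70), (23, 66), (16, 71),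
  (17, 71), (31, 66), (19, 71), (34, 66), (37, 65), (0, 0), (23, 71), (24, 71), (25, 71), (46,
  70)], [(0, 0), (0, 0), (0, 0), (0, 0), (0, 0), (7, 33), (0, 0), (5, 38), (0, 0), (5, 41), (0, 0),
  (0, 0), (5, 49), (0, 0), (0, 0), (5, 55), (5, 56), (0, 0), (7, 56), (0, 0), (9, 56), (0, 0), (5,
  59), (5, 60), (7, 59), (9, 59), (0, 0), (12, 56), (0, 0), (0, 0), (5, 62), (5, 63), (7, 62), (5,
  64), (5, 65), (0, 0), (7, 65), (0, 0), (7, 66), (9, 64), (0, 0), (9, 66), (5, 69), (5, 70), (15,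
  59), (7, 70), (12, 62), (12, 64), (0, 0), (12, 66), (5, 71), (15, 62), (7, 71), (15, 64), (9,
  71), (15, 66), (16, 66), (16, 69), (16, 70), (22, 66), (18, 70), (16, 71), (30, 66), (18, 71),
  (33, 66), (20, 71), (38, 64), (22, 71), (0, 0), (24, 71), (25, 71), (46, 70)], [(0, 0), (0, 0),
  (0, 0), (0, 0), (0, 0), (0, 0), (7, 35), (6, 36), (0, 0), (0, 0), (6, 41), (0, 0), (0, 0), (6,
  49), (0, 0), (6, 54), (0, 0), (6, 56), (7, 56), (0, 0), (0, 0), (10, 56), (6, 58), (7, 58), (6,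
  60), (10, 58), (0, 0), (0, 0), (13, 56), (0, 0), (6, 61), (7, 61), (6, 63), (0, 0), (0, 0), (6,
  64), (7, 65), (6, 66), (7, 66), (0, 0), (10, 64), (10, 65), (6, 68), (15, 58), (6, 70), (7, 70),
  (13, 61), (0, 0), (13, 64), (13, 65), (15, 61), (6, 71), (7, 71), (15, 64), (15, 65), (10, 71),
  (17, 65), (17, 68), (22, 65), (17, 70), (18, 70), (30, 65), (17, 71), (18, 71), (35, 65), (36,
  64), (21, 71), (22, 71), (23, 71), (0, 0), (25, 71), (46, 70)], [(0, 0), (0, 0), (0, 0), (0, 0),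
  (0, 0), (0, 0), (0, 0), (0, 0), (9, 35), (8, 36), (8, 38), (0, 0), (0, 0), (0, 0), (8, 49), (8,
  52), (0, 0), (0, 0), (0, 0), (8, 56), (9, 56), (10, 56), (8, 57), (9, 57), (10, 57), (8, 60), (0,
  0), (0, 0), (0, 0), (14, 56), (0, 0), (0, 0), (0, 0), (8, 61), (9, 61), (8, 62), (9, 63), (10,
  62), (10, 63), (8, 65), (8, 66), (9, 66), (15, 57), (8, 68), (8, 69), (9, 69), (0, 0), (14, 61),
  (14, 62), (14, 63), (15, 61), (15, 62), (15, 63), (8, 71), (9, 71), (10, 71), (19, 63), (22, 63),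
  (19, 68), (19, 69), (20, 69), (33, 63), (35, 63), (36, 62), (19, 71), (20, 71), (21, 71), (22,
  71), (23, 71), (24, 71), (0, 0), (47, 69)], [(0, 0), (0, 0), (0, 0), (0, 0), (0, 0), (0, 0), (0,
  0), (0, 0), (0, 0), (0, 0), (0, 0), (12, 35), (11, 36), (11, 38), (11, 41), (11, 45), (0, 0), (0,
  0), (0, 0), (0, 0), (0, 0), (0, 0), (0, 0), (0, 0), (0, 0), (0, 0), (11, 56), (12, 56), (13, 56),
  (14, 56), (11, 57), (12, 57), (13, 57), (11, 58), (12, 58), (11, 59), (12, 60), (13, 59), (13,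
  60), (14, 58), (14, 59), (14, 60), (15, 57), (15, 58), (15, 59), (15, 60), (11, 63), (11, 65),
  (11, 66), (12, 66), (11, 68), (11, 69), (12, 69), (11, 70), (12, 70), (13, 70), (26, 60), (30,
  60), (33, 60), (35, 60), (36, 59), (26, 68), (26, 69), (27, 69), (26, 70), (27, 70), (28, 70),
  (30, 70), (31, 70), (32, 70), (39, 69), (0, 0)]]

set_option maxRecDepth 1000000 in
theorem checkDec_E6_0 : rowsDec chevE6 decE6 0 24 = true := by decide +kernel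

set_option maxRecDepth 1000000 in
theorem checkDec_E6_24 : rowsDec chevE6 decE6 24 24 = true := by decide +kernel

set_option maxRecDepth 1000000 in
theorem checkDec_E6_48 : rowsDec chevE6 decE6 48 24 = true := by decide +kernel

theorem nrootsD_E6 : chevE6.nroots = 72 := by decide

end Helper20

/-- every commuting pair of `chevE6` has a decomposition -/
theorem dec1_E6 {r s : ℕ} (hr : r < chevE6.nroots) (hs : s < chevE6.nroots) (h1 : s ≠ r)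
    (h2 : s ≠ chevE6.neg r) (h : chevE6.commTerms r s = []) : Dec1 chevE6 r s := by
  rw [Helper20.nrootsD_E6] at hr
  by_cases h_0 : r < 24
  · exact Helper20.rowsDec_spec Helper20.checkDec_E6_0 (by omega) (by omega) hs h1 h2 h
  by_cases h_24 : r < 48
  · exact Helper20.rowsDec_spec Helper20.checkDec_E6_24 (by omega) (by omega) hs h1 h2 h
  exact Helper20.rowsDec_spec Helper20.checkDec_E6_48 (by omega) (by omega) hs h1 h2 h

end Cfsg.Agent.Lib.Helper10.E8CC
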