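import Mathlib
import Cfsg.Agent.Lib.Helper20.FFBridge
import Cfsg.Agent.H5.Card
import Cfsg.Agent.H5.Basic

/-!
# Consequences of the bridge at the level of `G`

For a `p`-solvable group `G`, a normal elementary abelian `p`-subgroup `V` with
`O_p(G / C_G(V)) = 1` and an elementary abelian subgroup `A` of largest order not centralizing
`V`, we get `|A| |C_V(A)| = |V| |C_A(V)|`, hence `C_A(V) V` is again of largest order.
-/

set_option autoImplicit false

namespace Cfsg.Agent.Lib.Helper20.FFB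

open Subgroup
open scoped commutatorElement Pointwise

section GLevel

variable {G : Type*} [Group G] [Finite G] {p : ℕ} [Fact p.Prime] (V : Subgroup G) [hVn : V.Normal]

theorem card_vimg : Nat.card ↥(Vimg V) = Nat.card ↥V :=
  (Nat.card_congr (MonoidHom.ofInjective (iota_injective V)).toEquiv).symm

/-- `|A| |C_V(A)| = |V| |C_A(V)|` for `A` of largest order not centralizing `V` -/
theorem card_eq_of_not_le (hsep : Cfsg.IsPSolvable p G) (hV : Cfsg.IsElementaryAbelian p V)
    (hOp : Cfsg.pCore p (G ⧸ centralizer (V : Set G)) = ⊥) {A : Subgroup G}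
    (hA : A ∈ Cfsg.maxElementaryAbelianSubgroups p G) (hAC : ¬ A ≤ centralizer (V : Set G)) :
    Nat.card A * Nat.card ↥(V ⊓ centralizer (A : Set G)) =
      Nat.card V * Nat.card ↥(A ⊓ centralizer (V : Set G)) := by
  obtain ⟨hV'e, hHV', hf', hS1, -⟩ := bridge V hsep hV hOp
  have hA'H : A.map (psi V) ≤ (Cfsg.thompsonSubgroup p G).map (psi V) :=
    Subgroup.map_mono (le_sSup hA)
  have hA' : Cfsg.IsBestOffenderOn p (Vimg V) (A.map (psi V)) :=
    bestOffender_map V (Cfsg.Agent.S0606.result V hV A hA) hA.1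
  have hne : A.map (psi V) ≠ ⊥ := by
    rw [Ne, Subgroup.map_eq_bot_iff, ker_psi]
    exact hAC
  have hS := BO.setup_of (H := (Cfsg.thompsonSubgroup p G).map (psi V)) hV'e hHV' hf'
  have hO := BO.off_of hHV' hf' hS1 hA'H hA'
  have hmm := BO.mm_eq_card hS _ (A.map (psi V)) rfl hO hne
  unfold Cfsg.H5.mm Cfsg.H5.fix at hmm
  rw [card_fix_map, card_vimg] at hmm
  have h2 := Cfsg.Agent.Lib.Helper1.card_map_mul_card_inf_ker (psi V) A
  rw [ker_psi] at h2
  rw [← hmm, ← h2]
  ring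

/-- `C_V(A) = A ∩ V` for `A` of largest order -/
theorem inf_inf_eq_fix (hV : Cfsg.IsElementaryAbelian p V) {A : Subgroup G}
    (hA : A ∈ Cfsg.maxElementaryAbelianSubgroups p G) :
    (A ⊓ centralizer (V : Set G)) ⊓ V = V ⊓ centralizer (A : Set G) := by
  have hAc := hA.1.1
  have hVc := hV.1
  apply le_antisymm
  · intro x hx
    rw [mem_inf, mem_inf] at hx
    refine mem_inf.mpr ⟨hx.2, ?_⟩
    rw [mem_centralizer_iff]
    intro a ha
    exact congrArg Subtype.val (hAc.is_comm.comm ⟨a, ha⟩ ⟨x, hx.1.1⟩)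
  · intro x hx
    rw [mem_inf] at hx
    have hxA : x ∈ A := by
      have hZ : Cfsg.IsElementaryAbelian p (zpowers x) :=
        Cfsg.H5.isElementaryAbelian_zpowers (hV.2 x hx.1)
      have hcent : A ≤ centralizer ((zpowers x : Subgroup G) : Set G) := by
        rw [Subgroup.le_centralizer_iff, Subgroup.zpowers_le]
        exact hx.2
      have hB := Cfsg.H5.isElementaryAbelian_sup hA.1 hZ hcent
      have h1 := Cfsg.H5.eq_of_mem_maxElementaryAbelianSubgroups_of_le hA hB le_sup_left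
      rw [← h1]
      exact (le_sup_right : zpowers x ≤ A ⊔ zpowers x) (mem_zpowers x)
    refine mem_inf.mpr ⟨mem_inf.mpr ⟨hxA, ?_⟩, hx.1⟩
    rw [mem_centralizer_iff]
    intro v hv
    exact congrArg Subtype.val (hVc.is_comm.comm ⟨v, hv⟩ ⟨x, hx.1⟩)

/-- `C_A(V) V` is again elementary abelian of largest order -/
theorem star_mem_max (hsep : Cfsg.IsPSolvable p G) (hV : Cfsg.IsElementaryAbelian p V)
    (hOp : Cfsg.pCore p (G ⧸ centralizer (V : Set G)) = ⊥) {A : Subgroup G}
    (hA : A ∈ Cfsg.maxElementaryAbelianSubgroups p G) (hAC : ¬ A ≤ centralizer (V : Set G)) :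
    (A ⊓ centralizer (V : Set G)) ⊔ V ∈ Cfsg.maxElementaryAbelianSubgroups p G := by
  have hea : Cfsg.IsElementaryAbelian p ((A ⊓ centralizer (V : Set G)) ⊔ V) :=
    Cfsg.H5.isElementaryAbelian_sup (Cfsg.H5.isElementaryAbelian_mono hA.1 inf_le_left) hV
      inf_le_right
  have hnorm : A ⊓ centralizer (V : Set G) ≤ normalizer (V : Set G) := by
    rw [Subgroup.normalizer_eq_top]
    exact le_top
  have h1 := Cfsg.H5.card_sup_mul_card_inf hnorm
  rw [inf_inf_eq_fix V hV hA] at h1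
  have h2 := card_eq_of_not_le V hsep hV hOp hA hAC
  have hpos : 0 < Nat.card ↥(V ⊓ centralizer (A : Set G)) := Nat.card_pos
  have hcard : Nat.card ↥((A ⊓ centralizer (V : Set G)) ⊔ V) = Nat.card A := by
    apply Nat.eq_of_mul_eq_mul_right hpos
    rw [h1, h2]
    ring
  exact ⟨hea, fun B hB => (hA.2 B hB).trans (le_of_eq hcard.symm)⟩

/-- commutators of `C_A(V) V` with the abelian group `A` lie in `V` -/
theorem commutator_mem_of_mem_star {A : Subgroup G} (hAc : IsMulCommutative A) {w a : G}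
    (hw : w ∈ (A ⊓ centralizer (V : Set G)) ⊔ V) (ha : a ∈ A) : ⁅w, a⁆ ∈ V := by
  have hw' : w ∈ ((A ⊓ centralizer (V : Set G) : Subgroup G) : Set G) * (V : Set G) := by
    rw [← Subgroup.mul_normal]
    exact hw
  obtain ⟨c, hc, v, hv, rfl⟩ := Set.mem_mul.mp hw'
  have hcA : c ∈ A := (mem_inf.mp hc).1
  have hca : c * a = a * c := congrArg Subtype.val (hAc.is_comm.comm ⟨c, hcA⟩ ⟨a, ha⟩)
  have h1 : ⁅c * v, a⁆ = c * (v * (a * v⁻¹ * a⁻¹)) * c⁻¹ := by
    rw [commutatorElement_def]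
    have hca' : c⁻¹ * a⁻¹ = a⁻¹ * c⁻¹ := by
      rw [← mul_inv_rev, ← mul_inv_rev, hca]
    calc c * v * a * (c * v)⁻¹ * a⁻¹ = c * v * a * v⁻¹ * (c⁻¹ * a⁻¹) := by group
      _ = c * v * a * v⁻¹ * (a⁻¹ * c⁻¹) := by rw [hca']
      _ = c * (v * (a * v⁻¹ * a⁻¹)) * c⁻¹ := by group
  rw [h1]
  apply hVn.conj_mem
  exact V.mul_mem hv (hVn.conj_mem _ (V.inv_mem hv) a)

end GLevel

end Cfsg.Agent.Lib.Helper20.FFB
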