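import Mathlib
import Cfsg.Agent.Lib.Helper20.FFBridge
import Cfsg.Agent.Lib.Helper20.FFFixed
import Cfsg.Agent.H5.Omega

/-!
# An operator group acting on the bridge

Let `X` normalize the subgroup `K` of `G`, and let `V₀` be an `X`-invariant normal subgroup of
`K` (as a group).  Then `X` maps to the holomorph of `V₀`, compatibly with the conjugation map
of `K` into it.
-/

set_option autoImplicit false

namespace Cfsg.Agent.Lib.Helper20.FFO

open Subgroup
open scoped Pointwise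
open Cfsg.Agent.Lib.Helper20.FFB
open Cfsg.Agent.Lib.Helper20.FFX (conjEquiv conjEquiv_coe)

section Char

variable {G : Type*} [Group G]

theorem iSup_omegaZ_sylow_char (p : ℕ) [Fact p.Prime] [Finite G] :
    (⨆ S : Sylow p G, Cfsg.H5.omegaZ p (S : Subgroup G)).Characteristic := by
  rw [Subgroup.characteristic_iff_map_le]
  intro φ
  rw [Subgroup.map_iSup]
  apply iSup_le
  intro S
  rw [Cfsg.H5.omegaZ_map_equiv]
  have h : (S : Subgroup G).map φ.toMonoidHom = (((φ : MulAut G) • S : Sylow p G) : Subgroup G) := by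
    rw [Sylow.pointwise_smul_def, Subgroup.pointwise_smul_def]
    rfl
  rw [h]
  exact le_iSup (fun S : Sylow p G => Cfsg.H5.omegaZ p (S : Subgroup G)) _

end Char

section Oper

variable {G : Type*} [Group G] (K X : Subgroup G) (hXK : X ≤ normalizer (K : Set G))
  (V₀ : Subgroup ↥K) [hVn : V₀.Normal]
  (hXV : ∀ x ∈ X, ∀ v : ↥K, v ∈ V₀ → ∀ h : x * (v : G) * x⁻¹ ∈ K, (⟨x * v * x⁻¹, h⟩ : ↥K) ∈ V₀)

/-- conjugation by `x ∈ X` on `V₀` -/
def xiFun (x : G) (hx : x ∈ X) : ↥V₀ → ↥V₀ := fun v =>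
  ⟨⟨x * ((v : ↥K) : G) * x⁻¹, (mem_normalizer_iff.mp (hXK hx) _).mp (v : ↥K).2⟩,
    hXV x hx v v.2 _⟩

theorem xiFun_coe (x : G) (hx : x ∈ X) (v : ↥V₀) :
    (((xiFun K X hXK V₀ hXV x hx v : ↥V₀) : ↥K) : G) = x * ((v : ↥K) : G) * x⁻¹ := rfl

/-- the action of `X` on `V₀` as a homomorphism to the automorphism group -/
def xi : ↥X →* MulAut ↥V₀ where
  toFun x :=
    { toFun := xiFun K X hXK V₀ hXV x x.2
      invFun := xiFun K X hXK V₀ hXV (x : G)⁻¹ (inv_mem x.2)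
      left_inv := fun v => by
        apply Subtype.ext
        apply Subtype.ext
        rw [xiFun_coe, xiFun_coe]
        group
      right_inv := fun v => by
        apply Subtype.ext
        apply Subtype.ext
        rw [xiFun_coe, xiFun_coe]
        group
      map_mul' := fun a b => by
        apply Subtype.ext
        apply Subtype.ext
        rw [xiFun_coe]
        show (x : G) * (((a * b : ↥V₀) : ↥K) : G) * (x : G)⁻¹ = _
        rw [Subgroup.coe_mul, Subgroup.coe_mul, Subgroup.coe_mul, Subgroup.coe_mul, xiFun_coe,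
          xiFun_coe]
        group }
  map_one' := by
    apply MulEquiv.ext
    intro v
    apply Subtype.ext
    apply Subtype.ext
    show ((1 : ↥X) : G) * ((v : ↥K) : G) * ((1 : ↥X) : G)⁻¹ = _
    rw [Subgroup.coe_one]
    simp
  map_mul' := fun a b => by
    apply MulEquiv.ext
    intro v
    apply Subtype.ext
    apply Subtype.ext
    show ((a * b : ↥X) : G) * ((v : ↥K) : G) * ((a * b : ↥X) : G)⁻¹ =
      (a : G) * ((b : G) * ((v : ↥K) : G) * (b : G)⁻¹) * (a : G)⁻¹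
    rw [Subgroup.coe_mul]
    group

theorem xi_coe (x : ↥X) (v : ↥V₀) :
    (((xi K X hXK V₀ hXV x v : ↥V₀) : ↥K) : G) = (x : G) * ((v : ↥K) : G) * (x : G)⁻¹ := rfl

theorem xi_inv_coe (x : ↥X) (v : ↥V₀) :
    ((((xi K X hXK V₀ hXV x)⁻¹ v : ↥V₀) : ↥K) : G) = (x : G)⁻¹ * ((v : ↥K) : G) * (x : G) := by
  show (x : G)⁻¹ * ((v : ↥K) : G) * ((x : G)⁻¹)⁻¹ = _
  rw [inv_inv]

/-- the image of `x ∈ X` in the holomorph -/
def xhat : ↥X →* Hol V₀ := (SemidirectProduct.inr).comp (xi K X hXK V₀ hXV)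

/-- the image of `X` in the holomorph -/
def Xhat : Subgroup (Hol V₀) := (xhat K X hXK V₀ hXV).range

theorem xhat_iota (x : ↥X) (v : ↥V₀) :
    xhat K X hXK V₀ hXV x * iota V₀ v * (xhat K X hXK V₀ hXV x)⁻¹ =
      iota V₀ (xi K X hXK V₀ hXV x v) := by
  have h := SemidirectProduct.inl_aut (φ := MonoidHom.id (MulAut ↥V₀)) (xi K X hXK V₀ hXV x) v
  unfold xhat iota
  rw [MonoidHom.comp_apply, ← map_inv]
  exact h.symm

theorem xhat_psi (x : ↥X) (k : ↥K) :
    xhat K X hXK V₀ hXV x * psi V₀ k * (xhat K X hXK V₀ hXV x)⁻¹ =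
      psi V₀ (conjEquiv K x (hXK x.2) k) := by
  unfold xhat psi
  rw [MonoidHom.comp_apply, MonoidHom.comp_apply, MonoidHom.comp_apply, ← map_inv, ← map_mul,
    ← map_mul]
  congr 1
  apply MulEquiv.ext
  intro v
  apply Subtype.ext
  apply Subtype.ext
  rw [MulAut.mul_apply, MulAut.mul_apply, xi_coe, MulAut.conjNormal_apply, MulAut.conjNormal_apply,
    Subgroup.coe_mul, Subgroup.coe_mul, Subgroup.coe_mul, Subgroup.coe_mul, Subgroup.coe_inv,
    Subgroup.coe_inv, conjEquiv_coe, xi_inv_coe]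
  group

theorem xhat_le_normalizer_map {J : Subgroup ↥K} (hJ : J.Characteristic) :
    Xhat K X hXK V₀ hXV ≤ normalizer ((J.map (psi V₀) : Subgroup (Hol V₀)) : Set (Hol V₀)) := by
  apply Cfsg.Agent.Lib.Helper1.le_normalizer_of_forall_conj_mem
  rintro _ ⟨x, rfl⟩ _ ⟨k, hk, rfl⟩
  rw [xhat_psi]
  refine ⟨conjEquiv K x (hXK x.2) k, ?_, rfl⟩
  have h := (Subgroup.characteristic_iff_map_eq.mp hJ) (conjEquiv K x (hXK x.2))
  rw [← h]
  exact ⟨k, hk, rfl⟩

theorem xhat_le_normalizer_vimg :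
    Xhat K X hXK V₀ hXV ≤ normalizer ((Vimg V₀ : Subgroup (Hol V₀)) : Set (Hol V₀)) := by
  haveI := vimg_normal V₀
  rw [Subgroup.normalizer_eq_top]
  exact le_top

theorem xhat_isPGroup {q : ℕ} (hX : IsPGroup q X) : IsPGroup q (Xhat K X hXK V₀ hXV) := by
  unfold Xhat
  exact IsPGroup.of_surjective hX (xhat K X hXK V₀ hXV).rangeRestrict
    (xhat K X hXK V₀ hXV).rangeRestrict_surjective

/-- elements of the image of `V₀` fixed by `Xhat` come from elements centralized by `X` -/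
theorem coe_mem_centralizer_of_iota_mem {v : ↥V₀}
    (hv : iota V₀ v ∈ centralizer ((Xhat K X hXK V₀ hXV : Subgroup (Hol V₀)) : Set (Hol V₀))) :
    ((v : ↥K) : G) ∈ centralizer (X : Set G) := by
  rw [mem_centralizer_iff]
  intro x hx
  have h1 : xhat K X hXK V₀ hXV ⟨x, hx⟩ * iota V₀ v = iota V₀ v * xhat K X hXK V₀ hXV ⟨x, hx⟩ :=
    mem_centralizer_iff.mp hv _ ⟨⟨x, hx⟩, rfl⟩
  have h2 := xhat_iota K X hXK V₀ hXV ⟨x, hx⟩ v
  rw [h1, mul_inv_cancel_right] at h2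
  have h3 := congrArg (fun u : ↥V₀ => ((u : ↥K) : G)) (iota_injective V₀ h2)
  simp only [xi_coe] at h3
  calc x * ((v : ↥K) : G) = (x * ((v : ↥K) : G) * x⁻¹) * x := by group
    _ = ((v : ↥K) : G) * x := by rw [← h3]

/-- coprime action: fixed points of `Xhat` in the image of `K` lift to fixed points of `X` -/
theorem exists_fixed_preimage [Finite G] (hcop : Cfsg.Agent.Lib.Helper1.CoprimeAct X K) {y : Hol V₀}
    (hy : y ∈ (psi V₀).range ⊓
      centralizer ((Xhat K X hXK V₀ hXV : Subgroup (Hol V₀)) : Set (Hol V₀))) :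
    ∃ k : ↥K, (k : G) ∈ centralizer (X : Set G) ∧ psi V₀ k = y := by
  obtain ⟨⟨j, rfl⟩, hyc⟩ := mem_inf.mp hy
  have hfix : ∀ x : ↥X, psi V₀ (conjEquiv K x (hXK x.2) j) = psi V₀ j := by
    intro x
    rw [← xhat_psi K X hXK V₀ hXV]
    have h1 : xhat K X hXK V₀ hXV x * psi V₀ j = psi V₀ j * xhat K X hXK V₀ hXV x :=
      mem_centralizer_iff.mp hyc _ ⟨x, rfl⟩
    rw [h1, mul_inv_cancel_right]
  have hNK : (psi V₀).ker.map K.subtype ≤ K := Subgroup.map_subtype_le _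
  have hNX : X ≤ normalizer (((psi V₀).ker.map K.subtype : Subgroup G) : Set G) := by
    apply Cfsg.Agent.Lib.Helper1.le_normalizer_of_forall_conj_mem
    rintro x hx _ ⟨c, hc, rfl⟩
    refine ⟨conjEquiv K x (hXK hx) c, ?_, rfl⟩
    rw [SetLike.mem_coe, MonoidHom.mem_ker, ← xhat_psi K X hXK V₀ hXV ⟨x, hx⟩,
      MonoidHom.mem_ker.mp hc]
    group
  have hx : ∀ a ∈ X, (j : G)⁻¹ * (a * (j : G) * a⁻¹) ∈ (psi V₀).ker.map K.subtype := by
    intro a ha
    refine ⟨j⁻¹ * conjEquiv K a (hXK ha) j, ?_, rfl⟩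
    rw [SetLike.mem_coe, MonoidHom.mem_ker, map_mul, map_inv, hfix ⟨a, ha⟩, inv_mul_cancel]
  obtain ⟨u, hu, hju⟩ := hcop.exists_mul_mem_centralizer hNK hNX (j : G) j.2 hx
  obtain ⟨c, hc, rfl⟩ := hu
  refine ⟨j * c, (mem_inf.mp hju).2, ?_⟩
  rw [map_mul, MonoidHom.mem_ker.mp hc, mul_one]

end Oper

end Cfsg.Agent.Lib.Helper20.FFO
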