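import Mathlib

/-!
# Helper20 library: the trace argument for Frobenius actions

* `exists_trace_ne_one`: if `R ⋊ ⟨y⟩` acts on an abelian group `W`, with every nontrivial power
  `y ^ i` (`0 < i < m`) commuting with no nonidentity element of `R`, and some `w` has trivial
  `R`-trace but `w ^ |R| ≠ 1`, then some `w'` has nontrivial `⟨y⟩`-trace `∏_{i<m} y^i • w'`.
* `exists_orderOf_eq_mul`: in a group `X` with a normal elementary abelian `p`-subgroup `V`,
  a `p'`-subgroup `R` acting nontrivially on `V` and `y` of order `m` normalizing `R`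
  fixed-point-freely (as above) and with `⟨y⟩ ∩ V = 1`, there is an element of order `p * m`.
* `exists_prime_orderOf_of_ne`: powering lemma.
-/

set_option autoImplicit false

namespace Cfsg.Agent.Lib.Helper20.FrobTrace

/-- Abstract trace lemma. -/
theorem exists_trace_ne_one {W L : Type*} [CommGroup W] [Group L] (ρ : L →* MulAut W)
    (R : Subgroup L) [Fintype R] (y : L) (hy : y ∈ Subgroup.normalizer (R : Set L))
    (m : ℕ) (hm : 0 < m)
    (hfrob : ∀ i, 0 < i → i < m → ∀ f ∈ R, y ^ i * f * (y ^ i)⁻¹ = f → f = 1)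
    (w : W) (hw1 : ∏ f : R, ρ (f : L) w = 1) (hw2 : w ^ Fintype.card R ≠ 1) :
    ∃ w' : W, ∏ i ∈ Finset.range m, ρ (y ^ i) w' ≠ 1 := by
  classical
  by_contra hcon
  push Not at hcon
  -- for each `f`, `∏_i ρ (f y^i f⁻¹) w = 1`
  have h1 : ∀ f : R, ∏ i ∈ Finset.range m, ρ ((f : L) * y ^ i * (f : L)⁻¹) w = 1 := by
    intro f
    have h0 := hcon (ρ ((f : L)⁻¹) w)
    have h2 := congrArg (ρ (f : L)) h0
    rw [map_prod, map_one] at h2
    rw [← h2]
    apply Finset.prod_congr rfl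
    intro i _
    simp only [map_mul, MulAut.mul_apply]
  -- for `0 < i < m`, `∏_f ρ (f y^i f⁻¹) w = 1`
  have h2 : ∀ i, 0 < i → i < m → ∏ f : R, ρ ((f : L) * y ^ i * (f : L)⁻¹) w = 1 := by
    intro i hi0 him
    have hyi : (y ^ i)⁻¹ ∈ Subgroup.normalizer (R : Set L) := inv_mem (pow_mem hy i)
    have hmem : ∀ f : R, (y ^ i)⁻¹ * f * y ^ i * (f : L)⁻¹ ∈ R := by
      intro f
      have := (Subgroup.mem_normalizer_iff.mp hyi (f : L)).mp f.2
      rw [inv_inv] at this
      exact mul_mem this (inv_mem f.2)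
    let β : R → R := fun f => ⟨(y ^ i)⁻¹ * f * y ^ i * (f : L)⁻¹, hmem f⟩
    have hβinj : Function.Injective β := by
      intro f g hfg
      have h3 : (y ^ i)⁻¹ * f * y ^ i * (f : L)⁻¹ = (y ^ i)⁻¹ * g * y ^ i * (g : L)⁻¹ :=
        congrArg Subtype.val hfg
      have h4 : y ^ i * ((f : L)⁻¹ * g) * (y ^ i)⁻¹ = (f : L)⁻¹ * g := by
        have h5 : (f : L) * y ^ i * (f : L)⁻¹ = g * y ^ i * (g : L)⁻¹ := by
          have := congrArg (fun t => y ^ i * t) h3
          simpa [mul_assoc] using this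
        have h6 : y ^ i * ((f : L)⁻¹ * g) = (f : L)⁻¹ * g * y ^ i := by
          have := congrArg (fun t => (f : L)⁻¹ * t * g) h5
          simpa [mul_assoc] using this
        rw [h6]; group
      have h7 := hfrob i hi0 him _ (mul_mem (inv_mem f.2) g.2) h4
      apply Subtype.ext
      exact inv_mul_eq_one.mp h7
    have hβ : Function.Bijective β := Finite.injective_iff_bijective.mp hβinj
    have h8 : ∀ f : R, ρ ((f : L) * y ^ i * (f : L)⁻¹) w = ρ (y ^ i) (ρ ((β f : R) : L) w) := by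
      intro f
      rw [← MulAut.mul_apply, ← map_mul]
      congr 2
      show _ = y ^ i * ((y ^ i)⁻¹ * f * y ^ i * (f : L)⁻¹)
      group
    rw [Finset.prod_congr rfl (fun f _ => h8 f), ← map_prod,
      hβ.prod_comp (fun f : R => ρ (f : L) w), hw1, map_one]
  obtain ⟨m', rfl⟩ : ∃ m', m = m' + 1 := ⟨m - 1, by omega⟩
  have h3 : ∏ f : R, ∏ i ∈ Finset.range (m' + 1), ρ ((f : L) * y ^ i * (f : L)⁻¹) w = 1 :=
    Finset.prod_eq_one (fun f _ => h1 f)
  rw [Finset.prod_comm, Finset.prod_range_succ'] at h3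
  have h4 : ∏ i ∈ Finset.range m', ∏ f : R, ρ ((f : L) * y ^ (i + 1) * (f : L)⁻¹) w = 1 := by
    apply Finset.prod_eq_one
    intro i hi
    exact h2 (i + 1) (by omega) (by have := Finset.mem_range.mp hi; omega)
  rw [h4, one_mul] at h3
  apply hw2
  rw [← h3]
  simp

open scoped IsMulCommutative in
/-- Concrete trace lemma: an element of order `p * m`. -/
theorem exists_orderOf_eq_mul {X : Type*} [Group X] (V R : Subgroup X) [V.Normal] [Finite R]
    (hVc : ∀ a ∈ V, ∀ b ∈ V, a * b = b * a) (p : ℕ) (hp : p.Prime)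
    (hVp : ∀ a ∈ V, a ^ p = 1) (hpR : ¬ p ∣ Nat.card R)
    (y : X) (hyR : y ∈ Subgroup.normalizer (R : Set X)) (m : ℕ) (hm : 0 < m)
    (hym : orderOf y = m)
    (hfrob : ∀ i, 0 < i → i < m → ∀ f ∈ R, y ^ i * f * (y ^ i)⁻¹ = f → f = 1)
    (hnt : ∃ v ∈ V, ∃ s ∈ R, s * v * s⁻¹ ≠ v)
    (hyV : ∀ k : ℕ, y ^ k ∈ V → y ^ k = 1) :
    ∃ g : X, orderOf g = p * m := by
  classical
  haveI : IsMulCommutative ↥V := ⟨⟨fun a b => Subtype.ext (hVc a a.2 b b.2)⟩⟩
  haveI : Fintype R := Fintype.ofFinite R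
  obtain ⟨v, hv, s, hs, hsv⟩ := hnt
  let ρ : X →* MulAut ↥V := MulAut.conjNormal
  have hρ : ∀ (x : X) (u : ↥V), ((ρ x u : ↥V) : X) = x * u * x⁻¹ := fun x u => rfl
  set v' : ↥V := ⟨v, hv⟩ with hv'
  set w : ↥V := v' * (ρ s v')⁻¹ with hw
  -- trivial `R`-trace
  have hw1 : ∏ f : R, ρ (f : X) w = 1 := by
    have h1 : ∀ f : R, ρ (f : X) w = ρ (f : X) v' * (ρ ((f * ⟨s, hs⟩ : R) : X) v')⁻¹ := by
      intro f
      rw [hw, map_mul, map_inv, Subgroup.coe_mul, map_mul ρ, MulAut.mul_apply]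
    rw [Finset.prod_congr rfl (fun f _ => h1 f), Finset.prod_mul_distrib, Finset.prod_inv_distrib]
    have h2 : ∏ f : R, ρ ((f * ⟨s, hs⟩ : R) : X) v' = ∏ f : R, ρ (f : X) v' :=
      (Group.mulRight_bijective (⟨s, hs⟩ : R)).prod_comp (fun f : R => ρ (f : X) v')
    rw [h2, mul_inv_cancel]
  -- `w ^ |R| ≠ 1`
  have hw1' : w ≠ 1 := by
    intro h1
    apply hsv
    have h2 : v' = ρ s v' := by
      have := mul_inv_eq_one.mp h1
      exact this
    have h3 := congrArg Subtype.val h2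
    rw [hρ] at h3
    exact h3.symm
  have hwp : w ^ p = 1 := Subtype.ext (by rw [Subgroup.coe_pow]; exact hVp _ w.2)
  have hw2 : w ^ Fintype.card R ≠ 1 := by
    intro h1
    have h2 : orderOf w ∣ Fintype.card R := orderOf_dvd_of_pow_eq_one h1
    have h3 : orderOf w = p := by
      have h4 : orderOf w ∣ p := orderOf_dvd_of_pow_eq_one hwp
      rcases (Nat.dvd_prime hp).mp h4 with h5 | h5
      · exact absurd (orderOf_eq_one_iff.mp h5) hw1'
      · exact h5
    rw [h3, ← Nat.card_eq_fintype_card] at h2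
    exact hpR h2
  obtain ⟨w', hw'⟩ := exists_trace_ne_one ρ R y hyR m hm hfrob w hw1 hw2
  -- the element `w' * y`
  have hpow : ∀ k : ℕ, ((w' : X) * y) ^ k
      = ((∏ i ∈ Finset.range k, ρ (y ^ i) w' : ↥V) : X) * y ^ k := by
    intro k
    induction k with
    | zero => simp
    | succ k ih =>
      rw [pow_succ, ih, Finset.prod_range_succ, Subgroup.coe_mul, hρ, pow_succ]
      group
  set P : ↥V := ∏ i ∈ Finset.range m, ρ (y ^ i) w' with hP
  have hym1 : y ^ m = 1 := by rw [← hym]; exact pow_orderOf_eq_one y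
  have hgm : ((w' : X) * y) ^ m = (P : X) := by rw [hpow m, hym1, mul_one]
  have hgm1 : ((w' : X) * y) ^ m ≠ 1 := by
    rw [hgm]
    intro h1
    exact hw' (Subtype.ext h1)
  have hgpm : ((w' : X) * y) ^ (p * m) = 1 := by
    rw [mul_comm, pow_mul, hgm]
    exact hVp _ P.2
  refine ⟨(w' : X) * y, ?_⟩
  set d := orderOf ((w' : X) * y) with hd
  have hd1 : d ∣ p * m := orderOf_dvd_of_pow_eq_one hgpm
  have hd2 : m ∣ d := by
    have h1 : ((w' : X) * y) ^ d = 1 := pow_orderOf_eq_one _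
    rw [hpow d] at h1
    have h2 : y ^ d ∈ V := by
      have h3 : y ^ d = ((∏ i ∈ Finset.range d, ρ (y ^ i) w' : ↥V) : X)⁻¹ :=
        (inv_eq_of_mul_eq_one_right h1).symm
      rw [h3]
      exact inv_mem (Subtype.mem _)
    have h4 := hyV d h2
    rw [← hym]
    exact orderOf_dvd_of_pow_eq_one h4
  obtain ⟨e, he⟩ := hd2
  have he1 : e ∣ p := by
    have : m * e ∣ m * p := by rw [← he, mul_comm m p]; exact hd1
    exact (Nat.mul_dvd_mul_iff_left hm).mp this
  rcases (Nat.dvd_prime hp).mp he1 with h5 | h5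
  · exfalso
    apply hgm1
    have : d = m := by rw [he, h5, mul_one]
    rw [← this]
    exact pow_orderOf_eq_one _
  · rw [he, h5, mul_comm]

/-- Powering lemma: if `m ∣ orderOf y`, `orderOf y ≠ m` and `orderOf y / m` divides `M`, then
some element has order `p * m` with `p` a prime divisor of `M`. -/
theorem exists_prime_orderOf_of_ne {G : Type*} [Group G] (y : G) (m M : ℕ) (hm : 0 < m)
    (hy0 : orderOf y ≠ 0) (hmy : m ∣ orderOf y) (hne : orderOf y ≠ m)
    (hM : orderOf y / m ∣ M) :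
    ∃ p : ℕ, p.Prime ∧ p ∣ M ∧ ∃ g : G, orderOf g = p * m := by
  obtain ⟨k, hk⟩ := hmy
  have hk1 : k ≠ 1 := by
    intro h1
    apply hne
    rw [hk, h1, mul_one]
  have hkM : k ∣ M := by
    rw [hk, Nat.mul_div_cancel_left _ hm] at hM
    exact hM
  obtain ⟨p, hp, hpk⟩ := Nat.exists_prime_and_dvd hk1
  obtain ⟨t, ht⟩ := hpk
  have ht0 : t ≠ 0 := by
    rintro rfl
    rw [mul_zero] at ht
    rw [hk, ht, mul_zero] at hy0
    exact hy0 rfl
  refine ⟨p, hp, dvd_trans ⟨t, ht⟩ hkM, y ^ t, ?_⟩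
  have hdvd : t ∣ orderOf y := by
    rw [hk, ht]
    exact Dvd.intro_left (m * p) (by ring)
  rw [orderOf_pow_of_dvd ht0 hdvd, hk, ht]
  have : m * (p * t) = p * m * t := by ring
  rw [this, Nat.mul_div_cancel _ (Nat.pos_of_ne_zero ht0)]

end Cfsg.Agent.Lib.Helper20.FrobTrace
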