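import Mathlib
import Cfsg.Agent.Lib.Helper16.SL23
import Cfsg.Agent.Lib.Helper16.Q8Aut

/-!
# Recognition of `GL(2,3)` (helper20)

A group of order `48` with a normal quaternion subgroup `Q` of order eight, an element `c` of
order three not centralizing `Q` and an involution `t` outside `Q` inverting `c` is isomorphic to
`GL(2,3)`: both groups are `Q₈ ⋊ S₃` for actions that are conjugate in `Aut(Q₈) ≅ S₄`.
-/

set_option autoImplicit false

namespace Cfsg.Agent.Lib.Helper20.GL23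

open Cfsg.Agent.Lib.Helper16 QuaternionGroup

/-! ### The involution of a quaternion subgroup -/

section Invol

variable {X : Type*} [Group X] (Q : Subgroup X) (e : Q ≃* QuaternionGroup 2)

/-- the central involution of a quaternion subgroup -/
noncomputable def zz : X := ((e.symm (a 2) : Q) : X)

theorem zz_mem : zz Q e ∈ Q := (e.symm (a 2)).2

theorem zz_mul_self : zz Q e * zz Q e = 1 := by
  have h : (a 2 : QuaternionGroup 2) * a 2 = 1 := by decide
  have h2 : (e.symm (a 2) : Q) * e.symm (a 2) = 1 := by rw [← map_mul, h, map_one]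
  exact congrArg Subtype.val h2

theorem zz_ne_one : zz Q e ≠ 1 := by
  intro h
  have h1 : (e.symm (a 2) : Q) = 1 := Subtype.ext h
  have h2 : (a 2 : QuaternionGroup 2) = 1 := by
    have := congrArg e h1
    simpa using this
  revert h2
  decide

theorem invol_cases {w : X} (hw : w ∈ Q) (h2 : w * w = 1) : w = 1 ∨ w = zz Q e := by
  have h3 : e ⟨w, hw⟩ * e ⟨w, hw⟩ = 1 := by
    rw [← map_mul]
    have : (⟨w, hw⟩ : Q) * ⟨w, hw⟩ = 1 := Subtype.ext h2
    rw [this, map_one]
  by_cases h1 : e ⟨w, hw⟩ = 1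
  · left
    have : (⟨w, hw⟩ : Q) = 1 := e.injective (by rw [h1, map_one])
    exact congrArg Subtype.val this
  · right
    have h4 := q8_unique_involution _ h3 h1
    have : (⟨w, hw⟩ : Q) = e.symm (a 2) := by rw [← h4, MulEquiv.symm_apply_apply]
    exact congrArg Subtype.val this

theorem zz_comm [hn : Q.Normal] (x : X) : x * zz Q e = zz Q e * x := by
  have hmem : x * zz Q e * x⁻¹ ∈ Q := hn.conj_mem _ (zz_mem Q e) x
  have h2 : (x * zz Q e * x⁻¹) * (x * zz Q e * x⁻¹) = 1 := by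
    have : (x * zz Q e * x⁻¹) * (x * zz Q e * x⁻¹) = x * (zz Q e * zz Q e) * x⁻¹ := by group
    rw [this, zz_mul_self, mul_one, mul_inv_cancel]
  rcases invol_cases Q e hmem h2 with h | h
  · exfalso
    apply zz_ne_one Q e
    have : zz Q e = x⁻¹ * (x * zz Q e * x⁻¹) * x := by group
    rw [this, h]; group
  · calc x * zz Q e = (x * zz Q e * x⁻¹) * x := by group
      _ = zz Q e * x := by rw [h]

set_option maxRecDepth 1000000 in
theorem q8_center_cases : ∀ g : QuaternionGroup 2, (∀ h : QuaternionGroup 2, h * g = g * h) →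
    g = 1 ∨ g = a 2 := by decide

/-- the centralizer of a quaternion subgroup meets it in `{1, z}` -/
theorem centralizer_cases {w : X} (hw : w ∈ Q) (hc : w ∈ Subgroup.centralizer (Q : Set X)) :
    w = 1 ∨ w = zz Q e := by
  have h1 : ∀ h : QuaternionGroup 2, h * e ⟨w, hw⟩ = e ⟨w, hw⟩ * h := by
    intro h
    have h2 := (Subgroup.mem_centralizer_iff.1 hc) (e.symm h : Q) (e.symm h).2
    have h3 : (e.symm h : Q) * ⟨w, hw⟩ = ⟨w, hw⟩ * e.symm h := Subtype.ext h2
    have h4 := congrArg e h3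
    rw [map_mul, map_mul, MulEquiv.apply_symm_apply] at h4
    exact h4
  rcases q8_center_cases _ h1 with h | h
  · left
    have : (⟨w, hw⟩ : Q) = 1 := e.injective (by rw [h, map_one])
    exact congrArg Subtype.val this
  · right
    have : (⟨w, hw⟩ : Q) = e.symm (a 2) := by rw [← h, MulEquiv.symm_apply_apply]
    exact congrArg Subtype.val this

theorem card_eq_eight (e : Q ≃* QuaternionGroup 2) : Nat.card Q = 8 := by
  rw [Nat.card_congr e.toEquiv, Nat.card_eq_fintype_card, QuaternionGroup.card]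

theorem pow_eight_of_mem (e : Q ≃* QuaternionGroup 2) {w : X} (hw : w ∈ Q) : w ^ 8 = 1 := by
  have h := pow_card_eq_one' (G := Q) (x := ⟨w, hw⟩)
  rw [card_eq_eight Q e] at h
  have h' := congrArg Subtype.val h
  simpa using h'

end Invol

/-! ### Recognition data -/

/-- recognition data for `GL(2,3)` -/
structure GLData (X : Type*) [Group X] where
  Q : Subgroup X
  hn : Q.Normal
  e : Q ≃* QuaternionGroup 2
  c : X
  t : X
  hc3 : c ^ 3 = 1
  ht2 : t * t = 1
  hinv : t * c * t⁻¹ = c⁻¹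
  htQ : t ∉ Q
  hnc : ∃ q ∈ Q, c * q ≠ q * c
  hcard : Nat.card X = 48

attribute [instance] GLData.hn

namespace GLData

variable {X : Type*} [Group X] (D : GLData X)

theorem c_ne_one : D.c ≠ 1 := by
  intro h
  obtain ⟨q, _, hq⟩ := D.hnc
  apply hq
  rw [h, one_mul, mul_one]

theorem c_sq_ne_one : D.c * D.c ≠ 1 := by
  intro h
  apply D.c_ne_one
  have h3 := D.hc3
  calc D.c = D.c ^ 3 * (D.c * D.c)⁻¹ := by group
    _ = 1 := by rw [h3, h]; group

theorem t_inv : D.t⁻¹ = D.t := inv_eq_of_mul_eq_one_right D.ht2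

/-- powers of `c` indexed by `ZMod 3` -/
def pc (i : ZMod 3) : X := D.c ^ i.val

theorem pc_zero : D.pc 0 = 1 := by
  unfold pc
  rw [ZMod.val_zero, pow_zero]

theorem pc_add (i j : ZMod 3) : D.pc (i + j) = D.pc i * D.pc j := by
  unfold pc
  rw [ZMod.val_add, ← pow_add, ← pow_eq_pow_mod _ D.hc3]

theorem pc_neg (i : ZMod 3) : D.pc (-i) = (D.pc i)⁻¹ := by
  have h : D.pc i * D.pc (-i) = 1 := by rw [← pc_add, add_neg_cancel, pc_zero]
  exact eq_inv_of_mul_eq_one_right h

theorem pc_sub (i j : ZMod 3) : D.pc (j - i) = (D.pc i)⁻¹ * D.pc j := by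
  have : j - i = -i + j := by ring
  rw [this, pc_add, pc_neg]

theorem pc_comm (i : ZMod 3) : D.pc i * D.c = D.c * D.pc i := by
  unfold pc
  rw [← pow_succ, ← pow_succ']

theorem pc_pow_three (i : ZMod 3) : (D.pc i) ^ 3 = 1 := by
  unfold pc
  rw [← pow_mul, mul_comm, pow_mul, D.hc3, one_pow]

theorem conj_pc (i : ZMod 3) : D.t * D.pc i * D.t⁻¹ = (D.pc i)⁻¹ := by
  unfold pc
  rw [← conj_pow, D.hinv, inv_pow]

theorem pc_t (i : ZMod 3) : D.pc i * D.t = D.t * (D.pc i)⁻¹ := by
  have h := D.conj_pc i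
  have h2 : D.pc i = D.t * (D.pc i)⁻¹ * D.t⁻¹ := by
    have : (D.t * D.pc i * D.t⁻¹)⁻¹ = D.t * (D.pc i)⁻¹ * D.t⁻¹ := by group
    rw [← this, h, inv_inv]
  calc D.pc i * D.t = (D.t * (D.pc i)⁻¹ * D.t⁻¹) * D.t := by rw [← h2]
    _ = D.t * (D.pc i)⁻¹ := by group

theorem t_pc_t (i : ZMod 3) : D.t * D.pc i * D.t = (D.pc i)⁻¹ := by
  rw [mul_assoc, D.pc_t, ← mul_assoc, D.ht2, one_mul]

/-- the homomorphism from the dihedral group of order six -/
def psi : DihedralGroup 3 →* X :=
  MonoidHom.mk' (fun d => match d with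
    | DihedralGroup.r i => D.pc i
    | DihedralGroup.sr i => D.t * D.pc i) (by
    intro x y
    rcases x with i | i <;> rcases y with j | j
    · show D.pc (i + j) = D.pc i * D.pc j
      exact D.pc_add i j
    · show D.t * D.pc (j - i) = D.pc i * (D.t * D.pc j)
      rw [D.pc_sub, ← mul_assoc (D.pc i), D.pc_t, mul_assoc]
    · show D.t * D.pc (i + j) = D.t * D.pc i * D.pc j
      rw [D.pc_add, mul_assoc]
    · show D.pc (j - i) = D.t * D.pc i * (D.t * D.pc j)
      rw [D.pc_sub, ← mul_assoc, D.t_pc_t])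

theorem psi_r (i : ZMod 3) : D.psi (DihedralGroup.r i) = D.pc i := rfl

theorem psi_sr (i : ZMod 3) : D.psi (DihedralGroup.sr i) = D.t * D.pc i := rfl

theorem psi_mem {d : DihedralGroup 3} (h : D.psi d ∈ D.Q) : d = 1 := by
  rcases d with i | i
  · rw [psi_r] at h
    by_cases hi : i = 0
    · rw [hi, DihedralGroup.one_def]
    · exfalso
      have hv : i.val < 3 := ZMod.val_lt i
      have hv0 : i.val ≠ 0 := fun h0 => hi ((ZMod.val_eq_zero i).1 h0)
      have hcQ : D.c ∈ D.Q := by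
        have h12 : i.val = 1 ∨ i.val = 2 := by omega
        rcases h12 with h1 | h1
        · unfold pc at h
          rw [h1, pow_one] at h
          exact h
        · unfold pc at h
          rw [h1] at h
          have h4 : (D.c ^ 2) ^ 2 ∈ D.Q := Subgroup.pow_mem _ h 2
          have : (D.c ^ 2) ^ 2 = D.c ^ 3 * D.c := by group
          rw [this, D.hc3, one_mul] at h4
          exact h4
      have h8 := pow_eight_of_mem D.Q D.e hcQ
      apply D.c_ne_one
      calc D.c = (D.c ^ 3) ^ 3 * (D.c ^ 8)⁻¹ := by group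
        _ = 1 := by rw [D.hc3, h8]; group
  · exfalso
    rw [psi_sr] at h
    have h2 : (D.t * D.pc i) * (D.t * D.pc i) = 1 := by
      rw [← mul_assoc, D.t_pc_t, inv_mul_cancel]
    rcases invol_cases D.Q D.e h h2 with h1 | h1
    · -- `t` is a power of `c`
      have ht : D.t = (D.pc i)⁻¹ := eq_inv_of_mul_eq_one_left h1
      have ht3 : D.t ^ 3 = 1 := by rw [ht, inv_pow, D.pc_pow_three, inv_one]
      have : D.t = 1 := by
        calc D.t = D.t ^ 3 * (D.t * D.t)⁻¹ := by group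
          _ = 1 := by rw [ht3, D.ht2]; group
      exact D.htQ (this ▸ D.Q.one_mem)
    · have ht : D.t = zz D.Q D.e * (D.pc i)⁻¹ := by
        rw [← h1]; group
      have hz := zz_comm D.Q D.e
      have h3 : D.t * D.c * D.t⁻¹ = D.c := by
        rw [ht]
        have e1 : zz D.Q D.e * (D.pc i)⁻¹ * D.c * (zz D.Q D.e * (D.pc i)⁻¹)⁻¹
            = zz D.Q D.e * ((D.pc i)⁻¹ * (D.c * D.pc i)) * (zz D.Q D.e)⁻¹ := by group
        rw [e1, ← D.pc_comm, inv_mul_cancel_left, ← hz, mul_inv_cancel_right]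
      rw [D.hinv] at h3
      apply D.c_sq_ne_one
      calc D.c * D.c = D.c * D.c⁻¹ := by rw [h3]
        _ = 1 := mul_inv_cancel _

/-- the action of the dihedral group on `Q` -/
def phi : DihedralGroup 3 →* MulAut D.Q := (MulAut.conjNormal (H := D.Q)).comp D.psi

/-- the map from the semidirect product -/
def lam : D.Q ⋊[D.phi] DihedralGroup 3 →* X :=
  SemidirectProduct.lift D.Q.subtype D.psi (by
    intro d
    ext q
    simp only [MonoidHom.comp_apply, MulEquiv.coe_toMonoidHom, Subgroup.subtype_apply,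
      MulAut.conj_apply]
    rfl)

theorem lam_apply (x : D.Q ⋊[D.phi] DihedralGroup 3) :
    D.lam x = (x.left : X) * D.psi x.right := rfl

theorem lam_injective : Function.Injective D.lam := by
  rw [injective_iff_map_eq_one]
  intro x hx
  rw [lam_apply] at hx
  have h1 : D.psi x.right = ((x.left)⁻¹ : D.Q) := by
    rw [Subgroup.coe_inv]
    exact eq_inv_of_mul_eq_one_right hx
  have h2 : D.psi x.right ∈ D.Q := by rw [h1]; exact (x.left⁻¹).2
  have h3 : x.right = 1 := D.psi_mem h2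
  rw [h3, map_one, mul_one] at hx
  have h4 : x.left = 1 := Subtype.ext hx
  ext
  · rw [h4]; rfl
  · rw [h3]; rfl

theorem lam_bijective [Finite X] : Function.Bijective D.lam := by
  rw [Nat.bijective_iff_injective_and_card]
  refine ⟨D.lam_injective, ?_⟩
  rw [SemidirectProduct.card, card_eq_eight D.Q D.e, DihedralGroup.nat_card, D.hcard]

/-- the automorphism of `Q₈` induced by an element -/
def theta : X →* MulAut (QuaternionGroup 2) :=
  (MulAut.congr D.e).toMonoidHom.comp (MulAut.conjNormal (H := D.Q))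

theorem theta_apply (x : X) (q : D.Q) :
    D.theta x (D.e q) = D.e (MulAut.conjNormal x q) := by
  show D.e (MulAut.conjNormal x (D.e.symm (D.e q))) = _
  rw [MulEquiv.symm_apply_apply]

theorem theta_c_pow : (D.theta D.c) ^ 3 = 1 := by rw [← map_pow, D.hc3, map_one]

theorem theta_c_ne : D.theta D.c ≠ 1 := by
  intro h
  obtain ⟨q, hq, hne⟩ := D.hnc
  apply hne
  have h1 := D.theta_apply D.c ⟨q, hq⟩
  rw [h, MulAut.one_apply] at h1
  have h2 := D.e.injective h1
  have h3 := congrArg Subtype.val h2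
  rw [MulAut.conjNormal_apply] at h3
  calc D.c * q = (D.c * q * D.c⁻¹) * D.c := by group
    _ = q * D.c := by rw [← h3]

theorem theta_t_sq : D.theta D.t * D.theta D.t = 1 := by rw [← map_mul, D.ht2, map_one]

theorem theta_inv : D.theta D.t * D.theta D.c * (D.theta D.t)⁻¹ = (D.theta D.c)⁻¹ := by
  rw [← map_inv, ← map_mul, ← map_mul, D.hinv, map_inv]

end GLData

/-- an element of order three together with an involution inverting it -/
def GoodPair (σ τ : Equiv.Perm (Fin 4)) : Prop :=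
  σ ^ 3 = 1 ∧ σ ≠ 1 ∧ τ * τ = 1 ∧ τ * σ * τ⁻¹ = σ⁻¹

instance (σ τ : Equiv.Perm (Fin 4)) : Decidable (GoodPair σ τ) := by
  unfold GoodPair; infer_instance

set_option maxRecDepth 1000000 in
theorem perm4_pair_conj' : ∀ σ τ : Equiv.Perm (Fin 4), GoodPair σ τ →
    ∀ σ' τ' : Equiv.Perm (Fin 4), GoodPair σ' τ' →
    ∃ γ : Equiv.Perm (Fin 4), γ * σ * γ⁻¹ = σ' ∧ γ * τ * γ⁻¹ = τ' := by
  decide

theorem perm4_pair_conj (σ τ : Equiv.Perm (Fin 4)) (h1 : σ ^ 3 = 1) (h2 : σ ≠ 1) (h3 : τ * τ = 1)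
    (h4 : τ * σ * τ⁻¹ = σ⁻¹) (σ' τ' : Equiv.Perm (Fin 4)) (h1' : σ' ^ 3 = 1) (h2' : σ' ≠ 1)
    (h3' : τ' * τ' = 1) (h4' : τ' * σ' * τ'⁻¹ = σ'⁻¹) :
    ∃ γ : Equiv.Perm (Fin 4), γ * σ * γ⁻¹ = σ' ∧ γ * τ * γ⁻¹ = τ' :=
  perm4_pair_conj' σ τ ⟨h1, h2, h3, h4⟩ σ' τ' ⟨h1', h2', h3', h4'⟩

theorem q8_aut_pair_conj (σ τ σ' τ' : MulAut (QuaternionGroup 2)) (h1 : σ ^ 3 = 1) (h2 : σ ≠ 1)
    (h3 : τ * τ = 1) (h4 : τ * σ * τ⁻¹ = σ⁻¹) (h1' : σ' ^ 3 = 1) (h2' : σ' ≠ 1)
    (h3' : τ' * τ' = 1) (h4' : τ' * σ' * τ'⁻¹ = σ'⁻¹) :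
    ∃ γ : MulAut (QuaternionGroup 2), γ * σ * γ⁻¹ = σ' ∧ γ * τ * γ⁻¹ = τ' := by
  obtain ⟨E⟩ := mulAut_q8_equiv_perm
  obtain ⟨γ, hγ1, hγ2⟩ := perm4_pair_conj (E σ) (E τ)
    (by rw [← map_pow, h1, map_one])
    (fun h => h2 (E.injective (by rw [h, map_one])))
    (by rw [← map_mul, h3, map_one])
    (by rw [← map_inv, ← map_mul, ← map_mul, h4, map_inv])
    (E σ') (E τ')
    (by rw [← map_pow, h1', map_one])
    (fun h => h2' (E.injective (by rw [h, map_one])))
    (by rw [← map_mul, h3', map_one])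
    (by rw [← map_inv, ← map_mul, ← map_mul, h4', map_inv])
  refine ⟨E.symm γ, E.injective ?_, E.injective ?_⟩
  · rw [map_mul, map_mul, map_inv, MulEquiv.apply_symm_apply, hγ1]
  · rw [map_mul, map_mul, map_inv, MulEquiv.apply_symm_apply, hγ2]

/-- Two groups with recognition data are isomorphic. -/
theorem nonempty_mulEquiv_of_data {X : Type*} {Y : Type*} [Group X] [Group Y] [Finite X]
    [Finite Y] (D : GLData X) (D' : GLData Y) : Nonempty (X ≃* Y) := by
  obtain ⟨α, hα1, hα2⟩ := q8_aut_pair_conj (D.theta D.c) (D.theta D.t) (D'.theta D'.c)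
    (D'.theta D'.t) D.theta_c_pow D.theta_c_ne D.theta_t_sq D.theta_inv
    D'.theta_c_pow D'.theta_c_ne D'.theta_t_sq D'.theta_inv
  -- the relation between elements
  have hpow : ∀ k : ℕ, α * (D.theta D.c) ^ k * α⁻¹ = (D'.theta D'.c) ^ k := by
    intro k
    rw [← hα1, conj_pow]
  have hrel : ∀ d : DihedralGroup 3, α * D.theta (D.psi d) * α⁻¹ = D'.theta (D'.psi d) := by
    intro d
    rcases d with i | i
    · rw [GLData.psi_r, GLData.psi_r]
      unfold GLData.pc
      rw [map_pow, map_pow, hpow]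
    · rw [GLData.psi_sr, GLData.psi_sr]
      unfold GLData.pc
      rw [map_mul, map_mul, map_pow, map_pow, ← hpow, ← hα2]
      group
  let fn : D.Q ≃* D'.Q := D.e.trans (α.trans D'.e.symm)
  have hfn : ∀ q : D.Q, D'.e (fn q) = α (D.e q) := by
    intro q
    show D'.e (D'.e.symm (α (D.e q))) = _
    rw [MulEquiv.apply_symm_apply]
  have hcompat : ∀ d : DihedralGroup 3, (D.phi d).trans fn = fn.trans (D'.phi d) := by
    intro d
    ext q
    apply Subtype.ext_iff.1
    apply D'.e.injective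
    show D'.e (fn (MulAut.conjNormal (D.psi d) q)) = D'.e (MulAut.conjNormal (D'.psi d) (fn q))
    rw [hfn, ← D.theta_apply, ← D'.theta_apply, hfn, ← hrel d]
    simp only [MulAut.mul_apply, MulAut.inv_apply_self]
  have E1 : D.Q ⋊[D.phi] DihedralGroup 3 ≃* X := MulEquiv.ofBijective D.lam D.lam_bijective
  have E2 : D'.Q ⋊[D'.phi] DihedralGroup 3 ≃* Y := MulEquiv.ofBijective D'.lam D'.lam_bijective
  have E3 : D.Q ⋊[D.phi] DihedralGroup 3 ≃* D'.Q ⋊[D'.phi] DihedralGroup 3 :=
    SemidirectProduct.congr fn (MulEquiv.refl _) hcompat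
  exact ⟨E1.symm.trans (E3.trans E2)⟩

/-! ### The data of `GL(2,3)` -/

section Model

open Matrix

/-- `GL₂(3)` -/
abbrev GLtt := GL (Fin 2) (ZMod 3)

theorem card_GLtt : Nat.card GLtt = 48 := by
  have h := Matrix.card_GL_field (𝔽 := ZMod 3) (n := 2)
  rw [h]
  simp [Fin.prod_univ_two, ZMod.card]

/-- the embedding of `SL₂(3)` -/
abbrev toG : SL23 →* GLtt := Matrix.SpecialLinearGroup.toGL

theorem range_toG : toG.range = (Matrix.GeneralLinearGroup.det : GLtt →* (ZMod 3)ˣ).ker := by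
  ext g
  constructor
  · rintro ⟨A, rfl⟩
    rw [MonoidHom.mem_ker]
    apply Units.ext
    show Matrix.det (A : Matrix (Fin 2) (Fin 2) (ZMod 3)) = 1
    exact A.2
  · intro hg
    rw [MonoidHom.mem_ker] at hg
    have h1 : Matrix.det (g : Matrix (Fin 2) (Fin 2) (ZMod 3)) = 1 := by
      have := congrArg Units.val hg
      simpa using this
    exact ⟨⟨(g : Matrix (Fin 2) (Fin 2) (ZMod 3)), h1⟩, Units.ext rfl⟩

/-- the quaternion subgroup of `GL₂(3)` -/
def qG : Subgroup GLtt := (commutator SL23).map toG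

theorem qG_eq : qG = ⁅toG.range, toG.range⁆ := by
  unfold qG
  rw [commutator_def, Subgroup.map_commutator, ← MonoidHom.range_eq_map]

instance qG_normal : qG.Normal := by
  rw [qG_eq]
  haveI : (toG.range).Normal := by
    rw [range_toG]
    infer_instance
  infer_instance

/-- the element of order three -/
def cS : SL23 := ⟨!![1, 1; 0, 1], by decide⟩

/-- the involution of determinant `-1` -/
def tG : GLtt := Matrix.GeneralLinearGroup.mkOfDetNeZero !![1, 0; 0, -1] (by decide)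

set_option maxRecDepth 1000000 in
theorem cS_pow : cS ^ 3 = 1 := by decide

set_option maxRecDepth 1000000 in
theorem cS_ncomm : cS * sl23I ≠ sl23I * cS := by decide

set_option maxRecDepth 1000000 in
theorem sl23I_mem : sl23InQ sl23I := by decide

theorem tG_val : (tG : Matrix (Fin 2) (Fin 2) (ZMod 3)) = !![1, 0; 0, -1] := rfl

set_option maxRecDepth 1000000 in
theorem tG_sq : tG * tG = 1 := by
  apply Units.ext
  show (tG : Matrix (Fin 2) (Fin 2) (ZMod 3)) * (tG : Matrix (Fin 2) (Fin 2) (ZMod 3)) = 1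
  rw [tG_val]
  decide

set_option maxRecDepth 1000000 in
theorem tG_rel : tG * toG cS * tG * toG cS = 1 := by
  apply Units.ext
  show (tG : Matrix (Fin 2) (Fin 2) (ZMod 3)) * (cS : Matrix (Fin 2) (Fin 2) (ZMod 3)) *
    (tG : Matrix (Fin 2) (Fin 2) (ZMod 3)) * (cS : Matrix (Fin 2) (Fin 2) (ZMod 3)) = 1
  rw [tG_val]
  decide

set_option maxRecDepth 1000000 in
theorem tG_det : Matrix.det (!![1, 0; 0, -1] : Matrix (Fin 2) (Fin 2) (ZMod 3)) ≠ 1 := by decide

theorem tG_not_mem : tG ∉ qG := by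
  intro h
  obtain ⟨A, _, hA⟩ := h
  have h1 : (A : Matrix (Fin 2) (Fin 2) (ZMod 3)) = !![1, 0; 0, -1] := by
    have := congrArg (fun g : GLtt => (g : Matrix (Fin 2) (Fin 2) (ZMod 3))) hA
    simpa [tG_val] using this
  apply tG_det
  rw [← h1]
  exact A.2

/-- `GL(2,3)` carries recognition data. -/
theorem nonempty_data : Nonempty (GLData GLtt) := by
  obtain ⟨e0⟩ := commutator_SL23_equiv
  have hinj : Function.Injective toG := Matrix.SpecialLinearGroup.toGL_injective
  have e1 : qG ≃* commutator SL23 :=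
    (Subgroup.equivMapOfInjective (commutator SL23) toG hinj).symm
  have htinv : tG⁻¹ = tG := inv_eq_of_mul_eq_one_right tG_sq
  refine ⟨{
    Q := qG
    hn := qG_normal
    e := e1.trans e0
    c := toG cS
    t := tG
    hc3 := by rw [← map_pow, cS_pow, map_one]
    ht2 := tG_sq
    hinv := ?_
    htQ := tG_not_mem
    hnc := ?_
    hcard := card_GLtt }⟩
  · rw [htinv]
    exact eq_inv_of_mul_eq_one_left tG_rel
  · refine ⟨toG sl23I, ?_, ?_⟩
    · refine ⟨sl23I, ?_, rfl⟩
      rw [commutator_SL23]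
      exact sl23I_mem
    · rw [← map_mul, ← map_mul]
      intro h
      exact cS_ncomm (hinj h)

end Model

/-- Recognition of `GL(2,3)`. -/
theorem nonempty_mulEquiv_GL23 {X : Type*} [Group X] [Finite X] (D : GLData X) :
    Nonempty (X ≃* GL (Fin 2) (ZMod 3)) := by
  obtain ⟨D'⟩ := nonempty_data
  haveI : Finite GLtt := Nat.finite_of_card_ne_zero (by rw [card_GLtt]; norm_num)
  exact nonempty_mulEquiv_of_data D D'

end Cfsg.Agent.Lib.Helper20.GL23
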