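import Cfsg.Agent.Lib.Helper20.GaussTwo

/-!
# Helper20 library: `±1`-characters of elementary abelian 2-groups and the Gauss sum inequality

* `sum_char`: orthogonality `∑_χ χ a = |A|` or `0` for a finite commutative group `A` of
  exponent two and `χ` ranging over `A →* ℤˣ`.
* `gs_ineq`: for a finite 2-group `T` and a central subgroup `M` of exponent two containing all
  squares and commutators, `|T| * |Z(T)| ≤ (|M| * #{x | x² = 1})²`.
-/

set_option autoImplicit false

namespace Cfsg.Agent.Lib.Helper20.GaussTwo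

open scoped commutatorElement

theorem hasEnoughRootsOfUnity_int_two : HasEnoughRootsOfUnity ℤ 2 :=
  ⟨⟨-1, IsPrimitiveRoot.neg_one 0 (by norm_num)⟩, rootsOfUnity.isCyclic ℤ 2⟩

section dual

open scoped IsMulCommutative

variable (A : Type*) [Group A] [IsMulCommutative A] [Finite A]

theorem hasEnough_of_sq (hA : ∀ a : A, a ^ 2 = 1) :
    HasEnoughRootsOfUnity ℤ (Monoid.exponent A) := by
  haveI := hasEnoughRootsOfUnity_int_two
  exact HasEnoughRootsOfUnity.of_dvd ℤ (Monoid.exponent_dvd_of_forall_pow_eq_one hA)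

open Classical in
/-- orthogonality of `±1`-characters of an elementary abelian 2-group -/
theorem sum_char (hA : ∀ a : A, a ^ 2 = 1) [Fintype (A →* ℤˣ)] (a : A) :
    ∑ χ : A →* ℤˣ, ((χ a : ℤˣ) : ℤ) = if a = 1 then (Nat.card A : ℤ) else 0 := by
  haveI := hasEnough_of_sq A hA
  let e : (A →* ℤˣ) →* ℤˣ := MonoidHom.eval a
  have h1 := sum_hom e
  have h2 : e = 1 ↔ a = 1 := by
    constructor
    · intro h
      by_contra ha
      obtain ⟨φ, hφ⟩ := CommGroup.exists_apply_ne_one_of_hasEnoughRootsOfUnity A ℤ ha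
      exact hφ (DFunLike.congr_fun h φ)
    · intro h
      subst h
      ext χ
      show ((χ 1 : ℤˣ) : ℤ) = 1
      rw [map_one]; rfl
  have h3 : ∑ χ : A →* ℤˣ, ((χ a : ℤˣ) : ℤ) =
      ∑ χ : A →* ℤˣ, ((e χ : ℤˣ) : ℤ) := rfl
  rw [h3, h1]
  simp only [h2]
  split_ifs with h
  · rw [← Nat.card_eq_fintype_card, CommGroup.card_monoidHom_of_hasEnoughRootsOfUnity A ℤ]
  · rfl

end dual

section ineq

variable {T : Type*} [Group T] [Finite T]

/-- the Gauss sum inequality -/
theorem gs_ineq (hT : IsPGroup 2 T) (M : Subgroup T) (hM : M ≤ Subgroup.center T)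
    (hM2 : ∀ m ∈ M, m ^ 2 = 1) (hsq : ∀ x : T, x ^ 2 ∈ M) (hcomm : ∀ x y : T, ⁅x, y⁆ ∈ M) :
    Nat.card T * Nat.card (Subgroup.center T) ≤
      (Nat.card M * Nat.card {x : T // x ^ 2 = 1}) ^ 2 := by
  classical
  haveI : Fintype T := Fintype.ofFinite T
  haveI : IsMulCommutative M :=
    ⟨⟨fun a b => Subtype.ext (Subgroup.mem_center_iff.mp (hM b.2) (a : T))⟩⟩
  have hA : ∀ a : M, a ^ 2 = 1 := fun a => Subtype.ext (hM2 a a.2)
  haveI := hasEnough_of_sq M hA
  haveI : Fintype (M →* ℤˣ) := Fintype.ofFinite _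
  set c := Nat.card {x : T // x ^ 2 = 1} with hc
  have hcpos : 0 < c := by
    haveI : Nonempty {x : T // x ^ 2 = 1} := ⟨⟨1, one_pow 2⟩⟩
    exact Nat.card_pos
  -- the total sum
  have htotal : ∑ χ : M →* ℤˣ, ∑ x : T, ((sqChar M hsq χ x : ℤˣ) : ℤ) =
      (Nat.card M : ℤ) * (c : ℤ) := by
    rw [Finset.sum_comm]
    have h1 : ∀ x : T, ∑ χ : M →* ℤˣ, ((sqChar M hsq χ x : ℤˣ) : ℤ) =
        if x ^ 2 = 1 then (Nat.card M : ℤ) else 0 := by
      intro x
      unfold sqChar
      rw [sum_char M hA]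
      have h2 : ((⟨x ^ 2, hsq x⟩ : M) = 1) ↔ x ^ 2 = 1 :=
        ⟨fun h => congrArg Subtype.val h, fun h => Subtype.ext h⟩
      simp only [h2]
    have hcf : c = (Finset.univ.filter (fun x : T => x ^ 2 = 1)).card := by
      rw [hc, Nat.card_eq_fintype_card, Fintype.card_subtype]
    simp only [h1]
    rw [← Finset.sum_filter, Finset.sum_const, hcf, nsmul_eq_mul]
    ring
  -- orders
  obtain ⟨t, ht⟩ := hT.exists_card_eq
  obtain ⟨z, hz⟩ := (hT.to_subgroup (Subgroup.center T)).exists_card_eq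
  -- divisibility of every Gauss sum
  have hdiv : ∀ χ : M →* ℤˣ, ((2 ^ ((t + z + 1) / 2) : ℕ) : ℤ) ∣
      ∑ x : T, ((sqChar M hsq χ x : ℤˣ) : ℤ) := by
    intro χ
    rcases gauss_sq_cases (sqChar M hsq χ) (commChar M hM hcomm χ)
      (sqChar_mul M hM hsq hcomm χ) (commChar_self M hM hcomm χ) with h | ⟨h, -⟩
    · rw [h]; exact dvd_zero _
    · set g : ℤ := ∑ x : T, ((sqChar M hsq χ x : ℤˣ) : ℤ) with hg
      obtain ⟨r, hr⟩ := (hT.to_subgroup (rad (commChar M hM hcomm χ))).exists_card_eq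
      have hzr : z ≤ r := by
        have h1 : 2 ^ z ∣ 2 ^ r := by
          rw [← hz, ← hr]
          exact Subgroup.card_dvd_of_le (center_le_rad M hM hcomm χ)
        exact (Nat.pow_dvd_pow_iff_le_right (by norm_num)).mp h1
      have h3 : g.natAbs ^ 2 = 2 ^ (t + r) := by
        have h4 := congrArg Int.natAbs h
        rw [Int.natAbs_pow, Int.natAbs_mul, Int.natAbs_natCast, Int.natAbs_natCast,
          ← Nat.card_eq_fintype_card, ht, hr] at h4
        rw [h4]; ring
      have h5 : g.natAbs ∣ 2 ^ (t + r) := by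
        rw [← h3]; exact dvd_pow_self _ (by norm_num)
      obtain ⟨e, -, he⟩ := (Nat.dvd_prime_pow Nat.prime_two).mp h5
      have h6 : 2 * e = t + r := by
        rw [he, ← pow_mul] at h3
        have := Nat.pow_right_injective (le_refl 2) h3
        omega
      rw [Int.natCast_dvd, he]
      exact pow_dvd_pow 2 (by omega)
  have hdvd : ((2 ^ ((t + z + 1) / 2) : ℕ) : ℤ) ∣ (Nat.card M : ℤ) * (c : ℤ) := by
    rw [← htotal]
    exact Finset.dvd_sum (fun χ _ => hdiv χ)
  have hdvd' : 2 ^ ((t + z + 1) / 2) ∣ Nat.card M * c := by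
    have h1 : ((2 ^ ((t + z + 1) / 2) : ℕ) : ℤ) ∣ ((Nat.card M * c : ℕ) : ℤ) := by
      push_cast; push_cast at hdvd; exact hdvd
    exact Int.natCast_dvd_natCast.mp h1
  have hpos : 0 < Nat.card M * c := Nat.mul_pos Nat.card_pos hcpos
  have hle : 2 ^ ((t + z + 1) / 2) ≤ Nat.card M * c := Nat.le_of_dvd hpos hdvd'
  calc Nat.card T * Nat.card (Subgroup.center T) = 2 ^ (t + z) := by rw [ht, hz, pow_add]
    _ ≤ 2 ^ (2 * ((t + z + 1) / 2)) := Nat.pow_le_pow_right (by norm_num) (by omega)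
    _ = (2 ^ ((t + z + 1) / 2)) ^ 2 := by rw [← pow_mul, mul_comm]
    _ ≤ (Nat.card M * c) ^ 2 := Nat.pow_le_pow_left hle 2

end ineq

end Cfsg.Agent.Lib.Helper20.GaussTwo
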