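import Cfsg.Agent.Lib.Helper20.HKKE
import Cfsg.Agent.Lib.Helper24.S3779C4
import Cfsg.Agent.Lib.Helper16.Fpf3
import Cfsg.Agent.S0033

set_option autoImplicit false

/-!
# Higman–Kreknin–Kostrikin, piece D: assembly for finite groups
-/

namespace Cfsg.Agent.Lib.Helper20.HKK

open scoped commutatorElement
open Cfsg.Agent.Lib.Helper24.S3779C

universe u

section lie

variable {L : Type*} [LieRing L]

/-- span of the left-normed products with `t` further factors -/
def LP (L : Type*) [LieRing L] (t : ℕ) : AddSubgroup L :=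
  AddSubgroup.closure {z | ∃ (a : L) (l : List L), l.length = t ∧ z = lprod a l}

theorem LP_lie (t : ℕ) {z : L} (hz : z ∈ LP L t) (y : L) : ⁅z, y⁆ ∈ LP L (t + 1) := by
  unfold LP at hz
  induction hz using AddSubgroup.closure_induction with
  | mem x hx =>
    obtain ⟨a, l, hl, rfl⟩ := hx
    apply AddSubgroup.subset_closure
    refine ⟨a, l ++ [y], by simp [hl], ?_⟩
    rw [lprod_append]; rfl
  | zero => rw [zero_lie]; exact zero_mem _
  | add x y' _ _ hx hy => rw [add_lie]; exact add_mem hx hy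
  | neg x _ hx => rw [neg_lie]; exact neg_mem hx

theorem LP_eq_bot (t : ℕ) (h : ∀ (a : L) (l : List L), l.length = t → lprod a l = 0) :
    LP L t = ⊥ := by
  unfold LP
  rw [AddSubgroup.closure_eq_bot_iff]
  rintro z ⟨a, l, hl, rfl⟩
  exact h a l hl

end lie

variable {G : Type u} [Group G]

theorem theta_one (i : ℕ) : theta G i 1 = 0 := by
  have h := theta_mul i (one_mem ((⊤ : Subgroup G).lowerCentralSeries i)) (one_mem ((⊤ : Subgroup G).lowerCentralSeries i))
  rw [mul_one] at h
  exact left_eq_add.mp h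

theorem theta_inv (i : ℕ) {g : G} (hg : g ∈ (⊤ : Subgroup G).lowerCentralSeries i) : theta G i g⁻¹ = - theta G i g := by
  have h := theta_mul i hg (inv_mem hg)
  rw [mul_inv_cancel, theta_one] at h
  exact (neg_eq_of_add_eq_zero_right h.symm).symm

theorem theta_pow (i : ℕ) {g : G} (hg : g ∈ (⊤ : Subgroup G).lowerCentralSeries i) (n : ℕ) :
    theta G i (g ^ n) = n • theta G i g := by
  induction n with
  | zero => simp [theta_one]
  | succ n ih => rw [pow_succ, theta_mul i (pow_mem hg n) hg, ih, succ_nsmul]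

theorem all_mem_span (z : AssocLie G) : z ∈ AddSubgroup.closure
    {z : AssocLie G | ∃ (i : ℕ) (g : G), g ∈ (⊤ : Subgroup G).lowerCentralSeries i ∧ z = theta G i g} := by
  rw [theta_span]; trivial

theorem card_nsmul_eq_zero [Finite G] (z : AssocLie G) : (Nat.card G) • z = 0 := by
  have hz := all_mem_span z
  induction hz using AddSubgroup.closure_induction with
  | mem x hx =>
    obtain ⟨i, g, hg, rfl⟩ := hx
    rw [← theta_pow i hg, pow_card_eq_one', theta_one]
  | zero => simp
  | add x y _ _ hx hy => rw [smul_add, hx, hy, add_zero]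
  | neg x _ hx => rw [smul_neg, hx, neg_zero]

theorem lcs_map_mem (α : MulAut G) (i : ℕ) {g : G} (hg : g ∈ (⊤ : Subgroup G).lowerCentralSeries i) : α g ∈ (⊤ : Subgroup G).lowerCentralSeries i := by
  have h : ((⊤ : Subgroup G).lowerCentralSeries i).map α.toMonoidHom ≤ (⊤ : Subgroup G).lowerCentralSeries i :=
    Subgroup.characteristic_iff_map_le.mp inferInstance α
  exact h (Subgroup.mem_map_of_mem _ hg)

theorem autL_iter (α : MulAut G) (i : ℕ) {g : G} (hg : g ∈ (⊤ : Subgroup G).lowerCentralSeries i) (k : ℕ) :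
    (autL α)^[k] (theta G i g) = theta G i ((α ^ k) g) := by
  induction k with
  | zero => simp
  | succ k ih =>
    rw [Function.iterate_succ_apply', ih, autL_theta α i (lcs_map_mem (α ^ k) i hg), pow_succ']
    rfl

theorem autL_pow_id (α : MulAut G) {p : ℕ} (hα : α ^ p = 1) (z : AssocLie G) :
    (autL α)^[p] z = z := by
  have hz := all_mem_span z
  induction hz using AddSubgroup.closure_induction with
  | mem x hx =>
    obtain ⟨i, g, hg, rfl⟩ := hx
    rw [autL_iter α i hg, hα]; rfl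
  | zero => exact iterate_map_zero _ _
  | add x y _ _ hx hy => rw [iterate_map_add, hx, hy]
  | neg x _ hx => rw [iterate_map_neg, hx]

theorem fpf_section [Finite G] (α : MulAut G) (hfpf : ∀ g : G, α g = g → g = 1) (i : ℕ) (g : G)
    (hg : g ∈ (⊤ : Subgroup G).lowerCentralSeries i) (h : theta G i (α g) = theta G i g) : theta G i g = 0 := by
  have h1 : g⁻¹ * α g ∈ (⊤ : Subgroup G).lowerCentralSeries (i + 1) := by
    rw [← theta_eq_zero_iff i (mul_mem (inv_mem hg) (lcs_map_mem α i hg)),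
      theta_mul i (inv_mem hg) (lcs_map_mem α i hg), theta_inv i hg, h]
    exact neg_add_cancel _
  let f : (⊤ : Subgroup G).lowerCentralSeries (i + 1) → (⊤ : Subgroup G).lowerCentralSeries (i + 1) := fun x =>
    ⟨x.1⁻¹ * α x.1, mul_mem (inv_mem x.2) (lcs_map_mem α (i + 1) x.2)⟩
  have hinj : Function.Injective f := by
    intro a b hab
    have hab' : a.1⁻¹ * α a.1 = b.1⁻¹ * α b.1 := congrArg Subtype.val hab
    have h2 : α (b.1 * a.1⁻¹) = b.1 * a.1⁻¹ := by
      rw [map_mul, map_inv]
      have h3 : α b.1 = b.1 * (a.1⁻¹ * α a.1) := by rw [hab']; group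
      rw [h3]; group
    have h4 := hfpf _ h2
    exact Subtype.ext (mul_inv_eq_one.mp h4).symm
  obtain ⟨x, hx⟩ := Finite.surjective_of_injective hinj ⟨g⁻¹ * α g, h1⟩
  have hx' : x.1⁻¹ * α x.1 = g⁻¹ * α g := congrArg Subtype.val hx
  have h2 : α (g * x.1⁻¹) = g * x.1⁻¹ := by
    rw [map_mul, map_inv]
    have h3 : α g = g * (x.1⁻¹ * α x.1) := by rw [hx']; group
    rw [h3]; group
  have h3 := hfpf _ h2
  have h4 : g = x.1 := mul_inv_eq_one.mp h3
  rw [theta_eq_zero_iff i hg, h4]
  exact x.2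

theorem theta_mem_LP (t : ℕ) : ∀ g ∈ (⊤ : Subgroup G).lowerCentralSeries t, theta G t g ∈ LP (AssocLie G) t := by
  induction t with
  | zero =>
    intro g _
    exact AddSubgroup.subset_closure ⟨theta G 0 g, [], rfl, rfl⟩
  | succ t ih =>
    intro g hg
    rw [Subgroup.lowerCentralSeries_succ, Subgroup.commutator_def] at hg
    have key : g ∈ (⊤ : Subgroup G).lowerCentralSeries (t + 1) ∧ theta G (t + 1) g ∈ LP (AssocLie G) (t + 1) := by
      refine Subgroup.closure_induction
        (p := fun g _ => g ∈ (⊤ : Subgroup G).lowerCentralSeries (t + 1) ∧ theta G (t + 1) g ∈ LP (AssocLie G) (t + 1))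
        ?_ ?_ ?_ ?_ hg
      · rintro x ⟨a, ha, b, hb, rfl⟩
        refine ⟨Subgroup.commutator_mem_commutator ha hb, ?_⟩
        have h0 := theta_lie t 0 ha (show b ∈ (⊤ : Subgroup G).lowerCentralSeries 0 from hb)
        have h1 : theta G (t + 1) ⁅a, b⁆ = ⁅theta G t a, theta G 0 b⁆ := h0.symm
        rw [h1]
        exact LP_lie t (ih a ha) _
      · exact ⟨one_mem _, by rw [theta_one]; exact zero_mem _⟩
      · rintro x y _ _ ⟨hx, hx'⟩ ⟨hy, hy'⟩
        exact ⟨mul_mem hx hy, by rw [theta_mul _ hx hy]; exact add_mem hx' hy'⟩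
      · rintro x _ ⟨hx, hx'⟩
        exact ⟨inv_mem hx, by rw [theta_inv _ hx]; exact neg_mem hx'⟩
    exact key.2

theorem card_modEq_one [Finite G] {p : ℕ} (hp : p.Prime) (α : MulAut G) (hα : orderOf α = p)
    (hfpf : ∀ g : G, α g = g → g = 1) : Nat.card G ≡ 1 [MOD p] := by
  have : Fact p.Prime := ⟨hp⟩
  have hP : IsPGroup p (Subgroup.zpowers α) := by
    apply IsPGroup.of_card (n := 1)
    rw [Nat.card_zpowers, hα, pow_one]
  have h := hP.card_modEq_card_fixedPoints G
  have hfix : MulAction.fixedPoints (Subgroup.zpowers α) G = {1} := by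
    ext g
    simp only [MulAction.mem_fixedPoints, Set.mem_singleton_iff]
    constructor
    · intro hg
      exact hfpf g (hg ⟨α, Subgroup.mem_zpowers α⟩)
    · rintro rfl b
      exact smul_one _
  rw [hfix] at h
  simpa using h

theorem stab_of_le {h : ℕ} (hle : (⊤ : Subgroup G).lowerCentralSeries h ≤ (⊤ : Subgroup G).lowerCentralSeries (h + 1)) (k : ℕ) : (⊤ : Subgroup G).lowerCentralSeries (h + k) = (⊤ : Subgroup G).lowerCentralSeries h := by
  induction k with
  | zero => rfl
  | succ k ih =>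
    have h1 : (⊤ : Subgroup G).lowerCentralSeries (h + (k + 1)) = ⁅(⊤ : Subgroup G).lowerCentralSeries (h + k), (⊤ : Subgroup G)⁆ := rfl
    rw [h1, ih]
    exact le_antisymm ((⊤ : Subgroup G).lowerCentralSeries_antitone (Nat.le_succ h)) hle

theorem lcs_hkk_eq_bot [Finite G] {p : ℕ} (hp : p.Prime) (α : MulAut G) (hα : orderOf α = p)
    (hfpf : ∀ g : G, α g = g → g = 1) : (⊤ : Subgroup G).lowerCentralSeries (hkk p) = ⊥ := by
  have : Fact p.Prime := ⟨hp⟩
  by_cases hc1 : Nat.card G = 1
  · have : Subsingleton G := (Nat.card_eq_one_iff_unique.mp hc1).1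
    exact Subgroup.eq_bot_of_subsingleton _
  have hcpos : 0 < Nat.card G := Nat.card_pos
  have hc : 1 < Nat.card G := by omega
  have hmod := card_modEq_one hp α hα hfpf
  have hcop : Nat.Coprime p (Nat.card G) := by
    rw [Nat.Prime.coprime_iff_not_dvd hp]
    intro hdvd
    have h0 : Nat.card G ≡ 0 [MOD p] := (Nat.modEq_zero_iff_dvd).mpr hdvd
    have h10 : 1 ≡ 0 [MOD p] := hmod.symm.trans h0
    have := (Nat.modEq_zero_iff_dvd).mp h10
    exact hp.one_lt.ne' (Nat.dvd_one.mp this)
  obtain ⟨m, -, hm⟩ := Nat.exists_mul_mod_eq_one_of_coprime hcop hc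
  have hm' : ∀ x : AssocLie G, (m * p) • x = x := by
    intro x
    have h1 : m * p = Nat.card G * (p * m / Nat.card G) + 1 := by
      have := Nat.div_add_mod (p * m) (Nat.card G)
      rw [hm] at this
      rw [mul_comm m p]; exact this.symm
    rw [h1, add_smul, mul_smul, one_smul]
    rw [show (Nat.card G) • ((p * m / Nat.card G) • x) = 0 from card_nsmul_eq_zero _, zero_add]
  have hαp : α ^ p = 1 := hα ▸ pow_orderOf_eq_one α
  have hL : ∀ (a : AssocLie G) (l : List (AssocLie G)), l.length = hkk p → lprod a l = 0 :=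
    lprod_eq_zero_of_fpf (autL α) (autL_lie α) (autL_pow_id α hαp)
      (autL_fix α (fpf_section α hfpf)) m hm'
  have hbot := LP_eq_bot (hkk p) hL
  have hle : (⊤ : Subgroup G).lowerCentralSeries (hkk p) ≤ (⊤ : Subgroup G).lowerCentralSeries (hkk p + 1) := by
    intro g hg
    have h1 := theta_mem_LP (hkk p) g hg
    rw [hbot, AddSubgroup.mem_bot] at h1
    exact (theta_eq_zero_iff (hkk p) hg).mp h1
  have hnil : Group.IsNilpotent G :=
    Cfsg.Agent.S0033.result α (fun g hg => hfpf g hg) p hp hα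
  obtain ⟨n, hn⟩ := Subgroup.nilpotent_iff_lowerCentralSeries.mp hnil
  have h1 := stab_of_le hle n
  rw [← h1]
  apply le_bot_iff.mp
  rw [← hn]
  exact (⊤ : Subgroup G).lowerCentralSeries_antitone (Nat.le_add_left n (hkk p))

theorem lcs_one_eq_bot_of_two [Finite G] (α : MulAut G) (hα : orderOf α = 2)
    (hfpf : ∀ g : G, α g = g → g = 1) : (⊤ : Subgroup G).lowerCentralSeries 1 = ⊥ := by
  have hα2 : α ^ 2 = 1 := hα ▸ pow_orderOf_eq_one α
  have h2 : ∀ x : G, α (α x) = x := by
    intro x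
    have := congrArg (fun β : MulAut G => β x) hα2
    simpa [pow_two] using this
  have hinv := Cfsg.Agent.Lib.Helper16.Fpf3.Fpf.inverts (τ := α) hfpf h2
  have hcomm := Cfsg.Agent.Lib.Helper16.Fpf3.comm_of_inverts hinv
  apply Subgroup.lowerCentralSeries_succ_eq_bot
  intro g _
  rw [Subgroup.mem_center_iff]
  intro z
  exact hcomm z g

theorem lcs_two_eq_bot_of_three [Finite G] (α : MulAut G) (hα : orderOf α = 3)
    (hfpf : ∀ g : G, α g = g → g = 1) : (⊤ : Subgroup G).lowerCentralSeries 2 = ⊥ := by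
  have hα3 : α ^ 3 = 1 := hα ▸ pow_orderOf_eq_one α
  have h3 : ∀ x : G, α (α (α x)) = x := by
    intro x
    have := congrArg (fun β : MulAut G => β x) hα3
    simpa [pow_succ] using this
  have hmod := card_modEq_one Nat.prime_three α hα hfpf
  have htor : ∀ c : G, c ^ 3 = 1 → c = 1 := by
    intro c hc
    have h1 : orderOf c ∣ 3 := orderOf_dvd_of_pow_eq_one hc
    have h2 : orderOf c ∣ Nat.card G := orderOf_dvd_natCard c
    rcases (Nat.dvd_prime Nat.prime_three).mp h1 with h | h
    · exact orderOf_eq_one_iff.mp h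
    · exfalso
      rw [h] at h2
      have h0 : Nat.card G ≡ 0 [MOD 3] := (Nat.modEq_zero_iff_dvd).mpr h2
      have h10 : 1 ≡ 0 [MOD 3] := hmod.symm.trans h0
      exact absurd h10 (by decide)
  have hcl := Cfsg.Agent.Lib.Helper16.Fpf3.fpf3_class_two (σ := α) hfpf h3 htor
  apply Subgroup.lowerCentralSeries_succ_eq_bot
  rw [Subgroup.lowerCentralSeries_succ, Subgroup.commutator_def, Subgroup.closure_le]
  rintro x ⟨a, _, b, _, rfl⟩
  rw [SetLike.mem_coe, Subgroup.mem_center_iff]
  intro z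
  have h4 := hcl a b z
  rw [commutatorElement_def ⁅a, b⁆ z] at h4
  have h5 : ⁅a, b⁆ * z = z * ⁅a, b⁆ := by
    have h6 : ⁅a, b⁆ * z * ⁅a, b⁆⁻¹ = z := mul_inv_eq_one.mp h4
    exact mul_inv_eq_iff_eq_mul.mp h6
  exact h5.symm

end Cfsg.Agent.Lib.Helper20.HKK
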