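import Mathlib

set_option autoImplicit false

/-!
# Higman–Kreknin–Kostrikin: definitions

Graded Lie rings are handled inside a fixed `LieRing L` through families
`M : ZMod n → AddSubgroup L` of additive subgroups that are closed under the bracket
(`⁅M i, M j⁆ ⊆ M (i+j)`) and have trivial zero component.  No directness of the sum is needed.
-/

namespace Cfsg.Agent.Lib.Helper20.HKK

variable {L : Type*} [LieRing L]

/-- left-normed Lie product `[a, u₁, …, u_r]` -/
def lprod (a : L) (l : List L) : L := l.foldl (fun v u => ⁅v, u⁆) a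

@[simp] theorem lprod_nil (a : L) : lprod a [] = a := rfl

@[simp] theorem lprod_cons (a u : L) (l : List L) : lprod a (u :: l) = lprod ⁅a, u⁆ l := rfl

theorem lprod_append (a : L) (l l' : List L) : lprod a (l ++ l') = lprod (lprod a l) l' := by
  simp [lprod, List.foldl_append]

/-- a bracket-closed family of additive subgroups with trivial zero component -/
structure IsGraded {n : ℕ} (M : ZMod n → AddSubgroup L) : Prop where
  lie_mem : ∀ {i j : ZMod n} {x y : L}, x ∈ M i → y ∈ M j → ⁅x, y⁆ ∈ M (i + j)
  zero : M 0 = ⊥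

/-- the family spanned by brackets `⁅A c, B c'⁆`, `c + c' = d` -/
def brk {n : ℕ} (A B : ZMod n → AddSubgroup L) (d : ZMod n) : AddSubgroup L :=
  AddSubgroup.closure
    {z | ∃ (c c' : ZMod n) (x y : L), c + c' = d ∧ x ∈ A c ∧ y ∈ B c' ∧ z = ⁅x, y⁆}

/-- derived family: `der M s` is the family of homogeneous components of the `s`-th derived
subring of the subring spanned by `M` -/
def der {n : ℕ} (M : ZMod n → AddSubgroup L) : ℕ → ZMod n → AddSubgroup L
  | 0 => M
  | s + 1 => brk (der M s) (der M s)

/-- lower central family: `gam M w` consists of the homogeneous components of `γ_{w+1}` -/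
def gam {n : ℕ} (M : ZMod n → AddSubgroup L) : ℕ → ZMod n → AddSubgroup L
  | 0 => M
  | w + 1 => brk (gam M w) M

/-- Lie monomials in homogeneous generators of degree `e` with `k ≤ e.val`;
`Mon M k d x` : `x` is such a monomial of total degree `d` -/
inductive Mon {n : ℕ} (M : ZMod n → AddSubgroup L) (k : ℕ) : ZMod n → L → Prop
  | gen {e : ZMod n} {x : L} : k ≤ e.val → x ∈ M e → Mon M k e x
  | br {c c' : ZMod n} {x y : L} : Mon M k c x → Mon M k c' y → Mon M k (c + c') ⁅x, y⁆

/-- degree `d` component of the subring generated by the `M e`, `k ≤ e.val` -/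
def T {n : ℕ} (M : ZMod n → AddSubgroup L) (k : ℕ) (d : ZMod n) : AddSubgroup L :=
  AddSubgroup.closure {x | Mon M k d x}

/-- `c_k = 1 + (p-1) + … + (p-1)^(k-1)` -/
def cK (p k : ℕ) : ℕ := Finset.sum (Finset.range k) (fun i => (p - 1) ^ i)

/-- the Higman–Kreknin–Kostrikin bound -/
def hkk (p : ℕ) : ℕ := cK p (2 ^ (p - 1) - 1)

theorem cK_succ (p k : ℕ) : cK p (k + 1) = (p - 1) * cK p k + 1 := by
  unfold cK
  rw [Finset.sum_range_succ', Finset.mul_sum]
  simp [pow_succ, mul_comm]

end Cfsg.Agent.Lib.Helper20.HKK
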