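import Cfsg.Agent.Lib.Helper20.HKKG

set_option autoImplicit false

/-!
# Higman–Kreknin–Kostrikin, piece E: from a fixed-point-free automorphism of prime order to a
grading (scalar extension by the group ring of `ZMod p`, realised by convolution)
-/

namespace Cfsg.Agent.Lib.Helper20.HKK

open Finset

/-- functions `ZMod p → L`, to carry the convolution bracket (instances are local to this file) -/
abbrev Conv (p : ℕ) (L : Type*) : Type _ := ZMod p → L

namespace Conv

variable {p : ℕ} [Fact p.Prime] {L : Type*} [LieRing L]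

local instance convBracket : Bracket (Conv p L) (Conv p L) :=
  ⟨fun f g k => ∑ i : ZMod p, ⁅f i, g (k - i)⁆⟩

theorem lie_apply (f g : Conv p L) (k : ZMod p) : ⁅f, g⁆ k = ∑ i : ZMod p, ⁅f i, g (k - i)⁆ := rfl

local instance convLieRing : LieRing (Conv p L) where
  add_lie f g h := by
    ext k; simp only [lie_apply, Pi.add_apply, add_lie, Finset.sum_add_distrib]
  lie_add f g h := by
    ext k; simp only [lie_apply, Pi.add_apply, lie_add, Finset.sum_add_distrib]
  lie_self f := by
    ext k
    rw [lie_apply, Pi.zero_apply]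
    apply Finset.sum_involution (fun i _ => k - i)
    · intro i _
      rw [sub_sub_cancel, ← lie_skew (f i) (f (k - i))]; abel
    · intro i _ hne heq
      apply hne
      rw [heq]; exact lie_self _
    · intro i _; exact Finset.mem_univ _
    · intro i _; exact sub_sub_cancel k i
  leibniz_lie f g h := by
    ext k
    simp only [lie_apply, Pi.add_apply, lie_sum, sum_lie]
    -- LHS: Σ_i Σ_j ⁅f i, ⁅g j, h (k - i - j)⁆⁆
    have e1 : ∑ s : ZMod p, ∑ i : ZMod p, ⁅⁅f i, g (s - i)⁆, h (k - s)⁆
        = ∑ i : ZMod p, ∑ j : ZMod p, ⁅⁅f i, g j⁆, h (k - i - j)⁆ := by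
      rw [Finset.sum_comm]
      apply Finset.sum_congr rfl
      intro i _
      apply Fintype.sum_equiv (Equiv.subRight i)
      intro s
      simp only [Equiv.subRight_apply]
      congr 2
      ring
    have e2 : ∑ j : ZMod p, ∑ i : ZMod p, ⁅g j, ⁅f i, h (k - j - i)⁆⁆
        = ∑ i : ZMod p, ∑ j : ZMod p, ⁅g j, ⁅f i, h (k - i - j)⁆⁆ := by
      rw [Finset.sum_comm]
      apply Finset.sum_congr rfl
      intro i _
      apply Finset.sum_congr rfl
      intro j _
      congr 3
      ring
    rw [e1, e2, ← Finset.sum_add_distrib]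
    apply Finset.sum_congr rfl
    intro i _
    rw [← Finset.sum_add_distrib]
    apply Finset.sum_congr rfl
    intro j _
    exact leibniz_lie _ _ _

/-- delta function at `0` -/
def delta (p : ℕ) (x : L) : Conv p L := fun k => if k = 0 then x else 0

/-- constant function -/
def const (p : ℕ) (x : L) : Conv p L := fun _ => x

theorem delta_lie (x : L) (g : Conv p L) (k : ZMod p) : ⁅delta p x, g⁆ k = ⁅x, g k⁆ := by
  rw [lie_apply, Finset.sum_eq_single (0 : ZMod p)]
  · simp [delta]
  · intro i _ hi; simp [delta, hi]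
  · intro h; exact absurd (Finset.mem_univ _) h

theorem const_lie (x : L) (g : Conv p L) (k : ZMod p) :
    ⁅const p x, g⁆ k = ⁅x, ∑ i : ZMod p, g i⁆ := by
  rw [lie_apply, lie_sum]
  apply Fintype.sum_equiv (Equiv.subLeft k)
  intro i
  simp [const]

/-- the embedding `x ↦ δ₀ x − m · const x` -/
def iota (p : ℕ) (m : ℕ) (x : L) : Conv p L := delta p x - const p (m • x)

theorem iota_apply_zero (m : ℕ) (x : L) : (iota p m x) 0 = x - m • x := by
  simp [iota, delta, const]

theorem iota_apply_ne (m : ℕ) (x : L) {k : ZMod p} (hk : k ≠ 0) :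
    (iota p m x) k = -(m • x) := by
  simp [iota, delta, const, hk]

theorem sum_delta (x : L) : ∑ i : ZMod p, delta p x i = x := by
  rw [Finset.sum_eq_single (0 : ZMod p)]
  · simp [delta]
  · intro i _ hi; simp [delta, hi]
  · intro h; exact absurd (Finset.mem_univ _) h

theorem sum_const (x : L) : ∑ i : ZMod p, const p x i = p • x := by
  simp [const, Finset.sum_const, ZMod.card]

theorem iota_lie (m : ℕ) (hm : ∀ x : L, (m * p) • x = x) (x y : L) :
    ⁅iota p m x, iota p m y⁆ = iota p m ⁅x, y⁆ := by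
  ext k
  unfold iota
  have hs : ∑ i : ZMod p, (delta p y - const p (m • y)) i = y - p • m • y := by
    simp only [Pi.sub_apply, Finset.sum_sub_distrib, sum_delta, sum_const]
  rw [sub_lie, Pi.sub_apply, delta_lie, const_lie, Pi.sub_apply, hs]
  have h1 : ⁅m • x, y - p • m • y⁆ = m • ⁅x, y⁆ - m • ⁅x, y⁆ := by
    rw [lie_sub, nsmul_lie, lie_nsmul, lie_nsmul, nsmul_lie, ← mul_smul, ← mul_smul]
    have : (p * m * m) • ⁅x, y⁆ = m • ⁅x, y⁆ := by
      rw [show p * m * m = m * (m * p) by ring, mul_smul, hm]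
    rw [this]
  rw [h1, sub_self, sub_zero]
  by_cases hk : k = 0
  · subst hk
    simp [delta, const, lie_sub, lie_nsmul]
  · simp [delta, const, hk, lie_nsmul]

theorem iota_lprod (m : ℕ) (hm : ∀ x : L, (m * p) • x = x) (a : L) (l : List L) :
    lprod (iota p m a) (l.map (iota p m)) = iota p m (lprod a l) := by
  induction l generalizing a with
  | nil => rfl
  | cons u l ih => rw [List.map_cons, lprod_cons, lprod_cons, iota_lie m hm, ih]

theorem iota_inj (m : ℕ) {z : L} (h : iota p m z = 0) : z = 0 := by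
  have h0 := congrFun h 0
  have h1 := congrFun h 1
  have hne : (1 : ZMod p) ≠ 0 := one_ne_zero
  rw [iota_apply_zero] at h0
  rw [iota_apply_ne m z hne] at h1
  change z - m • z = 0 at h0
  change -(m • z) = 0 at h1
  rw [neg_eq_zero] at h1
  rw [h1, sub_zero] at h0
  exact h0

/-- the eigen-family of the pointwise action of `φ` against the shift -/
def Mc (φ : L →+ L) (i : ZMod p) : AddSubgroup (Conv p L) where
  carrier := {f | ∀ k, φ (f k) = f (k + i)}
  zero_mem' := by intro k; simp
  add_mem' := by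
    intro f g hf hg k
    simp only [Pi.add_apply, map_add]
    rw [hf k, hg k]
  neg_mem' := by
    intro f hf k
    simp only [Pi.neg_apply, map_neg]
    rw [hf k]

theorem mem_Mc {φ : L →+ L} {i : ZMod p} {f : Conv p L} :
    f ∈ Mc φ i ↔ ∀ k, φ (f k) = f (k + i) := Iff.rfl

theorem Mc_graded (φ : L →+ L) (hφ : ∀ x y, φ ⁅x, y⁆ = ⁅φ x, φ y⁆)
    (hfix : ∀ x, φ x = x → x = 0) : IsGraded (Mc (p := p) φ) := by
  refine ⟨?_, ?_⟩
  · intro i j f g hf hg
    rw [mem_Mc] at hf hg ⊢
    intro k
    rw [lie_apply, lie_apply, map_sum]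
    apply Fintype.sum_equiv (Equiv.addRight i)
    intro t
    rw [hφ, hf t, hg (k - t)]
    simp only [Equiv.coe_addRight]
    congr 2
    ring
  · rw [eq_bot_iff]
    intro f hf
    rw [mem_Mc] at hf
    rw [AddSubgroup.mem_bot]
    ext k
    have := hf k
    rw [add_zero] at this
    exact hfix _ this

/-- the `φ`-orbit of `x`, indexed by `ZMod p` -/
def orb (φ : L →+ L) (x : L) (t : ZMod p) : L := φ^[t.val] x

theorem orb_zero (φ : L →+ L) (x : L) : orb (p := p) φ x 0 = x := by
  simp [orb]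

theorem orb_succ (φ : L →+ L) (hpow : ∀ x, φ^[p] x = x) (x : L) (t : ZMod p) :
    φ (orb φ x t) = orb φ x (t + 1) := by
  unfold orb
  rw [← Function.iterate_succ_apply' φ]
  have h1 : (1 : ZMod p).val = 1 := by
    rw [ZMod.val_one_eq_one_mod]
    exact Nat.mod_eq_of_lt (Fact.out : p.Prime).one_lt
  have htv := ZMod.val_lt t
  rcases val_add_cases t 1 with ⟨h, _⟩ | ⟨h, h'⟩
  · rw [h, h1]
  · rw [h1] at h h'
    have e1 : t.val + 1 = p := by omega
    have e2 : (t + 1).val = 0 := by omega
    rw [Nat.succ_eq_add_one, e1, e2, hpow]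
    rfl

theorem sum_orb (φ : L →+ L) (hpow : ∀ x, φ^[p] x = x) (hfix : ∀ x, φ x = x → x = 0) (x : L) :
    ∑ t : ZMod p, orb φ x t = 0 := by
  apply hfix
  rw [map_sum]
  apply Fintype.sum_equiv (Equiv.addRight 1)
  intro t
  rw [orb_succ φ hpow]
  rfl

/-- the element of `Mc φ i` with value `x` at `0` (for `i ≠ 0`) -/
def hfun (φ : L →+ L) (i : ZMod p) (x : L) : Conv p L := fun k => orb φ x (k * i⁻¹)

theorem hfun_mem (φ : L →+ L) (hpow : ∀ x, φ^[p] x = x) {i : ZMod p} (hi : i ≠ 0) (x : L) :
    hfun φ i x ∈ Mc φ i := by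
  rw [mem_Mc]
  intro k
  unfold hfun
  rw [orb_succ φ hpow]
  congr 1
  rw [add_mul, mul_inv_cancel₀ hi]

theorem sum_hfun (φ : L →+ L) (hpow : ∀ x, φ^[p] x = x) (hfix : ∀ x, φ x = x → x = 0) (x : L)
    (k : ZMod p) :
    ∑ i ∈ (Finset.univ.erase (0 : ZMod p)), hfun φ i x k =
      if k = 0 then (p - 1) • x else -x := by
  by_cases hk : k = 0
  · subst hk
    rw [if_pos rfl]
    have : ∀ i ∈ (Finset.univ.erase (0 : ZMod p)), hfun φ i x 0 = x := by
      intro i _
      simp [hfun, orb_zero]
    rw [Finset.sum_congr rfl this, Finset.sum_const, Finset.card_erase_of_mem (Finset.mem_univ _),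
      Finset.card_univ, ZMod.card]
  · rw [if_neg hk]
    have h1 : ∑ i ∈ (Finset.univ.erase (0 : ZMod p)), hfun φ i x k
        = ∑ t ∈ (Finset.univ.erase (0 : ZMod p)), orb φ x t := by
      apply Finset.sum_bij' (fun i _ => k * i⁻¹) (fun t _ => k * t⁻¹)
      · intro i hi
        have hi0 : i ≠ 0 := Finset.ne_of_mem_erase hi
        exact Finset.mem_erase.mpr ⟨mul_ne_zero hk (inv_ne_zero hi0), Finset.mem_univ _⟩
      · intro t ht
        have ht0 : t ≠ 0 := Finset.ne_of_mem_erase ht
        exact Finset.mem_erase.mpr ⟨mul_ne_zero hk (inv_ne_zero ht0), Finset.mem_univ _⟩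
      · intro i hi
        have hi0 : i ≠ 0 := Finset.ne_of_mem_erase hi
        field_simp
      · intro t ht
        have ht0 : t ≠ 0 := Finset.ne_of_mem_erase ht
        field_simp
      · intro i _
        rfl
    rw [h1, Finset.sum_erase_eq_sub (Finset.mem_univ _), sum_orb φ hpow hfix, orb_zero, zero_sub]

theorem iota_eq (φ : L →+ L) (hpow : ∀ x, φ^[p] x = x) (hfix : ∀ x, φ x = x → x = 0) (m : ℕ)
    (hm : ∀ x : L, (m * p) • x = x) (x : L) :
    iota p m x = m • ∑ i ∈ (Finset.univ.erase (0 : ZMod p)), hfun φ i x := by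
  ext k
  rw [Pi.smul_apply, Finset.sum_apply, sum_hfun φ hpow hfix]
  by_cases hk : k = 0
  · subst hk
    rw [iota_apply_zero, if_pos rfl, ← mul_smul]
    have hp1 : 1 ≤ p := (Fact.out : p.Prime).one_lt.le
    have : (m * (p - 1)) • x + m • x = x := by
      rw [← add_smul]
      have : m * (p - 1) + m = m * p := by
        conv_rhs => rw [show p = (p - 1) + 1 by omega]
        ring
      rw [this, hm]
    rw [sub_eq_iff_eq_add]
    exact this.symm
  · rw [iota_apply_ne m x hk, if_neg hk, smul_neg]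

theorem iota_mem (φ : L →+ L) (hpow : ∀ x, φ^[p] x = x) (hfix : ∀ x, φ x = x → x = 0) (m : ℕ)
    (hm : ∀ x : L, (m * p) • x = x) (x : L) : iota p m x ∈ ⨆ i, Mc (p := p) φ i := by
  rw [iota_eq φ hpow hfix m hm]
  apply AddSubgroup.nsmul_mem
  apply AddSubgroup.sum_mem
  intro i hi
  have hi0 : i ≠ 0 := Finset.ne_of_mem_erase hi
  exact AddSubgroup.mem_iSup_of_mem i (hfun_mem φ hpow hi0 x)

/-- internal form of the main theorem of this file (inside the `Conv` section, where the local
convolution Lie ring instance is visible) -/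
theorem lprod_eq_zero_of_fpf_aux (φ : L →+ L)
    (hφ : ∀ x y, φ ⁅x, y⁆ = ⁅φ x, φ y⁆) (hpow : ∀ x, φ^[p] x = x)
    (hfix : ∀ x, φ x = x → x = 0) (m : ℕ) (hm : ∀ x : L, (m * p) • x = x)
    (a : L) (l : List L) (hlen : l.length = hkk p) : lprod a l = 0 := by
  have hgr := Mc_graded (p := p) φ hφ hfix
  have h := lprod_eq_zero_of_graded hgr (iota p m a) (l.map (iota p m))
    (iota_mem φ hpow hfix m hm a)
    (by
      intro x hx
      obtain ⟨y, _, rfl⟩ := List.mem_map.mp hx
      exact iota_mem φ hpow hfix m hm y)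
    (by rw [List.length_map, hlen])
  rw [iota_lprod m hm] at h
  exact iota_inj m h

end Conv

/-- **Higman–Kreknin–Kostrikin for Lie rings**: a Lie ring with an automorphism of prime order `p`
without non-zero fixed points, on which `p` is invertible, is nilpotent of class at most
`hkk p`. -/
theorem lprod_eq_zero_of_fpf {L : Type*} [LieRing L] {p : ℕ} [Fact p.Prime] (φ : L →+ L)
    (hφ : ∀ x y, φ ⁅x, y⁆ = ⁅φ x, φ y⁆) (hpow : ∀ x, φ^[p] x = x)
    (hfix : ∀ x, φ x = x → x = 0) (m : ℕ) (hm : ∀ x : L, (m * p) • x = x)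
    (a : L) (l : List L) (hlen : l.length = hkk p) : lprod a l = 0 :=
  Conv.lprod_eq_zero_of_fpf_aux φ hφ hpow hfix m hm a l hlen

end Cfsg.Agent.Lib.Helper20.HKK
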