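import Cfsg.Agent.Lib.Helper20.HKKK2

set_option autoImplicit false

/-!
# Higman–Kreknin–Kostrikin, piece H1: lower central family, ideals, subset sums
-/

namespace Cfsg.Agent.Lib.Helper20.HKK

section

variable {L : Type*} [LieRing L] {n : ℕ} {M : ZMod n → AddSubgroup L}

theorem gam_le (hM : IsGraded M) (w : ℕ) (d : ZMod n) : gam M w d ≤ M d := by
  induction w generalizing d with
  | zero => exact le_rfl
  | succ w ih =>
    change brk (gam M w) M d ≤ M d
    unfold brk
    rw [AddSubgroup.closure_le]
    rintro z ⟨c, c', x, y, rfl, hx, hy, rfl⟩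
    exact hM.lie_mem (ih c hx) hy

theorem gam_succ_le (hM : IsGraded M) (w : ℕ) (d : ZMod n) : gam M (w + 1) d ≤ gam M w d := by
  induction w generalizing d with
  | zero => exact gam_le hM 1 d
  | succ w ih =>
    change brk (gam M (w + 1)) M d ≤ brk (gam M w) M d
    exact brk_mono ih (fun _ => le_rfl) d

theorem gam_antitone (hM : IsGraded M) {w w' : ℕ} (h : w ≤ w') (d : ZMod n) :
    gam M w' d ≤ gam M w d := by
  induction w', h using Nat.le_induction with
  | base => exact le_rfl
  | succ t _ ih => exact (gam_succ_le hM t d).trans ih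

theorem gam_lie (_hM : IsGraded M) {w w' : ℕ} {c c' : ZMod n} {x y : L} (hx : x ∈ gam M w c)
    (hy : y ∈ gam M w' c') : ⁅x, y⁆ ∈ gam M (w + w' + 1) (c + c') := by
  induction w' generalizing w c c' x y with
  | zero => exact mem_brk hx hy
  | succ w' ih =>
    change y ∈ brk (gam M w') M c' at hy
    unfold brk at hy
    induction hy using AddSubgroup.closure_induction with
    | zero => simp
    | add a b _ _ iha ihb => rw [lie_add]; exact add_mem iha ihb
    | neg a _ iha => rw [lie_neg]; exact neg_mem iha
    | mem z hz =>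
      obtain ⟨a, b, y1, m, rfl, hy1, hm, rfl⟩ := hz
      have e1 : ⁅x, ⁅y1, m⁆⁆ = ⁅⁅x, y1⁆, m⁆ - ⁅⁅x, m⁆, y1⁆ := by
        rw [leibniz_lie x y1 m, ← lie_skew y1 ⁅x, m⁆]; abel
      rw [e1]
      apply sub_mem
      · have h1 : ⁅x, y1⁆ ∈ gam M (w + w' + 1) (c + a) := ih hx hy1
        have h2 : ⁅⁅x, y1⁆, m⁆ ∈ gam M (w + w' + 1 + 1) (c + a + b) := mem_brk h1 hm
        have e : c + a + b = c + (a + b) := by ring
        rw [e] at h2
        exact h2
      · have h1 : ⁅x, m⁆ ∈ gam M (w + 1) (c + b) := mem_brk hx hm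
        have h2 : ⁅⁅x, m⁆, y1⁆ ∈ gam M (w + 1 + w' + 1) (c + b + a) := ih h1 hy1
        have e : c + b + a = c + (a + b) := by ring
        have e' : w + 1 + w' + 1 = w + (w' + 1) + 1 := by ring
        rw [e, e'] at h2
        exact h2

theorem der_ideal (hM : IsGraded M) (s : ℕ) {c c' : ZMod n} {x y : L} (hx : x ∈ der M s c)
    (hy : y ∈ M c') : ⁅x, y⁆ ∈ der M s (c + c') := by
  induction s generalizing c c' x y with
  | zero => exact hM.lie_mem hx hy
  | succ s ih =>
    change x ∈ brk (der M s) (der M s) c at hx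
    unfold brk at hx
    induction hx using AddSubgroup.closure_induction with
    | zero => simp
    | add a b _ _ iha ihb => rw [add_lie]; exact add_mem iha ihb
    | neg a _ iha => rw [neg_lie]; exact neg_mem iha
    | mem z hz =>
      obtain ⟨c1, c2, a, b, rfl, ha, hb, rfl⟩ := hz
      have hjac : ⁅⁅a, b⁆, y⁆ = ⁅⁅a, y⁆, b⁆ + ⁅a, ⁅b, y⁆⁆ := by
        rw [lie_lie a b y, ← lie_skew ⁅a, y⁆ b]; abel
      rw [hjac]
      apply add_mem
      · have h1 : ⁅a, y⁆ ∈ der M s (c1 + c') := ih ha hy
        have h2 : ⁅⁅a, y⁆, b⁆ ∈ der M (s + 1) (c1 + c' + c2) := mem_brk h1 hb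
        have e : c1 + c' + c2 = c1 + c2 + c' := by ring
        rw [e] at h2; exact h2
      · have h1 : ⁅b, y⁆ ∈ der M s (c2 + c') := ih hb hy
        have h2 : ⁅a, ⁅b, y⁆⁆ ∈ der M (s + 1) (c1 + (c2 + c')) := mem_brk ha h1
        have e : c1 + (c2 + c') = c1 + c2 + c' := by ring
        rw [e] at h2; exact h2

end

section subsetsum

variable {p : ℕ} [Fact p.Prime] {α : Type*}

/-- achievable sub-sums -/
def subSums (f : α → ZMod p) : List α → Finset (ZMod p)
  | [] => {0}
  | x :: l => subSums f l ∪ (subSums f l).image (· + f x)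

theorem subSums_spec (f : α → ZMod p) (l : List α) (s : ZMod p) (hs : s ∈ subSums f l) :
    ∃ l₁ l₂ : List α, l.Perm (l₁ ++ l₂) ∧ (l₁.map f).sum = s := by
  induction l generalizing s with
  | nil =>
    simp only [subSums, Finset.mem_singleton] at hs
    exact ⟨[], [], by simp, by simp [hs]⟩
  | cons x l ih =>
    simp only [subSums, Finset.mem_union, Finset.mem_image] at hs
    rcases hs with hs | ⟨s', hs', rfl⟩
    · obtain ⟨l₁, l₂, hperm, hsum⟩ := ih s hs
      refine ⟨l₁, x :: l₂, ?_, hsum⟩
      exact (List.Perm.cons x hperm).trans List.perm_middle.symm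
    · obtain ⟨l₁, l₂, hperm, hsum⟩ := ih s' hs'
      refine ⟨x :: l₁, l₂, ?_, ?_⟩
      · simpa using List.Perm.cons x hperm
      · simp [hsum, add_comm]

theorem zero_mem_subSums (f : α → ZMod p) (l : List α) : (0 : ZMod p) ∈ subSums f l := by
  induction l with
  | nil => simp [subSums]
  | cons x l ih => simp only [subSums, Finset.mem_union]; left; exact ih

theorem eq_univ_of_closed (A : Finset (ZMod p)) (h0 : (0 : ZMod p) ∈ A) (g : ZMod p)
    (hg : g ≠ 0) (hcl : ∀ a ∈ A, a + g ∈ A) : A = Finset.univ := by
  have hk : ∀ k : ℕ, (k : ZMod p) * g ∈ A := by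
    intro k
    induction k with
    | zero => simpa using h0
    | succ k ih =>
      have := hcl _ ih
      have e : ((k + 1 : ℕ) : ZMod p) * g = (k : ZMod p) * g + g := by push_cast; ring
      rw [e]; exact this
  apply Finset.eq_univ_of_forall
  intro t
  have := hk (t * g⁻¹).val
  rw [ZMod.natCast_zmod_val, mul_assoc, inv_mul_cancel₀ hg, mul_one] at this
  exact this

theorem card_subSums (f : α → ZMod p) (l : List α) (hl : ∀ a ∈ l, f a ≠ 0) :
    min p (l.length + 1) ≤ (subSums f l).card := by
  induction l with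
  | nil => simp [subSums]
  | cons x l ih =>
    have ih' := ih (fun a ha => hl a (List.mem_cons_of_mem _ ha))
    have hx : f x ≠ 0 := hl x (List.mem_cons_self)
    by_cases hfull : subSums f l = Finset.univ
    · have : subSums f (x :: l) = Finset.univ := by
        simp only [subSums, hfull]
        exact Finset.eq_univ_of_forall (fun t => Finset.mem_union_left _ (Finset.mem_univ t))
      rw [this, Finset.card_univ, ZMod.card]
      exact min_le_left _ _
    · have hnc : ¬ ∀ a ∈ subSums f l, a + f x ∈ subSums f l := fun hcl =>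
        hfull (eq_univ_of_closed _ (zero_mem_subSums f l) _ hx hcl)
      push Not at hnc
      obtain ⟨a, ha, hax⟩ := hnc
      have hlt : (subSums f l).card < (subSums f (x :: l)).card := by
        apply Finset.card_lt_card
        rw [Finset.ssubset_iff_of_subset (by simp [subSums])]
        refine ⟨a + f x, ?_, hax⟩
        simp only [subSums, Finset.mem_union, Finset.mem_image]
        right; exact ⟨a, ha, rfl⟩
      have hlen : (x :: l).length + 1 = (l.length + 1) + 1 := by simp
      rw [hlen]
      have : (subSums f l).card < p := by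
        have h1 : (subSums f l).card ≤ p := by
          have := Finset.card_le_univ (subSums f l)
          rwa [ZMod.card] at this
        rcases lt_or_eq_of_le h1 with h | h
        · exact h
        · exfalso; apply hfull
          apply Finset.eq_univ_of_card
          rw [h, ZMod.card]
      omega

theorem subset_sum (f : α → ZMod p) (l : List α)
    (hl : ∀ a ∈ l, f a ≠ 0) (hlen : l.length = p - 1) (s : ZMod p) :
    ∃ l₁ l₂ : List α, l.Perm (l₁ ++ l₂) ∧ (l₁.map f).sum = s := by
  apply subSums_spec f l s
  have hp : 1 ≤ p := (Fact.out : p.Prime).one_lt.le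
  have h := card_subSums f l hl
  rw [hlen, show p - 1 + 1 = p by omega, min_self] at h
  have : subSums f l = Finset.univ := by
    apply Finset.eq_univ_of_card
    have h1 := Finset.card_le_univ (subSums f l)
    rw [ZMod.card] at h1 ⊢
    omega
  rw [this]; exact Finset.mem_univ _

end subsetsum

end Cfsg.Agent.Lib.Helper20.HKK
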