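import Cfsg.Agent.Lib.Helper20.HKKH1

set_option autoImplicit false

/-!
# Higman–Kreknin–Kostrikin, piece H2: the Kostrikin–Kreknin step
-/

namespace Cfsg.Agent.Lib.Helper20.HKK

section lprod

variable {L : Type*} [LieRing L]

theorem lprod_zero (l : List L) : lprod (0 : L) l = 0 := by
  induction l with
  | nil => rfl
  | cons u l ih => rw [lprod_cons, zero_lie, ih]

theorem lprod_add (a b : L) (l : List L) : lprod (a + b) l = lprod a l + lprod b l := by
  induction l generalizing a b with
  | nil => rfl
  | cons u l ih => rw [lprod_cons, lprod_cons, lprod_cons, add_lie, ih]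

theorem lprod_neg (a : L) (l : List L) : lprod (-a) l = -lprod a l := by
  induction l generalizing a with
  | nil => rfl
  | cons u l ih => rw [lprod_cons, lprod_cons, neg_lie, ih]

theorem lprod_sub (a b : L) (l : List L) : lprod (a - b) l = lprod a l - lprod b l := by
  rw [sub_eq_add_neg, lprod_add, lprod_neg, ← sub_eq_add_neg]

theorem lprod_eq_zero_of_mem_zero (a : L) (l : List L) (h : (0 : L) ∈ l) : lprod a l = 0 := by
  obtain ⟨s, t, rfl⟩ := List.append_of_mem h
  rw [lprod_append, lprod_cons, lie_zero, lprod_zero]

end lprod

section ops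

variable {L : Type*} {n : ℕ}

/-- an operator: weight index, degree, element -/
abbrev Op (n : ℕ) (L : Type*) := ℕ × ZMod n × L

/-- validity of an operator -/
def OpValid [LieRing L] (M : ZMod n → AddSubgroup L) (o : Op n L) : Prop :=
  o.2.2 ∈ gam M o.1 o.2.1

/-- total weight -/
def totWt (l : List (Op n L)) : ℕ := (l.map (fun o => o.1 + 1)).sum

/-- total degree -/
def totDeg (l : List (Op n L)) : ZMod n := (l.map (fun o => o.2.1)).sum

/-- the elements -/
def opEls (l : List (Op n L)) : List L := l.map (fun o => o.2.2)

@[simp] theorem totWt_nil : totWt ([] : List (Op n L)) = 0 := rfl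
@[simp] theorem totDeg_nil : totDeg ([] : List (Op n L)) = 0 := rfl
@[simp] theorem opEls_nil : opEls ([] : List (Op n L)) = [] := rfl
@[simp] theorem totWt_cons (o : Op n L) (l : List (Op n L)) :
    totWt (o :: l) = o.1 + 1 + totWt l := by simp [totWt]
@[simp] theorem totDeg_cons (o : Op n L) (l : List (Op n L)) :
    totDeg (o :: l) = o.2.1 + totDeg l := by simp [totDeg]
@[simp] theorem opEls_cons (o : Op n L) (l : List (Op n L)) :
    opEls (o :: l) = o.2.2 :: opEls l := by simp [opEls]
@[simp] theorem totWt_append (l l' : List (Op n L)) :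
    totWt (l ++ l') = totWt l + totWt l' := by simp [totWt]
@[simp] theorem totDeg_append (l l' : List (Op n L)) :
    totDeg (l ++ l') = totDeg l + totDeg l' := by simp [totDeg]
@[simp] theorem opEls_append (l l' : List (Op n L)) :
    opEls (l ++ l') = opEls l ++ opEls l' := by simp [opEls]

theorem totWt_perm {l l' : List (Op n L)} (h : l.Perm l') : totWt l = totWt l' :=
  (h.map _).sum_eq

theorem totDeg_perm {l l' : List (Op n L)} (h : l.Perm l') : totDeg l = totDeg l' :=
  (h.map _).sum_eq

variable [LieRing L] {M : ZMod n → AddSubgroup L}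

/-- an ideal family stays stable under valid operators -/
theorem lprod_mem_ideal (hM : IsGraded M) (B : ZMod n → AddSubgroup L)
    (hB : ∀ {c c' : ZMod n} {x y : L}, x ∈ B c → y ∈ M c' → ⁅x, y⁆ ∈ B (c + c'))
    (us : List (Op n L)) (hv : ∀ o ∈ us, OpValid M o) {d₀ : ZMod n} {a : L} (ha : a ∈ B d₀) :
    lprod a (opEls us) ∈ B (d₀ + totDeg us) := by
  induction us generalizing d₀ a with
  | nil => simpa using ha
  | cons o us ih =>
    have ho : o.2.2 ∈ M o.2.1 := gam_le hM _ _ (hv o (List.mem_cons_self))
    have h1 := hB ha ho
    have h2 := ih (fun o' ho' => hv o' (List.mem_cons_of_mem _ ho')) h1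
    simp only [opEls_cons, lprod_cons, totDeg_cons]
    have e : d₀ + (o.2.1 + totDeg us) = d₀ + o.2.1 + totDeg us := by ring
    rw [e]; exact h2

end ops

section kk

variable {L : Type*} [LieRing L] {p : ℕ} [Fact p.Prime] {M : ZMod p → AddSubgroup L}

/-- the main lemma `ML(r)` for fixed `k` -/
theorem ML (hM : IsGraded M) (k : ℕ) (hIH : ∀ d, gam M (cK p k) d ≤ der M k d) :
    ∀ (r : ℕ) (us : List (Op p L)), us.length = r → (∀ o ∈ us, OpValid M o) →
      (p - 2) * cK p k + 1 ≤ totWt us → ∀ (d₀ : ZMod p) (a : L), a ∈ der M k d₀ →
      lprod a (opEls us) ∈ der M (k + 1) (d₀ + totDeg us) := by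
  have hp2 : 2 ≤ p := (Fact.out : p.Prime).two_le
  obtain ⟨c, hc⟩ : ∃ c, c = cK p k := ⟨_, rfl⟩
  rw [← hc] at hIH ⊢
  have hB : ∀ {c c' : ZMod p} {x y : L}, x ∈ der M k c → y ∈ M c' → ⁅x, y⁆ ∈ der M k (c + c') :=
    fun hx hy => der_ideal hM k hx hy
  have hB' : ∀ {c c' : ZMod p} {x y : L}, x ∈ der M (k + 1) c → y ∈ M c' →
      ⁅x, y⁆ ∈ der M (k + 1) (c + c') := fun hx hy => der_ideal hM (k + 1) hx hy
  intro r
  induction r using Nat.strong_induction_on with
  | _ r ih =>
    intro us hlen hval hwt d₀ a ha
    by_cases hA : ∃ o ∈ us, c ≤ o.1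
    · -- Case A
      obtain ⟨o, ho, hco⟩ := hA
      obtain ⟨pre, post, rfl⟩ := List.append_of_mem ho
      have hvpre : ∀ o' ∈ pre, OpValid M o' := fun o' h' => hval o' (by simp [h'])
      have hvpost : ∀ o' ∈ post, OpValid M o' := fun o' h' => hval o' (by simp [h'])
      have hv := lprod_mem_ideal hM (der M k) hB pre hvpre ha
      have hou : o.2.2 ∈ der M k o.2.1 :=
        hIH _ (gam_antitone hM hco _ (hval o (by simp)))
      have h1 : ⁅lprod a (opEls pre), o.2.2⁆ ∈ der M (k + 1) (d₀ + totDeg pre + o.2.1) :=
        mem_brk hv hou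
      have h2 := lprod_mem_ideal hM (der M (k + 1)) hB' post hvpost h1
      simp only [opEls_append, opEls_cons, lprod_append, lprod_cons, totDeg_append, totDeg_cons]
      have e : d₀ + (totDeg pre + (o.2.1 + totDeg post)) = d₀ + totDeg pre + o.2.1 + totDeg post := by
        ring
      rw [e]; exact h2
    · -- Case B
      push Not at hA
      -- length bound
      have hwle : ∀ l : List (Op p L), (∀ o ∈ l, o.1 < c) → totWt l ≤ l.length * c := by
        intro l
        induction l with
        | nil => intro _; simp
        | cons o l ihl =>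
          intro h
          have h1 := ihl (fun o' ho' => h o' (List.mem_cons_of_mem _ ho'))
          have h2 := h o (List.mem_cons_self)
          simp only [totWt_cons, List.length_cons]
          nlinarith
      have hrc := hwle us hA
      rw [hlen] at hrc
      have hr : p - 1 ≤ r := by
        by_contra hcon
        have hr' : r ≤ p - 2 := by omega
        have : r * c ≤ (p - 2) * c := Nat.mul_le_mul_right c hr'
        omega
      -- split
      obtain ⟨first, hfirst⟩ : ∃ f, f = us.take (p - 1) := ⟨_, rfl⟩
      obtain ⟨rest, hrest⟩ : ∃ f, f = us.drop (p - 1) := ⟨_, rfl⟩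
      have hus : us = first ++ rest := by rw [hfirst, hrest, List.take_append_drop]
      have hflen : first.length = p - 1 := by
        rw [hfirst, List.length_take, hlen]; omega
      by_cases ha0 : a = 0
      · rw [ha0, lprod_zero]; exact zero_mem _
      by_cases hz : ∃ o ∈ first, o.2.1 = 0
      · obtain ⟨o, ho, hoz⟩ := hz
        have hous : o ∈ us := by rw [hus]; simp [ho]
        have hov := gam_le hM _ _ (hval o hous)
        rw [hoz, hM.zero, AddSubgroup.mem_bot] at hov
        have : (0 : L) ∈ opEls us := by
          rw [← hov]; exact List.mem_map.mpr ⟨o, hous, rfl⟩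
        rw [lprod_eq_zero_of_mem_zero _ _ this]; exact zero_mem _
      push Not at hz
      obtain ⟨l₁, l₂, hperm, hsum⟩ := subset_sum (fun o : Op p L => o.2.1) first hz hflen (-d₀)
      -- permutation invariance
      have PI : ∀ (l l' : List (Op p L)), l.Perm l' → ∀ (pre : List (Op p L)),
          (pre ++ l).length = r → (∀ o ∈ pre ++ l, OpValid M o) →
          (p - 2) * c + 1 ≤ totWt (pre ++ l) → ∀ (d₁ : ZMod p) (b : L), b ∈ der M k d₁ →
          lprod b (opEls (pre ++ l)) - lprod b (opEls (pre ++ l')) ∈
            der M (k + 1) (d₁ + totDeg (pre ++ l)) := by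
        intro l l' h
        induction h with
        | nil => intro pre _ _ _ d₁ b _; simp
        | @cons x l l' _ ihp =>
          intro pre hl hv hw d₁ b hb
          have e1 : pre ++ x :: l = (pre ++ [x]) ++ l := by simp
          have e2 : pre ++ x :: l' = (pre ++ [x]) ++ l' := by simp
          rw [e1, e2]
          rw [e1] at hl hv hw
          exact ihp (pre ++ [x]) hl hv hw d₁ b hb
        | swap x y l =>
          intro pre hl hv hw d₁ b hb
          -- merged operator
          obtain ⟨z, hzdef⟩ : ∃ z : Op p L, z = (y.1 + x.1 + 1, y.2.1 + x.2.1, ⁅y.2.2, x.2.2⁆) :=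
            ⟨_, rfl⟩
          have hy : OpValid M y := hv y (by simp)
          have hx : OpValid M x := hv x (by simp)
          have hzv : OpValid M z := by
            rw [hzdef]; exact gam_lie hM hy hx
          have hdiff : lprod b (opEls (pre ++ y :: x :: l)) - lprod b (opEls (pre ++ x :: y :: l))
              = lprod b (opEls (pre ++ z :: l)) := by
            simp only [opEls_append, opEls_cons, lprod_append, lprod_cons]
            rw [← lprod_sub, hzdef]
            congr 1
            set v := lprod b (opEls pre)
            rw [leibniz_lie v y.2.2 x.2.2, ← lie_skew y.2.2 ⁅v, x.2.2⁆]; abel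
          rw [hdiff]
          have hlz : (pre ++ z :: l).length < r := by
            rw [← hl]; simp
          have hvz : ∀ o ∈ pre ++ z :: l, OpValid M o := by
            intro o ho
            simp only [List.mem_append, List.mem_cons] at ho
            rcases ho with ho | rfl | ho
            · exact hv o (by simp [ho])
            · exact hzv
            · exact hv o (by simp [ho])
          have hwz : totWt (pre ++ z :: l) = totWt (pre ++ y :: x :: l) := by
            simp only [totWt_append, totWt_cons, hzdef]; ring
          have hdz : totDeg (pre ++ z :: l) = totDeg (pre ++ y :: x :: l) := by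
            simp only [totDeg_append, totDeg_cons, hzdef]; ring
          have := ih _ hlz (pre ++ z :: l) rfl hvz (by rw [hwz]; exact hw) d₁ b hb
          rw [hdz] at this
          exact this
        | @trans l₁' l₂' l₃' h12 h23 ih12 ih23 =>
          intro pre hl hv hw d₁ b hb
          have hP : (pre ++ l₁').Perm (pre ++ l₂') := List.Perm.append_left pre h12
          have hl2 : (pre ++ l₂').length = r := by rw [← hP.length_eq]; exact hl
          have hv2 : ∀ o ∈ pre ++ l₂', OpValid M o := fun o ho => hv o (hP.mem_iff.mpr ho)
          have hw2 : (p - 2) * c + 1 ≤ totWt (pre ++ l₂') := by rw [← totWt_perm hP]; exact hw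
          have a1 := ih12 pre hl hv hw d₁ b hb
          have a2 := ih23 pre hl2 hv2 hw2 d₁ b hb
          rw [← totDeg_perm hP] at a2
          have := add_mem a1 a2
          rw [sub_add_sub_cancel] at this
          exact this
      -- apply PI
      have hP : first.Perm (l₁ ++ l₂) := hperm
      have hP2 : (first ++ rest).Perm ((l₁ ++ l₂) ++ rest) := List.Perm.append_right rest hP
      have h1 := PI (first ++ rest) ((l₁ ++ l₂) ++ rest) hP2 [] (by simpa [← hus] using hlen)
        (by simpa [← hus] using hval) (by simpa [← hus] using hwt) d₀ a ha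
      simp only [List.nil_append] at h1
      rw [← hus] at h1
      -- the reordered product vanishes
      have hvl₁ : ∀ o ∈ l₁, OpValid M o := by
        intro o ho
        apply hval o
        rw [hus]
        have : o ∈ first := hP.mem_iff.mpr (by simp [ho])
        simp [this]
      have h0 : lprod a (opEls l₁) = 0 := by
        have := lprod_mem_ideal hM (der M k) hB l₁ hvl₁ ha
        have e : d₀ + totDeg l₁ = 0 := by
          change d₀ + (l₁.map (fun o : Op p L => o.2.1)).sum = 0
          rw [hsum]; ring
        rw [e] at this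
        have h3 := der_le hM k 0 this
        rwa [hM.zero, AddSubgroup.mem_bot] at h3
      have hzero : lprod a (opEls ((l₁ ++ l₂) ++ rest)) = 0 := by
        simp only [opEls_append, lprod_append, h0, lprod_zero]
      rw [hzero, sub_zero] at h1
      exact h1

/-- representation of `gam M (c + W)` by products of weight one operators -/
theorem gam_repr (c W : ℕ) (d : ZMod p) :
    gam M (c + W) d ≤ AddSubgroup.closure
      {z | ∃ (d₀ : ZMod p) (a : L) (us : List (Op p L)), a ∈ gam M c d₀ ∧ totWt us = W ∧
        (∀ o ∈ us, OpValid M o) ∧ d₀ + totDeg us = d ∧ z = lprod a (opEls us)} := by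
  induction W generalizing d with
  | zero =>
    intro x hx
    apply AddSubgroup.subset_closure
    exact ⟨d, x, [], hx, rfl, by simp, by simp, rfl⟩
  | succ W ih =>
    change brk (gam M (c + W)) M d ≤ _
    unfold brk
    rw [AddSubgroup.closure_le]
    rintro z ⟨c1, c2, x, m, rfl, hx, hm, rfl⟩
    have hx' := ih c1 hx
    clear hx
    induction hx' using AddSubgroup.closure_induction with
    | zero => simp
    | add a b _ _ iha ihb => rw [add_lie]; exact add_mem iha ihb
    | neg a _ iha => rw [neg_lie]; exact neg_mem iha
    | mem y hy =>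
      obtain ⟨d₀, a, us, ha, hw, hv, hd, rfl⟩ := hy
      apply AddSubgroup.subset_closure
      refine ⟨d₀, a, us ++ [((0 : ℕ), c2, m)], ha, ?_, ?_, ?_, ?_⟩
      · simp [hw]
      · intro o ho
        simp only [List.mem_append, List.mem_singleton] at ho
        rcases ho with ho | rfl
        · exact hv o ho
        · exact hm
      · simp only [totDeg_append, totDeg_cons, totDeg_nil, add_zero]
        rw [← hd]; ring
      · simp [lprod_append]

theorem kk_class (hM : IsGraded M) (k : ℕ) (d : ZMod p) : gam M (cK p k) d ≤ der M k d := by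
  have hp2 : 2 ≤ p := (Fact.out : p.Prime).two_le
  induction k generalizing d with
  | zero => simp [cK, gam, der]
  | succ k ih =>
    have hcK : cK p (k + 1) = cK p k + ((p - 2) * cK p k + 1) := by
      rw [cK_succ]
      have : p - 1 = (p - 2) + 1 := by omega
      rw [this]; ring
    rw [hcK]
    refine (gam_repr _ _ d).trans ?_
    rw [AddSubgroup.closure_le]
    rintro z ⟨d₀, a, us, ha, hw, hv, hd, rfl⟩
    have := ML hM k ih us.length us rfl hv (by rw [hw]) d₀ a (ih d₀ ha)
    rw [hd] at this
    exact this

end kk

end Cfsg.Agent.Lib.Helper20.HKK
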