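import Cfsg.Agent.Lib.Helper20.HKKDefs

set_option autoImplicit false

/-!
# Higman–Kreknin–Kostrikin, piece K1: the subrings generated by high components
-/

namespace Cfsg.Agent.Lib.Helper20.HKK

variable {L : Type*} [LieRing L] {n : ℕ} {M : ZMod n → AddSubgroup L}

theorem Mon.mem (hM : IsGraded M) {k : ℕ} {d : ZMod n} {x : L} (h : Mon M k d x) : x ∈ M d := by
  induction h with
  | gen _ hx => exact hx
  | br _ _ ihx ihy => exact hM.lie_mem ihx ihy

theorem T_le (hM : IsGraded M) (k : ℕ) (d : ZMod n) : T M k d ≤ M d := by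
  unfold T
  rw [AddSubgroup.closure_le]
  intro x hx
  exact Mon.mem hM hx

theorem Mon.mem_T {k : ℕ} {d : ZMod n} {x : L} (h : Mon M k d x) : x ∈ T M k d :=
  AddSubgroup.subset_closure h

theorem T_eq_of_le (hM : IsGraded M) {k : ℕ} {d : ZMod n} (h : k ≤ d.val) : T M k d = M d := by
  apply le_antisymm (T_le hM k d)
  intro x hx
  exact (Mon.gen h hx).mem_T

theorem T_lie (k : ℕ) {c c' : ZMod n} {x y : L} (hx : x ∈ T M k c) (hy : y ∈ T M k c') :
    ⁅x, y⁆ ∈ T M k (c + c') := by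
  unfold T at hx hy
  induction hx using AddSubgroup.closure_induction with
  | mem x hx =>
    induction hy using AddSubgroup.closure_induction with
    | mem y hy => exact (Mon.br hx hy).mem_T
    | zero => simp
    | add y y' _ _ ihy ihy' => rw [lie_add]; exact add_mem ihy ihy'
    | neg y _ ihy => rw [lie_neg]; exact neg_mem ihy
  | zero => simp
  | add x x' _ _ ihx ihx' => rw [add_lie]; exact add_mem ihx ihx'
  | neg x _ ihx => rw [neg_lie]; exact neg_mem ihx

theorem Mon.succ {k : ℕ} {d : ZMod n} {x : L} (h : Mon M (k + 1) d x) : Mon M k d x := by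
  induction h with
  | gen he hx => exact Mon.gen (by omega) hx
  | br _ _ ihx ihy => exact Mon.br ihx ihy

theorem T_succ_le (k : ℕ) (d : ZMod n) : T M (k + 1) d ≤ T M k d := by
  unfold T
  apply AddSubgroup.closure_mono
  intro x hx
  exact hx.succ

theorem T_eq_bot [NeZero n] {k : ℕ} (h : n ≤ k) (d : ZMod n) : T M k d = ⊥ := by
  unfold T
  rw [AddSubgroup.closure_eq_bot_iff]
  intro x hx
  exfalso
  have hx' : Mon M k d x := hx
  clear hx
  induction hx' with
  | @gen e _ he _ =>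
    have := ZMod.val_lt e
    omega
  | br _ _ ihx _ => exact ihx

theorem T_le_T {N : ZMod n → AddSubgroup L} {j k' : ℕ}
    (h : ∀ e : ZMod n, j ≤ e.val → N e ≤ T M k' e) (d : ZMod n) : T N j d ≤ T M k' d := by
  unfold T
  rw [AddSubgroup.closure_le]
  intro x hx
  have hx' : Mon N j d x := hx
  clear hx
  induction hx' with
  | gen he hx => exact h _ he hx
  | br _ _ ihx ihy => exact T_lie k' ihx ihy

/-- the set of brackets `⁅w, g⁆` with `g` a generator -/
def Zset (M : ZMod n → AddSubgroup L) (k : ℕ) (d : ZMod n) : Set L :=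
  {z | ∃ (e : ZMod n) (g w : L), k ≤ e.val ∧ g ∈ M e ∧ w ∈ T M k (d - e) ∧ z = ⁅w, g⁆}

theorem Mon.lie_mem_Z {k : ℕ} {c' : ZMod n} {y : L} (hy : Mon M k c' y) :
    ∀ (c : ZMod n) (x : L), x ∈ T M k c → ⁅x, y⁆ ∈ AddSubgroup.closure (Zset M k (c + c')) := by
  induction hy with
  | gen he hg =>
    intro c x hx
    apply AddSubgroup.subset_closure
    refine ⟨_, _, x, he, hg, ?_, rfl⟩
    simpa using hx
  | @br c1 c2 y1 y2 hy1 hy2 ih1 ih2 =>
    intro c x hx
    -- ⁅x, ⁅y1, y2⁆⁆ = ⁅⁅x, y1⁆, y2⁆ + ⁅y1, ⁅x, y2⁆⁆ = ⁅⁅x,y1⁆,y2⁆ - ⁅⁅x,y2⁆,y1⁆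
    have e1 : ⁅x, ⁅y1, y2⁆⁆ = ⁅⁅x, y1⁆, y2⁆ - ⁅⁅x, y2⁆, y1⁆ := by
      rw [leibniz_lie x y1 y2, ← lie_skew y1 ⁅x, y2⁆]; abel
    rw [e1]
    have h1 : ⁅x, y1⁆ ∈ T M k (c + c1) := T_lie k hx hy1.mem_T
    have h2 : ⁅x, y2⁆ ∈ T M k (c + c2) := T_lie k hx hy2.mem_T
    have a1 := ih2 _ _ h1
    have a2 := ih1 _ _ h2
    have d1 : c + c1 + c2 = c + (c1 + c2) := by ring
    have d2 : c + c2 + c1 = c + (c1 + c2) := by ring
    rw [d1] at a1
    rw [d2] at a2
    exact sub_mem a1 a2

theorem T_struct (k : ℕ) {d : ZMod n} (h : d.val < k) :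
    T M k d ≤ AddSubgroup.closure
      {z | ∃ (e : ZMod n) (g w : L), k ≤ e.val ∧ g ∈ M e ∧ w ∈ T M k (d - e) ∧ z = ⁅w, g⁆} := by
  change T M k d ≤ AddSubgroup.closure (Zset M k d)
  unfold T
  rw [AddSubgroup.closure_le]
  intro x hx
  have hx' : Mon M k d x := hx
  clear hx
  cases hx' with
  | gen he _ => omega
  | br hx1 hy1 => exact hy1.lie_mem_Z _ _ hx1.mem_T

end Cfsg.Agent.Lib.Helper20.HKK

namespace Cfsg.Agent.Lib.Helper20.HKK

variable {L : Type*} [LieRing L] {n : ℕ} {M : ZMod n → AddSubgroup L}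

theorem val_add_cases [NeZero n] (a b : ZMod n) :
    ((a + b).val = a.val + b.val ∧ a.val + b.val < n) ∨
      ((a + b).val + n = a.val + b.val ∧ n ≤ a.val + b.val) := by
  have ha := ZMod.val_lt a
  have hb := ZMod.val_lt b
  rw [ZMod.val_add]
  by_cases h : a.val + b.val < n
  · left; exact ⟨Nat.mod_eq_of_lt h, h⟩
  · right
    have h := not_lt.mp h
    refine ⟨?_, h⟩
    rw [Nat.mod_eq_sub_mod h, Nat.mod_eq_of_lt (by omega)]
    omega

theorem X_lemma [NeZero n] (hM : IsGraded M) {k : ℕ} (_hk : k < n) {i j : ZMod n}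
    (hi : 1 ≤ i.val) (hj : 1 ≤ j.val) (hij : i.val + j.val = k) {u v : L}
    (hu : u ∈ T M k i) (hv : v ∈ T M k j) : ⁅u, v⁆ ∈ T M (k + 1) (i + j) := by
  induction' hm : j.val using Nat.strong_induction_on with m ih generalizing i j u v
  have hu' := T_struct k (show i.val < k by omega) hu
  clear hu
  induction hu' using AddSubgroup.closure_induction with
  | zero => simp
  | add x y _ _ ihx ihy => rw [add_lie]; exact add_mem ihx ihy
  | neg x _ ihx => rw [neg_lie]; exact neg_mem ihx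
  | mem x hx =>
    obtain ⟨e, g, w, he, hg, hw, rfl⟩ := hx
    have hev := ZMod.val_lt e
    have hiv := ZMod.val_lt i
    have hjv := ZMod.val_lt j
    obtain ⟨c, hc⟩ : ∃ c : ZMod n, c = i - e := ⟨_, rfl⟩
    rw [← hc] at hw
    have hce : c + e = i := by rw [hc]; ring
    have hcv : c.val + e.val = i.val + n := by
      rcases val_add_cases c e with ⟨h1, _⟩ | ⟨h1, _⟩
      · rw [hce] at h1; omega
      · rw [hce] at h1; omega
    -- Jacobi
    have hjac : ⁅⁅w, g⁆, v⁆ = ⁅⁅w, v⁆, g⁆ + ⁅w, ⁅g, v⁆⁆ := by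
      rw [lie_lie w g v, ← lie_skew ⁅w, v⁆ g]; abel
    rw [hjac]
    have hgT : g ∈ T M k e := (Mon.gen he hg).mem_T
    apply add_mem
    · -- term 1
      have hwv : ⁅w, v⁆ ∈ T M k (c + j) := T_lie k hw hv
      have hdeg : c + j + e = i + j := by rw [hc]; ring
      rcases val_add_cases c j with ⟨h1, h2⟩ | ⟨h1, h2⟩
      · -- no wrap: v(e) ≥ k+1
        have hcj : k + 1 ≤ (c + j).val := by omega
        have hek : k + 1 ≤ e.val := by omega
        have a1 : ⁅w, v⁆ ∈ T M (k + 1) (c + j) := by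
          rw [T_eq_of_le hM hcj]; exact T_le hM k _ hwv
        have a2 : g ∈ T M (k + 1) e := by rw [T_eq_of_le hM hek]; exact hg
        have := T_lie (k + 1) a1 a2
        rwa [hdeg] at this
      · -- wrap: then (c+j).val = 0
        have h0 : (c + j).val = 0 := by omega
        have h0' : c + j = 0 := (ZMod.val_eq_zero _).mp h0
        have : ⁅w, v⁆ ∈ M 0 := by rw [← h0']; exact T_le hM k _ hwv
        rw [hM.zero, AddSubgroup.mem_bot] at this
        rw [this, zero_lie]; exact zero_mem _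
    · -- term 2
      have hgv : ⁅g, v⁆ ∈ T M k (e + j) := T_lie k hgT hv
      have hdeg : c + (e + j) = i + j := by rw [hc]; ring
      rcases val_add_cases e j with ⟨h1, h2⟩ | ⟨h1, h2⟩
      · -- v(e)+v(j) < n
        have hej : k + 1 ≤ (e + j).val := by omega
        have hck : k + 1 ≤ c.val := by omega
        have a1 : ⁅g, v⁆ ∈ T M (k + 1) (e + j) := by
          rw [T_eq_of_le hM hej]; exact T_le hM k _ hgv
        have a2 : w ∈ T M (k + 1) c := by
          rw [T_eq_of_le hM hck]; exact T_le hM k _ hw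
        have := T_lie (k + 1) a2 a1
        rwa [hdeg] at this
      · by_cases h0 : (e + j).val = 0
        · have h0' : e + j = 0 := (ZMod.val_eq_zero _).mp h0
          have : ⁅g, v⁆ ∈ M 0 := by rw [← h0']; exact T_le hM k _ hgv
          rw [hM.zero, AddSubgroup.mem_bot] at this
          rw [this, lie_zero]; exact zero_mem _
        · -- induction hypothesis with j' = e + j
          have hj' : (e + j).val < m := by omega
          have := ih (e + j).val hj' (i := c) (j := e + j) (by omega) (by omega) (by omega)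
            hw hgv rfl
          rwa [hdeg] at this

end Cfsg.Agent.Lib.Helper20.HKK
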