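import Cfsg.Agent.Lib.Helper20.HKKK1

set_option autoImplicit false

/-!
# Higman–Kreknin–Kostrikin, piece K2: Kreknin's theorem for graded families
-/

namespace Cfsg.Agent.Lib.Helper20.HKK

variable {L : Type*} [LieRing L] {n : ℕ} {M : ZMod n → AddSubgroup L}

theorem brk_mono {A A' B B' : ZMod n → AddSubgroup L} (hA : ∀ d, A d ≤ A' d)
    (hB : ∀ d, B d ≤ B' d) (d : ZMod n) : brk A B d ≤ brk A' B' d := by
  unfold brk
  apply AddSubgroup.closure_mono
  rintro z ⟨c, c', x, y, h, hx, hy, rfl⟩
  exact ⟨c, c', x, y, h, hA _ hx, hB _ hy, rfl⟩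

theorem mem_brk {A B : ZMod n → AddSubgroup L} {c c' : ZMod n} {x y : L} (hx : x ∈ A c)
    (hy : y ∈ B c') : ⁅x, y⁆ ∈ brk A B (c + c') :=
  AddSubgroup.subset_closure ⟨c, c', x, y, rfl, hx, hy, rfl⟩

theorem brk_le_of_graded {A : ZMod n → AddSubgroup L} (hA : IsGraded A) (d : ZMod n) :
    brk A A d ≤ A d := by
  unfold brk
  rw [AddSubgroup.closure_le]
  rintro z ⟨c, c', x, y, rfl, hx, hy, rfl⟩
  exact hA.lie_mem hx hy

theorem der_isGraded (hM : IsGraded M) (s : ℕ) : IsGraded (der M s) := by
  induction s with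
  | zero => exact hM
  | succ s ih =>
    refine ⟨?_, ?_⟩
    · intro i j x y hx hy
      exact mem_brk (brk_le_of_graded ih _ hx) (brk_le_of_graded ih _ hy)
    · have := brk_le_of_graded ih (0 : ZMod n)
      rw [ih.zero] at this
      exact le_bot_iff.mp this

theorem der_succ_le (hM : IsGraded M) (s : ℕ) (d : ZMod n) : der M (s + 1) d ≤ der M s d :=
  brk_le_of_graded (der_isGraded hM s) d

theorem der_antitone (hM : IsGraded M) {s t : ℕ} (h : s ≤ t) (d : ZMod n) :
    der M t d ≤ der M s d := by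
  induction t, h using Nat.le_induction with
  | base => exact le_rfl
  | succ t _ ih => exact (der_succ_le hM t d).trans ih

theorem der_le (hM : IsGraded M) (s : ℕ) (d : ZMod n) : der M s d ≤ M d :=
  der_antitone hM (Nat.zero_le s) d

theorem der_add (s t : ℕ) : der M (s + t) = der (der M s) t := by
  induction t with
  | zero => rfl
  | succ t ih =>
    change brk (der M (s + t)) (der M (s + t)) = brk (der (der M s) t) (der (der M s) t)
    rw [ih]

/-- the inductive statement `E(k)` of Kreknin's theorem -/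
def EK (L : Type*) [LieRing L] (n k : ℕ) : Prop :=
  ∀ N : ZMod n → AddSubgroup L, IsGraded N → ∀ d, der N (2 ^ k - 1) d ≤ T N (k + 1) d

theorem K_of_E [NeZero n] {i : ℕ} (hi1 : 1 ≤ i) (hin : i < n) (hE : EK L n (i - 1))
    {N : ZMod n → AddSubgroup L} (hN : IsGraded N) :
    der N (2 ^ (i - 1)) (i : ZMod n) ≤ T N (i + 1) (i : ZMod n) := by
  have hpos : 1 ≤ 2 ^ (i - 1) := Nat.one_le_two_pow
  obtain ⟨s, hs⟩ : ∃ s, s = 2 ^ (i - 1) - 1 := ⟨_, rfl⟩
  have hs1 : 2 ^ (i - 1) = s + 1 := by omega
  rw [hs1]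
  change brk (der N s) (der N s) (i : ZMod n) ≤ _
  unfold brk
  rw [AddSubgroup.closure_le]
  rintro z ⟨a, b, y, w, hab, hy, hw, rfl⟩
  have hκ : ((i : ℕ) : ZMod n).val = i := ZMod.val_natCast_of_lt hin
  have hgs := der_isGraded hN s
  by_cases ha0 : a.val = 0
  · have : a = 0 := (ZMod.val_eq_zero _).mp ha0
    rw [this, hgs.zero, AddSubgroup.mem_bot] at hy
    rw [hy, zero_lie]; exact zero_mem _
  by_cases hb0 : b.val = 0
  · have : b = 0 := (ZMod.val_eq_zero _).mp hb0
    rw [this, hgs.zero, AddSubgroup.mem_bot] at hw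
    rw [hw, lie_zero]; exact zero_mem _
  have hav := ZMod.val_lt a
  have hbv := ZMod.val_lt b
  rw [← hab]
  rcases val_add_cases a b with ⟨h1, _⟩ | ⟨h1, _⟩
  · -- no wrap: X_lemma
    rw [hab, hκ] at h1
    have hE' := hE N hN
    rw [← hs] at hE'
    have e1 : i - 1 + 1 = i := by omega
    rw [e1] at hE'
    exact X_lemma hN hin (by omega) (by omega) h1.symm (hE' a hy) (hE' b hw)
  · rw [hab, hκ] at h1
    have ha : i + 1 ≤ a.val := by omega
    have hb : i + 1 ≤ b.val := by omega
    have y1 : y ∈ T N (i + 1) a := by rw [T_eq_of_le hN ha]; exact der_le hN s a hy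
    have w1 : w ∈ T N (i + 1) b := by rw [T_eq_of_le hN hb]; exact der_le hN s b hw
    exact T_lie (i + 1) y1 w1

theorem E_all [NeZero n] : ∀ k : ℕ, k + 1 ≤ n → EK L n k := by
  intro k
  induction k using Nat.strong_induction_on with
  | _ k ih =>
    intro hkn N hN
    -- G(j)
    have G : ∀ j : ℕ, j ≤ k → ∀ d : ZMod n, k + 1 - j ≤ d.val →
        der N (2 ^ k - 2 ^ (k - j)) d ≤ T N (k + 1) d := by
      intro j
      induction j with
      | zero =>
        intro _ d hd
        simp only [Nat.sub_zero, Nat.sub_self] at hd ⊢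
        rw [T_eq_of_le hN hd]
        exact le_rfl
      | succ j ihj =>
        intro hj d hd
        have ihj' := ihj (by omega)
        obtain ⟨i, hi⟩ : ∃ i, i = k - j := ⟨_, rfl⟩
        have hi1 : 1 ≤ i := by omega
        have hpow : 2 ^ (k - j) = 2 * 2 ^ (k - (j + 1)) := by
          have : k - j = (k - (j + 1)) + 1 := by omega
          rw [this, pow_succ]; ring
        have hle : 2 ^ (k - j) ≤ 2 ^ k := Nat.pow_le_pow_right (by norm_num) (by omega)
        have hDD : 2 ^ k - 2 ^ (k - (j + 1)) = (2 ^ k - 2 ^ (k - j)) + 2 ^ (i - 1) := by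
          have : i - 1 = k - (j + 1) := by omega
          rw [this]; omega
        by_cases hdv : k + 1 - j ≤ d.val
        · refine (der_antitone hN ?_ d).trans (ihj' d hdv)
          omega
        · have hdi : d.val = i := by omega
          have hdcast : d = ((i : ℕ) : ZMod n) := by
            rw [← hdi]; exact (ZMod.natCast_zmod_val d).symm
          have hin : i < n := by omega
          rw [hDD, der_add, hdcast]
          have hN' := der_isGraded hN (2 ^ k - 2 ^ (k - j))
          have hK := K_of_E hi1 hin (ih (i - 1) (by omega) (by omega)) hN'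
          refine hK.trans (T_le_T ?_ _)
          intro e he
          exact ihj' e (by omega)
    intro d
    by_cases hd : d.val = 0
    · have : d = 0 := (ZMod.val_eq_zero _).mp hd
      rw [this]
      have := der_le hN (2 ^ k - 1) (0 : ZMod n)
      rw [hN.zero] at this
      exact this.trans bot_le
    · have := G k le_rfl d (by omega)
      simpa using this

theorem kreknin [NeZero n] (hM : IsGraded M) (d : ZMod n) : der M (2 ^ (n - 1) - 1) d = ⊥ := by
  have hn : 1 ≤ n := Nat.one_le_iff_ne_zero.mpr (NeZero.ne n)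
  have h := E_all (L := L) (n := n) (n - 1) (by omega) M hM d
  have e : n - 1 + 1 = n := by omega
  rw [e, T_eq_bot le_rfl] at h
  exact le_bot_iff.mp h

end Cfsg.Agent.Lib.Helper20.HKK
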