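import Cfsg.Agent.Lib.Helper29.Law.Defs

/-!
# S2355 farm, leaf [SPGL] (helper20): `GL_m(F)` embeds in `Sp_{2m}(F)`.
-/

set_option autoImplicit false

namespace Cfsg.Agent.Lib.Helper29.Law

open Matrix

namespace Helper20

variable {F : Type*} [Field F] {m : ℕ}

/-- the block matrix `diag(g, g⁻ᵀ)` -/
noncomputable def dblk (g : Matrix.GeneralLinearGroup (Fin m) F) :
    Matrix (Fin m ⊕ Fin m) (Fin m ⊕ Fin m) F :=
  Matrix.fromBlocks (g : Matrix (Fin m) (Fin m) F) 0 0
    ((((g⁻¹ : Matrix.GeneralLinearGroup (Fin m) F)) : Matrix (Fin m) (Fin m) F))ᵀ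

theorem dblk_mem (g : Matrix.GeneralLinearGroup (Fin m) F) :
    dblk g ∈ Matrix.symplecticGroup (Fin m) F := by
  rw [SymplecticGroup.mem_iff]
  unfold dblk Matrix.J
  rw [Matrix.fromBlocks_multiply, Matrix.fromBlocks_transpose, Matrix.fromBlocks_multiply]
  have h1 : ((g : Matrix (Fin m) (Fin m) F)) *
      (((g⁻¹ : Matrix.GeneralLinearGroup (Fin m) F)) : Matrix (Fin m) (Fin m) F) = 1 := by
    rw [← Matrix.GeneralLinearGroup.coe_mul, mul_inv_cancel]; rfl
  have h2 : ((((g⁻¹ : Matrix.GeneralLinearGroup (Fin m) F)) : Matrix (Fin m) (Fin m) F))ᵀ *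
      ((g : Matrix (Fin m) (Fin m) F))ᵀ = 1 := by
    rw [← Matrix.transpose_mul, h1, Matrix.transpose_one]
  simp only [Matrix.mul_zero, Matrix.zero_mul, Matrix.mul_one, Matrix.mul_neg, Matrix.neg_mul,
    add_zero, zero_add, Matrix.transpose_zero, Matrix.transpose_transpose, h1, h2, neg_zero]

theorem dblk_mul (g h : Matrix.GeneralLinearGroup (Fin m) F) :
    dblk (g * h) = dblk g * dblk h := by
  unfold dblk
  rw [Matrix.fromBlocks_multiply]
  have h : (((g * h)⁻¹ : Matrix.GeneralLinearGroup (Fin m) F) : Matrix (Fin m) (Fin m) F)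
      = ((h⁻¹ : Matrix.GeneralLinearGroup (Fin m) F) : Matrix (Fin m) (Fin m) F) *
        ((g⁻¹ : Matrix.GeneralLinearGroup (Fin m) F) : Matrix (Fin m) (Fin m) F) := by
    rw [_root_.mul_inv_rev, Matrix.GeneralLinearGroup.coe_mul]
  rw [h, Matrix.transpose_mul]
  simp only [Matrix.mul_zero, Matrix.zero_mul, add_zero, zero_add,
    Matrix.GeneralLinearGroup.coe_mul]

theorem dblk_one : dblk (1 : Matrix.GeneralLinearGroup (Fin m) F) = 1 := by
  unfold dblk
  simp [Matrix.fromBlocks_one]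

theorem dblk_injective : Function.Injective (dblk (F := F) (m := m)) := by
  intro g h hgh
  unfold dblk at hgh
  have := (Matrix.fromBlocks_inj.1 hgh).1
  exact Units.ext this

end Helper20

/-- [SPGL] `g ↦ fromBlocks g 0 0 (g⁻¹)ᵀ` into Mathlib's `symplecticGroup` (`J = fromBlocks 0 (-1) 1 0`,
condition `A * J * Aᵀ = J`). -/
theorem exists_GL_to_Sp (F : Type*) [Field F] (m : ℕ) :
    ∃ φ : Matrix.GeneralLinearGroup (Fin m) F →* Matrix.symplecticGroup (Fin m) F,
      Function.Injective φ := by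
  refine ⟨MonoidHom.mk' (fun g => ⟨Helper20.dblk g, Helper20.dblk_mem g⟩) ?_, ?_⟩
  · intro g h
    apply Subtype.ext
    exact Helper20.dblk_mul g h
  · intro g h hgh
    apply Helper20.dblk_injective
    exact congrArg Subtype.val hgh

end Cfsg.Agent.Lib.Helper29.Law
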