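import Mathlib

/-!
Local structure of `N(P)` for `|P| = 9`, `|N(P)| = 36`, `C(P) = P` (S0434 farm-out, piece B).
-/

namespace Cfsg.Agent.Lib.Helper20.Loc36

open Subgroup

variable {G : Type*} [Group G]

theorem conj_conj_of_sq {σ : G} (hσ : σ ^ 2 = 1) (x : G) : σ * (σ * x * σ⁻¹) * σ⁻¹ = x := by
  have h1 : σ * σ = 1 := by rwa [sq] at hσ
  have h2 : σ⁻¹ = σ := inv_eq_of_mul_eq_one_left h1
  rw [h2]
  calc σ * (σ * x * σ) * σ = (σ * σ) * x * (σ * σ) := by group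
    _ = x := by rw [h1, one_mul, mul_one]

theorem pow_ten_of_pow_nine {x : G} (h : x ^ 9 = 1) : x ^ 10 = x := by
  rw [pow_succ, h, one_mul]

/-- decomposition of an element of an abelian group of exponent 9 under an involutory
automorphism into a fixed part and an inverted part -/
theorem decomp {Q : Subgroup G} (hab : ∀ x ∈ Q, ∀ y ∈ Q, x * y = y * x)
    (h9 : ∀ x ∈ Q, x ^ 9 = 1) {σ : G} (hσ : ∀ x ∈ Q, σ * x * σ⁻¹ ∈ Q)
    (hσ2 : σ ^ 2 = 1) {x : G} (hx : x ∈ Q) :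
    ∃ c ∈ Q, ∃ i ∈ Q, x = c * i ∧ σ * c * σ⁻¹ = c ∧ σ * i * σ⁻¹ = i⁻¹ := by
  obtain ⟨x', hx'⟩ : ∃ x', x' = σ * x * σ⁻¹ := ⟨_, rfl⟩
  have hx'Q : x' ∈ Q := hx' ▸ hσ x hx
  have hcomm : x * x' = x' * x := hab x hx x' hx'Q
  have hσx' : σ * x' * σ⁻¹ = x := by rw [hx']; exact conj_conj_of_sq hσ2 x
  have hc1 : Commute x x' := hcomm
  refine ⟨(x * x') ^ 5, Q.pow_mem (Q.mul_mem hx hx'Q) 5, (x * x'⁻¹) ^ 5,
    Q.pow_mem (Q.mul_mem hx (Q.inv_mem hx'Q)) 5, ?_, ?_, ?_⟩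
  · have hc2 : Commute (x * x') (x * x'⁻¹) :=
      (Commute.mul_left (Commute.refl x) hc1.symm).mul_right
        (Commute.mul_left hc1.inv_right (Commute.refl x').inv_right)
    rw [← hc2.mul_pow]
    have h3 : x * x' * (x * x'⁻¹) = x ^ 2 := by
      calc x * x' * (x * x'⁻¹) = x * (x' * x) * x'⁻¹ := by group
        _ = x * (x * x') * x'⁻¹ := by rw [hcomm]
        _ = x ^ 2 := by rw [sq]; group
    rw [h3, ← pow_mul]
    exact (pow_ten_of_pow_nine (h9 x hx)).symm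
  · rw [← conj_pow, ← conj_mul, ← hx', hσx', hcomm]
  · rw [← conj_pow, ← conj_mul, ← conj_inv, ← hx', hσx', ← inv_pow]
    congr 1
    rw [mul_inv_rev, inv_inv]

theorem card_eq_three_of_disjoint [Finite G] {Q H K : Subgroup G} (hQ : Nat.card Q = 9)
    (hH : H ≤ Q) (hK : K ≤ Q) (hHK : H ⊓ K = ⊥) (hH1 : H ≠ ⊥) (hK1 : K ≠ ⊥) :
    Nat.card H = 3 ∧ Nat.card K = 3 := by
  have h1 : Nat.card H ∣ 9 := hQ ▸ Subgroup.card_dvd_of_le hH
  have h2 : Nat.card K ∣ 9 := hQ ▸ Subgroup.card_dvd_of_le hK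
  have h3 : Nat.card H ≠ 1 := fun h => hH1 (Subgroup.eq_bot_of_card_eq H h)
  have h4 : Nat.card K ≠ 1 := fun h => hK1 (Subgroup.eq_bot_of_card_eq K h)
  have h5 : Nat.card H * Nat.card K ≤ 9 := by
    rw [← Nat.card_prod, ← hQ]
    let f : H × K → Q := fun g => ⟨(g.1 : G) * g.2, Q.mul_mem (hH g.1.2) (hK g.2.2)⟩
    have hf : Function.Injective f := by
      intro a b hab
      apply Subgroup.mul_injective_of_disjoint (disjoint_iff.mpr hHK)
      exact congrArg Subtype.val hab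
    exact Nat.card_le_card_of_injective f hf
  have h6 : Nat.card H ≤ 9 := Nat.le_of_dvd (by norm_num) h1
  have h7 : Nat.card K ≤ 9 := Nat.le_of_dvd (by norm_num) h2
  generalize Nat.card H = a at *
  generalize Nat.card K = b at *
  interval_cases a <;> interval_cases b <;> simp_all

theorem mem_of_card_three [Finite G] {K : Subgroup G} (hK : Nat.card K = 3) {y : G}
    (hy : y ∈ K) (hy1 : y ≠ 1) : ∀ c ∈ K, c = 1 ∨ c = y ∨ c = y⁻¹ := by
  have h1 : orderOf y ∣ 3 := by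
    have := orderOf_dvd_natCard (⟨y, hy⟩ : K)
    rwa [hK, ← Subgroup.orderOf_coe] at this
  have h2 : orderOf y = 3 := by
    rcases (Nat.dvd_prime Nat.prime_three).mp h1 with h | h
    · exact absurd (orderOf_eq_one_iff.mp h) hy1
    · exact h
  have h3 : zpowers y = K := by
    apply Subgroup.eq_of_le_of_card_ge ((zpowers_le).mpr hy)
    rw [Nat.card_zpowers, h2, hK]
  have hy3 : y ^ 3 = 1 := by rw [← h2]; exact pow_orderOf_eq_one y
  intro c hc
  rw [← h3] at hc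
  obtain ⟨k, rfl⟩ := hc
  show y ^ k = 1 ∨ y ^ k = y ∨ y ^ k = y⁻¹
  rw [← zpow_mod_orderOf, h2, Nat.cast_ofNat]
  have hk0 : 0 ≤ k % 3 := Int.emod_nonneg k (by norm_num)
  have hk3 : k % 3 < 3 := Int.emod_lt_of_pos k (by norm_num)
  obtain ⟨m, hm⟩ : ∃ m : ℤ, m = k % 3 := ⟨_, rfl⟩
  rw [← hm] at hk0 hk3 ⊢
  interval_cases m
  · left; simp
  · right; left; simp
  · right; right
    have : y ^ (2 : ℤ) = y ^ 2 := by norm_cast
    rw [this]
    apply eq_inv_of_mul_eq_one_left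
    rw [← pow_succ]; exact hy3

theorem exists_mul_of_card [Finite G] {N P S : Subgroup G} (hP : P ≤ N) (hS : S ≤ N)
    (hcard : Nat.card P * Nat.card S = Nat.card N)
    (hcop : (Nat.card P).Coprime (Nat.card S)) :
    ∀ g ∈ N, ∃ p ∈ P, ∃ s ∈ S, g = p * s := by
  intro g hg
  have e1 : Nat.card (P.subgroupOf N) = Nat.card P :=
    Nat.card_congr (Subgroup.subgroupOfEquivOfLe hP).toEquiv
  have e2 : Nat.card (S.subgroupOf N) = Nat.card S :=
    Nat.card_congr (Subgroup.subgroupOfEquivOfLe hS).toEquiv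
  have hc : IsComplement' (P.subgroupOf N) (S.subgroupOf N) := by
    apply isComplement'_of_coprime
    · rw [e1, e2, hcard]
    · rw [e1, e2]; exact hcop
  obtain ⟨⟨p, s⟩, hps, -⟩ := hc.existsUnique (⟨g, hg⟩ : N)
  refine ⟨p.1.1, p.2, s.1.1, s.2, ?_⟩
  have := congrArg Subtype.val hps
  simpa using this.symm

/-- the subgroup of `Q` inverted by `σ` (for abelian `Q`) -/
def invSub (Q : Subgroup G) (hab : ∀ x ∈ Q, ∀ y ∈ Q, x * y = y * x) (σ : G) : Subgroup G where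
  carrier := {x | x ∈ Q ∧ σ * x * σ⁻¹ = x⁻¹}
  one_mem' := ⟨Q.one_mem, by simp⟩
  mul_mem' := by
    rintro a b ⟨ha, ha'⟩ ⟨hb, hb'⟩
    refine ⟨Q.mul_mem ha hb, ?_⟩
    rw [← conj_mul, ha', hb', mul_inv_rev]
    exact hab _ (Q.inv_mem ha) _ (Q.inv_mem hb)
  inv_mem' := by
    rintro a ⟨ha, ha'⟩
    exact ⟨Q.inv_mem ha, by rw [← conj_inv, ha']⟩

theorem mem_invSub {Q : Subgroup G} {hab : ∀ x ∈ Q, ∀ y ∈ Q, x * y = y * x} {σ x : G} :
    x ∈ invSub Q hab σ ↔ x ∈ Q ∧ σ * x * σ⁻¹ = x⁻¹ := Iff.rfl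

/-- the subgroup of `Q` centralised by `σ` -/
def fixSub (Q : Subgroup G) (σ : G) : Subgroup G where
  carrier := {x | x ∈ Q ∧ σ * x * σ⁻¹ = x}
  one_mem' := ⟨Q.one_mem, by simp⟩
  mul_mem' := by
    rintro a b ⟨ha, ha'⟩ ⟨hb, hb'⟩
    refine ⟨Q.mul_mem ha hb, ?_⟩
    rw [← conj_mul, ha', hb']
  inv_mem' := by
    rintro a ⟨ha, ha'⟩
    exact ⟨Q.inv_mem ha, by rw [← conj_inv, ha']⟩

theorem mem_fixSub {Q : Subgroup G} {σ x : G} :
    x ∈ fixSub Q σ ↔ x ∈ Q ∧ σ * x * σ⁻¹ = x := Iff.rfl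

theorem eq_one_of_eq_inv {x : G} (h9 : x ^ 9 = 1) (h : x = x⁻¹) : x = 1 := by
  have h2 : x ^ 2 = 1 := by
    rw [sq]; nth_rewrite 1 [h]; exact inv_mul_cancel x
  have h10 : x ^ 10 = x := pow_ten_of_pow_nine h9
  rw [← h10, show 10 = 2 * 5 from rfl, pow_mul, h2, one_pow]

theorem conj_conj_comm {s t : G} (h : s * t = t * s) (x : G) :
    s * (t * x * t⁻¹) * s⁻¹ = t * (s * x * s⁻¹) * t⁻¹ := by
  have h1 : s * (t * x * t⁻¹) * s⁻¹ = (s * t) * x * (s * t)⁻¹ := by group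
  rw [h1, h]; group

theorem gen_fix {Q C I : Subgroup G} {x y τ : G} (hC : ∀ c ∈ C, c = 1 ∨ c = x ∨ c = x⁻¹)
    (hI : ∀ i ∈ I, i = 1 ∨ i = y ∨ i = y⁻¹) (hdec : ∀ u ∈ Q, ∃ c ∈ C, ∃ i ∈ I, u = c * i)
    (hx : τ * x * τ⁻¹ = x) (hy : τ * y * τ⁻¹ = y) : ∀ u ∈ Q, τ * u * τ⁻¹ = u := by
  intro u hu
  obtain ⟨c, hc, i, hi, rfl⟩ := hdec u hu
  have h1 : τ * c * τ⁻¹ = c := by
    rcases hC c hc with rfl | rfl | rfl
    · simp
    · exact hx
    · rw [← conj_inv, hx]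
  have h2 : τ * i * τ⁻¹ = i := by
    rcases hI i hi with rfl | rfl | rfl
    · simp
    · exact hy
    · rw [← conj_inv, hy]
  rw [← conj_mul, h1, h2]

theorem gen_inv {Q C I : Subgroup G} (hab : ∀ x ∈ Q, ∀ y ∈ Q, x * y = y * x)
    (hCQ : C ≤ Q) (hIQ : I ≤ Q) {x y τ : G} (hC : ∀ c ∈ C, c = 1 ∨ c = x ∨ c = x⁻¹)
    (hI : ∀ i ∈ I, i = 1 ∨ i = y ∨ i = y⁻¹) (hdec : ∀ u ∈ Q, ∃ c ∈ C, ∃ i ∈ I, u = c * i)
    (hx : τ * x * τ⁻¹ = x⁻¹) (hy : τ * y * τ⁻¹ = y⁻¹) : ∀ u ∈ Q, τ * u * τ⁻¹ = u⁻¹ := by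
  intro u hu
  obtain ⟨c, hc, i, hi, rfl⟩ := hdec u hu
  have h1 : τ * c * τ⁻¹ = c⁻¹ := by
    rcases hC c hc with rfl | rfl | rfl
    · simp
    · exact hx
    · rw [← conj_inv, hx]
  have h2 : τ * i * τ⁻¹ = i⁻¹ := by
    rcases hI i hi with rfl | rfl | rfl
    · simp
    · exact hy
    · rw [← conj_inv, hy]
  rw [← conj_mul, h1, h2, mul_inv_rev]
  exact hab _ (Q.inv_mem (hCQ hc)) _ (Q.inv_mem (hIQ hi))

section core

variable [Finite G] {Q : Subgroup G} (hQ : Nat.card Q = 9)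
  (hab : ∀ x ∈ Q, ∀ y ∈ Q, x * y = y * x)

omit [Finite G] in
include hQ in
theorem pow_nine {x : G} (hx : x ∈ Q) : x ^ 9 = 1 := by
  have := pow_card_eq_one' (G := Q) (x := ⟨x, hx⟩)
  rw [hQ] at this
  simpa using congrArg Subtype.val this

include hQ in
/-- trichotomy for an involutory automorphism -/
theorem trich {σ : G} (hσ : ∀ x ∈ Q, σ * x * σ⁻¹ ∈ Q) (hσ2 : σ ^ 2 = 1) :
    (∀ x ∈ Q, σ * x * σ⁻¹ = x⁻¹) ∨ (∀ x ∈ Q, σ * x * σ⁻¹ = x) ∨
      (Nat.card (fixSub Q σ) = 3 ∧ Nat.card (invSub Q hab σ) = 3) := by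
  have h9 : ∀ x ∈ Q, x ^ 9 = 1 := fun x hx => pow_nine hQ hx
  by_cases hI : invSub Q hab σ = ⊥
  · right; left
    intro x hx
    obtain ⟨c, hc, i, hi, hxci, hcc, hii⟩ := decomp hab h9 hσ hσ2 hx
    have : i ∈ invSub Q hab σ := ⟨hi, hii⟩
    rw [hI, Subgroup.mem_bot] at this
    rw [hxci, this, mul_one]; exact hcc
  by_cases hF : fixSub Q σ = ⊥
  · left
    intro x hx
    obtain ⟨c, hc, i, hi, hxci, hcc, hii⟩ := decomp hab h9 hσ hσ2 hx
    have : c ∈ fixSub Q σ := ⟨hc, hcc⟩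
    rw [hF, Subgroup.mem_bot] at this
    rw [hxci, this, one_mul]; exact hii
  · right; right
    refine card_eq_three_of_disjoint hQ (fun x hx => hx.1) (fun x hx => hx.1) ?_ hF hI
    rw [Subgroup.eq_bot_iff_forall]
    rintro x ⟨⟨hxQ, hx1⟩, ⟨-, hx2⟩⟩
    exact eq_one_of_eq_inv (h9 x hxQ) (hx1.symm.trans hx2)

omit [Finite G] in
theorem exists_ne_one_of_card_three {K : Subgroup G} (hK : Nat.card K = 3) :
    ∃ y ∈ K, y ≠ 1 := by
  by_contra h
  push Not at h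
  have : K = ⊥ := (Subgroup.eq_bot_iff_forall K).mpr h
  rw [this, Subgroup.card_bot] at hK
  omega

variable {S : Subgroup G} (hS : Nat.card S = 4)
  (hnorm : ∀ s ∈ S, ∀ x ∈ Q, s * x * s⁻¹ ∈ Q)
  (hfaith : ∀ s ∈ S, (∀ x ∈ Q, s * x * s⁻¹ = x) → s = 1)

omit [Finite G] in
include hS in
theorem pow_four {s : G} (hs : s ∈ S) : s ^ 4 = 1 := by
  have := pow_card_eq_one' (G := S) (x := ⟨s, hs⟩)
  rw [hS] at this
  simpa using congrArg Subtype.val this

include hQ hab hS hnorm hfaith in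
/-- cyclic case: the square of an element of order four inverts `Q` -/
theorem cyc_inverts {n : G} (hn : n ∈ S) (hn2 : n ^ 2 ≠ 1) :
    ∀ x ∈ Q, n ^ 2 * x * (n ^ 2)⁻¹ = x⁻¹ := by
  have hz : n ^ 2 ∈ S := S.pow_mem hn 2
  have hz2 : (n ^ 2) ^ 2 = 1 := by rw [← pow_mul]; exact pow_four hS hn
  rcases trich hQ hab (hnorm _ hz) hz2 with h | h | ⟨-, h3⟩
  · exact h
  · exact absurd (hfaith _ hz h) hn2
  · exfalso
    obtain ⟨y, hy, hy1⟩ := exists_ne_one_of_card_three h3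
    have hyQ : y ∈ Q := hy.1
    have hyz : n ^ 2 * y * (n ^ 2)⁻¹ = y⁻¹ := hy.2
    have hny : n * y * n⁻¹ ∈ invSub Q hab (n ^ 2) := by
      refine ⟨hnorm n hn y hyQ, ?_⟩
      calc n ^ 2 * (n * y * n⁻¹) * (n ^ 2)⁻¹ = n * (n ^ 2 * y * (n ^ 2)⁻¹) * n⁻¹ := by
            simp only [sq, mul_inv_rev, mul_assoc]
        _ = (n * y * n⁻¹)⁻¹ := by rw [hyz, conj_inv]
    have hzy : n ^ 2 * y * (n ^ 2)⁻¹ = n * (n * y * n⁻¹) * n⁻¹ := by
      simp only [sq, mul_inv_rev, mul_assoc]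
    have hy9 : y ^ 9 = 1 := pow_nine hQ hyQ
    rcases mem_of_card_three h3 hy hy1 _ hny with h | h | h
    · apply hy1
      have : y = n⁻¹ * (n * y * n⁻¹) * n := by group
      rw [this, h]; group
    · rw [h, h] at hzy
      exact hy1 (eq_one_of_eq_inv hy9 (hzy.symm.trans hyz))
    · rw [h, ← conj_inv, h, inv_inv] at hzy
      exact hy1 (eq_one_of_eq_inv hy9 (hzy.symm.trans hyz))

include hQ hab hS hnorm hfaith in
theorem cyc_pow_three {n : G} (hn : n ∈ S) (hn2 : n ^ 2 ≠ 1) : ∀ x ∈ Q, x ^ 3 = 1 := by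
  intro x hx
  by_contra hx3
  have hinv := cyc_inverts hQ hab hS hnorm hfaith hn hn2
  have h9 : x ^ 9 = 1 := pow_nine hQ hx
  have : Fact (Nat.Prime 3) := ⟨Nat.prime_three⟩
  have ho : orderOf x = 9 := by
    have := orderOf_eq_prime_pow (p := 3) (n := 1) (x := x) (by simpa using hx3)
      (by simpa using h9)
    simpa using this
  have hz : zpowers x = Q := by
    apply Subgroup.eq_of_le_of_card_ge ((zpowers_le).mpr hx)
    rw [Nat.card_zpowers, ho, hQ]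
  have hnx : n * x * n⁻¹ ∈ zpowers x := by rw [hz]; exact hnorm n hn x hx
  obtain ⟨k, hk⟩ := hnx
  have hk' : x ^ k = n * x * n⁻¹ := hk
  have h1 : n ^ 2 * x * (n ^ 2)⁻¹ = x ^ (k * k) := by
    calc n ^ 2 * x * (n ^ 2)⁻¹ = n * (n * x * n⁻¹) * n⁻¹ := by
          simp only [sq, mul_inv_rev, mul_assoc]
      _ = n * x ^ k * n⁻¹ := by rw [← hk']
      _ = (n * x * n⁻¹) ^ k := by rw [conj_zpow]
      _ = (x ^ k) ^ k := by rw [← hk']
      _ = x ^ (k * k) := by rw [← zpow_mul]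
  have h2 : x ^ (k * k + 1) = 1 := by
    rw [zpow_add, zpow_one, ← h1, hinv x hx]; group
  have h3 : (9 : ℤ) ∣ k * k + 1 := by
    have := (orderOf_dvd_iff_zpow_eq_one).mpr h2
    rwa [ho] at this
  have h4 : (k * k + 1) % 3 = 0 := by omega
  have : k % 3 = 0 ∨ k % 3 = 1 ∨ k % 3 = 2 := by omega
  rcases this with h | h | h <;> simp [Int.add_emod, Int.mul_emod, h] at h4

include hQ hab hS hnorm hfaith in
theorem cyc_free {n : G} (hn : n ∈ S) (hn2 : n ^ 2 ≠ 1) {s : G} (hs : s ∈ S) (hs1 : s ≠ 1)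
    {a : G} (ha : a ∈ Q) (hsa : s * a * s⁻¹ = a) : a = 1 := by
  have hinv := cyc_inverts hQ hab hS hnorm hfaith hn hn2
  have h4 : n ^ 4 = 1 := pow_four hS hn
  have : Fact (Nat.Prime 2) := ⟨Nat.prime_two⟩
  have ho : orderOf n = 4 := by
    have := orderOf_eq_prime_pow (p := 2) (n := 1) (x := n) (by simpa using hn2)
      (by simpa using h4)
    simpa using this
  have hz : zpowers n = S := by
    apply Subgroup.eq_of_le_of_card_ge ((zpowers_le).mpr hn)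
    rw [Nat.card_zpowers, ho, hS]
  have hsz : s ∈ zpowers n := by rw [hz]; exact hs
  obtain ⟨k, hk⟩ := hsz
  have hk' : n ^ k = s := hk
  rw [← zpow_mod_orderOf, ho, Nat.cast_ofNat] at hk'
  have hs2 : s ^ 2 * a * (s ^ 2)⁻¹ = a := by
    calc s ^ 2 * a * (s ^ 2)⁻¹ = s * (s * a * s⁻¹) * s⁻¹ := by
          simp only [sq, mul_inv_rev, mul_assoc]
      _ = a := by rw [hsa, hsa]
  have key : n ^ 2 * a * (n ^ 2)⁻¹ = a := by
    have hk0 : 0 ≤ k % 4 := Int.emod_nonneg k (by norm_num)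
    have hk3 : k % 4 < 4 := Int.emod_lt_of_pos k (by norm_num)
    obtain ⟨m, hm⟩ : ∃ m : ℤ, m = k % 4 := ⟨_, rfl⟩
    rw [← hm] at hk0 hk3 hk'
    interval_cases m
    · exact absurd (by simpa using hk'.symm) hs1
    · have : s = n := by simpa using hk'.symm
      rw [← this]; exact hs2
    · have : s = n ^ 2 := by rw [← hk']; norm_cast
      rw [← this]; exact hsa
    · have : s = n ^ 3 := by rw [← hk']; norm_cast
      have h6 : s ^ 2 = n ^ 2 := by
        rw [this, ← pow_mul, show 3 * 2 = 4 + 2 from rfl, pow_add, h4, one_mul]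
      rw [← h6]; exact hs2
  exact eq_one_of_eq_inv (pow_nine hQ ha) (key.symm.trans (hinv a ha))

omit [Finite G] in
include hS in
theorem exists_ne_one_S : ∃ z ∈ S, z ≠ 1 := by
  by_contra h
  push Not at h
  have : S = ⊥ := (Subgroup.eq_bot_iff_forall S).mpr h
  rw [this, Subgroup.card_bot] at hS
  omega

include hS in
theorem exists_third {z : G} : ∃ d ∈ S, d ≠ 1 ∧ d ≠ z := by
  classical
  have h4 : (S : Set G).ncard = 4 := by rw [← Nat.card_coe_set_eq]; exact hS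
  have h2 : ({1, z} : Set G).ncard < (S : Set G).ncard := by
    rw [h4]
    exact lt_of_le_of_lt (Set.ncard_insert_le _ _) (by rw [Set.ncard_singleton]; norm_num)
  obtain ⟨d, hdS, hd⟩ := Set.exists_mem_notMem_of_ncard_lt_ncard h2
  refine ⟨d, hdS, fun h => hd (by simp [h]), fun h => hd (by simp [h])⟩

include hS in
theorem enum_S {z d : G} (hz : z ∈ S) (hd : d ∈ S) (hz1 : z ≠ 1) (hd1 : d ≠ 1) (hdz : d ≠ z)
    (hz2 : z ^ 2 = 1) : ∀ s ∈ S, s = 1 ∨ s = z ∨ s = d ∨ s = d * z := by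
  classical
  have h4 : (S : Set G).ncard = 4 := by rw [← Nat.card_coe_set_eq]; exact hS
  have hzi : z⁻¹ = z := inv_eq_of_mul_eq_one_left (by rwa [sq] at hz2)
  have he1 : d * z ≠ 1 := fun h => hdz (by rw [← hzi]; exact eq_inv_of_mul_eq_one_left h)
  have hez : d * z ≠ z := fun h => hd1 (by simpa using h)
  have hed : d * z ≠ d := fun h => hz1 (by simpa using h)
  have hT : (({1, z, d, d * z} : Finset G) : Set G) = (S : Set G) := by
    apply Set.eq_of_subset_of_ncard_le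
    · intro t ht
      simp only [Finset.coe_insert, Finset.coe_singleton, Set.mem_insert_iff,
        Set.mem_singleton_iff] at ht
      rcases ht with rfl | rfl | rfl | rfl
      · exact S.one_mem
      · exact hz
      · exact hd
      · exact S.mul_mem hd hz
    · rw [h4, Set.ncard_coe_finset]
      rw [Finset.card_insert_of_notMem, Finset.card_insert_of_notMem,
        Finset.card_insert_of_notMem, Finset.card_singleton]
      · simp only [Finset.mem_singleton]; exact fun h => hed h.symm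
      · simp only [Finset.mem_insert, Finset.mem_singleton, not_or]
        exact ⟨fun h => hdz h.symm, fun h => hez h.symm⟩
      · simp only [Finset.mem_insert, Finset.mem_singleton, not_or]
        exact ⟨fun h => hz1 h.symm, fun h => hd1 h.symm, fun h => he1 h.symm⟩
    · exact Set.toFinite _
  intro s hs
  have : s ∈ (({1, z, d, d * z} : Finset G) : Set G) := by rw [hT]; exact hs
  simpa using this

omit [Finite G] in
theorem comm_of_sq (hV : ∀ s ∈ S, s ^ 2 = 1) {s t : G} (hs : s ∈ S) (ht : t ∈ S) :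
    s * t = t * s := by
  have h1 : s * s = 1 := by have := hV s hs; rwa [sq] at this
  have h2 : t * t = 1 := by have := hV t ht; rwa [sq] at this
  have h3 : (s * t) * (s * t) = 1 := by have := hV _ (S.mul_mem hs ht); rwa [sq] at this
  calc s * t = s * ((s * t) * (s * t)) * t := by rw [h3, mul_one]
    _ = (s * s) * (t * s) * (t * t) := by group
    _ = t * s := by rw [h1, h2, one_mul, mul_one]

include hQ hab hS hnorm hfaith in
/-- non-cyclic case: some involution of `S` inverts `Q` -/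
theorem v4_inverts (hV : ∀ s ∈ S, s ^ 2 = 1) :
    ∃ z ∈ S, z ≠ 1 ∧ ∀ x ∈ Q, z * x * z⁻¹ = x⁻¹ := by
  obtain ⟨z1, hz1S, hz1⟩ := exists_ne_one_S hS
  have h9 : ∀ x ∈ Q, x ^ 9 = 1 := fun x hx => pow_nine hQ hx
  rcases trich hQ hab (hnorm _ hz1S) (hV _ hz1S) with h | h | ⟨hF3, hI3⟩
  · exact ⟨z1, hz1S, hz1, h⟩
  · exact absurd (hfaith _ hz1S h) hz1
  · obtain ⟨x, hx, hx1⟩ := exists_ne_one_of_card_three hF3
    obtain ⟨y, hy, hy1⟩ := exists_ne_one_of_card_three hI3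
    obtain ⟨z2, hz2S, hz21, hz2z1⟩ := exists_third hS (z := z1)
    have hcomm : z1 * z2 = z2 * z1 := comm_of_sq hV hz1S hz2S
    have hC := mem_of_card_three hF3 hx hx1
    have hI := mem_of_card_three hI3 hy hy1
    have hdec : ∀ u ∈ Q, ∃ c ∈ fixSub Q z1, ∃ i ∈ invSub Q hab z1, u = c * i := by
      intro u hu
      obtain ⟨c, hc, i, hi, hxci, hcc, hii⟩ := decomp hab h9 (hnorm _ hz1S) (hV _ hz1S) hu
      exact ⟨c, ⟨hc, hcc⟩, i, ⟨hi, hii⟩, hxci⟩
    have hx' : z2 * x * z2⁻¹ ∈ fixSub Q z1 :=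
      ⟨hnorm z2 hz2S x hx.1, by rw [conj_conj_comm hcomm, hx.2]⟩
    have hy' : z2 * y * z2⁻¹ ∈ invSub Q hab z1 :=
      ⟨hnorm z2 hz2S y hy.1, by rw [conj_conj_comm hcomm, hy.2, conj_inv]⟩
    have hne : ∀ w : G, w ≠ 1 → z2 * w * z2⁻¹ ≠ 1 := by
      intro w hw h
      apply hw
      have : w = z2⁻¹ * (z2 * w * z2⁻¹) * z2 := by group
      rw [this, h]; group
    have hz3S : z1 * z2 ∈ S := S.mul_mem hz1S hz2S
    have hz1i : z1⁻¹ = z1 :=
      inv_eq_of_mul_eq_one_left (by have := hV z1 hz1S; rwa [sq] at this)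
    have hz3 : z1 * z2 ≠ 1 := by
      intro h
      apply hz2z1
      rw [← hz1i]; exact eq_inv_of_mul_eq_one_right h
    have h3conj : ∀ w : G, (z1 * z2) * w * (z1 * z2)⁻¹ = z1 * (z2 * w * z2⁻¹) * z1⁻¹ := by
      intro w; group
    have hxz1 : z1 * x * z1⁻¹ = x := hx.2
    have hCQ : fixSub Q z1 ≤ Q := fun _ h => h.1
    have hIQ : invSub Q hab z1 ≤ Q := fun _ h => h.1
    have hyz1 : z1 * y * z1⁻¹ = y⁻¹ := hy.2
    rcases hC _ hx' with hx2 | hx2 | hx2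
    · exact absurd hx2 (hne x hx1)
    · rcases hI _ hy' with hy2 | hy2 | hy2
      · exact absurd hy2 (hne y hy1)
      · exact absurd (hfaith _ hz2S (gen_fix hC hI hdec hx2 hy2)) hz21
      · refine absurd (hfaith _ hz3S (gen_fix hC hI hdec ?_ ?_)) hz3
        · rw [h3conj, hx2, hxz1]
        · rw [h3conj, hy2, ← conj_inv, hyz1, inv_inv]
    · rcases hI _ hy' with hy2 | hy2 | hy2
      · exact absurd hy2 (hne y hy1)
      · refine ⟨z1 * z2, hz3S, hz3, gen_inv hab hCQ hIQ hC hI hdec ?_ ?_⟩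
        · rw [h3conj, hx2, ← conj_inv, hxz1]
        · rw [h3conj, hy2, hyz1]
      · exact ⟨z2, hz2S, hz21,
          gen_inv hab hCQ hIQ hC hI hdec hx2 hy2⟩

include hQ hab hS hnorm hfaith in
theorem v4_core (hV : ∀ s ∈ S, s ^ 2 = 1) :
    ∃ z ∈ S, ∃ d ∈ S, (∀ s ∈ S, s = 1 ∨ s = z ∨ s = d ∨ s = d * z) ∧ orderOf d = 2 ∧
      orderOf (d * z) = 2 ∧ (∀ x ∈ Q, z * x * z⁻¹ = x⁻¹) ∧
      ∃ a ∈ Q, ∃ c ∈ Q, a ≠ 1 ∧ c ≠ 1 ∧ d * a * d⁻¹ = a ∧ (d * z) * c * (d * z)⁻¹ = c := by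
  obtain ⟨z, hzS, hz1, hinv⟩ := v4_inverts hQ hab hS hnorm hfaith hV
  obtain ⟨d, hdS, hd1, hdz⟩ := exists_third hS (z := z)
  have hz2 : z ^ 2 = 1 := hV z hzS
  have hzz : z * z = 1 := by rwa [sq] at hz2
  have hzi : z⁻¹ = z := inv_eq_of_mul_eq_one_left hzz
  have heS : d * z ∈ S := S.mul_mem hdS hzS
  have he1 : d * z ≠ 1 := fun h => hdz (by rw [← hzi]; exact eq_inv_of_mul_eq_one_left h)
  have hconj : ∀ w : G, (d * z) * w * (d * z)⁻¹ = d * (z * w * z⁻¹) * d⁻¹ := by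
    intro w; group
  have hconj' : ∀ w : G, d * w * d⁻¹ = (d * z) * (z * w * z⁻¹) * (d * z)⁻¹ := by
    intro w
    calc d * w * d⁻¹ = d * ((z * z) * w * (z * z)⁻¹) * d⁻¹ := by rw [hzz]; group
      _ = (d * z) * (z * w * z⁻¹) * (d * z)⁻¹ := by group
  have hod : orderOf d = 2 := orderOf_eq_prime (hV d hdS) hd1
  have hoe : orderOf (d * z) = 2 := orderOf_eq_prime (hV _ heS) he1
  refine ⟨z, hzS, d, hdS, enum_S hS hzS hdS hz1 hd1 hdz hz2, hod, hoe, hinv, ?_⟩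
  -- `d` does not invert `Q`
  have hd_ninv : ¬ ∀ x ∈ Q, d * x * d⁻¹ = x⁻¹ := by
    intro h
    apply he1
    apply hfaith _ heS
    intro x hx
    rw [hconj, hinv x hx, h _ (Q.inv_mem hx), inv_inv]
  have he_ninv : ¬ ∀ x ∈ Q, (d * z) * x * (d * z)⁻¹ = x⁻¹ := by
    intro h
    apply hd1
    apply hfaith _ hdS
    intro x hx
    rw [hconj', hinv x hx, h _ (Q.inv_mem hx), inv_inv]
  obtain ⟨a, ha, ha1⟩ : ∃ a ∈ fixSub Q d, a ≠ 1 := by
    rcases trich hQ hab (hnorm _ hdS) (hV _ hdS) with h | h | ⟨hF3, -⟩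
    · exact absurd h hd_ninv
    · exact absurd (hfaith _ hdS h) hd1
    · exact exists_ne_one_of_card_three hF3
  obtain ⟨c, hc, hc1⟩ : ∃ c ∈ fixSub Q (d * z), c ≠ 1 := by
    rcases trich hQ hab (hnorm _ heS) (hV _ heS) with h | h | ⟨hF3, -⟩
    · exact absurd h he_ninv
    · exact absurd (hfaith _ heS h) he1
    · exact exists_ne_one_of_card_three hF3
  exact ⟨a, ha.1, c, hc.1, ha1, hc1, ha.2, hc.2⟩

end core

section main

variable [Finite G]

theorem fusion (P : Sylow 3 G)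
    (hC : centralizer ((P : Subgroup G) : Set G) = (P : Subgroup G)) {S : Subgroup G}
    (hab : ∀ x ∈ (P : Subgroup G), ∀ y ∈ (P : Subgroup G), x * y = y * x)
    (hdec : ∀ g ∈ normalizer ((P : Subgroup G) : Set G),
      ∃ p ∈ (P : Subgroup G), ∃ s ∈ S, g = p * s)
    (hSN : S ≤ normalizer ((P : Subgroup G) : Set G)) {a b : G}
    (ha : a ∈ (P : Subgroup G)) (hb : b ∈ (P : Subgroup G)) (h : IsConj a b) :
    ∃ s ∈ S, s * a * s⁻¹ = b := by
  have : Fact (Nat.Prime 3) := ⟨Nat.prime_three⟩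
  obtain ⟨g, hg⟩ := isConj_iff.mp h
  have ha' : a ∈ centralizer ((P : Subgroup G) : Set G) := by rw [hC]; exact ha
  have hb' : (g⁻¹)⁻¹ * a * g⁻¹ ∈ centralizer ((P : Subgroup G) : Set G) := by
    rw [hC, inv_inv, hg]; exact hb
  obtain ⟨m, hm, hmeq⟩ := P.conj_eq_normalizer_conj_of_mem_centralizer a g⁻¹ ha' hb'
  rw [inv_inv, hg] at hmeq
  obtain ⟨p, hp, s, hs, hps⟩ := hdec m⁻¹ (Subgroup.inv_mem _ hm)
  refine ⟨s, hs, ?_⟩
  have hsa : s * a * s⁻¹ ∈ (P : Subgroup G) :=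
    ((mem_normalizer_iff.mp (hSN hs)) a).mp ha
  have hm' : m = (p * s)⁻¹ := by rw [← hps, inv_inv]
  rw [hmeq, hm', inv_inv]
  calc s * a * s⁻¹ = (s * a * s⁻¹) * p * p⁻¹ := by group
    _ = p * (s * a * s⁻¹) * p⁻¹ := by rw [hab _ hsa _ hp]
    _ = p * s * a * (p * s)⁻¹ := by group

theorem local_structure (P : Sylow 3 G) (hP : Nat.card (P : Subgroup G) = 9)
    (hN : Nat.card (normalizer ((P : Subgroup G) : Set G)) = 36)
    (hC : centralizer ((P : Subgroup G) : Set G) = (P : Subgroup G)) :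
    (∃ z : G, orderOf z = 2 ∧ (∀ x ∈ (P : Subgroup G), z * x * z⁻¹ = x⁻¹) ∧
      (∀ x ∈ (P : Subgroup G), x ^ 3 = 1) ∧
      (∀ a ∈ (P : Subgroup G), a ≠ 1 →
        normalizer ((P : Subgroup G) : Set G) ⊓ centralizer ({a} : Set G) = (P : Subgroup G)) ∧
      ∃ a ∈ (P : Subgroup G), ∃ b ∈ (P : Subgroup G), a ≠ 1 ∧ b ≠ 1 ∧ ¬ IsConj a b) ∨
    (∃ a ∈ (P : Subgroup G), ∃ b ∈ (P : Subgroup G), ∃ c ∈ (P : Subgroup G), ∃ d e : G,
      a ≠ 1 ∧ b ≠ 1 ∧ c ≠ 1 ∧ ¬ IsConj a b ∧ ¬ IsConj a c ∧ ¬ IsConj b c ∧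
      orderOf d = 2 ∧ orderOf e = 2 ∧ Commute d a ∧ Commute e c) := by
  have : Fact (Nat.Prime 3) := ⟨Nat.prime_three⟩
  have : Fact (Nat.Prime 2) := ⟨Nat.prime_two⟩
  obtain ⟨Q, hQdef⟩ : ∃ Q : Subgroup G, Q = (P : Subgroup G) := ⟨_, rfl⟩
  rw [← hQdef] at hP hN hC ⊢
  obtain ⟨N, hNdef⟩ : ∃ N : Subgroup G, N = normalizer (Q : Set G) := ⟨_, rfl⟩
  rw [← hNdef] at hN ⊢
  have hab : ∀ x ∈ Q, ∀ y ∈ Q, x * y = y * x := by
    intro x hx y hy
    have h1 : x ∈ centralizer (Q : Set G) := by rw [hC]; exact hx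
    exact (h1 y hy).symm
  have h9 : ∀ x ∈ Q, x ^ 9 = 1 := fun x hx => pow_nine hP hx
  obtain ⟨K, hK⟩ := Sylow.exists_subgroup_card_pow_prime 2 (n := 2) (G := N)
    (by rw [hN]; norm_num)
  obtain ⟨S, hSdef⟩ : ∃ S : Subgroup G, S = K.map N.subtype := ⟨_, rfl⟩
  have hS : Nat.card S = 4 := by
    rw [hSdef, Subgroup.card_map_of_injective N.subtype_injective]; simpa using hK
  have hSN : S ≤ N := by rw [hSdef]; exact Subgroup.map_subtype_le K
  have hQN : Q ≤ N := by rw [hNdef]; exact le_normalizer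
  have hnorm : ∀ s ∈ S, ∀ x ∈ Q, s * x * s⁻¹ ∈ Q := by
    intro s hs x hx
    have h1 : s ∈ normalizer (Q : Set G) := by rw [← hNdef]; exact hSN hs
    exact ((mem_set_normalizer_iff.mp h1) x).mp hx
  have hdisj : ∀ s ∈ S, s ∈ Q → s = 1 := by
    intro s hs hsQ
    have h1 : S ⊓ Q = ⊥ :=
      disjoint_iff.mp (Subgroup.disjoint_of_coprime_natCard (by rw [hS, hP]; norm_num))
    have h2 : s ∈ S ⊓ Q := ⟨hs, hsQ⟩
    rwa [h1, Subgroup.mem_bot] at h2
  have hfaith : ∀ s ∈ S, (∀ x ∈ Q, s * x * s⁻¹ = x) → s = 1 := by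
    intro s hs h
    apply hdisj s hs
    rw [← hC]
    intro x hx
    have h1 := h x hx
    rw [mul_inv_eq_iff_eq_mul] at h1
    exact h1.symm
  have hdecN : ∀ g ∈ N, ∃ p ∈ Q, ∃ s ∈ S, g = p * s :=
    exists_mul_of_card hQN hSN (by rw [hP, hS, hN]) (by rw [hP, hS]; norm_num)
  have hfus : ∀ a ∈ Q, ∀ b ∈ Q, IsConj a b → ∃ s ∈ S, s * a * s⁻¹ = b := by
    intro a ha b hb h
    subst hQdef
    subst hNdef
    exact fusion P hC hab hdecN hSN ha hb h
  by_cases hV : ∀ s ∈ S, s ^ 2 = 1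
  · right
    obtain ⟨z, hzS, d, hdS, henum, hod, hoe, hinv, a, ha, c, hc, ha1, hc1, hda, hec⟩ :=
      v4_core hP hab hS hnorm hfaith hV
    have hconj : ∀ w : G, (d * z) * w * (d * z)⁻¹ = d * (z * w * z⁻¹) * d⁻¹ := by
      intro w; group
    have hea : (d * z) * a * (d * z)⁻¹ = a⁻¹ := by
      rw [hconj, hinv a ha, ← conj_inv, hda]
    have hdc : d * c * d⁻¹ = c⁻¹ := by
      have h1 : d * (z * c * z⁻¹) * d⁻¹ = c := by rw [← hconj]; exact hec
      rw [hinv c hc, ← conj_inv] at h1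
      exact inv_eq_iff_eq_inv.mp h1
    have orbit_a : ∀ s ∈ S, s * a * s⁻¹ = a ∨ s * a * s⁻¹ = a⁻¹ := by
      intro s hs
      rcases henum s hs with rfl | rfl | rfl | rfl
      · left; simp
      · right; exact hinv a ha
      · left; exact hda
      · right; exact hea
    have orbit_c : ∀ s ∈ S, s * c * s⁻¹ = c ∨ s * c * s⁻¹ = c⁻¹ := by
      intro s hs
      rcases henum s hs with rfl | rfl | rfl | rfl
      · left; simp
      · right; exact hinv c hc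
      · right; exact hdc
      · left; exact hec
    have hc_ne : c ≠ c⁻¹ := fun h => hc1 (eq_one_of_eq_inv (h9 c hc) h)
    have ha_ne : a ≠ a⁻¹ := fun h => ha1 (eq_one_of_eq_inv (h9 a ha) h)
    -- applying `d` to an equation `a * c = w`
    have hdac : d * (a * c) * d⁻¹ = a * c⁻¹ := by rw [← conj_mul, hda, hdc]
    have heac : (d * z) * (a * c) * (d * z)⁻¹ = a⁻¹ * c := by rw [← conj_mul, hea, hec]
    have hb1 : a * c ≠ 1 := by
      intro h
      have h2 := hdac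
      rw [h] at h2
      simp only [mul_one, mul_inv_cancel] at h2
      -- 1 = a * c⁻¹ and a * c = 1
      apply hc_ne
      have h3 : a * c = a * c⁻¹ := by rw [h, ← h2]
      exact mul_left_cancel h3
    have hnab : ¬ IsConj a (a * c) := by
      intro h
      obtain ⟨s, hs, hsa⟩ := hfus a ha _ (Q.mul_mem ha hc) h
      rcases orbit_a s hs with h1 | h1
      · rw [h1] at hsa
        exact hc1 (by simpa using hsa.symm)
      · rw [h1] at hsa
        -- a⁻¹ = a * c ; apply d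
        have h2 := hdac
        rw [← hsa, ← conj_inv, hda] at h2
        apply hc_ne
        have h3 : a * c = a * c⁻¹ := by rw [← hsa, h2]
        exact mul_left_cancel h3
    have hnac : ¬ IsConj a c := by
      intro h
      obtain ⟨s, hs, hsa⟩ := hfus a ha c hc h
      rcases orbit_a s hs with h1 | h1
      · rw [h1] at hsa
        apply hc_ne
        have h2 : d * c * d⁻¹ = c := by rw [← hsa]; exact hda
        exact h2.symm.trans hdc
      · rw [h1] at hsa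
        apply hc_ne
        have h2 : d * c * d⁻¹ = c := by rw [← hsa, ← conj_inv, hda]
        exact h2.symm.trans hdc
    have hnbc : ¬ IsConj (a * c) c := by
      intro h
      obtain ⟨s, hs, hsc⟩ := hfus c hc _ (Q.mul_mem ha hc) h.symm
      rcases orbit_c s hs with h1 | h1
      · rw [h1] at hsc
        exact ha1 (by simpa using hsc.symm)
      · rw [h1] at hsc
        -- c⁻¹ = a * c ; apply e
        have h2 := heac
        rw [← hsc, ← conj_inv, hec] at h2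
        apply ha_ne
        have h3 : a * c = a⁻¹ * c := by rw [← hsc, h2]
        exact mul_right_cancel h3
    refine ⟨a, ha, a * c, Q.mul_mem ha hc, c, hc, d, d * z, ha1, hb1, hc1, hnab, hnac, hnbc,
      hod, hoe, ?_, ?_⟩
    · exact mul_inv_eq_iff_eq_mul.mp hda
    · exact mul_inv_eq_iff_eq_mul.mp hec
  · left
    push Not at hV
    obtain ⟨n, hn, hn2⟩ := hV
    have hinv := cyc_inverts hP hab hS hnorm hfaith hn hn2
    have hz2 : (n ^ 2) ^ 2 = 1 := by rw [← pow_mul]; exact pow_four hS hn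
    refine ⟨n ^ 2, orderOf_eq_prime hz2 hn2, hinv, cyc_pow_three hP hab hS hnorm hfaith hn hn2,
      ?_, ?_⟩
    · intro a ha ha1
      apply le_antisymm
      · rintro g ⟨hgN, hgC⟩
        obtain ⟨p, hp, s, hs, rfl⟩ := hdecN g hgN
        by_cases hs1 : s = 1
        · rw [hs1, mul_one]; exact hp
        · exfalso
          apply ha1
          apply cyc_free hP hab hS hnorm hfaith hn hn2 hs hs1 ha
          have h1 : a * (p * s) = (p * s) * a := hgC a rfl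
          have h2 : a * p = p * a := hab a ha p hp
          rw [mul_inv_eq_iff_eq_mul]
          apply mul_left_cancel (a := p)
          rw [← mul_assoc, ← mul_assoc, ← h1, ← mul_assoc, h2]
      · intro g hg
        refine ⟨hQN hg, ?_⟩
        intro h hh
        rw [Set.mem_singleton_iff] at hh
        subst hh
        exact hab h ha g hg
    · obtain ⟨a, ha, ha1⟩ : ∃ a ∈ Q, a ≠ 1 := by
        by_contra h
        push Not at h
        have : Q = ⊥ := (Subgroup.eq_bot_iff_forall Q).mpr h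
        rw [this, Subgroup.card_bot] at hP
        omega
      have h9c : (Q : Set G).ncard = 9 := by rw [← Nat.card_coe_set_eq]; exact hP
      have h4c : (S : Set G).ncard = 4 := by rw [← Nat.card_coe_set_eq]; exact hS
      have hlt : ((fun s => s * a * s⁻¹) '' (S : Set G) ∪ {1}).ncard < (Q : Set G).ncard := by
        rw [h9c]
        refine lt_of_le_of_lt (Set.ncard_union_le _ _) ?_
        have := Set.ncard_image_le (f := fun s => s * a * s⁻¹) (Set.toFinite (S : Set G))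
        rw [Set.ncard_singleton]
        omega
      obtain ⟨b, hbQ, hb⟩ := Set.exists_mem_notMem_of_ncard_lt_ncard hlt
      refine ⟨a, ha, b, hbQ, ha1, ?_, ?_⟩
      · intro h; exact hb (Or.inr (by simp [h]))
      · intro h
        obtain ⟨s, hs, hsa⟩ := hfus a ha b hbQ h
        exact hb (Or.inl ⟨s, hs, hsa⟩)

end main

end Cfsg.Agent.Lib.Helper20.Loc36
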