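import Mathlib

/-!
Reduction modulo a valuation ring of `ℂ` for representations of finite groups
(helper20).  Main results:

* `exists_fixed_ne_zero`: a finite `p`-group acting linearly in characteristic `p`
  fixes a nonzero vector of every nonzero stable subspace.
* `indep_mod`: over a local ring with residue characteristic `p`, if the norm element
  of a `p`-group does not kill `x` modulo the maximal ideal then the translates of `x`
  are independent modulo the maximal ideal.
* `lift_indep`: independence modulo the maximal ideal of a valuation ring lifts to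
  independence over the fraction field.
* `exists_valuationSubring`: a valuation ring of `ℂ` in which `p` is not a unit.
* `fixed_eq_zero`: the application to groups with a TI Sylow subgroup.
-/

set_option autoImplicit false

namespace Cfsg.Agent.Lib.Helper20.ModLift

open IsLocalRing

theorem exists_fixed_ne_zero {k : Type*} [Field k] (p : ℕ) [Fact p.Prime] [CharP k p]
    {P : Type*} [Group P] [Finite P] (hP : IsPGroup p P)
    {Y : Type*} [AddCommGroup Y] [Module k Y] (τ : Representation k P Y)
    (C : Submodule k Y) (hC : ∀ u : P, ∀ y ∈ C, τ u y ∈ C) (hne : C ≠ ⊥) :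
    ∃ y ∈ C, y ≠ 0 ∧ ∀ u : P, τ u y = y := by
  classical
  obtain ⟨y0, hy0C, hy0⟩ := Submodule.exists_mem_ne_zero_of_ne_bot hne
  letI : Algebra (ZMod p) k := ZMod.algebra k p
  letI : Module (ZMod p) Y := Module.compHom Y (algebraMap (ZMod p) k)
  haveI : IsScalarTower (ZMod p) k Y := IsScalarTower.of_algebraMap_smul (fun r y => rfl)
  let S : Submodule (ZMod p) Y := Submodule.span (ZMod p) (Set.range fun u : P => τ u y0)
  have hS : ∀ v : P, ∀ y ∈ S, τ v y ∈ S := by
    intro v y hy
    induction hy using Submodule.span_induction with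
    | mem y hy =>
      obtain ⟨u, rfl⟩ := hy
      apply Submodule.subset_span
      refine ⟨v * u, ?_⟩
      show τ (v * u) y0 = τ v (τ u y0)
      rw [map_mul]
      rfl
    | zero => rw [map_zero]; exact S.zero_mem
    | add a b _ _ ha hb => rw [map_add]; exact S.add_mem ha hb
    | smul r a _ ha => rw [LinearMap.map_smul_of_tower]; exact S.smul_mem r ha
  have hSC : ∀ y ∈ S, y ∈ C := by
    intro y hy
    have hle : S ≤ C.restrictScalars (ZMod p) := by
      rw [Submodule.span_le]
      rintro _ ⟨u, rfl⟩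
      exact hC u y0 hy0C
    exact hle hy
  haveI : Module.Finite (ZMod p) ↥S :=
    Module.Finite.span_of_finite (ZMod p) (Set.finite_range _)
  haveI : Finite ↥S := Module.finite_of_finite (ZMod p)
  letI : MulAction P ↥S :=
    { smul := fun u y => ⟨τ u y.1, hS u y.1 y.2⟩
      one_smul := fun y => Subtype.ext (by
        show τ 1 y.1 = y.1
        rw [map_one]; rfl)
      mul_smul := fun u v y => Subtype.ext (by
        show τ (u * v) y.1 = τ u (τ v y.1)
        rw [map_mul]; rfl) }
  have hy0S : y0 ∈ S := by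
    apply Submodule.subset_span
    refine ⟨1, ?_⟩
    show τ 1 y0 = y0
    rw [map_one]; rfl
  have hcard : p ∣ Nat.card ↥S := by
    rw [Module.natCard_eq_pow_finrank (K := ZMod p) (V := ↥S)]
    have hpos : 0 < Module.finrank (ZMod p) ↥S := by
      rw [Module.finrank_pos_iff_exists_ne_zero]
      exact ⟨⟨y0, hy0S⟩, fun h => hy0 (congrArg Subtype.val h)⟩
    rw [Nat.card_zmod]
    exact dvd_pow_self p hpos.ne'
  have h0 : (0 : ↥S) ∈ MulAction.fixedPoints P ↥S := by
    intro u
    apply Subtype.ext
    show τ u (0 : Y) = 0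
    rw [map_zero]
  obtain ⟨b, hb, hb0⟩ := hP.exists_fixed_point_of_prime_dvd_card_of_fixed_point ↥S hcard h0
  refine ⟨b.1, hSC _ b.2, fun h => hb0 (Subtype.ext h.symm), fun u => ?_⟩
  exact congrArg Subtype.val (hb u)

theorem charP_quot {R : Type*} [CommRing R] [IsLocalRing R] (p : ℕ) [Fact p.Prime]
    (hp : (p : R) ∈ maximalIdeal R) : CharP (R ⧸ maximalIdeal R) p := by
  have h0 : ((p : ℕ) : R ⧸ maximalIdeal R) = 0 := by
    have : ((p : ℕ) : R ⧸ maximalIdeal R) = Ideal.Quotient.mk (maximalIdeal R) (p : R) := by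
      simp
    rw [this, Ideal.Quotient.eq_zero_iff_mem]
    exact hp
  have hd := ringChar.dvd h0
  have hne : ringChar (R ⧸ maximalIdeal R) ≠ 1 := by
    haveI : Nontrivial (R ⧸ maximalIdeal R) :=
      Ideal.Quotient.nontrivial_iff.mpr (maximalIdeal.isMaximal R).ne_top
    exact CharP.ringChar_ne_one
  rcases (Nat.Prime.eq_one_or_self_of_dvd (Fact.out : p.Prime) _ hd) with h | h
  · exact absurd h hne
  · rw [← h]
    exact ringChar.charP _

theorem indep_mod {R : Type*} [CommRing R] [IsLocalRing R] (p : ℕ) [Fact p.Prime]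
    (hp : (p : R) ∈ maximalIdeal R)
    {P : Type*} [Group P] [Fintype P] (hP : IsPGroup p P)
    {M : Type*} [AddCommGroup M] [Module R M] (c : P →* (M →ₗ[R] M)) (x : M)
    (hx : ∑ u : P, c u x ∉ (maximalIdeal R) • (⊤ : Submodule R M))
    (a : P → R) (ha : ∑ u : P, a u • c u x ∈ (maximalIdeal R) • (⊤ : Submodule R M)) :
    ∀ u, a u ∈ maximalIdeal R := by
  classical
  letI : Field (R ⧸ maximalIdeal R) := Ideal.Quotient.field (maximalIdeal R)
  haveI : CharP (R ⧸ maximalIdeal R) p := charP_quot p hp
  let T : (P → R ⧸ maximalIdeal R) →ₗ[R ⧸ maximalIdeal R]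
      (M ⧸ (maximalIdeal R) • (⊤ : Submodule R M)) :=
    Fintype.linearCombination (R ⧸ maximalIdeal R)
      (fun u => (Submodule.Quotient.mk (c u x) : M ⧸ (maximalIdeal R) • (⊤ : Submodule R M)))
  have hT : ∀ b : P → R, T (fun u => Ideal.Quotient.mk (maximalIdeal R) (b u)) =
      Submodule.Quotient.mk (∑ u : P, b u • c u x) := by
    intro b
    rw [Fintype.linearCombination_apply, ← Submodule.mkQ_apply, map_sum]
    rfl
  have hlift : ∀ β : P → R ⧸ maximalIdeal R, ∃ b : P → R,
      β = fun u => Ideal.Quotient.mk (maximalIdeal R) (b u) := by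
    intro β
    refine ⟨fun u => (Ideal.Quotient.mk_surjective (β u)).choose, ?_⟩
    funext u
    exact (Ideal.Quotient.mk_surjective (β u)).choose_spec.symm
  have hstab : ∀ v : P, ∀ y ∈ (maximalIdeal R) • (⊤ : Submodule R M),
      c v y ∈ (maximalIdeal R) • (⊤ : Submodule R M) := by
    intro v y hy
    refine Submodule.smul_induction_on hy ?_ ?_
    · intro r hr n _
      rw [map_smul]
      exact Submodule.smul_mem_smul hr Submodule.mem_top
    · intro y1 y2 h1 h2
      rw [map_add]
      exact add_mem h1 h2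
  let τ : Representation (R ⧸ maximalIdeal R) P (P → R ⧸ maximalIdeal R) :=
    { toFun := fun v => LinearMap.funLeft (R ⧸ maximalIdeal R) (R ⧸ maximalIdeal R)
        (fun u => v⁻¹ * u)
      map_one' := by
        apply LinearMap.ext
        intro β
        funext u
        simp [LinearMap.funLeft_apply]
      map_mul' := fun v w => by
        apply LinearMap.ext
        intro β
        funext u
        simp [LinearMap.funLeft_apply, mul_assoc] }
  have hτ : ∀ (v : P) (β : P → R ⧸ maximalIdeal R) (u : P), τ v β u = β (v⁻¹ * u) :=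
    fun v β u => rfl
  have hker : ∀ v : P, ∀ β ∈ LinearMap.ker T, τ v β ∈ LinearMap.ker T := by
    intro v β hβ
    obtain ⟨b, rfl⟩ := hlift β
    rw [LinearMap.mem_ker, hT, Submodule.Quotient.mk_eq_zero] at hβ
    rw [LinearMap.mem_ker]
    have e1 : τ v (fun u => Ideal.Quotient.mk (maximalIdeal R) (b u)) =
        fun u => Ideal.Quotient.mk (maximalIdeal R) (b (v⁻¹ * u)) := by
      funext u
      rw [hτ]
    rw [e1, hT, Submodule.Quotient.mk_eq_zero]
    have e2 : ∑ u : P, b (v⁻¹ * u) • c u x = c v (∑ u : P, b u • c u x) := by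
      rw [map_sum]
      rw [← Equiv.sum_comp (Equiv.mulLeft v) (fun u => b (v⁻¹ * u) • c u x)]
      apply Finset.sum_congr rfl
      intro u _
      simp only [Equiv.coe_mulLeft, inv_mul_cancel_left, map_mul, map_smul]
      rfl
    rw [e2]
    exact hstab v _ hβ
  have hkerbot : LinearMap.ker T = ⊥ := by
    by_contra hne
    obtain ⟨β, hβker, hβ0, hβfix⟩ := exists_fixed_ne_zero p hP τ (LinearMap.ker T) hker hne
    have hconst : ∀ u, β u = β 1 := by
      intro u
      have h1 := congrFun (hβfix u) u
      rw [hτ, inv_mul_cancel] at h1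
      exact h1.symm
    have hβ1 : β 1 ≠ 0 := by
      intro h
      apply hβ0
      funext u
      rw [hconst u, h]
      rfl
    rw [LinearMap.mem_ker, Fintype.linearCombination_apply] at hβker
    have e3 : ∑ u : P, β u • (Submodule.Quotient.mk (c u x) :
        M ⧸ (maximalIdeal R) • (⊤ : Submodule R M)) =
        β 1 • Submodule.Quotient.mk (∑ u : P, c u x) := by
      rw [← Submodule.mkQ_apply, map_sum, Finset.smul_sum]
      apply Finset.sum_congr rfl
      intro u _
      rw [hconst u]
      rfl
    rw [e3, smul_eq_zero] at hβker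
    rcases hβker with h | h
    · exact hβ1 h
    · rw [Submodule.Quotient.mk_eq_zero] at h
      exact hx h
  have hzero : (fun u => Ideal.Quotient.mk (maximalIdeal R) (a u)) ∈ LinearMap.ker T := by
    rw [LinearMap.mem_ker, hT, Submodule.Quotient.mk_eq_zero]
    exact ha
  rw [hkerbot, Submodule.mem_bot] at hzero
  intro u
  have := congrFun hzero u
  exact Ideal.Quotient.eq_zero_iff_mem.mp this

theorem lift_indep {K : Type*} [Field K] (O : ValuationSubring K)
    {W : Type*} [AddCommGroup W] [Module K W]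
    (L : Submodule ↥O W) {ι : Type*} [Fintype ι] (x : ι → W)
    (h : ∀ a : ι → ↥O, ∑ i, a i • x i ∈ (maximalIdeal ↥O) • L → ∀ i, a i ∈ maximalIdeal ↥O) :
    LinearIndependent K x := by
  classical
  rw [Fintype.linearIndependent_iff]
  intro b hb
  by_contra hne
  push Not at hne
  obtain ⟨i0, hi0⟩ := hne
  obtain ⟨j, -, hj⟩ := Finset.exists_max_image Finset.univ (fun i => O.valuation (b i))
    ⟨i0, Finset.mem_univ _⟩
  have hbj : b j ≠ 0 := by
    intro h0
    have h1 := hj i0 (Finset.mem_univ _)
    rw [h0, map_zero] at h1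
    exact hi0 ((map_eq_zero _).mp (le_antisymm h1 zero_le'))
  have hvj : O.valuation (b j) ≠ 0 := by
    intro h0
    exact hbj ((map_eq_zero _).mp h0)
  have hmem : ∀ i, b i / b j ∈ O := by
    intro i
    rw [← O.valuation_le_one_iff, map_div₀]
    exact (div_le_one₀ (lt_of_le_of_ne zero_le' (Ne.symm hvj))).mpr (hj i (Finset.mem_univ _))
  have hsum : ∑ i, (⟨b i / b j, hmem i⟩ : ↥O) • x i = 0 := by
    have e : ∑ i, (⟨b i / b j, hmem i⟩ : ↥O) • x i = (b j)⁻¹ • ∑ i, b i • x i := by
      rw [Finset.smul_sum]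
      apply Finset.sum_congr rfl
      intro i _
      show (b i / b j) • x i = _
      rw [smul_smul, div_eq_inv_mul]
    rw [e, hb, smul_zero]
  have h1 := h (fun i => ⟨b i / b j, hmem i⟩) (by rw [hsum]; exact zero_mem _) j
  have h2 : (⟨b j / b j, hmem j⟩ : ↥O) = 1 := Subtype.ext (div_self hbj)
  rw [h2] at h1
  exact (maximalIdeal.isMaximal _).ne_top ((Ideal.eq_top_iff_one _).mpr h1)

theorem exists_valuationSubring (p : ℕ) [Fact p.Prime] :
    ∃ O : ValuationSubring ℂ, (p : ℂ) ∈ O.nonunits := by
  let A : Subring ℂ := (Int.castRingHom ℂ).range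
  let pA : ↥A := ⟨(p : ℂ), ⟨(p : ℤ), by simp⟩⟩
  have hI : Ideal.span {pA} ≠ ⊤ := by
    intro h
    rw [Ideal.eq_top_iff_one, Ideal.mem_span_singleton'] at h
    obtain ⟨⟨a, ⟨n, rfl⟩⟩, ha⟩ := h
    have h1 : ((n : ℤ) : ℂ) * (p : ℂ) = 1 := congrArg Subtype.val ha
    have h2 : n * (p : ℤ) = 1 := by exact_mod_cast h1
    have hdvd : (p : ℤ) ∣ 1 := Dvd.intro_left n h2
    have hdvd' : p ∣ 1 := by exact_mod_cast hdvd
    have := (Fact.out : p.Prime).one_lt
    have := Nat.le_of_dvd one_pos hdvd'
    omega
  obtain ⟨O, -, hO⟩ := Ideal.image_subset_nonunits_valuationSubring _ hI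
  exact ⟨O, hO ⟨pA, Ideal.subset_span rfl, rfl⟩⟩

end Cfsg.Agent.Lib.Helper20.ModLift
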