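import Cfsg.Agent.Lib.Helper20.SLqJ
import Cfsg.Agent.H5.QuadPair

/-!
# No faithful quadratic action of `PSL₂(q)`, `q` odd

`ring_key`: in a ring where `r + r = 0` forces `r = 0`, if `x² = y² = 0` and
`((1+x)(1+y)(1+x))² = 1` then `y = -2x`.

`psl_no_quadratic`: in a faithful representation of `PSL₂(F)` over `ZMod p` (`p` the odd
characteristic of `F`) the only element acting quadratically is the identity.
-/

set_option autoImplicit false
set_option linter.unusedSectionVars false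
set_option linter.unusedSimpArgs false
set_option linter.unnecessarySeqFocus false

namespace Cfsg.Agent.Lib.Helper20.NoQuad

open Matrix Cfsg.Agent.Lib.Helper20.SLq

section RingKey

variable {R : Type*} [Ring R]

theorem ring_key (h2 : ∀ r : R, r + r = 0 → r = 0) (x y : R) (hx : x * x = 0) (hy : y * y = 0)
    (hM : ((1 + x) * (1 + y) * (1 + x)) * ((1 + x) * (1 + y) * (1 + x)) = 1) :
    y = -(x + x) := by
  have hx' : ∀ r : R, x * (x * r) = 0 := fun r => by rw [← mul_assoc, hx, zero_mul]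
  have hy' : ∀ r : R, y * (y * r) = 0 := fun r => by rw [← mul_assoc, hy, zero_mul]
  -- `1 - x` is the inverse of `1 + x`
  have hinv1 : (1 - x) * (1 + x) = 1 := by
    have : (1 - x) * (1 + x) = 1 - x * x := by noncomm_ring
    rw [this, hx, sub_zero]
  have hinv2 : (1 + x) * (1 - x) = 1 := by
    have : (1 + x) * (1 - x) = 1 - x * x := by noncomm_ring
    rw [this, hx, sub_zero]
  -- `Y X X Y = X⁻¹ X⁻¹`
  have h1 : (1 + y) * ((1 + x) * (1 + x)) * (1 + y) = (1 - x) * (1 - x) := by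
    have e1 : (1 + y) * ((1 + x) * (1 + x)) * (1 + y) =
        (1 - x) * (((1 + x) * (1 + y) * (1 + x)) * ((1 + x) * (1 + y) * (1 + x))) * (1 - x) := by
      have : (1 - x) * (((1 + x) * (1 + y) * (1 + x)) * ((1 + x) * (1 + y) * (1 + x))) * (1 - x)
          = ((1 - x) * (1 + x)) * (1 + y) * ((1 + x) * (1 + x)) * (1 + y) *
            ((1 + x) * (1 - x)) := by noncomm_ring
      rw [this, hinv1, hinv2, one_mul, mul_one]
    rw [e1, hM, mul_one]
  obtain ⟨z, hz⟩ : ∃ z : R, z = x + x := ⟨_, rfl⟩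
  have hzz : z * z = 0 := by
    rw [hz]
    simp only [mul_add, add_mul, hx, add_zero]
  have hXX : (1 + x) * (1 + x) = 1 + z := by
    rw [hz]
    simp only [mul_add, add_mul, mul_one, one_mul, hx, add_zero]
    abel
  have hXX' : (1 - x) * (1 - x) = 1 - z := by
    rw [hz]
    simp only [mul_sub, sub_mul, mul_one, one_mul, hx, sub_zero]
    abel
  rw [hXX, hXX'] at h1
  -- the basic relation `E = 0`
  have hE : z + z + (y + y) + y * z + z * y + y * z * y = 0 := by
    have e : (1 + y) * (1 + z) * (1 + y) =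
        1 + z + (y + y) + y * z + z * y + y * z * y + y * y := by noncomm_ring
    rw [e, hy, add_zero] at h1
    have : z + z + (y + y) + y * z + z * y + y * z * y =
        (1 + z + (y + y) + y * z + z * y + y * z * y) - (1 - z) := by abel
    rw [this, h1, sub_self]
  -- `y z y = 0`
  have hyzy : y * z * y = 0 := by
    apply h2
    have e : y * z * y + y * z * y =
        y * (z + z + (y + y) + y * z + z * y + y * z * y) * y
        - ((y * y) * (y + y) + (y * y) * z * y + y * z * (y * y) + (y * y) * z * (y * y)) := by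
      noncomm_ring
    rw [e, hE, hy]
    simp
  rw [hyzy, add_zero] at hE
  have hyz : y * z = 0 := by
    apply h2
    have e : y * z + y * z =
        y * (z + z + (y + y) + y * z + z * y) - ((y * y) * 2 + (y * y) * z + y * z * y) := by
      noncomm_ring
    rw [e, hE, hy, hyzy]
    simp
  have hzy : z * y = 0 := by
    apply h2
    have e : z * y + z * y =
        (z + z + (y + y) + y * z + z * y) * y - (2 * (y * y) + z * (y * y) + y * z * y) := by
      noncomm_ring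
    rw [e, hE, hy, hyzy]
    simp
  rw [hyz, hzy, add_zero, add_zero] at hE
  have hzy0 : z + y = 0 := by
    apply h2
    have : z + y + (z + y) = z + z + (y + y) := by abel
    rw [this, hE]
  rw [← hz]
  exact eq_neg_of_add_eq_zero_right hzy0

end RingKey

section PSL

variable {F : Type*} [Field F] [Fintype F]

local notation "SL2" => Matrix.SpecialLinearGroup (Fin 2) F
local notation "PSL2" => Matrix.ProjectiveSpecialLinearGroup (Fin 2) F

/-- an element of `p`-power order of `PSL₂(F)`, `p` odd, lifts to one of `SL₂(F)` -/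
theorem exists_lift_p (p : ℕ) [Fact p.Prime] (hp2 : p ≠ 2) (g : PSL2) (j : ℕ)
    (hj : g ^ (p ^ j) = 1) : ∃ gh : SL2, (QuotientGroup.mk gh : PSL2) = g ∧ gh ^ (p ^ j) = 1 := by
  have hp : p.Prime := Fact.out
  obtain ⟨x, hx⟩ := QuotientGroup.mk_surjective g
  obtain ⟨z, hz⟩ : ∃ z : SL2, z = x ^ (p ^ j) := ⟨_, rfl⟩
  have hzc : z ∈ Subgroup.center SL2 := by
    rw [← QuotientGroup.eq_one_iff, hz, QuotientGroup.mk_pow, hx, hj]
  have hz2 := center_sq z hzc
  refine ⟨x * z, ?_, ?_⟩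
  · rw [QuotientGroup.mk_mul, hx, (QuotientGroup.eq_one_iff z).2 hzc, mul_one]
  · have hcomm : Commute x z := by
      rw [hz]
      exact (Commute.refl x).pow_right _
    rw [hcomm.mul_pow, ← hz]
    rcases hp.eq_two_or_odd with h2' | hodd'
    · exact absurd h2' hp2
    · have hoddj : Odd (p ^ j) := Odd.pow (Nat.odd_iff.2 hodd')
      obtain ⟨k, hk⟩ := hoddj
      rw [← pow_succ', hk]
      have : 2 * k + 1 + 1 = 2 * (k + 1) := by ring
      rw [this, pow_mul, hz2, one_pow]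

theorem eUeLeU_sq_mem_center (s : F) (hs : s ≠ 0) :
    (eU s * eL (-(s⁻¹ ^ 2 * s)) * eU s) * (eU s * eL (-(s⁻¹ ^ 2 * s)) * eU s) ∈
      Subgroup.center SL2 := by
  rw [Matrix.SpecialLinearGroup.mem_center_iff]
  refine ⟨-1, by rw [Fintype.card_fin]; ring, ?_⟩
  ext i k
  simp only [Matrix.SpecialLinearGroup.coe_mul, coe_eU, coe_eL]
  fin_cases i <;> fin_cases k <;>
    simp [Matrix.mul_apply, Fin.sum_univ_two, Matrix.scalar_apply] <;> field_simp <;> ring

theorem eL_mul_eU_not_mem_center (l s : F) (hl : l ≠ 0) :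
    eL l * eU s ∉ Subgroup.center SL2 := by
  intro h
  rw [Matrix.SpecialLinearGroup.mem_center_iff] at h
  obtain ⟨r, -, hr⟩ := h
  have := congrFun (congrFun hr 1) 0
  simp [Matrix.SpecialLinearGroup.coe_mul, Matrix.mul_apply, Fin.sum_univ_two,
    Matrix.scalar_apply] at this
  exact hl this.symm

/-- in a faithful representation of `PSL₂(F)` over `ZMod p` (`p` odd, the characteristic
of `F`) no non-identity element acts quadratically -/
theorem psl_no_quadratic (p : ℕ) [Fact p.Prime] [CharP F p] (hp2 : p ≠ 2)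
    {W : Type*} [AddCommGroup W] [Module (ZMod p) W]
    (ρ : PSL2 →* Module.End (ZMod p) W) (hfaith : ∀ g, ρ g = 1 → g = 1)
    (g : PSL2) (hq : (ρ g - 1) * (ρ g - 1) = 0) : g = 1 := by
  by_contra hg
  have hpp : p.Prime := Fact.out
  have hgp : g ^ (p ^ 1) = 1 := by
    rw [pow_one]
    exact hfaith _ (by rw [map_pow]; exact Cfsg.H5.QP.quad_pow_char hq)
  obtain ⟨gh, hmk, hghp⟩ := exists_lift_p p hp2 g 1 hgp
  have hgh1 : gh ≠ 1 := by
    intro h
    apply hg
    rw [← hmk, h]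
    rfl
  obtain ⟨x₀, s, hs, hgh⟩ := exists_conj_eU p gh hgh1 1 hghp
  have hs' : s⁻¹ ≠ 0 := inv_ne_zero hs
  obtain ⟨l, hl⟩ : ∃ l : F, l = -(s⁻¹ ^ 2 * s) := ⟨_, rfl⟩
  have hl0 : l ≠ 0 := by
    rw [hl]
    exact neg_ne_zero.2 (mul_ne_zero (pow_ne_zero 2 hs') hs)
  -- the conjugating element and the conjugate
  obtain ⟨t, ht⟩ : ∃ t : PSL2, t = QuotientGroup.mk (x₀ * eW s⁻¹ hs' * x₀⁻¹) := ⟨_, rfl⟩
  obtain ⟨g', hg'⟩ : ∃ g' : PSL2, g' = t * g * t⁻¹ := ⟨_, rfl⟩
  have hg'mk : g' = QuotientGroup.mk (x₀ * eL l * x₀⁻¹) := by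
    rw [hg', ht, ← hmk, ← QuotientGroup.mk_inv, ← QuotientGroup.mk_mul, ← QuotientGroup.mk_mul,
      hgh, hl, ← eW_conj s⁻¹ hs' s]
    congr 1
    group
  -- `(g g' g)² = 1`
  have hrel : (g * g' * g) * (g * g' * g) = 1 := by
    rw [hg'mk, ← hmk, ← QuotientGroup.mk_mul, ← QuotientGroup.mk_mul, ← QuotientGroup.mk_mul,
      QuotientGroup.eq_one_iff, hgh]
    have e : x₀ * eU s * x₀⁻¹ * (x₀ * eL l * x₀⁻¹) * (x₀ * eU s * x₀⁻¹) *
        (x₀ * eU s * x₀⁻¹ * (x₀ * eL l * x₀⁻¹) * (x₀ * eU s * x₀⁻¹)) =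
        x₀ * ((eU s * eL l * eU s) * (eU s * eL l * eU s)) * x₀⁻¹ := by group
    rw [e, hl]
    exact (inferInstance : (Subgroup.center SL2).Normal).conj_mem _
      (eUeLeU_sq_mem_center s hs) x₀
  -- `g' g g ≠ 1`
  have hne : g' * g * g ≠ 1 := by
    rw [hg'mk, ← hmk, ← QuotientGroup.mk_mul, ← QuotientGroup.mk_mul, Ne,
      QuotientGroup.eq_one_iff, hgh]
    intro hc
    have e : x₀ * eL l * x₀⁻¹ * (x₀ * eU s * x₀⁻¹) * (x₀ * eU s * x₀⁻¹) =
        x₀ * (eL l * eU (s + s)) * x₀⁻¹ := by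
      rw [← eU_mul]
      group
    rw [e] at hc
    have hc' := (inferInstance : (Subgroup.center SL2).Normal).conj_mem _ hc x₀⁻¹
    have e2 : x₀⁻¹ * (x₀ * (eL l * eU (s + s)) * x₀⁻¹) * x₀⁻¹⁻¹ = eL l * eU (s + s) := by group
    rw [e2] at hc'
    exact eL_mul_eU_not_mem_center l (s + s) hl0 hc'
  -- the ring computation
  obtain ⟨X, hX⟩ : ∃ X, X = ρ g := ⟨_, rfl⟩
  obtain ⟨Y, hY⟩ : ∃ Y, Y = ρ g' := ⟨_, rfl⟩
  rw [← hX] at hq
  have hY' : Y = ρ t * X * ρ t⁻¹ := by rw [hY, hg', map_mul, map_mul, hX]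
  have hti : ρ t⁻¹ * ρ t = 1 := by rw [← map_mul, inv_mul_cancel, map_one]
  have hti' : ρ t * ρ t⁻¹ = 1 := by rw [← map_mul, mul_inv_cancel, map_one]
  have hqY : (Y - 1) * (Y - 1) = 0 := by
    have h1 : Y - 1 = ρ t * (X - 1) * ρ t⁻¹ := by
      rw [hY', mul_sub, sub_mul, mul_one, hti']
    rw [h1]
    calc ρ t * (X - 1) * ρ t⁻¹ * (ρ t * (X - 1) * ρ t⁻¹)
        = ρ t * (X - 1) * (ρ t⁻¹ * ρ t) * (X - 1) * ρ t⁻¹ := by noncomm_ring
      _ = ρ t * ((X - 1) * (X - 1)) * ρ t⁻¹ := by rw [hti]; noncomm_ring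
      _ = 0 := by rw [hq, mul_zero, zero_mul]
  have h2 : ∀ r : Module.End (ZMod p) W, r + r = 0 → r = 0 := by
    intro r hr
    have h2ne : (2 : ZMod p) ≠ 0 := by
      intro h
      have h3 : ((2 : ℕ) : ZMod p) = 0 := by exact_mod_cast h
      rw [ZMod.natCast_eq_zero_iff] at h3
      exact hp2 ((Nat.prime_dvd_prime_iff_eq hpp Nat.prime_two).1 h3)
    have h4 : (2 : ZMod p) • r = 0 := by rw [two_smul]; exact hr
    exact (smul_eq_zero.1 h4).resolve_left h2ne
  have hM : ((1 + (X - 1)) * (1 + (Y - 1)) * (1 + (X - 1))) *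
      ((1 + (X - 1)) * (1 + (Y - 1)) * (1 + (X - 1))) = 1 := by
    rw [add_sub_cancel, add_sub_cancel, hX, hY, ← map_mul, ← map_mul, ← map_mul, hrel, map_one]
  have hkey := ring_key h2 (X - 1) (Y - 1) hq hqY hM
  apply hne
  apply hfaith
  rw [map_mul, map_mul, ← hX, ← hY]
  have hYe : Y = 1 - ((X - 1) + (X - 1)) := by
    have : Y = 1 + (Y - 1) := by abel
    rw [this, hkey]
    abel
  obtain ⟨x, hx⟩ : ∃ x, x = X - 1 := ⟨_, rfl⟩
  have hXe : X = 1 + x := by rw [hx]; abel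
  rw [← hx] at hYe hq
  rw [hYe, hXe]
  have e : (1 - (x + x)) * (1 + x) * (1 + x) = 1 - (x * x) * 3 - (x * x) * x * 2 := by
    noncomm_ring
  rw [e, hq]
  simp

end PSL

end Cfsg.Agent.Lib.Helper20.NoQuad
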