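import Cfsg.Agent.H26.ReeG
import Cfsg.Agent.Lib.Helper8.ChevRee31
import Cfsg.Agent.H5.SL2pSection
import Cfsg.Agent.H5.Cores

/-!
# The Ree groups have no section `SL(2,3)` and trivial `O_3`
-/

set_option autoImplicit false

namespace Cfsg.Agent.Lib.Helper20.NoQuad

open Matrix

/-- an element of `SL(2,3)` whose square is not the identity and whose fourth power is -/
def w3 : Matrix.SpecialLinearGroup (Fin 2) (ZMod 3) := ⟨!![0, 1; -1, 0], by decide⟩

theorem w3_sq_ne : w3 * w3 ≠ 1 := by decide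

theorem w3_four : (w3 * w3) * (w3 * w3) = 1 := by decide

/-- a finite group whose `2`-elements are all involutions has no section `SL(2,3)` -/
theorem no_section_of_exp_two {Γ : Type*} [Group Γ] [Finite Γ]
    (hexp : ∀ S : Sylow 2 Γ, ∀ x ∈ S, x * x = 1) : ¬ Cfsg.H5.SL2p.HasSectionP 3 Γ := by
  rintro ⟨K₀, θ, hθ⟩
  have : Fact (Nat.Prime 2) := ⟨Nat.prime_two⟩
  obtain ⟨k, hk⟩ := hθ w3
  obtain ⟨a, b, hb, hab⟩ := Nat.exists_eq_two_pow_mul_odd (orderOf_pos (k : Γ)).ne'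
  obtain ⟨k', hk'⟩ : ∃ k' : Γ, k' = (k : Γ) ^ b := ⟨_, rfl⟩
  have hk'2 : k' ^ 2 ^ a = 1 := by
    rw [hk', ← pow_mul, mul_comm, ← hab, pow_orderOf_eq_one]
  have hP : IsPGroup 2 (Subgroup.zpowers k') := by
    rw [IsPGroup.iff_orderOf]
    intro x
    obtain ⟨y, hy⟩ := x
    obtain ⟨i, rfl⟩ := Subgroup.mem_zpowers_iff.1 hy
    have h1 : (⟨k' ^ i, hy⟩ : Subgroup.zpowers k') ^ 2 ^ a = 1 := by
      apply Subtype.ext
      rw [Subgroup.coe_pow, Subgroup.coe_one]
      simp only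
      rw [← zpow_natCast, ← _root_.zpow_mul, mul_comm, _root_.zpow_mul, zpow_natCast, hk'2, _root_.one_zpow]
    obtain ⟨j, -, hj⟩ := (Nat.dvd_prime_pow Nat.prime_two).1 (orderOf_dvd_of_pow_eq_one h1)
    exact ⟨j, hj⟩
  obtain ⟨S, hS⟩ := hP.exists_le_sylow
  have hsq : k' * k' = 1 := hexp S k' (hS (Subgroup.mem_zpowers k'))
  -- but `θ (k^b)` does not square to one
  have h2 : θ (k ^ b) * θ (k ^ b) = 1 := by
    rw [← map_mul]
    have : k ^ b * k ^ b = 1 := by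
      apply Subtype.ext
      rw [Subgroup.coe_mul, Subgroup.coe_pow, ← hk', hsq]
      rfl
    rw [this, map_one]
  rw [map_pow, hk, ← pow_add, ← two_mul, pow_mul, pow_two] at h2
  obtain ⟨c, hc⟩ := hb
  rw [hc, pow_succ, pow_mul, pow_two, w3_four, one_pow, one_mul] at h2
  exact w3_sq_ne h2

/-- `O_p` of a nonabelian finite simple group is trivial -/
theorem pCore_eq_bot_of_simple {Γ : Type*} [Group Γ] [Finite Γ] (hs : IsSimpleGroup Γ)
    (hnc : ¬ IsMulCommutative Γ) (p : ℕ) [Fact p.Prime] : Cfsg.pCore p Γ = ⊥ := by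
  have hn : (Cfsg.pCore p Γ).Normal := Cfsg.H5.pCore_normal p Γ
  rcases hn.eq_bot_or_eq_top with h | h
  · exact h
  · exfalso
    have hP : IsPGroup p Γ := by
      have h1 := Cfsg.H5.pCore_isPGroup p Γ
      rw [h] at h1
      exact IsPGroup.of_equiv h1 Subgroup.topEquiv
    have hnt : Nontrivial Γ := hs.toNontrivial
    have hc : Nontrivial (Subgroup.center Γ) := hP.center_nontrivial
    have hcn : (Subgroup.center Γ).Normal := inferInstance
    rcases hcn.eq_bot_or_eq_top with h0 | h0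
    · rw [h0] at hc
      exact not_nontrivial _ hc
    · apply hnc
      refine ⟨⟨fun x y => ?_⟩⟩
      have hy : y ∈ Subgroup.center Γ := by rw [h0]; exact Subgroup.mem_top y
      exact (Subgroup.mem_center_iff.1 hy) x

/-- the Ree groups have no section `SL(2,3)` -/
theorem ree_no_section {K : Type*} [Field K] [Fintype K] {m : ℕ}
    (hK : Fintype.card K = 3 ^ (2 * m + 1)) :
    ¬ Cfsg.H5.SL2p.HasSectionP 3 ↥(Cfsg.Lie.twistedG2 K (3 ^ m)) := by
  open Cfsg.Agent.Lib.Helper8.Chev in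
  obtain ⟨φ, ψ, hF⟩ := exists_reeField hK
  obtain ⟨τ, hτ⟩ := exists_reeAut hK m
  exact no_section_of_exp_two (fun S => (Cfsg.Agent.H26.Ree.sylow_two hF hK hτ S).2)

/-- `O_3` of a Ree group is trivial -/
theorem ree_pCore {K : Type*} [Field K] [Fintype K] {m : ℕ} (hm : 1 ≤ m)
    (hK : Fintype.card K = 3 ^ (2 * m + 1)) (p : ℕ) [Fact p.Prime] :
    Cfsg.pCore p ↥(Cfsg.Lie.twistedG2 K (3 ^ m)) = ⊥ := by
  open Cfsg.Agent.Lib.Helper8.Chev in
  obtain ⟨φ, ψ, hF⟩ := exists_reeField hK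
  obtain ⟨τ, hτ⟩ := exists_reeAut hK m
  obtain ⟨h1, h2⟩ := ree_simple hF hK hτ hm
  exact pCore_eq_bot_of_simple h1 h2 p

end Cfsg.Agent.Lib.Helper20.NoQuad
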