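import Cfsg.Agent.H5.Linearize
import Cfsg.Agent.H5.Quadratic

/-!
# From a quadratic subgroup to a quadratic element in a faithful representation of `H / C_H(V)`
-/

set_option autoImplicit false

namespace Cfsg.Agent.Lib.Helper20.NoQuad

/-- quadratic action of a subgroup, elementwise -/
theorem quad_elementwise' {G : Type*} [Group G] {V A : Subgroup G} {a : G} (haA : a ∈ A)
    (ha : ⁅⁅V, A⁆, A⁆ = ⊥) :
    ∀ v ∈ V, a * (a * v * a⁻¹ * v⁻¹) = (a * v * a⁻¹ * v⁻¹) * a := by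
  intro v hv
  have h1 := Cfsg.H5.quadratic_comm ha (V.inv_mem hv) haA haA
  rw [inv_inv] at h1
  have h2 : a * v * a⁻¹ * v⁻¹ = (v * a * v⁻¹ * a⁻¹)⁻¹ := by group
  rw [h2]
  have h3 : Commute a (v * a * v⁻¹ * a⁻¹) := h1
  exact h3.inv_right.eq

/-- the quadratic subgroup `A`, acting nontrivially, gives a non-identity quadratic element in a
faithful representation of any group isomorphic to `H / C_H(V)` -/
theorem core {G : Type*} [Group G] [Finite G] {p : ℕ} [Fact p.Prime] (V H : Subgroup G)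
    (hV : Cfsg.IsElementaryAbelian p V) (hHV : H ≤ Subgroup.normalizer (V : Set G))
    (N : Subgroup ↥H) [N.Normal] (hN : N = (Subgroup.centralizer (V : Set G)).subgroupOf H)
    {Γ' : Type*} [Group Γ'] (e : (↥H ⧸ N) ≃* Γ')
    (A : Subgroup G) (hA : A ≤ H) (hquad : ⁅⁅V, A⁆, A⁆ = ⊥) (hne : ⁅V, A⁆ ≠ ⊥) :
    ∃ (n : ℕ) (ρ : Representation (ZMod p) Γ' (Fin n → ZMod p)),
      (∀ g, ρ g = 1 → g = 1) ∧ ∃ g : Γ', g ≠ 1 ∧ (ρ g - 1) * (ρ g - 1) = 0 := by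
  have hex : ∃ a ∈ A, a ∉ Subgroup.centralizer (V : Set G) := by
    by_contra h
    push Not at h
    apply hne
    rw [Subgroup.commutator_eq_bot_iff_le_centralizer]
    intro v hv
    rw [Subgroup.mem_centralizer_iff]
    intro a ha
    have := Subgroup.mem_centralizer_iff.1 (h a ha) v hv
    exact this.symm
  obtain ⟨a, haA, haC⟩ := hex
  obtain ⟨n, θ, ρ₀, hρ₀⟩ := Cfsg.H5.Lin.exists_rep V H hV hHV
  have hker : ∀ h : ↥H, h ∈ N → ρ₀ h = 1 := by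
    intro h hh
    rw [hN, Subgroup.mem_subgroupOf] at hh
    exact (Cfsg.H5.Lin.rep_eq_one_iff θ ρ₀ hρ₀ hHV h).2 hh
  let ρ₁ : (↥H ⧸ N) →* Module.End (ZMod p) (Fin n → ZMod p) := QuotientGroup.lift N ρ₀ hker
  have hρ₁ : ∀ h : ↥H, ρ₁ (QuotientGroup.mk h) = ρ₀ h := fun h => rfl
  have hfaith₁ : ∀ g, ρ₁ g = 1 → g = 1 := by
    intro g hg
    obtain ⟨h, rfl⟩ := QuotientGroup.mk_surjective g
    rw [hρ₁] at hg
    rw [QuotientGroup.eq_one_iff, hN, Subgroup.mem_subgroupOf]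
    exact (Cfsg.H5.Lin.rep_eq_one_iff θ ρ₀ hρ₀ hHV h).1 hg
  let ρ : Representation (ZMod p) Γ' (Fin n → ZMod p) := ρ₁.comp e.symm.toMonoidHom
  have hρ : ∀ g, ρ g = ρ₁ (e.symm g) := fun g => rfl
  refine ⟨n, ρ, ?_, ?_⟩
  · intro g hg
    rw [hρ] at hg
    have := hfaith₁ _ hg
    rwa [MulEquiv.map_eq_one_iff] at this
  · obtain ⟨ah, hah⟩ : ∃ ah : ↥H, ah = ⟨a, hA haA⟩ := ⟨_, rfl⟩
    have hqa : (ρ₀ ah - 1) * (ρ₀ ah - 1) = 0 := by
      apply Cfsg.H5.Lin.rep_quadratic θ ρ₀ hρ₀ hHV ah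
      rw [hah]
      exact quad_elementwise' haA hquad
    have hne1 : ρ₀ ah ≠ 1 := by
      intro h
      apply haC
      have := (Cfsg.H5.Lin.rep_eq_one_iff θ ρ₀ hρ₀ hHV ah).1 h
      rwa [hah] at this
    refine ⟨e (QuotientGroup.mk ah), ?_, ?_⟩
    · intro h
      rw [MulEquiv.map_eq_one_iff] at h
      apply hne1
      rw [← hρ₁, h, map_one]
    · rw [hρ, MulEquiv.symm_apply_apply, hρ₁]
      exact hqa

end Cfsg.Agent.Lib.Helper20.NoQuad
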