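import Mathlib
import Cfsg.Prelude.Def_GeometricClasses
import Cfsg.Agent.Lib.Helper28.OEPlusF1

/-!
# Plus rows S5847 / S5871 (helper13's skeleton): piece F2 `field_half`, the branch with a totally singular `K`-line

`K` a self-adjoint field of matrices of degree `r` for the polar form of the non-degenerate quadratic form `Q` on `F^ι`,
`|ι| = 2 r`.  If some `v ≠ 0` is `K`-singular (`Q (k v) = 0` for all `k ∈ K`) then there are exactly two totally singular
`K`-lines, they are complementary, and `N(K) ∩ I` permutes them.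
-/

set_option autoImplicit false

namespace Cfsg.Agent.Lib.Helper20.OEPlusF2

open Matrix Cfsg Cfsg.Geo Module QuadraticMap
open Cfsg.Agent.Lib.Helper28.OETypeTC11 Cfsg.Agent.Lib.Helper28.OEPlus

variable {F : Type*} [Field F] {ι : Type} [Fintype ι] [DecidableEq ι] {Q : (ι → F) → F}

/-- `v` is `K`-singular: the `K`-line `K v` is totally singular -/
def KSing (Q : (ι → F) → F) (K : Subalgebra F (Matrix ι ι F)) (v : ι → F) : Prop := ∀ k ∈ K, Q (k *ᵥ v) = 0

section basic
variable (K : Subalgebra F (Matrix ι ι F)) {r : ℕ}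

theorem ksing_mulVec {v : ι → F} (hv : KSing Q K v) {a : Matrix ι ι F} (ha : a ∈ K) : KSing Q K (a *ᵥ v) := by
  intro k hk
  rw [Matrix.mulVec_mulVec]
  exact hv _ (K.mul_mem hk ha)

theorem self_mem_line (v : ι → F) : v ∈ line K v :=
  (mem_line K).mpr ⟨1, K.one_mem, (Matrix.one_mulVec v).symm⟩

theorem kinv_line (v : ι → F) : KInv K (line K v) := by
  intro k hk u hu
  obtain ⟨k', hk', rfl⟩ := (mem_line K).mp hu
  rw [Matrix.mulVec_mulVec]
  exact (mem_line K).mpr ⟨k * k', K.mul_mem hk hk', rfl⟩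

theorem line_le_of_mem {U : Submodule F (ι → F)} (hU : KInv K U) {v : ι → F} (hv : v ∈ U) : line K v ≤ U := by
  intro x hx
  obtain ⟨k, hk, rfl⟩ := (mem_line K).mp hx
  exact hU k hk v hv

theorem line_eq_of_mem (hK : IsFieldSubalgebra r K) {v v₁ : ι → F} (hv : v ∈ line K v₁) (hv0 : v ≠ 0) :
    line K v = line K v₁ := by
  have hv10 : v₁ ≠ 0 := by
    rintro rfl
    obtain ⟨k, -, rfl⟩ := (mem_line K).mp hv
    exact hv0 (Matrix.mulVec_zero _)
  apply Submodule.eq_of_le_of_finrank_eq (line_le_of_mem K (kinv_line K v₁) hv)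
  rw [finrank_line_r K hK hv0, finrank_line_r K hK hv10]

theorem ksing_ts {v : ι → F} (hv : KSing Q K v) : IsTotallySingularQuad Q (line K v) := by
  intro x hx
  obtain ⟨k, hk, rfl⟩ := (mem_line K).mp hx
  exact hv k hk

end basic

section main
variable [Fintype F] (K : Subalgebra F (Matrix ι ι F)) {r : ℕ}

/-- the squares of `K` span `K` over `F` (both characteristics), in the form needed here -/
theorem polar_eq_zero_of_sq (hQ : IsNondegenerateQuadraticForm Q) (hK : IsFieldSubalgebra r K) {u w : ι → F}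
    (hsq : ∀ k ∈ K, polar Q ((k * k) *ᵥ u) w = 0) : ∀ s ∈ K, polar Q (s *ᵥ u) w = 0 := by
  intro s hs
  by_cases h2 : (2 : F) = 0
  · obtain ⟨t, ht, rfl⟩ := exists_sq K h2 hK s hs
    exact hsq t ht
  · have h1 := hsq (s + 1) (K.add_mem hs K.one_mem)
    have h3 := hsq s hs
    have h4 := hsq 1 K.one_mem
    have e : ((s + 1) * (s + 1)) *ᵥ u = (s * s) *ᵥ u + (2 : F) • (s *ᵥ u) + ((1 : Matrix ι ι F) * 1) *ᵥ u := by
      rw [two_smul, ← Matrix.add_mulVec, ← Matrix.add_mulVec, ← Matrix.add_mulVec]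
      congr 1
      noncomm_ring
    rw [e, hQ.polar_bilinear.add_left, hQ.polar_bilinear.add_left, h3, h4, hQ.polar_bilinear.smul_left, zero_add,
      add_zero] at h1
    exact (mul_eq_zero.mp h1).resolve_left h2

/-- a totally singular `K`-line in dimension `2r` is its own orthogonal -/
theorem orth_line_eq (hQ : IsNondegenerateQuadraticForm Q) (hK : IsFieldSubalgebra r K)
    (hcard : Fintype.card ι = 2 * r) {v : ι → F} (hv0 : v ≠ 0) (hv : KSing Q K v) :
    orth hQ (line K v) = line K v := by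
  symm
  apply Submodule.eq_of_le_of_finrank_eq (ts_le_orthogonal hQ (ksing_ts K hv))
  rw [finrank_orth hQ, finrank_line_r K hK hv0, hcard]
  omega

theorem mem_line_of_polar (hQ : IsNondegenerateQuadraticForm Q) (hK : IsFieldSubalgebra r K)
    (hcard : Fintype.card ι = 2 * r) {v w : ι → F} (hv0 : v ≠ 0) (hv : KSing Q K v)
    (h : ∀ k ∈ K, polar Q (k *ᵥ v) w = 0) : w ∈ line K v := by
  rw [← orth_line_eq K hQ hK hcard hv0 hv, mem_orth]
  intro x hx
  obtain ⟨k, hk, rfl⟩ := (mem_line K).mp hx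
  exact h k hk

omit [Fintype F] in
/-- `Q (k (x + y))` for `K`-singular `x`, `y` -/
theorem Q_mulVec_add (hsa : IsSelfAdjointFor (polar Q) K) {x y : ι → F} (hx : KSing Q K x) (hy : KSing Q K y)
    {k : Matrix ι ι F} (hk : k ∈ K) : Q (k *ᵥ (x + y)) = polar Q ((k * k) *ᵥ x) y := by
  rw [Matrix.mulVec_add, Q_add' Q, hx k hk, hy k hk, zero_add, zero_add, ← Matrix.mulVec_mulVec,
    hsa k hk (k *ᵥ x) y]

omit [Fintype F] in
theorem sup_line_eq_top (hK : IsFieldSubalgebra r K) (hcard : Fintype.card ι = 2 * r) {v₁ v₂ : ι → F}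
    (hv10 : v₁ ≠ 0) (h2 : v₂ ∉ line K v₁) : line K v₁ ⊔ line K v₂ = ⊤ := by
  apply Submodule.eq_top_of_finrank_eq
  rw [finrank_sup_line_r K hK (kinv_line K v₁) h2, Module.finrank_fintype_fun_eq_card, hcard,
    finrank_line_r K hK hv10]
  ring

omit [Fintype F] in
theorem mul_ne_zero_of_mem (hK : IsFieldSubalgebra r K) {a b : Matrix ι ι F} (ha : a ∈ K) (ha0 : a ≠ 0) (hb0 : b ≠ 0) :
    b * a ≠ 0 := by
  intro h
  obtain ⟨y, -, hy⟩ := hK.inv a ha ha0
  apply hb0
  calc b = b * (a * y) := by rw [hy, mul_one]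
    _ = 0 := by rw [← mul_assoc, h, zero_mul]

/-- every `K`-singular vector lies on one of two given distinct totally singular `K`-lines -/
theorem ksing_mem_or (hQ : IsNondegenerateQuadraticForm Q) (hK : IsFieldSubalgebra r K)
    (hsa : IsSelfAdjointFor (polar Q) K) (hcard : Fintype.card ι = 2 * r) {v₁ v₂ : ι → F} (hv10 : v₁ ≠ 0)
    (h1 : KSing Q K v₁) (h2 : KSing Q K v₂) (h21 : v₂ ∉ line K v₁) {v : ι → F} (hv : KSing Q K v) :
    v ∈ line K v₁ ∨ v ∈ line K v₂ := by
  have hvt : v ∈ line K v₁ ⊔ line K v₂ := by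
    rw [sup_line_eq_top K hK hcard hv10 h21]; exact Submodule.mem_top
  obtain ⟨x, hx, y, hy, rfl⟩ := Submodule.mem_sup.mp hvt
  obtain ⟨a, ha, rfl⟩ := (mem_line K).mp hx
  obtain ⟨b, hb, rfl⟩ := (mem_line K).mp hy
  by_cases ha0 : a = 0
  · right; rw [ha0, Matrix.zero_mulVec, zero_add]; exact hy
  by_cases hb0 : b = 0
  · left; rw [hb0, Matrix.zero_mulVec, add_zero]; exact hx
  exfalso
  apply h21
  have hsq : ∀ k ∈ K, polar Q ((k * k) *ᵥ ((b * a) *ᵥ v₁)) v₂ = 0 := by
    intro k hk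
    have h3 := hv k hk
    rw [Q_mulVec_add K hsa (ksing_mulVec K h1 ha) (ksing_mulVec K h2 hb) hk, ← hsa b hb, Matrix.mulVec_mulVec,
      Matrix.mulVec_mulVec] at h3
    rw [Matrix.mulVec_mulVec]
    have e : k * k * (b * a) = b * (k * k) * a := by
      rw [← mul_assoc, hK.comm b hb (k * k) (K.mul_mem hk hk)]
    rw [e]
    exact h3
  have hall := polar_eq_zero_of_sq K hQ hK hsq
  apply mem_line_of_polar K hQ hK hcard hv10 h1
  intro k hk
  obtain ⟨c, hc, hc1⟩ := hK.inv (b * a) (K.mul_mem hb ha) (mul_ne_zero_of_mem K hK ha ha0 hb0)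
  have h4 := hall (k * c) (K.mul_mem hk hc)
  rw [Matrix.mulVec_mulVec, mul_assoc, hK.comm c hc (b * a) (K.mul_mem hb ha), hc1, mul_one] at h4
  exact h4

omit [Fintype F] in
/-- in characteristic 2 squaring is additive on `K` -/
theorem sq_add_of_two (hK : IsFieldSubalgebra r K) (h2 : (2 : F) = 0) (a b : ↥K) :
    (a + b) * (a + b) = a * a + b * b := by
  apply Subtype.ext
  have hc : (b : Matrix ι ι F) * a = a * b := hK.comm b b.2 a a.2
  have hz : (a : Matrix ι ι F) * b + a * b = 0 := by rw [← two_smul F, h2, zero_smul]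
  push_cast
  calc ((a : Matrix ι ι F) + b) * (a + b) = a * a + b * b + (a * b + b * a) := by noncomm_ring
    _ = a * a + b * b := by rw [hc, hz, add_zero]

/-- a linear functional `μ` on `K` with `μ (k²) = - Q (k w)` -/
theorem exists_mu (hQ : IsNondegenerateQuadraticForm Q) (hK : IsFieldSubalgebra r K)
    (hsa : IsSelfAdjointFor (polar Q) K) (w : ι → F) :
    ∃ μ : ↥K →ₗ[F] F, ∀ k : ↥K, μ (k * k) = - Q ((k : Matrix ι ι F) *ᵥ w) := by
  by_cases h2 : (2 : F) = 0
  · have hsurj : Function.Surjective (fun s : ↥K => s * s) := fun k => by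
      obtain ⟨s, hs, hss⟩ := exists_sq K h2 hK k.1 k.2
      exact ⟨⟨s, hs⟩, Subtype.ext hss⟩
    have hinj : Function.Injective (fun s : ↥K => s * s) := Finite.injective_iff_surjective.mpr hsurj
    let e : ↥K ≃ ↥K := Equiv.ofBijective _ ⟨hinj, hsurj⟩
    have he : ∀ s : ↥K, e s = s * s := fun s => rfl
    have hadd : ∀ x y : ↥K, e.symm (x + y) = e.symm x + e.symm y := by
      intro x y
      apply e.injective
      rw [e.apply_symm_apply, he, sq_add_of_two K hK h2, ← he, ← he, e.apply_symm_apply, e.apply_symm_apply]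
    have hsm : ∀ (d : F) (x : ↥K), e.symm ((d * d) • x) = d • e.symm x := by
      intro d x
      apply e.injective
      rw [e.apply_symm_apply, he, smul_mul_smul_comm, ← he, e.apply_symm_apply]
    have hneg : ∀ x : F, -x = x := by
      intro x
      have : x + x = 0 := by rw [← two_mul, h2, zero_mul]
      exact neg_eq_of_add_eq_zero_left this
    refine ⟨{ toFun := fun s => Q ((e.symm s : Matrix ι ι F) *ᵥ w), map_add' := ?_, map_smul' := ?_ }, ?_⟩
    · intro x y
      rw [hadd, Subalgebra.coe_add, Matrix.add_mulVec, Q_add' Q]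
      have h0 : polar Q ((e.symm x : Matrix ι ι F) *ᵥ w) ((e.symm y : Matrix ι ι F) *ᵥ w) = 0 := by
        rw [← hsa _ (e.symm y).2, Matrix.mulVec_mulVec]
        exact polar_mulVec_self hQ h2 K hK hsa _ (K.mul_mem (e.symm y).2 (e.symm x).2) w
      rw [h0, add_zero]
    · intro c x
      have hring : ringChar F = 2 := CharP.ringChar_of_prime_eq_zero Nat.prime_two h2
      obtain ⟨d, hd⟩ := FiniteField.isSquare_of_char_two hring c
      rw [hd, hsm, Subalgebra.coe_smul, Matrix.smul_mulVec, hQ.smul, RingHom.id_apply, smul_eq_mul, pow_two]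
    · intro k
      change Q ((e.symm (k * k) : Matrix ι ι F) *ᵥ w) = _
      rw [← he, e.symm_apply_apply, hneg]
  · refine ⟨{ toFun := fun s => -((2 : F)⁻¹ * polar Q w ((s : Matrix ι ι F) *ᵥ w)), map_add' := ?_, map_smul' := ?_ }, ?_⟩
    · intro x y
      rw [Subalgebra.coe_add, Matrix.add_mulVec, hQ.polar_bilinear.add_right]
      ring
    · intro c x
      rw [Subalgebra.coe_smul, Matrix.smul_mulVec, hQ.polar_bilinear.smul_right, RingHom.id_apply, smul_eq_mul]
      ring
    · intro k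
      change -((2 : F)⁻¹ * polar Q w (((k * k : ↥K) : Matrix ι ι F) *ᵥ w)) = _
      rw [Subalgebra.coe_mul, ← Matrix.mulVec_mulVec, ← hsa _ k.2, polar_self' hQ]
      field_simp

/-- a second totally singular `K`-line -/
theorem exists_second (hQ : IsNondegenerateQuadraticForm Q) (hK : IsFieldSubalgebra r K)
    (hsa : IsSelfAdjointFor (polar Q) K) (hcard : Fintype.card ι = 2 * r) (hr : 0 < r) {v₁ : ι → F} (hv10 : v₁ ≠ 0)
    (h1 : KSing Q K v₁) : ∃ v₂, v₂ ∉ line K v₁ ∧ KSing Q K v₂ := by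
  have hne : line K v₁ ≠ ⊤ := by
    intro h
    have h3 := finrank_line_r K hK hv10
    rw [h, finrank_top, Module.finrank_fintype_fun_eq_card, hcard] at h3
    omega
  obtain ⟨w, -, hw⟩ := SetLike.exists_of_lt (lt_top_iff_ne_top.mpr hne)
  let Φ : ↥K →ₗ[F] Module.Dual F ↥K := LinearMap.mk₂ F
    (fun a s => polar Q w (((s : Matrix ι ι F) * (a : Matrix ι ι F)) *ᵥ v₁))
    (fun a a' s => by
      rw [Subalgebra.coe_add, mul_add, Matrix.add_mulVec, hQ.polar_bilinear.add_right])
    (fun c a s => by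
      rw [Subalgebra.coe_smul, mul_smul_comm, Matrix.smul_mulVec, hQ.polar_bilinear.smul_right, smul_eq_mul])
    (fun a s s' => by
      rw [Subalgebra.coe_add, add_mul, Matrix.add_mulVec, hQ.polar_bilinear.add_right])
    (fun c a s => by
      rw [Subalgebra.coe_smul, smul_mul_assoc, Matrix.smul_mulVec, hQ.polar_bilinear.smul_right, smul_eq_mul])
  have hΦ : ∀ a s : ↥K, Φ a s = polar Q w (((s : Matrix ι ι F) * (a : Matrix ι ι F)) *ᵥ v₁) := fun a s => rfl
  have hinj : Function.Injective Φ := by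
    rw [injective_iff_map_eq_zero]
    intro a ha
    by_contra ha0
    apply hw
    apply mem_line_of_polar K hQ hK hcard hv10 h1
    intro k hk
    obtain ⟨y, hy, hay⟩ := hK.inv a.1 a.2 (fun h => ha0 (Subtype.ext h))
    have hya : y * a.1 = 1 := by rw [hK.comm y hy a.1 a.2, hay]
    have h3 : Φ a ⟨k * y, K.mul_mem hk hy⟩ = 0 := by rw [ha]; rfl
    rw [hΦ] at h3
    rw [polar_comm]
    have e : k * y * (a : Matrix ι ι F) = k := by rw [mul_assoc, hya, mul_one]
    simpa [e] using h3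
  have hsurj : Function.Surjective Φ :=
    (LinearMap.injective_iff_surjective_of_finrank_eq_finrank (Subspace.dual_finrank_eq).symm).mp hinj
  obtain ⟨μ, hμ⟩ := exists_mu K hQ hK hsa w
  obtain ⟨a, ha⟩ := hsurj μ
  refine ⟨w + a.1 *ᵥ v₁, ?_, ?_⟩
  · intro h
    apply hw
    have e : w = (w + a.1 *ᵥ v₁) - a.1 *ᵥ v₁ := by abel
    rw [e]
    exact Submodule.sub_mem _ h ((mem_line K).mpr ⟨a.1, a.2, rfl⟩)
  · intro k hk
    rw [Matrix.mulVec_add, Q_add' Q, Matrix.mulVec_mulVec, h1 _ (K.mul_mem hk a.2), add_zero]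
    have h3 : polar Q (k *ᵥ w) ((k * a.1) *ᵥ v₁) = μ (⟨k, hk⟩ * ⟨k, hk⟩) := by
      rw [← ha, hΦ, hsa k hk w, Matrix.mulVec_mulVec, ← mul_assoc]
      rfl
    rw [h3, hμ]
    ring

end main

section action
variable (K : Subalgebra F (Matrix ι ι F)) {r : ℕ}

theorem inv_mul_mul_mem {g : GL ι F} (hg : g ∈ subalgebraNormalizer K) {k : Matrix ι ι F} (hk : k ∈ K) :
    ((g⁻¹ : GL ι F) : Matrix ι ι F) * k * (g : Matrix ι ι F) ∈ K := by
  have h := hg (((g⁻¹ : GL ι F) : Matrix ι ι F) * k * (g : Matrix ι ι F))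
  rw [h]
  have e : (g : Matrix ι ι F) * (((g⁻¹ : GL ι F) : Matrix ι ι F) * k * (g : Matrix ι ι F)) *
      ((g⁻¹ : GL ι F) : Matrix ι ι F) = k := by
    have h1 : (g : Matrix ι ι F) * ((g⁻¹ : GL ι F) : Matrix ι ι F) = 1 := by
      rw [← Units.val_mul, mul_inv_cancel, Units.val_one]
    calc (g : Matrix ι ι F) * (((g⁻¹ : GL ι F) : Matrix ι ι F) * k * (g : Matrix ι ι F)) *
        ((g⁻¹ : GL ι F) : Matrix ι ι F)
        = ((g : Matrix ι ι F) * ((g⁻¹ : GL ι F) : Matrix ι ι F)) * k *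
          ((g : Matrix ι ι F) * ((g⁻¹ : GL ι F) : Matrix ι ι F)) := by noncomm_ring
      _ = k := by rw [h1, one_mul, mul_one]
  rw [e]
  exact hk

theorem mulVec_g_eq {g : GL ι F} (k : Matrix ι ι F) (v : ι → F) :
    k *ᵥ ((g : Matrix ι ι F) *ᵥ v) =
      (g : Matrix ι ι F) *ᵥ ((((g⁻¹ : GL ι F) : Matrix ι ι F) * k * (g : Matrix ι ι F)) *ᵥ v) := by
  have h1 : (g : Matrix ι ι F) * ((g⁻¹ : GL ι F) : Matrix ι ι F) = 1 := by
    rw [← Units.val_mul, mul_inv_cancel, Units.val_one]
  rw [Matrix.mulVec_mulVec, Matrix.mulVec_mulVec, ← mul_assoc, ← mul_assoc, h1, one_mul]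

theorem ksing_g {g : GL ι F} (hg : g ∈ subalgebraNormalizer K) (hgI : g ∈ isometryGroup F Q) {v : ι → F}
    (hv : KSing Q K v) : KSing Q K ((g : Matrix ι ι F) *ᵥ v) := by
  intro k hk
  rw [mulVec_g_eq k v]
  have h1 : ∀ x : ι → F, Q ((g : Matrix ι ι F) *ᵥ x) = Q x := fun x => hgI x x
  rw [h1]
  exact hv _ (inv_mul_mul_mem K hg hk)

theorem map_line {g : GL ι F} (hg : g ∈ subalgebraNormalizer K) (v : ι → F) :
    (line K v).map (Matrix.toLin' (g : Matrix ι ι F)) = line K ((g : Matrix ι ι F) *ᵥ v) := by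
  have h1 : ((g⁻¹ : GL ι F) : Matrix ι ι F) * (g : Matrix ι ι F) = 1 := by
    rw [← Units.val_mul, inv_mul_cancel, Units.val_one]
  apply le_antisymm
  · rintro _ ⟨y, hy, rfl⟩
    obtain ⟨k, hk, rfl⟩ := (mem_line K).mp hy
    rw [Matrix.toLin'_apply, mem_line]
    refine ⟨(g : Matrix ι ι F) * k * ((g⁻¹ : GL ι F) : Matrix ι ι F), (hg k).mp hk, ?_⟩
    rw [Matrix.mulVec_mulVec, Matrix.mulVec_mulVec, mul_assoc, mul_assoc, h1, mul_one]
  · intro x hx
    obtain ⟨k, hk, rfl⟩ := (mem_line K).mp hx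
    rw [mulVec_g_eq k v]
    refine ⟨_, (mem_line K).mpr ⟨_, inv_mul_mul_mem K hg hk, rfl⟩, ?_⟩
    rw [Matrix.toLin'_apply]

theorem toLin'_injective (g : GL ι F) : Function.Injective (Matrix.toLin' (g : Matrix ι ι F)) := by
  have h1 : ((g⁻¹ : GL ι F) : Matrix ι ι F) * (g : Matrix ι ι F) = 1 := by
    rw [← Units.val_mul, inv_mul_cancel, Units.val_one]
  intro x y hxy
  rw [Matrix.toLin'_apply, Matrix.toLin'_apply] at hxy
  have := congrArg (fun z => ((g⁻¹ : GL ι F) : Matrix ι ι F) *ᵥ z) hxy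
  simpa [Matrix.mulVec_mulVec, h1] using this

end action

section assembly
variable [Fintype F]

/-- **F2, the branch with a totally singular `K`-line** (any `r ≥ 1`, any `q`) -/
theorem field_half_of_ksing (hQ : IsNondegenerateQuadraticForm Q) (r : ℕ) (hr : 0 < r)
    (hcard : Fintype.card ι = 2 * r) (K : Subalgebra F (Matrix ι ι F)) (hK : IsFieldSubalgebra r K)
    (hsa : IsSelfAdjointFor (polar Q) K) (hex : ∃ v : ι → F, v ≠ 0 ∧ ∀ k ∈ K, Q (k *ᵥ v) = 0) :
    ∃ D : Fin 2 → Submodule F (ι → F), IsMDecomposition r D ∧ (∀ i, IsTotallySingularQuad Q (D i)) ∧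
      subalgebraNormalizer K ⊓ isometryGroup F Q ≤ decompositionStabilizer D := by
  obtain ⟨v₁, hv10, h1⟩ := hex
  obtain ⟨v₂, h21, h2⟩ := exists_second K hQ hK hsa hcard hr hv10 h1
  have hv20 : v₂ ≠ 0 := fun h => h21 (h ▸ Submodule.zero_mem _)
  have hdisj : Disjoint (line K v₁) (line K v₂) := by
    rw [disjoint_iff]
    exact inf_line_eq_bot_r K hK (kinv_line K v₁) h21
  have htop := sup_line_eq_top K hK hcard hv10 h21
  have hne : line K v₁ ≠ line K v₂ := by
    intro h
    apply h21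
    rw [h]
    exact self_mem_line K v₂
  refine ⟨![line K v₁, line K v₂], ⟨le_refl 2, hr, ?_, ?_, ?_⟩, ?_, ?_⟩
  · intro i
    fin_cases i
    · exact finrank_line_r K hK hv10
    · exact finrank_line_r K hK hv20
  · rw [iSupIndep_def]
    intro i
    fin_cases i
    · have h3 : (⨆ j, ⨆ (_ : j ≠ (0 : Fin 2)), (![line K v₁, line K v₂] : Fin 2 → Submodule F (ι → F)) j) ≤
          line K v₂ := by
        refine iSup_le fun j => iSup_le fun hj => ?_
        fin_cases j
        · exact absurd rfl hj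
        · exact le_refl _
      exact hdisj.mono_right h3
    · have h3 : (⨆ j, ⨆ (_ : j ≠ (1 : Fin 2)), (![line K v₁, line K v₂] : Fin 2 → Submodule F (ι → F)) j) ≤
          line K v₁ := by
        refine iSup_le fun j => iSup_le fun hj => ?_
        fin_cases j
        · exact le_refl _
        · exact absurd rfl hj
      exact hdisj.symm.mono_right h3
  · rw [eq_top_iff, ← htop]
    exact sup_le (le_iSup (![line K v₁, line K v₂] : Fin 2 → Submodule F (ι → F)) 0)
      (le_iSup (![line K v₁, line K v₂] : Fin 2 → Submodule F (ι → F)) 1)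
  · intro i
    fin_cases i
    · exact ksing_ts K h1
    · exact ksing_ts K h2
  · rintro g ⟨hgN, hgI⟩
    have hg0 : ∀ v : ι → F, v ≠ 0 → (g : Matrix ι ι F) *ᵥ v ≠ 0 := by
      intro v hv h
      apply hv
      apply toLin'_injective g
      rw [Matrix.toLin'_apply, h, map_zero]
    have key : ∀ v : ι → F, v ≠ 0 → KSing Q K v →
        (line K v).map (Matrix.toLin' (g : Matrix ι ι F)) = line K v₁ ∨
        (line K v).map (Matrix.toLin' (g : Matrix ι ι F)) = line K v₂ := by
      intro v hv0 hv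
      rw [map_line K hgN v]
      rcases ksing_mem_or K hQ hK hsa hcard hv10 h1 h2 h21 (ksing_g K hgN hgI hv) with h | h
      · left; exact line_eq_of_mem K hK h (hg0 v hv0)
      · right; exact line_eq_of_mem K hK h (hg0 v hv0)
    have hinj := Submodule.map_injective_of_injective (toLin'_injective g)
    rcases key v₁ hv10 h1 with e1 | e1 <;> rcases key v₂ hv20 h2 with e2 | e2
    · exact absurd (hinj (e1.trans e2.symm)) hne
    · refine ⟨1, fun i => ?_⟩
      fin_cases i
      · exact e1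
      · exact e2
    · refine ⟨Equiv.swap 0 1, fun i => ?_⟩
      fin_cases i
      · exact e1
      · exact e2
    · exact absurd (hinj (e1.trans e2.symm)) hne

end assembly

section row
variable [Fintype F] {n : ℕ} {Q : (Fin n → F) → F}

/-- **F2** from "some `K`-line is totally singular" (stated as the negation of the hypothesis `hno` / `hani` of the CORE) -/
theorem field_half_of_not_aniso (hQ : IsNondegenerateQuadraticForm Q) (r : ℕ) (hr : 0 < r) (hn : n = 2 * r)
    (K : Subalgebra F (Matrix (Fin n) (Fin n) F)) (hK : IsFieldSubalgebra r K)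
    (hsa : IsSelfAdjointFor (polar Q) K)
    (hna : ¬ ∀ v : Fin n → F, v ≠ 0 → ∃ k ∈ K, Q (k *ᵥ v) ≠ 0) :
    ∃ D : Fin 2 → Submodule F (Fin n → F), IsMDecomposition r D ∧ (∀ i, IsTotallySingularQuad Q (D i)) ∧
      subalgebraNormalizer K ⊓ isometryGroup F Q ≤ decompositionStabilizer D := by
  apply field_half_of_ksing hQ r hr (by rw [Fintype.card_fin, hn]) K hK hsa
  push Not at hna
  exact hna

/-- **F2** (`field_half` of helper13's plus-rows skeleton, with `Odd r`) from the CORE of helper17 / helper18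
(statement of msg 3758) and helper28's TC11 -/
theorem field_half_of_core
    (core : ∀ (r : ℕ), r.Prime → Odd r → n = 2 * r → ∀ (K : Subalgebra F (Matrix (Fin n) (Fin n) F)),
      IsFieldSubalgebra r K → IsSelfAdjointFor (polar Q) K →
      (∀ v : Fin n → F, v ≠ 0 → ∃ k ∈ K, Q (k *ᵥ v) ≠ 0) →
      ∃ K' : Subalgebra F (Matrix (Fin n) (Fin n) F), IsFieldSubalgebra 2 K' ∧ IsAdjointClosedFor (polar Q) K' ∧
        ¬ IsSelfAdjointFor (polar Q) K' ∧ (∀ k ∈ K', ∃ c : F, ∀ v : Fin n → F, Q (k *ᵥ v) = c * Q v) ∧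
        subalgebraNormalizer K ⊓ isometryGroup F Q ≤ subalgebraNormalizer K')
    (hQ : IsNondegenerateQuadraticForm Q) (r : ℕ) (hr : r.Prime) (hodd : Odd r) (hn : n = 2 * r)
    (hplus : IsPlusTypeOn Q ⊤) (K : Subalgebra F (Matrix (Fin n) (Fin n) F)) (hK : IsFieldSubalgebra r K)
    (hsa : IsSelfAdjointFor (polar Q) K) :
    ∃ D : Fin 2 → Submodule F (Fin n → F), IsMDecomposition r D ∧ (∀ i, IsTotallySingularQuad Q (D i)) ∧
      subalgebraNormalizer K ⊓ isometryGroup F Q ≤ decompositionStabilizer D := by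
  apply field_half_of_not_aniso hQ r hr.pos hn K hK hsa
  intro hno
  obtain ⟨K', hK', hac, hnsa, hsim, -⟩ := core r hr hodd hn K hK hsa hno
  have h := (isPlusTypeOn_top_iff_of_unitaryField hQ r (by rw [Fintype.card_fin, hn]) K' hK' hac hnsa hsim).mp hplus
  exact (Nat.not_even_iff_odd.mpr hodd) h

end row

end Cfsg.Agent.Lib.Helper20.OEPlusF2
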