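import Mathlib
import Cfsg.Prelude.Def_GeometricClasses
import Cfsg.Agent.Lib.Helper15.QuadF2b
import Cfsg.Agent.Lib.Helper18.AschC3
import Cfsg.Agent.Lib.Helper20.OEPlusF2

/-!
# Plus rows S5847 / S5871 (helper13's skeleton): piece F2 `field_half`, the anisotropic branch by counting

If no `K`-line is totally singular, `r` odd, then `Q` is not of plus type: count the pairs `(v, k)` with `Q (k v) = 0`
in two ways.
-/

set_option autoImplicit false

namespace Cfsg.Agent.Lib.Helper20.OEPlusF2

open Matrix Cfsg Cfsg.Geo Module QuadraticMap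
open Cfsg.Agent.Lib.Helper28.OETypeTC11 Cfsg.Agent.Lib.Helper28.OEPlus

section abstractField

variable {F L : Type*} [Field F] [Fintype F] [Field L] [Fintype L] [Algebra F L]

omit [Fintype F] in
/-- a non-square of `F` stays a non-square in an extension of odd degree -/
theorem not_isSquare_algebraMap_of_odd (hodd : Odd (finrank F L)) {a : F} (ha : ¬ IsSquare a) :
    ¬ IsSquare (algebraMap F L a) := by
  rintro ⟨y, hy⟩
  apply ha
  have h1 := congrArg (Algebra.norm F) hy
  rw [Algebra.norm_algebraMap, map_mul] at h1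
  obtain ⟨m, hm⟩ := hodd
  have ha0 : a ≠ 0 := by
    rintro rfl
    exact ha ⟨0, by ring⟩
  refine ⟨Algebra.norm F y / a ^ m, ?_⟩
  have hp : a ^ m ≠ 0 := pow_ne_zero _ ha0
  rw [hm, pow_succ, pow_mul, pow_two] at h1
  field_simp
  rw [pow_two ((Algebra.norm F) y), ← h1]
  ring

/-- `#{x ∈ L : μ (x²) = 0} = q^(r-1)` for a non-zero `F`-linear functional `μ` on an extension `L` of odd degree `r` -/
theorem card_sq_ker (hodd : Odd (finrank F L)) (μ : L →ₗ[F] F) (hμ : μ ≠ 0) :
    Nat.card {x : L // μ (x * x) = 0} = Nat.card F ^ (finrank F L - 1) := by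
  classical
  have hker : Nat.card {s : L // μ s = 0} = Nat.card F ^ (finrank F L - 1) :=
    Cfsg.Agent.Lib.Helper15.card_fiber_functional μ hμ 0 _ rfl
  by_cases h2 : ringChar L = 2
  · -- squaring is a bijection
    have : CharP L 2 := by rw [← h2]; exact ringChar.charP L
    have hbij : Function.Bijective (fun x : L => x * x) := by
      have hinj : Function.Injective (fun x : L => x * x) := by
        intro x y hxy
        have := frobenius_inj L 2 (a₁ := x) (a₂ := y) (by simpa [frobenius_def, pow_two] using hxy)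
        exact this
      exact ⟨hinj, Finite.injective_iff_surjective.mp hinj⟩
    rw [← hker]
    apply Nat.card_congr
    exact (Equiv.ofBijective _ hbij).subtypeEquiv (fun x => Iff.rfl)
  · -- quadratic character sum
    rw [← hker, Nat.card_eq_fintype_card, Nat.card_eq_fintype_card, Fintype.card_subtype, Fintype.card_subtype]
    set t : Finset L := Finset.univ.filter (fun s => μ s = 0) with ht
    have hmaps : Set.MapsTo (fun x : L => x * x) ↑(Finset.univ.filter (fun x : L => μ (x * x) = 0)) ↑t := by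
      intro x hx
      simp only [Finset.coe_filter, Finset.mem_univ, true_and, Set.mem_ofPred_eq] at hx
      simp [ht, hx]
    rw [Finset.card_eq_sum_card_fiberwise hmaps]
    have hfib : ∀ b ∈ t, (((Finset.univ.filter (fun x : L => μ (x * x) = 0)).filter (fun a => a * a = b)).card : ℤ) =
        quadraticChar L b + 1 := by
      intro b hb
      rw [← quadraticChar_card_sqrts h2 b]
      congr 2
      ext x
      simp only [Finset.mem_filter, Finset.mem_univ, true_and, Set.mem_toFinset, Set.mem_ofPred_eq, pow_two]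
      constructor
      · exact fun h => h.2
      · intro h
        refine ⟨?_, h⟩
        rw [h]
        simpa [ht] using hb
    have hsum0 : ∑ b ∈ t, quadraticChar L b = 0 := by
      have h2F : ringChar F ≠ 2 := by rw [Algebra.ringChar_eq F L]; exact h2
      obtain ⟨a, ha⟩ := FiniteField.exists_nonsquare h2F
      have ha' := not_isSquare_algebraMap_of_odd (L := L) hodd ha
      have hχ : quadraticChar L (algebraMap F L a) = -1 := quadraticChar_neg_one_iff_not_isSquare.mpr ha'
      have ha0 : a ≠ 0 := by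
        rintro rfl
        exact ha ⟨0, by ring⟩
      have hre : ∑ b ∈ t, quadraticChar L b = ∑ b ∈ t, quadraticChar L (algebraMap F L a * b) := by
        apply Finset.sum_nbij' (fun b => algebraMap F L a⁻¹ * b) (fun b => algebraMap F L a * b)
        · intro b hb
          have hb' : μ b = 0 := by simpa [ht] using hb
          have : μ (algebraMap F L a⁻¹ * b) = 0 := by
            rw [← Algebra.smul_def, map_smul, hb', smul_zero]
          simpa [ht] using this
        · intro b hb
          have hb' : μ b = 0 := by simpa [ht] using hb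
          have : μ (algebraMap F L a * b) = 0 := by
            rw [← Algebra.smul_def, map_smul, hb', smul_zero]
          simpa [ht] using this
        · intro b _
          rw [← mul_assoc, ← map_mul, mul_inv_cancel₀ ha0, map_one, one_mul]
        · intro b _
          rw [← mul_assoc, ← map_mul, inv_mul_cancel₀ ha0, map_one, one_mul]
        · intro b _
          rw [← mul_assoc, ← map_mul, mul_inv_cancel₀ ha0, map_one, one_mul]
      have h3 : ∑ b ∈ t, quadraticChar L (algebraMap F L a * b) = - ∑ b ∈ t, quadraticChar L b := by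
        rw [← Finset.sum_neg_distrib]
        apply Finset.sum_congr rfl
        intro b _
        rw [map_mul, hχ]
        ring
      rw [h3] at hre
      omega
    have : ((∑ b ∈ t, ((Finset.univ.filter (fun x : L => μ (x * x) = 0)).filter (fun a => a * a = b)).card : ℕ) : ℤ) =
        (t.card : ℤ) := by
      rw [Nat.cast_sum, Finset.sum_congr rfl hfib, Finset.sum_add_distrib, hsum0, zero_add, Finset.sum_const,
        nsmul_eq_mul, mul_one]
    exact_mod_cast this

end abstractField

section count

variable {F : Type*} [Field F] [Fintype F] {ι : Type} [Fintype ι] [DecidableEq ι] {Q : (ι → F) → F}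
variable (K : Subalgebra F (Matrix ι ι F)) {r : ℕ}

/-- **(C2)** for a vector `v` whose `K`-line is not totally singular, `r` odd: `#{k ∈ K : Q (k v) = 0} = q^(r-1)` -/
theorem card_zeros_on_line (hQ : IsNondegenerateQuadraticForm Q) (hK : IsFieldSubalgebra r K)
    (hsa : IsSelfAdjointFor (polar Q) K) (hodd : Odd r) [Nonempty ι] {v : ι → F}
    (hv : ∃ k ∈ K, Q (k *ᵥ v) ≠ 0) :
    Nat.card {k : ↥K // Q ((k : Matrix ι ι F) *ᵥ v) = 0} = Nat.card F ^ (r - 1) := by
  obtain ⟨μ, hμ⟩ := exists_mu K hQ hK hsa v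
  have hμ0 : μ ≠ 0 := by
    obtain ⟨k₀, hk₀, hne⟩ := hv
    intro h
    apply hne
    have h1 := hμ ⟨k₀, hk₀⟩
    rw [h, LinearMap.zero_apply] at h1
    exact neg_eq_zero.mp h1.symm
  letI := Cfsg.Agent.Lib.Helper18.AschC3.fieldOf K hK
  haveI : Fintype ↥K := Fintype.ofFinite _
  have hfr : finrank F ↥K = r := hK.finrank_eq
  have h := card_sq_ker (F := F) (L := ↥K) (by rw [hfr]; exact hodd) μ hμ0
  rw [hfr] at h
  rw [← h]
  apply Nat.card_congr
  apply Equiv.subtypeEquivRight
  intro k
  rw [hμ k, neg_eq_zero]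

omit [Fintype F] [Fintype ι] [DecidableEq ι] in
theorem Q_zero (hQ : IsNondegenerateQuadraticForm Q) : Q 0 = 0 := by
  have := hQ.smul 0 (0 : ι → F)
  simpa using this

/-- the pure arithmetic behind the double count -/
theorem count_arith {q x Z A : ℕ} (hq : 2 ≤ q) (hx : 1 ≤ x)
    (h1 : A = q * x + ((q * x) * (q * x) - 1) * x)
    (h2 : A = (q * x) * (q * x) + (q * x - 1) * Z)
    (h3 : Z * (q * x) = (q * x) * (q * x) + ((q * x) * (q * x) - q * x) * x) : False := by
  set y := q * x with hy
  have hy2 : 2 ≤ y := by nlinarith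
  have hyy : y ≤ y * y := by nlinarith
  have h1' : (A : ℤ) = y + ((y : ℤ) * y - 1) * x := by
    rw [h1]; push_cast [Nat.cast_sub (show 1 ≤ y * y by nlinarith)]; ring
  have h2' : (A : ℤ) = (y : ℤ) * y + ((y : ℤ) - 1) * Z := by
    rw [h2]; push_cast [Nat.cast_sub (show 1 ≤ y by omega)]; ring
  have h3' : (Z : ℤ) * y = (y : ℤ) * y + ((y : ℤ) * y - y) * x := by
    have := congrArg (Nat.cast : ℕ → ℤ) h3
    push_cast [Nat.cast_sub hyy] at this
    exact this
  have h12 : (y : ℤ) + ((y : ℤ) * y - 1) * x = (y : ℤ) * y + ((y : ℤ) - 1) * Z := by rw [← h1', h2']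
  have h : 2 * (y : ℤ) * ((y : ℤ) - 1) * ((x : ℤ) - y) = 0 := by
    linear_combination (y : ℤ) * h12 + ((y : ℤ) - 1) * h3'
  have hyz : (2 : ℤ) ≤ y := by exact_mod_cast hy2
  have hxy : (x : ℤ) < y := by
    have : x < y := by nlinarith
    exact_mod_cast this
  rcases mul_eq_zero.mp h with h | h
  · rcases mul_eq_zero.mp h with h | h
    · omega
    · omega
  · omega

/-- **the anisotropic branch is impossible for plus type, `r` odd** -/
theorem not_aniso_of_plus (hQ : IsNondegenerateQuadraticForm Q) (hK : IsFieldSubalgebra r K)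
    (hsa : IsSelfAdjointFor (polar Q) K) (hodd : Odd r) (hcard : Fintype.card ι = 2 * r)
    (hplus : IsPlusTypeOn Q ⊤) : ¬ ∀ v : ι → F, v ≠ 0 → ∃ k ∈ K, Q (k *ᵥ v) ≠ 0 := by
  classical
  intro hani
  have hr : 0 < r := hodd.pos
  haveI : Nonempty ι := Fintype.card_pos_iff.mp (by omega)
  have hq : 2 ≤ Nat.card F := by rw [Nat.card_eq_fintype_card]; exact Fintype.one_lt_card
  have hcK : Nat.card ↥K = Nat.card F ^ r := by rw [← hK.finrank_eq]; exact Module.natCard_eq_pow_finrank
  have hcV : Nat.card (ι → F) = Nat.card F ^ (2 * r) := by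
    rw [← hcard, ← Module.finrank_fintype_fun_eq_card (R := F)]; exact Module.natCard_eq_pow_finrank
  haveI : Fintype ↥K := Fintype.ofFinite _
  -- zeros of `Q`
  obtain ⟨U, -, hUts, hUdim⟩ := hplus
  rw [finrank_top, Module.finrank_fintype_fun_eq_card, hcard] at hUdim
  have hZ := Cfsg.Agent.Lib.Helper15.card_zeros_of_maximal_singular (qf Q hQ) (qf_nondeg hQ) U
    (fun u hu => hUts u hu) r (by omega) (by rw [Module.finrank_fintype_fun_eq_card, hcard])
  have hZ' : Nat.card {v : ι → F // Q v = 0} * Nat.card F ^ r =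
      Nat.card F ^ r * Nat.card F ^ r + (Nat.card F ^ (2 * r) - Nat.card F ^ r) * Nat.card F ^ (r - 1) := hZ
  -- count by `v`
  have e2 : {p : (ι → F) × ↥K // Q ((p.2 : Matrix ι ι F) *ᵥ p.1) = 0} ≃
      Σ v : ι → F, {k : ↥K // Q ((k : Matrix ι ι F) *ᵥ v) = 0} :=
    Equiv.subtypeProdEquivSigmaSubtype (fun (v : ι → F) (k : ↥K) => Q ((k : Matrix ι ι F) *ᵥ v) = 0)
  have hN : ∀ v : ι → F, Nat.card {k : ↥K // Q ((k : Matrix ι ι F) *ᵥ v) = 0} =
      if v = 0 then Nat.card F ^ r else Nat.card F ^ (r - 1) := by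
    intro v
    by_cases hv : v = 0
    · rw [if_pos hv, ← hcK]
      apply Nat.card_congr
      exact Equiv.subtypeUnivEquiv (fun k => by rw [hv, Matrix.mulVec_zero]; exact Q_zero hQ)
    · rw [if_neg hv]
      exact card_zeros_on_line K hQ hK hsa hodd (hani v hv)
  have hA1 : Nat.card {p : (ι → F) × ↥K // Q ((p.2 : Matrix ι ι F) *ᵥ p.1) = 0} =
      Nat.card F ^ r + (Nat.card F ^ (2 * r) - 1) * Nat.card F ^ (r - 1) := by
    rw [Nat.card_congr e2, Nat.card_sigma]
    simp only [hN]
    rw [Finset.sum_ite, Finset.sum_const, Finset.sum_const, smul_eq_mul, smul_eq_mul]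
    have hc1 : (Finset.univ.filter (fun v : ι → F => v = 0)).card = 1 := by
      rw [Finset.filter_eq' Finset.univ (0 : ι → F), if_pos (Finset.mem_univ _), Finset.card_singleton]
    have hc2 : (Finset.univ.filter (fun v : ι → F => ¬ v = 0)).card = Nat.card F ^ (2 * r) - 1 := by
      have := Finset.card_filter_add_card_filter_not (s := (Finset.univ : Finset (ι → F))) (fun v : ι → F => v = 0)
      rw [hc1, Finset.card_univ, ← Nat.card_eq_fintype_card, hcV] at this
      omega
    rw [hc1, hc2, one_mul]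
  -- count by `k`
  have e3 : {p : (ι → F) × ↥K // Q ((p.2 : Matrix ι ι F) *ᵥ p.1) = 0} ≃
      Σ k : ↥K, {v : ι → F // Q ((k : Matrix ι ι F) *ᵥ v) = 0} :=
    ((Equiv.prodComm (ι → F) ↥K).subtypeEquiv (fun p => Iff.rfl)).trans
      (Equiv.subtypeProdEquivSigmaSubtype (fun (k : ↥K) (v : ι → F) => Q ((k : Matrix ι ι F) *ᵥ v) = 0))
  have hN' : ∀ k : ↥K, Nat.card {v : ι → F // Q ((k : Matrix ι ι F) *ᵥ v) = 0} =
      if k = 0 then Nat.card F ^ (2 * r) else Nat.card {v : ι → F // Q v = 0} := by
    intro k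
    by_cases hk : k = 0
    · rw [if_pos hk, ← hcV]
      apply Nat.card_congr
      exact Equiv.subtypeUnivEquiv (fun v => by rw [hk, Subalgebra.coe_zero, Matrix.zero_mulVec]; exact Q_zero hQ)
    · rw [if_neg hk]
      obtain ⟨y, hy, hky⟩ := hK.inv k.1 k.2 (fun h => hk (Subtype.ext h))
      have hyk : y * k.1 = 1 := by rw [hK.comm y hy k.1 k.2, hky]
      apply Nat.card_congr
      let e : (ι → F) ≃ (ι → F) :=
        { toFun := fun v => k.1 *ᵥ v
          invFun := fun v => y *ᵥ v
          left_inv := fun v => by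
            change y *ᵥ (k.1 *ᵥ v) = v
            rw [Matrix.mulVec_mulVec, hyk, Matrix.one_mulVec]
          right_inv := fun v => by
            change k.1 *ᵥ (y *ᵥ v) = v
            rw [Matrix.mulVec_mulVec, hky, Matrix.one_mulVec] }
      exact e.subtypeEquiv (fun v => Iff.rfl)
  have hA2 : Nat.card {p : (ι → F) × ↥K // Q ((p.2 : Matrix ι ι F) *ᵥ p.1) = 0} =
      Nat.card F ^ (2 * r) + (Nat.card F ^ r - 1) * Nat.card {v : ι → F // Q v = 0} := by
    rw [Nat.card_congr e3, Nat.card_sigma]
    simp only [hN']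
    rw [Finset.sum_ite, Finset.sum_const, Finset.sum_const, smul_eq_mul, smul_eq_mul]
    have hc1 : (Finset.univ.filter (fun k : ↥K => k = 0)).card = 1 := by
      rw [Finset.filter_eq' Finset.univ (0 : ↥K), if_pos (Finset.mem_univ _), Finset.card_singleton]
    have hc2 : (Finset.univ.filter (fun k : ↥K => ¬ k = 0)).card = Nat.card F ^ r - 1 := by
      have := Finset.card_filter_add_card_filter_not (s := (Finset.univ : Finset ↥K)) (fun k : ↥K => k = 0)
      rw [hc1, Finset.card_univ, ← Nat.card_eq_fintype_card, hcK] at this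
      omega
    rw [hc1, hc2, one_mul]
  -- arithmetic
  have hpr : Nat.card F ^ r = Nat.card F * Nat.card F ^ (r - 1) := by
    rw [← pow_succ']; congr 1; omega
  have hp2r : Nat.card F ^ (2 * r) = (Nat.card F * Nat.card F ^ (r - 1)) * (Nat.card F * Nat.card F ^ (r - 1)) := by
    rw [← hpr, ← pow_add]; congr 1; omega
  rw [hp2r, hpr] at hA1 hA2 hZ'
  exact count_arith hq (Nat.one_le_pow _ _ (by omega)) hA1 hA2 hZ'

end count

section row
variable {F : Type*} [Field F] [Fintype F] {n : ℕ} {Q : (Fin n → F) → F}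

/-- **F2** `field_half` of helper13's plus-rows skeleton, with the extra hypothesis `Odd r` (only `r = 5` is used);
self-contained (no CORE) -/
theorem field_half (hQ : IsNondegenerateQuadraticForm Q) (r : ℕ) (hr : r.Prime) (hodd : Odd r) (hn : n = 2 * r)
    (hplus : IsPlusTypeOn Q ⊤) (K : Subalgebra F (Matrix (Fin n) (Fin n) F)) (hK : IsFieldSubalgebra r K)
    (hsa : IsSelfAdjointFor (QuadraticMap.polar Q) K) :
    ∃ D : Fin 2 → Submodule F (Fin n → F), IsMDecomposition r D ∧ (∀ i, IsTotallySingularQuad Q (D i)) ∧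
      subalgebraNormalizer K ⊓ isometryGroup F Q ≤ decompositionStabilizer D :=
  field_half_of_not_aniso hQ r hr.pos hn K hK hsa
    (not_aniso_of_plus K hQ hK hsa hodd (by rw [Fintype.card_fin, hn]) hplus)

end row

end Cfsg.Agent.Lib.Helper20.OEPlusF2
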