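import Mathlib

/-!
# Orthogonal unipotent engine: multiset combinatorics for the special Jordan types
-/

set_option autoImplicit false

namespace Cfsg.Agent.Lib.Helper20.OU

/-- splitting off the parts equal to `2` -/
theorem exists_split_two (ν ρ : Multiset ℕ) (k : ℕ) (hρ : 2 ∉ ρ)
    (h : ν ≤ ρ + Multiset.replicate k 2) :
    ∃ σ : Multiset ℕ, σ ≤ ρ ∧ ν.sum = 2 * ν.count 2 + σ.sum ∧
      Multiset.card ν = ν.count 2 + Multiset.card σ := by
  have hsplit : ν.filter (fun x => x = 2) + ν.filter (fun x => ¬ x = 2) = ν :=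
    Multiset.filter_add_not _ _
  have h1 : ν.filter (fun x => x = 2) = Multiset.replicate (ν.count 2) 2 :=
    Multiset.filter_eq' ν 2
  have h2 : ν.filter (fun x => ¬ x = 2) ≤ (ρ + Multiset.replicate k 2).filter (fun x => ¬ x = 2) :=
    Multiset.filter_le_filter _ h
  have h3 : (ρ + Multiset.replicate k 2).filter (fun x => ¬ x = 2) = ρ := by
    rw [Multiset.filter_add]
    have e1 : ρ.filter (fun x => ¬ x = 2) = ρ := by
      apply Multiset.filter_eq_self.2
      intro a ha h2
      exact hρ (h2 ▸ ha)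
    have e2 : (Multiset.replicate k 2).filter (fun x => ¬ x = 2) = 0 := by
      apply Multiset.filter_eq_nil.2
      intro a ha
      simp [Multiset.eq_of_mem_replicate ha]
    rw [e1, e2, add_zero]
  rw [h3] at h2
  refine ⟨ν.filter (fun x => ¬ x = 2), h2, ?_, ?_⟩
  · conv_lhs => rw [← hsplit]
    rw [Multiset.sum_add, h1, Multiset.sum_replicate, smul_eq_mul, mul_comm]
  · conv_lhs => rw [← hsplit]
    rw [Multiset.card_add, h1, Multiset.card_replicate]

end Cfsg.Agent.Lib.Helper20.OU
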