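import Mathlib
import Cfsg.Agent.Lib.Helper20.OUComb

/-!
# Orthogonal unipotent engine: more multiset combinatorics
-/

set_option autoImplicit false

namespace Cfsg.Agent.Lib.Helper20.OU

theorem even_sum_of_all_even (s : Multiset ℕ) (h : ∀ b ∈ s, Even b) : Even s.sum := by
  induction s using Multiset.induction_on with
  | empty => simp
  | cons a s ih =>
    rw [Multiset.sum_cons]
    exact (h a (Multiset.mem_cons_self a s)).add
      (ih (fun b hb => h b (Multiset.mem_cons_of_mem hb)))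

/-- sub-multisets of `{3, 1}` -/
theorem sum_le_three_one (σ : Multiset ℕ) (h : σ ≤ 3 ::ₘ ({1} : Multiset ℕ)) :
    σ.sum = 0 ∨ σ.sum = 1 ∨ σ.sum = 3 ∨ σ.sum = 4 := by
  by_cases h3 : 3 ∈ σ
  · obtain ⟨σ₁, rfl⟩ := Multiset.exists_cons_of_mem h3
    have h1 : σ₁ ≤ {1} := (Multiset.cons_le_cons_iff 3).1 h
    rcases Multiset.le_singleton.1 h1 with h0 | h0
    · right; right; left
      rw [h0]
      simp
    · right; right; right
      rw [h0]
      simp
  · have h1 : σ ≤ {1} := (Multiset.le_cons_of_notMem h3).1 h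
    rcases Multiset.le_singleton.1 h1 with h0 | h0
    · left
      rw [h0]
      simp
    · right; left
      rw [h0]
      simp

/-- replacing the pair `(e+1, e-1)` by `(e, e)` in a Jordan type all of whose other parts are
even -/
theorem detour (μ'' ν' : Multiset ℕ) (e : ℕ) (he : Even e) (he2 : 2 ≤ e)
    (hμ'' : ∀ x ∈ μ'', Even x) (hν' : ν' ≤ (e + 1) ::ₘ (e - 1) ::ₘ μ'') (hsum : Even ν'.sum)
    (hev : ∀ j, Even j → Even (ν'.count j)) :
    ∃ ν : Multiset ℕ, ν ≤ e ::ₘ e ::ₘ μ'' ∧ ν.sum = ν'.sum ∧ ∀ j, Even j → Even (ν.count j) := by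
  have hne : e - 1 ≠ e + 1 := by omega
  have hodd1 : ¬ Even (e + 1) := by
    rcases he with ⟨t, ht⟩
    rintro ⟨s, hs⟩
    omega
  have hodd2 : ¬ Even (e - 1) := by
    rcases he with ⟨t, ht⟩
    rintro ⟨s, hs⟩
    omega
  by_cases hp : (e + 1) ∈ ν'
  · obtain ⟨ν₁, rfl⟩ := Multiset.exists_cons_of_mem hp
    have h1 : ν₁ ≤ (e - 1) ::ₘ μ'' := (Multiset.cons_le_cons_iff _).1 hν'
    by_cases hm : (e - 1) ∈ ν₁
    · obtain ⟨ν₂, rfl⟩ := Multiset.exists_cons_of_mem hm
      have h3 : ν₂ ≤ μ'' := (Multiset.cons_le_cons_iff _).1 h1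
      refine ⟨e ::ₘ e ::ₘ ν₂, ?_, ?_, ?_⟩
      · exact (Multiset.cons_le_cons_iff _).2 ((Multiset.cons_le_cons_iff _).2 h3)
      · rw [Multiset.sum_cons, Multiset.sum_cons, Multiset.sum_cons, Multiset.sum_cons]
        omega
      · intro j hj
        have hj1 : j ≠ e + 1 := by
          rintro rfl
          exact hodd1 hj
        have hj2 : j ≠ e - 1 := by
          rintro rfl
          exact hodd2 hj
        have := hev j hj
        rw [Multiset.count_cons_of_ne hj1, Multiset.count_cons_of_ne hj2] at this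
        by_cases hje : j = e
        · subst hje
          rw [Multiset.count_cons_self, Multiset.count_cons_self]
          rcases this with ⟨t, ht⟩
          exact ⟨t + 1, by omega⟩
        · rwa [Multiset.count_cons_of_ne hje, Multiset.count_cons_of_ne hje]
    · exfalso
      have h3 : ν₁ ≤ μ'' := (Multiset.le_cons_of_notMem hm).1 h1
      have h4 : Even ν₁.sum :=
        even_sum_of_all_even ν₁ (fun b hb => hμ'' b (Multiset.mem_of_le h3 hb))
      rw [Multiset.sum_cons] at hsum
      rcases hsum with ⟨t, ht⟩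
      rcases h4 with ⟨s, hs⟩
      rcases he with ⟨r, hr⟩
      omega
  · have h1 : ν' ≤ (e - 1) ::ₘ μ'' := (Multiset.le_cons_of_notMem hp).1 hν'
    by_cases hm : (e - 1) ∈ ν'
    · exfalso
      obtain ⟨ν₁, rfl⟩ := Multiset.exists_cons_of_mem hm
      have h3 : ν₁ ≤ μ'' := (Multiset.cons_le_cons_iff _).1 h1
      have h4 : Even ν₁.sum :=
        even_sum_of_all_even ν₁ (fun b hb => hμ'' b (Multiset.mem_of_le h3 hb))
      rw [Multiset.sum_cons] at hsum
      rcases hsum with ⟨t, ht⟩
      rcases h4 with ⟨s, hs⟩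
      rcases he with ⟨r, hr⟩
      omega
    · have h3 : ν' ≤ μ'' := (Multiset.le_cons_of_notMem hm).1 h1
      refine ⟨ν', ?_, rfl, hev⟩
      exact h3.trans ((Multiset.le_cons_self _ _).trans (Multiset.le_cons_self _ _))

end Cfsg.Agent.Lib.Helper20.OU
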