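import Mathlib
import Cfsg.Agent.Lib.Helper6.OrtS7
import Cfsg.Agent.Lib.Helper20.OddC3

/-!
# Criterion for an isometry of odd prime order to fix an odd-dimensional nondegenerate subspace of
given class
-/

set_option autoImplicit false
set_option linter.unusedSectionVars false

namespace Cfsg.Agent.Lib.Helper20.OddC

open Module Submodule QuadraticMap Cfsg.Agent.Lib.Helper15.PSpI Cfsg.Agent.Lib.Helper14.OrthEven
  Cfsg.Agent.Lib.Helper15.PSpJ Cfsg.Agent.Lib.Helper15.PDec Cfsg.Agent.Lib.Helper15.PSub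
  Cfsg.Agent.Lib.Helper6.OrtS

universe u

section crit

variable {F : Type u} {V : Type*} [Field F] [Fintype F] [AddCommGroup V] [Module F V]
  [FiniteDimensional F V]
variable (Q : QuadraticForm F V)

/-- **Criterion (odd dimension)**: an isometry of odd prime order `r ≠ p` with `s` blocks fixes a
nondegenerate `m`-space (`m` odd) of class `η` iff a purely numerical condition holds. -/
theorem fixes_iff_odd (h2 : (2 : F) ≠ 0) (p : ℕ) [Fact p.Prime] [CharP F p] (r : ℕ)
    [hr : Fact r.Prime]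
    (hrp : r ≠ p) (hr2 : r ≠ 2) (hQ : NondegOn (polarBilin Q) ⊤) (y : V →ₗ[F] V)
    (hQy : ∀ v, Q (y v) = Q v) (hy : y ^ r = 1) (n : ℕ) (hn : finrank F V = n) (hne : Even n)
    (ε : ℤ) (_hε : ε = 1 ∨ ε = -1) (hsV : SgnOn Q ⊤ ε) (s : ℕ)
    (hs : finrank F (movPart (polarBilin Q) y ⊤) =
      cOf (orderOf ((Fintype.card F : ℕ) : ZMod r)) * s)
    (m : ℕ) (hm : Odd m) (η : ℤ) (hη : η = 1 ∨ η = -1) :
    (∃ W : Submodule F V, finrank F W = m ∧ NondegOn (polarBilin Q) W ∧ OddOn Q W η ∧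
      W.map y ≤ W) ↔
    ∃ t, t ≤ s ∧ cOf (orderOf ((Fintype.card F : ℕ) : ZMod r)) * t ≤ m ∧
      m - cOf (orderOf ((Fintype.card F : ℕ) : ZMod r)) * t <
        n - cOf (orderOf ((Fintype.card F : ℕ) : ZMod r)) * s := by
  have hS := pB_symm Q
  have hiso := iso_of_Q Q y hQy
  have hr0 : (r : F) ≠ 0 := ne_zero_of_ne' p r hr.out hrp
  have hinj : Function.Injective y :=
    injective_of_pow_eq_smul y r 1 one_ne_zero (by rw [hy, one_smul]) hr.out.ne_zero
  have htop : (⊤ : Submodule F V).map y = ⊤ :=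
    map_eq_of_invt y hinj ⊤ (by
      rw [Module.End.mem_invtSubmodule_iff_map_le]
      exact le_top)
  obtain ⟨hKx, hKn, hKE, -, hsup, hCK⟩ :=
    movPart_props' hS y hiso r hr.out.ne_zero hr0 hy ⊤ htop hQ
  obtain ⟨hEn, hEf, hcsn, hEs⟩ := top_struct Q p r hrp hr2 hQ y hQy hy n hn hne ε hsV s hs
  have hipos : 0 < orderOf ((Fintype.card F : ℕ) : ZMod r) := orderOf_pos_of_ne p r hrp
  obtain ⟨i, hi⟩ : ∃ i, i = orderOf ((Fintype.card F : ℕ) : ZMod r) := ⟨_, rfl⟩
  rw [← hi] at hs hEf hcsn hEs hipos ⊢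
  obtain ⟨c, hc⟩ : ∃ c, c = cOf i := ⟨_, rfl⟩
  rw [← hc] at hs hEf hcsn ⊢
  have hcpos : 0 < c := by rw [hc]; exact cOf_pos hipos
  have hce : Even c := by rw [hc]; exact cOf_even
  obtain ⟨c', hc'⟩ := hce
  obtain ⟨m', hm'⟩ := hm
  obtain ⟨n', hn'⟩ := hne
  constructor
  · rintro ⟨W, hWf, hWn, hWs, hWy⟩
    have hWx : W.map y = W :=
      map_eq_of_invt y hinj W ((Module.End.mem_invtSubmodule_iff_map_le _).mpr hWy)
    obtain ⟨h1x, h1n, h1E, hWdim, hWsup, h01⟩ :=
      movPart_props' hS y hiso r hr.out.ne_zero hr0 hy W hWx hWn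
    obtain ⟨t, ht⟩ := movPart_profile' p r hrp hr2 hS y hiso hy W hWx hWn
    rw [← hi, ← hc] at ht
    have h1K : movPart (polarBilin Q) y W ≤ movPart (polarBilin Q) y ⊤ := by
      intro v hv
      refine mem_perpIn.mpr ⟨mem_top, fun u hu => ?_⟩
      exact orth_fixed_of_fpf y hiso r hr0 hy _ h1x h1E u hu.2 v hv
    have hts : t ≤ s := by
      have := Submodule.finrank_mono h1K
      rw [ht, hs] at this
      exact Nat.le_of_mul_le_mul_left this hcpos
    rw [hWf, ht] at hWdim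
    have hle : W ⊓ Module.End.eigenspace y 1 ≤ ⊤ ⊓ Module.End.eigenspace y 1 :=
      inf_le_inf_right _ le_top
    have h5 := Submodule.finrank_mono hle
    rw [hEf] at h5
    have hct : c * t = 2 * (c' * t) := by rw [hc']; ring
    have hcs : c * s = 2 * (c' * s) := by rw [hc']; ring
    refine ⟨t, hts, by omega, ?_⟩
    omega
  · rintro ⟨t, hts, htm, hlt⟩
    obtain ⟨D, hDK, hDx, hDn, hDf⟩ := exists_moved_sub' p r hrp hr2 hS y hiso hy _ hKx hKn hKE s
      (by rw [hs, hc, hi]) t hts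
    rw [← hi, ← hc] at hDf
    have hDE : D ⊓ Module.End.eigenspace y 1 = ⊥ := by
      rw [eq_bot_iff, ← hKE]
      exact inf_le_inf_right _ hDK
    have hDf2 : finrank F D = 2 * (c' * t) := by
      rw [hDf, hc']; ring
    have hDs : SgnOn Q D (tau i t) := by
      rcases sgnOn_cases Q hDn _ hDf2 with h | h
      · have := sign_of_fpf Q p r hrp hr2 y hQy hy _ hDx hDE t (by rw [hDf, hc, hi]) (Or.inl rfl) h
        rw [← hi] at this
        rwa [← this]
      · have := sign_of_fpf Q p r hrp hr2 y hQy hy _ hDx hDE t (by rw [hDf, hc, hi]) (Or.inr rfl) h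
        rw [← hi] at this
        rwa [← this]
    have hθ1 : η * tau i t = 1 ∨ η * tau i t = -1 := by
      rcases hη with rfl | rfl <;> rcases tau_cases i t with h | h <;> rw [h] <;> simp
    have hct : c * t = 2 * (c' * t) := by rw [hc']; ring
    have hcs : c * s = 2 * (c' * s) := by rw [hc']; ring
    have heven_e : Even (n - c * s) := ⟨n' - c' * s, by omega⟩
    have hodd_j : Odd (m - c * t) := ⟨m' - c' * t, by omega⟩
    obtain ⟨W₀, hW₀E, hW₀n, hW₀f, hW₀s⟩ := exists_sub_odd Q h2 _ hEn (n - c * s) hEf heven_e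
      (m - c * t) hodd_j hlt (η * tau i t) hθ1
    have ho : Orth (polarBilin Q) W₀ D := hCK.mono hW₀E hDK
    have hd := orth_disjoint hS ho hW₀n
    refine ⟨W₀ ⊔ D, ?_, nondegOn_sup' hS ho hW₀n hDn, ?_, ?_⟩
    · rw [finrank_sup_of_orth' hS ho hW₀n, hW₀f, hDf]
      omega
    · have h1 := oddOn_sup Q h2 ho hd (by rw [hW₀f]; exact hodd_j) ⟨c' * t, by rw [hDf2]; ring⟩
        hW₀s hDs
      have h3 : η * tau i t * tau i t = η := by rw [mul_assoc, tau_sq, mul_one]
      rwa [h3] at h1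
    · rw [Submodule.map_sup, hDx]
      apply sup_le_sup_right
      rintro _ ⟨u, hu, rfl⟩
      rw [fix_of_mem_inf y (hW₀E hu)]
      exact hu

end crit

end Cfsg.Agent.Lib.Helper20.OddC
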