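import Mathlib
import Cfsg.Agent.Lib.Helper6.OrtS12
import Cfsg.Agent.Lib.Helper20.OddC5

/-!
# Elements of odd prime order of `Ω(Q)` fixing odd-dimensional nondegenerate subspaces of a given
class: the numerical criterion
-/

set_option autoImplicit false
set_option linter.unusedSectionVars false

namespace Cfsg.Agent.Lib.Helper20.OddC

open Module Submodule QuadraticMap Cfsg.Agent.Lib.Helper15.PSpI
  Cfsg.Agent.Lib.Helper14.OrthEven
  Cfsg.Agent.Lib.Helper15.PSpJ Cfsg.Agent.Lib.Helper15.PDec Cfsg.Agent.Lib.Helper15.PSub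
  Cfsg.Agent.Lib.Helper6.OrtS

universe u

/-- the numerical criterion (odd `m`) -/
def CritOdd (n : ℕ) (ε : ℤ) (m : ℕ) (i : ℕ) : Prop :=
  ∀ s, 1 ≤ s → cOf i * s ≤ n → (cOf i * s = n → tau i s = ε) →
    ∃ t, t ≤ s ∧ cOf i * t ≤ m ∧ m - cOf i * t < n - cOf i * s

section gt

variable {F : Type u} [Field F] [Fintype F] {ι : Type} [Fintype ι] [DecidableEq ι]
variable (Q : QuadraticForm F (ι → F))

/-- **Geometric theorem (odd dimension)**: every non-scalar element of `Ω(Q)` with scalar `r`-th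
power fixes a nondegenerate `m`-space of class `η` iff the numerical criterion holds. -/
theorem odd_iff_crit_odd (h2 : (2 : F) ≠ 0) (p : ℕ) [Fact p.Prime] [CharP F p] (r : ℕ)
    [hr : Fact r.Prime]
    (hrp : r ≠ p) (hr2 : r ≠ 2) (hQ : (polarBilin Q).Nondegenerate) (n : ℕ)
    (hn : Fintype.card ι = n) (hne : Even n) (hn2 : 2 ≤ n) (h24 : Fintype.card F ≠ 2 ∨ n ≠ 4)
    (ε : ℤ) (hε : ε = 1 ∨ ε = -1) (hsV : SgnOn Q ⊤ ε)
    (hExist : ∀ s, 1 ≤ s → cOf (orderOf ((Fintype.card F : ℕ) : ZMod r)) * s ≤ n →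
      (cOf (orderOf ((Fintype.card F : ℕ) : ZMod r)) * s = n →
        tau (orderOf ((Fintype.card F : ℕ) : ZMod r)) s = ε) →
      ∃ M : Matrix ι ι F, (∀ v, Q (M.mulVec v) = Q v) ∧ M ^ r = 1 ∧
        finrank F (Module.End.eigenspace (Matrix.toLin' M) 1) =
          n - cOf (orderOf ((Fintype.card F : ℕ) : ZMod r)) * s)
    (m : ℕ) (hm : Odd m) (η : ℤ) (hη : η = 1 ∨ η = -1) :
    (∀ x : GL ι F, x ∈ Cfsg.Geo.omegaGL ⇑Q →
      (∃ z : F, ((x ^ r : GL ι F) : Matrix ι ι F) = z • (1 : Matrix ι ι F)) →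
      (∀ z : F, (x : Matrix ι ι F) ≠ z • (1 : Matrix ι ι F)) →
      ∃ W : Submodule F (ι → F), W ∈ OSet Q m η ∧
        W.map (Matrix.toLin' (x : Matrix ι ι F)) ≤ W) ↔
    CritOdd n ε m (orderOf ((Fintype.card F : ℕ) : ZMod r)) := by
  have hodd : Odd r := hr.out.odd_of_ne_two hr2
  have hr0 : (r : F) ≠ 0 := ne_zero_of_ne' p r hr.out hrp
  have hne' : Nonempty ι := by
    rw [← Fintype.card_pos_iff, hn]
    omega
  have hQt := nondegOn_top_of Q hQ
  have hS := pB_symm Q
  have hfr : finrank F (ι → F) = n := by rw [Module.finrank_fintype_fun_eq_card, hn]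
  have hipos : 0 < orderOf ((Fintype.card F : ℕ) : ZMod r) := orderOf_pos_of_ne p r hrp
  have hcpos := cOf_pos hipos
  -- from the fixed space to the moved part
  have hmov : ∀ (y : (ι → F) →ₗ[F] (ι → F)) (hQy : ∀ v, Q (y v) = Q v) (hy : y ^ r = 1),
      finrank F ↥((⊤ : Submodule F (ι → F)) ⊓ Module.End.eigenspace y 1) +
        finrank F (movPart (polarBilin Q) y ⊤) = n := by
    intro y hQy hy
    have hinj : Function.Injective y :=
      injective_of_pow_eq_smul y r 1 one_ne_zero (by rw [hy, one_smul]) hr.out.ne_zero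
    have htop : (⊤ : Submodule F (ι → F)).map y = ⊤ :=
      map_eq_of_invt y hinj ⊤ (by
        rw [Module.End.mem_invtSubmodule_iff_map_le]
        exact le_top)
    obtain ⟨-, -, -, hdim, -, -⟩ :=
      movPart_props' hS y (iso_of_Q Q y hQy) r hr.out.ne_zero hr0 hy ⊤ htop hQt
    rw [finrank_top, hfr] at hdim
    exact hdim
  constructor
  · intro hall s hs1 hsn hfull
    obtain ⟨M, hM1, hM2, hM3⟩ := hExist s hs1 hsn hfull
    have hMM : M * M ^ (r - 1) = 1 := by
      rw [← pow_succ', Nat.sub_add_cancel hr.out.pos, hM2]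
    have hMM' : M ^ (r - 1) * M = 1 := by
      rw [← pow_succ, Nat.sub_add_cancel hr.out.pos, hM2]
    let x : GL ι F := ⟨M, M ^ (r - 1), hMM, hMM'⟩
    have hxv : (x : Matrix ι ι F) = M := rfl
    have hxr : x ^ r = 1 := by
      apply Units.ext
      rw [Units.val_pow_eq_pow_val, hxv, hM2]
      rfl
    have hxI : x ∈ Cfsg.isometryGroup F ⇑Q := (Cfsg.Agent.Lib.Helper6.OmegaAut.mem_isometryGroup_iff Q x).mpr hM1
    have hgΩ : (⟨x, hxI⟩ : ↥(Cfsg.isometryGroup F ⇑Q)) ∈ Cfsg.Omega F ⇑Q :=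
      Cfsg.Agent.Lib.Helper6.mem_Omega_of_pow_odd' Q hQ (by rw [hn]; exact hn2) (by rw [hn]; exact h24) ⟨x, hxI⟩ r hodd
        (Subtype.ext hxr)
    have hxΩ : x ∈ Cfsg.Geo.omegaGL ⇑Q := Subgroup.mem_map.mpr ⟨⟨x, hxI⟩, hgΩ, rfl⟩
    have hQy : ∀ v, Q (Matrix.toLin' M v) = Q v := fun v => by
      rw [Matrix.toLin'_apply]; exact hM1 v
    have hy : (Matrix.toLin' M) ^ r = 1 := by
      rw [← Matrix.toLin'_pow, hM2, Matrix.toLin'_one]
      rfl
    have hs : finrank F (movPart (polarBilin Q) (Matrix.toLin' M) ⊤) =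
        cOf (orderOf ((Fintype.card F : ℕ) : ZMod r)) * s := by
      have := hmov _ hQy hy
      rw [top_inf_eq, hM3] at this
      omega
    have hns : ∀ z : F, (x : Matrix ι ι F) ≠ z • (1 : Matrix ι ι F) := by
      intro z hz
      rw [hxv] at hz
      have hzr : z ^ r = 1 := by
        have h1 := hM2
        rw [hz, smul_pow, one_pow] at h1
        have h2' := congrFun (congrFun h1 hne'.some) hne'.some
        simpa using h2'
      have hz2 : z * z = 1 := by
        obtain ⟨v₀, hv₀⟩ := exists_Q_ne_zero Q hQ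
        have h1 := hM1 v₀
        rw [hz, Matrix.smul_mulVec, Matrix.one_mulVec, QuadraticMap.map_smul, smul_eq_mul] at h1
        have h2' : (z * z - 1) * Q v₀ = 0 := by linear_combination h1
        rcases mul_eq_zero.mp h2' with h | h
        · linear_combination h
        · exact absurd h hv₀
      have hz1 : z = 1 := by
        obtain ⟨k, hk⟩ := hodd
        rw [hk, pow_succ, pow_mul, _root_.sq, hz2, one_pow, one_mul] at hzr
        exact hzr
      rw [hz1, one_smul] at hz
      rw [hz, Matrix.toLin'_one] at hM3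
      have h3 : Module.End.eigenspace (LinearMap.id : (ι → F) →ₗ[F] (ι → F)) 1 = ⊤ := by
        rw [eq_top_iff]
        intro v _
        rw [Module.End.mem_eigenspace_iff, one_smul]
        rfl
      rw [h3, finrank_top, hfr] at hM3
      have : cOf (orderOf ((Fintype.card F : ℕ) : ZMod r)) * 1 ≤
          cOf (orderOf ((Fintype.card F : ℕ) : ZMod r)) * s := Nat.mul_le_mul_left _ hs1
      omega
    obtain ⟨W, hWN, hWx⟩ := hall x hxΩ ⟨1, by rw [hxr, one_smul]; rfl⟩ hns
    rw [hxv] at hWx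
    exact (fixes_iff_odd Q h2 p r hrp hr2 hQt (Matrix.toLin' M) hQy hy n hfr hne ε hε hsV s hs m hm η
      hη).mp ⟨W, hWN.1, hWN.2.1, hWN.2.2, hWx⟩
  · intro hcrit x hxΩ hz hns
    obtain ⟨z, hz⟩ := hz
    obtain ⟨g, -, hgx⟩ := Subgroup.mem_map.mp hxΩ
    have hxI : ∀ v, Q ((x : Matrix ι ι F).mulVec v) = Q v := by
      rw [← hgx]
      exact (Cfsg.Agent.Lib.Helper6.OmegaAut.mem_isometryGroup_iff Q g.1).mp g.2
    have hz' : (x : Matrix ι ι F) ^ r = z • 1 := by
      rw [← hz, Units.val_pow_eq_pow_val]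
    obtain ⟨hzz, hy, hQy⟩ := normalize Q hQ r hodd (x : Matrix ι ι F) hxI z hz'
    have hz0 : z ≠ 0 := by
      rintro rfl
      simp at hzz
    obtain ⟨y, hydef⟩ : ∃ y : (ι → F) →ₗ[F] (ι → F), y = z • Matrix.toLin' (x : Matrix ι ι F) :=
      ⟨_, rfl⟩
    rw [← hydef] at hy hQy
    have hinj : Function.Injective y :=
      injective_of_pow_eq_smul y r 1 one_ne_zero (by rw [hy, one_smul]) hr.out.ne_zero
    have htop : (⊤ : Submodule F (ι → F)).map y = ⊤ :=
      map_eq_of_invt y hinj ⊤ (by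
        rw [Module.End.mem_invtSubmodule_iff_map_le]
        exact le_top)
    obtain ⟨s, hs⟩ := movPart_profile' p r hrp hr2 hS y (iso_of_Q Q y hQy) hy ⊤ htop hQt
    obtain ⟨-, -, -, -, hsup, -⟩ :=
      movPart_props' hS y (iso_of_Q Q y hQy) r hr.out.ne_zero hr0 hy ⊤ htop hQt
    obtain ⟨hEn, hEf, hcsn, hEs⟩ := top_struct Q p r hrp hr2 hQt y hQy hy n hfr hne ε hsV s hs
    have hs1 : 1 ≤ s := by
      by_contra h
      have h0 : s = 0 := by omega
      rw [h0, mul_zero] at hs
      have hb : movPart (polarBilin Q) y ⊤ = ⊥ := Submodule.finrank_eq_zero.mp hs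
      rw [hb, sup_bot_eq] at hsup
      apply hns z
      have hy1 : ∀ v, y v = v := by
        intro v
        have h7 : v ∈ (⊤ : Submodule F (ι → F)) ⊓ Module.End.eigenspace y 1 := by
          rw [hsup]; exact mem_top
        have h8 := (Submodule.mem_inf.mp h7).2
        rw [Module.End.mem_eigenspace_iff, one_smul] at h8
        exact h8
      apply Matrix.toLin'.injective
      apply LinearMap.ext
      intro v
      have h9 := hy1 v
      rw [hydef, LinearMap.smul_apply] at h9
      rw [map_smul, Matrix.toLin'_one, LinearMap.smul_apply, LinearMap.id_apply]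
      have h10 : z • (z • Matrix.toLin' (x : Matrix ι ι F) v) = z • v := by rw [h9]
      rw [smul_smul, hzz, one_smul] at h10
      exact h10
    have hfull : cOf (orderOf ((Fintype.card F : ℕ) : ZMod r)) * s = n →
        tau (orderOf ((Fintype.card F : ℕ) : ZMod r)) s = ε := by
      intro hcs
      rw [hcs, Nat.sub_self] at hEf
      have hb : (⊤ : Submodule F (ι → F)) ⊓ Module.End.eigenspace y 1 = ⊥ :=
        Submodule.finrank_eq_zero.mp hEf
      rw [hb] at hEs
      have h1 := SgnOn.unique Q hEs (sgnOn_bot Q)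
      have h2' := int_sign_mul_cancel (tau_sq _ s) h1.symm
      rw [h2', one_mul]
    obtain ⟨t, hts, htm, hsub⟩ := hcrit s hs1 hcsn hfull
    obtain ⟨W, hWf, hWn, hWs, hWy⟩ := (fixes_iff_odd Q h2 p r hrp hr2 hQt y hQy hy n hfr hne ε hε hsV
      s hs m hm η hη).mpr ⟨t, hts, htm, hsub⟩
    refine ⟨W, ⟨hWf, hWn, hWs⟩, ?_⟩
    rintro _ ⟨w, hw, rfl⟩
    have h1 : y w ∈ W := hWy ⟨w, hw, rfl⟩
    rw [hydef, LinearMap.smul_apply] at h1
    have h2' := W.smul_mem z h1
    rw [smul_smul, hzz, one_smul] at h2'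
    exact h2'

end gt

section arith

/-- the numerical criterion in closed form -/
theorem critOdd_iff (n m i : ℕ) (hi : 0 < i) (hmn : m < n) (ε : ℤ) :
    CritOdd n ε m i ↔
      (m % cOf i < n % cOf i) ∨ (n % cOf i = 0 ∧ tau i (n / cOf i) ≠ ε) := by
  unfold CritOdd
  obtain ⟨c, hc⟩ : ∃ c, c = cOf i := ⟨_, rfl⟩
  rw [← hc]
  have hcpos : 0 < c := by rw [hc]; exact cOf_pos hi
  obtain ⟨N, hN⟩ : ∃ N, N = n / c := ⟨_, rfl⟩
  obtain ⟨k, hk⟩ : ∃ k, k = n % c := ⟨_, rfl⟩
  obtain ⟨M, hM⟩ : ∃ M, M = m / c := ⟨_, rfl⟩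
  obtain ⟨l, hl⟩ : ∃ l, l = m % c := ⟨_, rfl⟩
  have hnd : c * N + k = n := by rw [hN, hk]; exact Nat.div_add_mod n c
  have hmd : c * M + l = m := by rw [hM, hl]; exact Nat.div_add_mod m c
  have hnlt : k < c := by rw [hk]; exact Nat.mod_lt n hcpos
  have hmlt : l < c := by rw [hl]; exact Nat.mod_lt m hcpos
  rw [← hN, ← hk, ← hl]
  constructor
  · intro hcrit
    by_cases hk0 : k = 0
    · right
      refine ⟨hk0, ?_⟩
      intro hτ
      have hs1 : 1 ≤ N := by
        by_contra h
        have h0 : N = 0 := by omega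
        rw [h0, hk0] at hnd
        omega
      have hcs : c * N = n := by omega
      obtain ⟨t, -, -, hlt⟩ := hcrit N hs1 (by omega) (fun _ => hτ)
      omega
    · left
      by_cases hs0 : N = 0
      · rw [hs0] at hnd
        omega
      · obtain ⟨t, hts, htm, hlt⟩ := hcrit N (by omega) (by omega) (fun h => by omega)
        have hle : l ≤ m - c * t := by
          have h1 : (m - c * t) % c = m % c := by
            have h3 : m = (m - c * t) + c * t := by omega
            conv_rhs => rw [h3]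
            rw [Nat.add_mul_mod_self_left]
          have h2 : (m - c * t) % c ≤ m - c * t := Nat.mod_le _ _
          rw [hl, ← h1]
          exact h2
        omega
  · intro h s hs1 hsn hfull
    have hsle : s ≤ N := by
      by_contra hlt
      have h1 : N + 1 ≤ s := by omega
      have h3 : c * (N + 1) ≤ c * s := Nat.mul_le_mul_left _ h1
      rw [mul_add, mul_one] at h3
      omega
    have hcs_le : c * s ≤ c * N := Nat.mul_le_mul_left _ hsle
    by_cases hsm : s ≤ M
    · have h4 : c * s ≤ c * M := Nat.mul_le_mul_left _ hsm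
      exact ⟨s, le_rfl, by omega, by omega⟩
    · have hMs : M ≤ s := by omega
      have h4 : c * M ≤ c * s := Nat.mul_le_mul_left _ hMs
      refine ⟨M, hMs, by omega, ?_⟩
      rcases h with h | ⟨hk0, hτ⟩
      · omega
      · have hne : s ≠ N := by
          rintro rfl
          exact hτ (hfull (by omega))
        have hs' : s + 1 ≤ N := by omega
        have h5 : c * (s + 1) ≤ c * N := Nat.mul_le_mul_left _ hs'
        rw [mul_add, mul_one] at h5
        omega

end arith

end Cfsg.Agent.Lib.Helper20.OddC
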