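import Mathlib
import Cfsg.Agent.Lib.Helper6.OrtS13
import Cfsg.Agent.Lib.Helper6.OrtT2
import Cfsg.Agent.Lib.Helper20.OddC6

/-!
# Odd-dimensional nondegenerate subspaces: involutions and the gap case of the counting lemma
-/

set_option autoImplicit false
set_option linter.unusedSectionVars false
set_option linter.style.haveILetI false

namespace Cfsg.Agent.Lib.Helper20.OddC

open Module Submodule QuadraticMap Cfsg.Agent.Lib.Helper15.PSpI Cfsg.Agent.Lib.Helper14.OrthEven
  Cfsg.Agent.Lib.Helper15.PSpJ Cfsg.Agent.Lib.Helper15.PDec Cfsg.Agent.Lib.Helper15.PSub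
  Cfsg.Agent.Lib.Helper6.OrtS

universe u

section invol

variable {F : Type u} {V : Type*} [Field F] [Fintype F] [AddCommGroup V] [Module F V]
  [FiniteDimensional F V]
variable (Q : QuadraticForm F V)

/-- an isometric involution with even dimensional fixed space (on an even dimensional space)
fixes a nondegenerate subspace of every small odd dimension and every class -/
theorem invol_fixes_odd (h2 : (2 : F) ≠ 0) (hQ : NondegOn (polarBilin Q) ⊤) (y : V →ₗ[F] V)
    (hQy : ∀ v, Q (y v) = Q v) (hy : y ^ 2 = 1) (n : ℕ) (hn : finrank F V = n) (hne : Even n)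
    (hfe : Even (finrank F (Module.End.eigenspace y 1)))
    (m : ℕ) (hm : Odd m) (hm2 : 2 * m < n) (η : ℤ) (hη : η = 1 ∨ η = -1) :
    ∃ W : Submodule F V, finrank F W = m ∧ NondegOn (polarBilin Q) W ∧ OddOn Q W η ∧
      W.map y ≤ W := by
  have hS := pB_symm Q
  have hiso := iso_of_Q Q y hQy
  have hr0 : ((2 : ℕ) : F) ≠ 0 := by rw [Nat.cast_ofNat]; exact h2
  have hinj : Function.Injective y :=
    injective_of_pow_eq_smul y 2 1 one_ne_zero (by rw [hy, one_smul]) (by norm_num)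
  have htop : (⊤ : Submodule F V).map y = ⊤ :=
    map_eq_of_invt y hinj ⊤ (by
      rw [Module.End.mem_invtSubmodule_iff_map_le]
      exact le_top)
  obtain ⟨hKx, hKn, hKE, hdim, hsup, hCK⟩ :=
    movPart_props' hS y hiso 2 (by norm_num) hr0 hy ⊤ htop hQ
  have hEn := nondegOn_fixed y hiso 2 hr0 hy ⊤ htop hQ
  rw [top_inf_eq] at hdim hEn
  rw [finrank_top, hn] at hdim
  have hyy : ∀ v, y (y v) = v := by
    intro v
    have := LinearMap.congr_fun hy v
    rw [pow_two] at this
    exact this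
  obtain ⟨e, he⟩ : ∃ e, e = finrank F (Module.End.eigenspace y 1) := ⟨_, rfl⟩
  obtain ⟨k, hk⟩ : ∃ k, k = finrank F (movPart (polarBilin Q) y ⊤) := ⟨_, rfl⟩
  rw [← he] at hfe hdim
  rw [← hk] at hdim
  obtain ⟨e', he'⟩ := hfe
  obtain ⟨n', hn'⟩ := hne
  by_cases hem : m < e
  · obtain ⟨W, hWE, hWn, hWf, hWs⟩ := exists_sub_odd Q h2 _ hEn e he.symm ⟨e', he'⟩ m hm hem η hη
    refine ⟨W, hWf, hWn, hWs, ?_⟩
    rintro _ ⟨w, hw, rfl⟩
    have h1 := hWE hw
    rw [Module.End.mem_eigenspace_iff, one_smul] at h1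
    rw [h1]
    exact hw
  · have hkm : m < k := by omega
    have hneg : ∀ v ∈ movPart (polarBilin Q) y ⊤, y v = -v := by
      intro v hv
      have h1 : y v + v ∈ movPart (polarBilin Q) y ⊤ ⊓ Module.End.eigenspace y 1 := by
        rw [Submodule.mem_inf]
        refine ⟨Submodule.add_mem _ ?_ hv, ?_⟩
        · rw [← hKx]
          exact ⟨v, hv, rfl⟩
        · rw [Module.End.mem_eigenspace_iff, one_smul, map_add, hyy]
          abel
      rw [hKE] at h1
      exact eq_neg_of_add_eq_zero_left ((mem_bot F).mp h1)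
    have hkev : Even k := ⟨n' - e', by omega⟩
    obtain ⟨W, hWE, hWn, hWf, hWs⟩ := exists_sub_odd Q h2 _ hKn k hk.symm hkev m hm hkm η hη
    refine ⟨W, hWf, hWn, hWs, ?_⟩
    rintro _ ⟨w, hw, rfl⟩
    rw [hneg w (hWE hw)]
    exact W.neg_mem hw

end invol

section gt

variable {F : Type u} [Field F] [Fintype F] {ι : Type} [Fintype ι] [DecidableEq ι]
variable (Q : QuadraticForm F (ι → F))

/-- The gap case: if `m` is smaller than the block size and smaller than the residue of `n`,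
then `r` does not divide the number of nondegenerate `m`-subspaces of class `η`. -/
theorem not_dvd_of_gap (h2 : (2 : F) ≠ 0) (p : ℕ) [Fact p.Prime] [CharP F p] (r : ℕ)
    [hr : Fact r.Prime]
    (hrp : r ≠ p) (hr2 : r ≠ 2) (hQ : (polarBilin Q).Nondegenerate) (n : ℕ)
    (hn : Fintype.card ι = n) (hne : Even n)
    (ε : ℤ) (hε : ε = 1 ∨ ε = -1) (hsV : SgnOn Q ⊤ ε)
    (hExist : ∀ s, 1 ≤ s → cOf (orderOf ((Fintype.card F : ℕ) : ZMod r)) * s ≤ n →
      (cOf (orderOf ((Fintype.card F : ℕ) : ZMod r)) * s = n →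
        tau (orderOf ((Fintype.card F : ℕ) : ZMod r)) s = ε) →
      ∃ M : Matrix ι ι F, (∀ v, Q (M.mulVec v) = Q v) ∧ M ^ r = 1 ∧
        finrank F (Module.End.eigenspace (Matrix.toLin' M) 1) =
          n - cOf (orderOf ((Fintype.card F : ℕ) : ZMod r)) * s)
    (m : ℕ) (hm : Odd m) (η : ℤ) (hη : η = 1 ∨ η = -1)
    (hcm : m < cOf (orderOf ((Fintype.card F : ℕ) : ZMod r)))
    (hgap : m < n % cOf (orderOf ((Fintype.card F : ℕ) : ZMod r))) :
    ¬ r ∣ Nat.card (OSet Q m η) := by
  have hQt := nondegOn_top_of Q hQ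
  have hfr : finrank F (ι → F) = n := by rw [Module.finrank_fintype_fun_eq_card, hn]
  have hipos : 0 < orderOf ((Fintype.card F : ℕ) : ZMod r) := orderOf_pos_of_ne p r hrp
  have hcpos := cOf_pos hipos
  obtain ⟨c, hc⟩ : ∃ c, c = cOf (orderOf ((Fintype.card F : ℕ) : ZMod r)) := ⟨_, rfl⟩
  rw [← hc] at hcm hgap hExist hcpos
  have hdm := Nat.div_add_mod n c
  have hkc := Nat.mod_lt n hcpos
  have hnsub : n - c * (n / c) = n % c := by omega
  -- an isometry with `n / c` blocks
  have hy : ∃ y : (ι → F) →ₗ[F] (ι → F), (∀ v, Q (y v) = Q v) ∧ y ^ r = 1 ∧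
      finrank F (movPart (polarBilin Q) y ⊤) = c * (n / c) := by
    by_cases hs0 : n / c = 0
    · refine ⟨1, fun v => rfl, one_pow r, ?_⟩
      have h1 := finrank_fixed_add_movPart Q p r hrp hQ n hn 1 (fun v => rfl) (one_pow r)
      have h3 : Module.End.eigenspace (1 : (ι → F) →ₗ[F] (ι → F)) 1 = ⊤ := by
        rw [eq_top_iff]
        intro v _
        rw [Module.End.mem_eigenspace_iff, one_smul]
        rfl
      rw [h3, finrank_top, hfr] at h1
      rw [hs0, mul_zero]
      omega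
    · obtain ⟨M, hM1, hM2, hM3⟩ := hExist (n / c) (Nat.pos_of_ne_zero hs0) (Nat.mul_div_le n c)
        (by intro h; omega)
      have hQy : ∀ v, Q (Matrix.toLin' M v) = Q v := fun v => by
        rw [Matrix.toLin'_apply]; exact hM1 v
      have hy : (Matrix.toLin' M) ^ r = 1 := by
        rw [← Matrix.toLin'_pow, hM2, Matrix.toLin'_one]
        rfl
      refine ⟨Matrix.toLin' M, hQy, hy, ?_⟩
      have h1 := finrank_fixed_add_movPart Q p r hrp hQ n hn _ hQy hy
      omega
  obtain ⟨y, hQy, hyr, hs⟩ := hy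
  rw [hc] at hs hcm hnsub hkc
  refine not_dvd_card_OSet Q h2 p r hrp hr2 hQt y hQy hyr n hfr hne ε hε hsV (n / c) ?_ m hm η hη
    hcm ?_ ?_
  · rw [hs, hc]
  · rw [hc, hnsub]; exact hkc
  · rw [hc, hnsub, ← hc]; exact hgap

end gt

end Cfsg.Agent.Lib.Helper20.OddC
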