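import Mathlib
import Cfsg.Agent.Lib.Helper21.OrtT9
import Cfsg.Agent.Lib.Helper6.OrtT1
import Cfsg.Agent.Lib.Helper20.OddC7

/-!
# Elements with scalar square and odd-dimensional nondegenerate subspaces, generic in the form
-/

set_option autoImplicit false
set_option linter.unusedSectionVars false
set_option linter.style.haveILetI false

namespace Cfsg.Agent.Lib.Helper20.OddC

open Module Submodule QuadraticMap Cfsg.Agent.Lib.Helper15.PSpI Cfsg.Agent.Lib.Helper14.OrthEven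
  Cfsg.Agent.Lib.Helper15.PSpJ Cfsg.Agent.Lib.Helper15.PDec Cfsg.Agent.Lib.Helper15.PSub
  Cfsg.Agent.Lib.Helper6.OrtS

universe u

section gt

variable {F : Type u} [Field F] [Fintype F] {ι : Type} [Fintype ι] [DecidableEq ι]
variable (Q : QuadraticForm F (ι → F))

/-- **`r = 2`, odd characteristic, odd `m`, any sign `ε` of the ambient form**: all elements of
`Ω(Q)` with scalar square fix a nondegenerate `m`-space of class `η`, iff `Ω(Q)` has no element
with square `-1`. -/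
theorem two_iff_odd (h2 : (2 : F) ≠ 0) (hQ : (polarBilin Q).Nondegenerate) (d : ℕ)
    (hn : Fintype.card ι = 2 * d) (hd : 3 ≤ d) (ε : ℤ) (hsV : SgnOn Q ⊤ ε) (m : ℕ)
    (hm : Odd m) (hmd : m < d) (η : ℤ) (hη : η = 1 ∨ η = -1) :
    (∀ x : GL ι F, x ∈ Cfsg.Geo.omegaGL ⇑Q →
      (∃ z : F, ((x ^ 2 : GL ι F) : Matrix ι ι F) = z • (1 : Matrix ι ι F)) →
      (∀ z : F, (x : Matrix ι ι F) ≠ z • (1 : Matrix ι ι F)) →
      ∃ W : Submodule F (ι → F), W ∈ OSet Q m η ∧
        W.map (Matrix.toLin' (x : Matrix ι ι F)) ≤ W) ↔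
    ¬ (ε = Cfsg.Agent.Lib.Helper21.OrtT.dl F ^ d ∧ (Even d ∨ IsSquare (2 : F))) := by
  have hne : Nonempty ι := by
    rw [← Fintype.card_pos_iff, hn]
    omega
  have hfr : finrank F (ι → F) = 2 * d := by rw [Module.finrank_fintype_fun_eq_card, hn]
  have hQt := nondegOn_top_of Q hQ
  have hsV' : Cfsg.Agent.Lib.Helper21.OrtG.SignOn Q ⊤ ε :=
    (Cfsg.Agent.Lib.Helper21.OrtT.signOn_iff_sgnOn ⊤ ε).mpr ⟨by
      rw [finrank_top, hfr]; exact ⟨d, by ring⟩, hsV⟩
  have h11 : (1 : Matrix ι ι F) ≠ -1 := by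
    intro h
    have h' := congrFun (congrFun h hne.some) hne.some
    rw [Matrix.neg_apply, Matrix.one_apply_eq] at h'
    apply h2
    linear_combination h'
  -- an isometry with square `-1` fixes no nondegenerate subspace of odd dimension
  have hnofix : ∀ g : ↥(Cfsg.isometryGroup F ⇑Q),
      ((g.1 : GL ι F) : Matrix ι ι F) * ((g.1 : GL ι F) : Matrix ι ι F) = -1 →
      ¬ ∃ W : Submodule F (ι → F), W ∈ OSet Q m η ∧
        W.map (Matrix.toLin' ((g.1 : GL ι F) : Matrix ι ι F)) ≤ W := by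
    intro g hg
    rintro ⟨W, ⟨hWf, hWn, -⟩, hWx⟩
    have hy : ∀ v, Matrix.toLin' ((g.1 : GL ι F) : Matrix ι ι F)
        (Matrix.toLin' ((g.1 : GL ι F) : Matrix ι ι F) v) = -v := by
      intro v
      rw [Matrix.toLin'_apply, Matrix.toLin'_apply, Matrix.mulVec_mulVec, hg, Matrix.neg_mulVec,
        Matrix.one_mulVec]
    have hWnd : Cfsg.Agent.Lib.Helper21.OrtG.Nd Q W := fun u hu h => hWn u hu (fun v hv => h v hv)
    obtain ⟨w, hw, -⟩ := Cfsg.Agent.Lib.Helper21.OrtT.sign_of_invariant h2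
      (Cfsg.Agent.Lib.Helper21.OrtT.iso_of_mem Q g) hy m W
      (Cfsg.Agent.Lib.Helper21.OrtT.forall_of_map_le hWx) hWnd hWf
    obtain ⟨b, hb⟩ := hm
    omega
  constructor
  · intro hall hcon
    obtain ⟨hε, hsq⟩ := hcon
    rw [hε] at hsV'
    obtain ⟨g, hg⟩ := Cfsg.Agent.Lib.Helper21.OrtT.exists_sqneg Q h2 hQ d hn (by omega) hsV'
    have hgΩ : g ∈ Cfsg.Omega F ⇑Q :=
      (Cfsg.Agent.Lib.Helper21.OrtT.sqneg_mem_Omega_iff Q h2 hQ d hn (by omega) g hg).mpr hsq
    have hxΩ : (g.1 : GL ι F) ∈ Cfsg.Geo.omegaGL ⇑Q := Subgroup.mem_map.mpr ⟨g, hgΩ, rfl⟩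
    have hgI : ∀ v, Q (((g.1 : GL ι F) : Matrix ι ι F).mulVec v) = Q v :=
      (Cfsg.Agent.Lib.Helper6.OmegaAut.mem_isometryGroup_iff Q g.1).mp g.2
    obtain ⟨W, hWN, hWx⟩ := hall g.1 hxΩ ⟨-1, by
      rw [Units.val_pow_eq_pow_val, pow_two, hg, neg_smul, one_smul]⟩ (by
      intro z hz
      have hzz := Cfsg.Agent.Lib.Helper21.OrtT.scalar_sq Q hQ _ hgI z hz
      rw [hz, Matrix.smul_mul, Matrix.mul_smul, Matrix.mul_one, smul_smul, hzz, one_smul] at hg
      exact h11 hg)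
    exact hnofix g hg ⟨W, hWN, hWx⟩
  · intro hrhs x hxΩ hz hns
    obtain ⟨z, hz⟩ := hz
    obtain ⟨g, hgΩ, hgx⟩ := Subgroup.mem_map.mp hxΩ
    have hgx' : (g.1 : GL ι F) = x := hgx
    have hgI : ∀ v, Q (((g.1 : GL ι F) : Matrix ι ι F).mulVec v) = Q v :=
      (Cfsg.Agent.Lib.Helper6.OmegaAut.mem_isometryGroup_iff Q g.1).mp g.2
    have hz' : ((g.1 : GL ι F) : Matrix ι ι F) * ((g.1 : GL ι F) : Matrix ι ι F) = z • 1 := by
      rw [hgx', ← hz, Units.val_pow_eq_pow_val, pow_two]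
    have hzz : z * z = 1 := by
      apply Cfsg.Agent.Lib.Helper21.OrtT.scalar_sq Q hQ
        (((g.1 : GL ι F) : Matrix ι ι F) * ((g.1 : GL ι F) : Matrix ι ι F)) _ z hz'
      intro v
      rw [← Matrix.mulVec_mulVec, hgI, hgI]
    have hz1 : z = 1 ∨ z = -1 := by
      have : (z - 1) * (z + 1) = 0 := by linear_combination hzz
      rcases mul_eq_zero.mp this with h | h
      · left; linear_combination h
      · right; linear_combination h
    rw [← hgx'] at hns ⊢
    rcases hz1 with rfl | rfl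
    · rw [one_smul] at hz'
      have hy : (Matrix.toLin' ((g.1 : GL ι F) : Matrix ι ι F)) ^ 2 = 1 := by
        rw [← Matrix.toLin'_pow, pow_two, hz', Matrix.toLin'_one]
        rfl
      have hfe : Even (finrank F (Module.End.eigenspace
          (Matrix.toLin' ((g.1 : GL ι F) : Matrix ι ι F)) 1)) := by
        have h1 := even_fix_of_mem_Omega Q hQ (Or.inr (by rw [hn]; omega)) g hgΩ
        rw [hn] at h1
        exact (Nat.even_add.mp h1).mp (even_two_mul d)
      obtain ⟨W, hWf, hWn, hWs, hWx⟩ := invol_fixes_odd Q h2 hQt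
        (Matrix.toLin' ((g.1 : GL ι F) : Matrix ι ι F))
        (Cfsg.Agent.Lib.Helper21.OrtT.iso_of_mem Q g) hy (2 * d) hfr (even_two_mul d) hfe
        m hm (by omega) η hη
      exact ⟨W, ⟨hWf, hWn, hWs⟩, hWx⟩
    · exfalso
      rw [neg_smul, one_smul] at hz'
      have hy : ∀ v, Matrix.toLin' ((g.1 : GL ι F) : Matrix ι ι F)
          (Matrix.toLin' ((g.1 : GL ι F) : Matrix ι ι F) v) = -v := by
        intro v
        rw [Matrix.toLin'_apply, Matrix.toLin'_apply, Matrix.mulVec_mulVec, hz',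
          Matrix.neg_mulVec, Matrix.one_mulVec]
      have hsq := (Cfsg.Agent.Lib.Helper21.OrtT.sqneg_mem_Omega_iff Q h2 hQ d hn (by omega) g
        hz').mp hgΩ
      have hε : ε = Cfsg.Agent.Lib.Helper21.OrtT.dl F ^ d := by
        obtain ⟨w, hw, hs⟩ := Cfsg.Agent.Lib.Helper21.OrtT.sign_of_invariant h2
          (Cfsg.Agent.Lib.Helper21.OrtT.iso_of_mem Q g) hy _ ⊤
          (fun _ _ => mem_top) (Cfsg.Agent.Lib.Helper21.OrtT.nd_top_of Q hQ)
          (by rw [finrank_top])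
        have : w = d := by omega
        subst this
        exact hsV'.unique hs
      exact hrhs ⟨hε, hsq⟩

end gt

end Cfsg.Agent.Lib.Helper20.OddC
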