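import Mathlib
import Cfsg.Agent.Lib.Helper3.OrthBase
import Cfsg.Agent.Lib.Helper20.OddC7

/-!
# Unipotent isometries: the class of an invariant subspace on which `(y - 1)² = 0`,
and the values of the form on the fixed vectors
-/

set_option autoImplicit false
set_option linter.unusedSectionVars false
set_option linter.style.haveILetI false

namespace Cfsg.Agent.Lib.Helper20.OddC

open Module Submodule QuadraticMap Cfsg.Agent.Lib.Helper15.PSpI Cfsg.Agent.Lib.Helper14.OrthEven
  Cfsg.Agent.Lib.Helper15.PSpJ Cfsg.Agent.Lib.Helper15.PDec Cfsg.Agent.Lib.Helper15.PSub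
  Cfsg.Agent.Lib.Helper6.OrtS

universe u

section abs

variable {F : Type u} {V : Type*} [Field F] [Fintype F] [AddCommGroup V] [Module F V]
  [FiniteDimensional F V]
variable (Q : QuadraticForm F V)

omit [Fintype F] [FiniteDimensional F V] in
/-- if `(L - 1)² v = 0` for an isometry `L`, then `(L - 1) v` is singular -/
theorem Q_sub_eq_zero (h2 : (2 : F) ≠ 0) (L : V →ₗ[F] V) (hL : ∀ v, Q (L v) = Q v) (v : V)
    (h : L (L v - v) = L v - v) : Q (L v - v) = 0 := by
  have h1 := iso_of_Q Q L hL v (L v - v)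
  rw [h, pB_apply, pB_apply] at h1
  have h3 : polar Q (L v - v) (L v - v) = 0 := by
    rw [polar_sub_left, h1, sub_self]
  rw [polar_self] at h3
  have h6 : (2 : F) * Q (L v - v) = 0 := by
    rw [two_mul]
    rw [two_nsmul] at h3
    exact h3
  rcases mul_eq_zero.1 h6 with h' | h'
  · exact absurd h' h2
  · exact h'

omit [Fintype F] in
/-- rank and nullity of an endomorphism on a subspace -/
theorem finrank_map_add_inf_ker (N : V →ₗ[F] V) (W : Submodule F V) :
    finrank F ↥(W.map N) + finrank F ↥(W ⊓ LinearMap.ker N) = finrank F W := by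
  have h1 := LinearMap.finrank_range_add_finrank_ker (N.domRestrict W)
  rw [LinearMap.range_domRestrict, LinearMap.ker_domRestrict] at h1
  have h3 : Submodule.comap W.subtype (LinearMap.ker N) =
      Submodule.comap W.subtype (W ⊓ LinearMap.ker N) := by
    ext x
    simp only [Submodule.mem_comap, Submodule.subtype_apply, Submodule.mem_inf, LinearMap.mem_ker]
    constructor
    · intro h
      exact ⟨x.2, h⟩
    · intro h
      exact h.2
  rw [h3, (Submodule.comapSubtypeEquivOfLe (inf_le_left : W ⊓ LinearMap.ker N ≤ W)).finrank_eq]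
    at h1
  exact h1

omit [Fintype F] [FiniteDimensional F V] in
/-- the image of `L - 1` is orthogonal to the fixed vectors -/
theorem polar_fixed_sub (L : V →ₗ[F] V) (hL : ∀ v, Q (L v) = Q v) (u : V) (hu : L u = u)
    (w : V) : polarBilin Q u (L w - w) = 0 := by
  have h1 := iso_of_Q Q L hL u w
  rw [hu] at h1
  rw [map_sub, h1, sub_self]

/-- **the class of an invariant subspace on which `(L - 1)² = 0`**, of dimension `2c + 1` with
`L - 1` of rank `c` on it: it is the class of a fixed nonsingular vector. -/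
theorem class_of_typeA (h2 : (2 : F) ≠ 0) (L : V →ₗ[F] V) (hL : ∀ v, Q (L v) = Q v)
    (W : Submodule F V) (hW : NondegOn (polarBilin Q) W)
    (hLW : ∀ w ∈ W, L w ∈ W) (hN2 : ∀ w ∈ W, L (L w - w) = L w - w) (c : ℕ)
    (hWf : finrank F W = 2 * c + 1) (hrk : finrank F ↥(W.map (L - 1)) = c) :
    ∃ u ∈ W, L u = u ∧ Q u ≠ 0 ∧ OddOn Q W (chi (Q u)) := by
  have hS := pB_symm Q
  have hrefl : ∀ x y, polarBilin Q x y = 0 → polarBilin Q y x = 0 := fun x y h => by
    rw [hS]; exact h
  have hNa : ∀ v, (L - 1) v = L v - v := fun v => by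
    rw [LinearMap.sub_apply, Module.End.one_apply]
  have hK := finrank_map_add_inf_ker (L - 1) W
  rw [hrk, hWf] at hK
  have hKfix : ∀ k ∈ W ⊓ LinearMap.ker (L - 1), L k = k := by
    intro k hk
    have h1 := (Submodule.mem_inf.mp hk).2
    rw [LinearMap.mem_ker, hNa] at h1
    exact sub_eq_zero.mp h1
  -- a nonsingular fixed vector
  have hex : ∃ u ∈ W ⊓ LinearMap.ker (L - 1), Q u ≠ 0 := by
    by_contra hcon
    push Not at hcon
    have ho : Orth (polarBilin Q) (W ⊓ LinearMap.ker (L - 1)) (W ⊓ LinearMap.ker (L - 1)) := by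
      intro a ha b hb
      rw [pB_apply]
      unfold polar
      rw [hcon _ (Submodule.add_mem _ ha hb), hcon a ha, hcon b hb]
      ring
    have := Cfsg.Agent.Lib.Helper3.Orth.two_mul_finrank_le hrefl hW inf_le_left ho
    omega
  obtain ⟨u, huK, hu⟩ := hex
  have huW : u ∈ W := (Submodule.mem_inf.mp huK).1
  have hLu : L u = u := hKfix u huK
  refine ⟨u, huW, hLu, hu, ?_⟩
  have hu0 : u ≠ 0 := by
    rintro rfl
    exact hu (map_zero Q)
  have hPW : span F {u} ≤ W := by
    rw [span_le, Set.singleton_subset_iff]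
    exact huW
  have hPn := nondegOn_span Q h2 u hu
  have hPf : finrank F (span F {u}) = 1 := finrank_span_singleton hu0
  have hHn := nondegOn_perpIn' hS hPW hPn hW
  have hfr := finrank_perpIn' hS hPW hPn (V' := W)
  rw [hPf, hWf] at hfr
  have hHf : finrank F ↥(perpIn (polarBilin Q) W (span F {u})) = 2 * c := by omega
  -- the image of `L - 1` on `W` is a totally singular subspace of the complement
  have hUH : W.map (L - 1) ≤ perpIn (polarBilin Q) W (span F {u}) := by
    rintro _ ⟨w, hw, rfl⟩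
    rw [hNa]
    refine mem_perpIn.mpr ⟨W.sub_mem (hLW w hw) hw, ?_⟩
    intro s hs
    obtain ⟨a, rfl⟩ := mem_span_singleton.mp hs
    rw [map_smul, LinearMap.smul_apply, polar_fixed_sub Q L hL u hLu, smul_zero]
  have hU0 : ∀ x ∈ W.map (L - 1), Q x = 0 := by
    rintro _ ⟨w, hw, rfl⟩
    rw [hNa]
    exact Q_sub_eq_zero Q h2 L hL w (hN2 w hw)
  have hsH : SgnOn Q (perpIn (polarBilin Q) W (span F {u})) 1 :=
    (sgnOn_one_iff_plus Q _ hHn c hHf).mpr ⟨_, hUH, hU0, hrk⟩
  have ho : Orth (polarBilin Q) (perpIn (polarBilin Q) W (span F {u})) (span F {u}) :=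
    orth_symm hS (orth_perpIn W (span F {u}))
  have hd : Disjoint (perpIn (polarBilin Q) W (span F {u})) (span F {u}) :=
    (orth_disjoint hS (orth_perpIn W (span F {u})) hPn).symm
  have h5 := oddOn_sup' Q h2 ho hd (by rw [hHf]; exact even_two_mul c) (by rw [hPf]; exact odd_one)
    hsH (oddOn_span Q h2 u hu)
  rw [sup_comm, sup_perpIn' hS hPW hPn, mul_one] at h5
  exact h5

/-- **values of the form on the fixed vectors** of a unipotent isometry with a single Jordan
block of size one: they are all of the shape `c² · Q u₀`. -/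
theorem fixed_values (h2 : (2 : F) ≠ 0) (L : V →ₗ[F] V) (hL : ∀ v, Q (L v) = Q v) (d₁ : ℕ)
    (hk1 : finrank F (LinearMap.ker (L - 1)) = d₁)
    (hk2 : finrank F (LinearMap.ker ((L - 1) ^ 2)) + 1 = 2 * d₁) :
    ∃ u₀, L u₀ = u₀ ∧ ∀ v, L v = v → ∃ c : F, Q v = c * c * Q u₀ := by
  have hNa : ∀ v, (L - 1) v = L v - v := fun v => by
    rw [LinearMap.sub_apply, Module.End.one_apply]
  have hfix : ∀ v, v ∈ LinearMap.ker (L - 1) ↔ L v = v := by
    intro v
    rw [LinearMap.mem_ker, hNa, sub_eq_zero]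
  have hle : LinearMap.ker (L - 1) ≤ LinearMap.ker ((L - 1) ^ 2) := by
    intro v hv
    rw [LinearMap.mem_ker] at hv ⊢
    rw [pow_two, Module.End.mul_apply, hv, map_zero]
  have hR := finrank_map_add_inf_ker (L - 1) (LinearMap.ker ((L - 1) ^ 2))
  rw [inf_eq_right.mpr hle, hk1] at hR
  have hRK : (LinearMap.ker ((L - 1) ^ 2)).map (L - 1) ≤ LinearMap.ker (L - 1) := by
    rintro _ ⟨x, hx, rfl⟩
    rw [SetLike.mem_coe, LinearMap.mem_ker] at hx
    rw [LinearMap.mem_ker]
    rw [pow_two, Module.End.mul_apply] at hx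
    exact hx
  have hlt : (LinearMap.ker ((L - 1) ^ 2)).map (L - 1) < LinearMap.ker (L - 1) := by
    refine lt_of_le_of_ne hRK ?_
    intro heq
    rw [heq, hk1] at hR
    omega
  obtain ⟨u₀, hu₀K, hu₀R⟩ := SetLike.exists_of_lt hlt
  refine ⟨u₀, (hfix u₀).mp hu₀K, ?_⟩
  -- the fixed space is spanned by the radical part and `u₀`
  have hsup : (LinearMap.ker ((L - 1) ^ 2)).map (L - 1) ⊔ span F {u₀} = LinearMap.ker (L - 1) := by
    have hle2 : (LinearMap.ker ((L - 1) ^ 2)).map (L - 1) ⊔ span F {u₀} ≤ LinearMap.ker (L - 1) := by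
      apply sup_le hRK
      rw [span_le, Set.singleton_subset_iff]
      exact hu₀K
    have hlt2 : (LinearMap.ker ((L - 1) ^ 2)).map (L - 1) <
        (LinearMap.ker ((L - 1) ^ 2)).map (L - 1) ⊔ span F {u₀} := by
      refine lt_of_le_of_ne le_sup_left ?_
      intro heq
      apply hu₀R
      rw [heq]
      exact mem_sup_right (mem_span_singleton_self u₀)
    have h3 := Submodule.finrank_lt_finrank_of_lt hlt2
    have h4 := Submodule.finrank_mono hle2
    apply Submodule.eq_of_le_of_finrank_le hle2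
    rw [hk1]
    omega
  intro v hv
  have hvK : v ∈ LinearMap.ker (L - 1) := (hfix v).mpr hv
  rw [← hsup] at hvK
  obtain ⟨r, hr, s, hs, rfl⟩ := mem_sup.mp hvK
  obtain ⟨a, rfl⟩ := mem_span_singleton.mp hs
  obtain ⟨x, hx, rfl⟩ := hr
  refine ⟨a, ?_⟩
  have hx2 : L (L x - x) = L x - x := by
    rw [SetLike.mem_coe, LinearMap.mem_ker, pow_two, Module.End.mul_apply, hNa, hNa] at hx
    exact sub_eq_zero.mp hx
  have hQr : Q ((L - 1) x) = 0 := by
    rw [hNa]
    exact Q_sub_eq_zero Q h2 L hL x hx2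
  have hpol : polar Q ((L - 1) x) (a • u₀) = 0 := by
    rw [polar_smul_right, hNa, polar_comm, ← pB_apply,
      polar_fixed_sub Q L hL u₀ ((hfix u₀).mp hu₀K), smul_zero]
  have h5 : Q ((L - 1) x + a • u₀) = Q ((L - 1) x) + Q (a • u₀) + polar Q ((L - 1) x) (a • u₀) := by
    unfold polar
    ring
  rw [h5, hQr, hpol, QuadraticMap.map_smul, smul_eq_mul]
  ring

end abs

end Cfsg.Agent.Lib.Helper20.OddC
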