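import Mathlib
import Cfsg.Agent.Lib.Helper6.OmegaOdd
import Cfsg.Agent.Lib.Helper20.OUChar
import Cfsg.Agent.Lib.Helper20.OddC9
import Cfsg.Agent.Lib.Helper20.OddC11
import Cfsg.Agent.Lib.Helper20.OddC12

/-!
# Unipotent isometries of Jordan type `(3, 1, 2^(d-2))`: all invariant nondegenerate subspaces
of a given odd dimension have the same class
-/

set_option autoImplicit false
set_option linter.unusedSectionVars false
set_option linter.style.haveILetI false

namespace Cfsg.Agent.Lib.Helper20.OddC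

open Module Submodule QuadraticMap Cfsg.Agent.Lib.Helper15.PSpI Cfsg.Agent.Lib.Helper14.OrthEven
  Cfsg.Agent.Lib.Helper15.PSpJ Cfsg.Agent.Lib.Helper15.PDec Cfsg.Agent.Lib.Helper15.PSub
  Cfsg.Agent.Lib.Helper6.OrtS Cfsg.Agent.Lib.Helper14 Cfsg.Agent.Lib.Helper14.JType

universe u

/-- the Jordan type `(3, 1, 2^(d-2))` -/
def mu31 (d : ℕ) : Multiset ℕ := Multiset.replicate (d - 2) 2 + (3 ::ₘ ({1} : Multiset ℕ))

theorem mem_mu31 {d e : ℕ} (h : e ∈ mu31 d) : e = 1 ∨ e = 2 ∨ e = 3 := by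
  unfold mu31 at h
  rcases Multiset.mem_add.mp h with h | h
  · rw [Multiset.eq_of_mem_replicate h]
    exact Or.inr (Or.inl rfl)
  · rcases Multiset.mem_cons.mp h with h | h
    · exact Or.inr (Or.inr h)
    · exact Or.inl (Multiset.mem_singleton.mp h)

theorem mu31_sum (d : ℕ) (hd : 2 ≤ d) : (mu31 d).sum = 2 * d := by
  unfold mu31
  rw [Multiset.sum_add, Multiset.sum_replicate, Multiset.sum_cons, Multiset.sum_singleton,
    smul_eq_mul]
  omega

theorem mu31_count_one (d : ℕ) : (mu31 d).count 1 = 1 := by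
  unfold mu31
  rw [Multiset.count_add, Multiset.count_replicate, if_neg (by norm_num),
    Multiset.count_cons_of_ne (by norm_num), Multiset.count_singleton_self]

theorem mu31_count_three (d : ℕ) : (mu31 d).count 3 = 1 := by
  unfold mu31
  rw [Multiset.count_add, Multiset.count_replicate, if_neg (by norm_num),
    Multiset.count_cons_self, Multiset.count_singleton, if_neg (by norm_num)]

theorem mu31_count_two (d : ℕ) : (mu31 d).count 2 = d - 2 := by
  unfold mu31
  rw [Multiset.count_add, Multiset.count_replicate, if_pos rfl,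
    Multiset.count_cons_of_ne (by norm_num), Multiset.count_singleton, if_neg (by norm_num),
    add_zero]

theorem mu31_even (d : ℕ) (hd : Even d) (e : ℕ) (he : Even e) : Even ((mu31 d).count e) := by
  by_cases h2 : e = 2
  · subst h2
    rw [mu31_count_two]
    obtain ⟨k, hk⟩ := hd
    exact ⟨k - 1, by omega⟩
  · have : e ∉ mu31 d := by
      intro hmem
      rcases mem_mu31 hmem with rfl | rfl | rfl
      · exact absurd he (by decide)
      · exact h2 rfl
      · exact absurd he (by decide)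
    rw [Multiset.count_eq_zero_of_notMem this]
    exact Even.zero

theorem kappa_mu31_one (d : ℕ) (hd : 2 ≤ d) : kappa (mu31 d) 1 = d := by
  unfold kappa mu31
  rw [Multiset.map_add, Multiset.map_replicate, Multiset.sum_add, Multiset.sum_replicate,
    Multiset.map_cons, Multiset.map_singleton, Multiset.sum_cons, Multiset.sum_singleton,
    smul_eq_mul]
  norm_num
  omega

theorem kappa_mu31_two (d : ℕ) (hd : 2 ≤ d) : kappa (mu31 d) 2 + 1 = 2 * d := by
  unfold kappa mu31
  rw [Multiset.map_add, Multiset.map_replicate, Multiset.sum_add, Multiset.sum_replicate,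
    Multiset.map_cons, Multiset.map_singleton, Multiset.sum_cons, Multiset.sum_singleton,
    smul_eq_mul]
  norm_num
  omega

/-- the cardinality of a multiset with entries in `{1, 2, 3}` -/
theorem card_eq_of_mem_123 (ν : Multiset ℕ) (h : ∀ e ∈ ν, e = 1 ∨ e = 2 ∨ e = 3) :
    Multiset.card ν = ν.count 1 + ν.count 2 + ν.count 3 := by
  induction ν using Multiset.induction_on with
  | empty => simp
  | cons a s ih =>
    have h' : ∀ e ∈ s, e = 1 ∨ e = 2 ∨ e = 3 := fun e he => h e (Multiset.mem_cons_of_mem he)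
    rw [Multiset.card_cons, ih h']
    rcases h a (Multiset.mem_cons_self a s) with rfl | rfl | rfl
    · simp only [Multiset.count_cons_self]
      rw [Multiset.count_cons_of_ne (by norm_num), Multiset.count_cons_of_ne (by norm_num)]
      ring
    · simp only [Multiset.count_cons_self]
      rw [Multiset.count_cons_of_ne (by norm_num), Multiset.count_cons_of_ne (by norm_num)]
      ring
    · simp only [Multiset.count_cons_self]
      rw [Multiset.count_cons_of_ne (by norm_num), Multiset.count_cons_of_ne (by norm_num)]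
      ring

section conc

variable {F : Type u} [Field F] [Fintype F] {I : Type} [Fintype I] [DecidableEq I]
variable (Qs : QuadraticForm F (I → F))

/-- `y` is an isometry of `Qs` of Jordan type `(3, 1, 2^(d-2))` -/
def IsUnip31 (d : ℕ) (y : Matrix.GeneralLinearGroup I F) : Prop :=
  y ∈ Cfsg.isometryGroup F ⇑Qs ∧
    ∀ k, kd (Matrix.toLin' (y : Matrix I I F) - 1) k = kappa (mu31 d) k

variable {Qs}

theorem IsUnip31.iso {d : ℕ} {y : Matrix.GeneralLinearGroup I F} (hy : IsUnip31 Qs d y)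
    (v : I → F) : Qs (Matrix.toLin' (y : Matrix I I F) v) = Qs v := by
  rw [Matrix.toLin'_apply]
  exact (Cfsg.Agent.Lib.Helper6.OmegaAut.mem_isometryGroup_iff Qs y).mp hy.1 v

/-- invariant subspaces of dimension `≡ 1 (mod 4)` -/
theorem IsUnip31.typeA (h2 : (2 : F) ≠ 0) {d : ℕ} (hd : 2 ≤ d) (hcard : Fintype.card I = 2 * d)
    {y : Matrix.GeneralLinearGroup I F} (hy : IsUnip31 Qs d y)
    (W : Submodule F (I → F)) (hWn : NondegOn (polarBilin Qs) W)
    (hWinv : W.map (Matrix.toLin' (y : Matrix I I F)) ≤ W) (m : ℕ) (hWf : finrank F W = m)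
    (hm : m % 4 = 1) :
    ∃ u ∈ W, Matrix.toLin' (y : Matrix I I F) u = u ∧ Qs u ≠ 0 ∧ OddOn Qs W (chi (Qs u)) := by
  have hμ0 : (0 : ℕ) ∉ mu31 d := by
    intro h
    rcases mem_mu31 h with h | h | h <;> omega
  obtain ⟨ν, hνμ, hνsum, hνev, hrank, hpow⟩ := Cfsg.Agent.Lib.Helper20.OU.exists_sub_partition_pow
    h2 Qs y hy.1 (mu31 d) hμ0 (by rw [mu31_sum d hd, hcard]) hy.2 W
    ((isNondegenerateOn_iff Qs W).mpr hWn) hWinv
  have hmem : ∀ e ∈ ν, e = 1 ∨ e = 2 ∨ e = 3 := fun e he => mem_mu31 (Multiset.mem_of_le hνμ he)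
  have hs := sum_eq_of_mem_123 ν hmem
  have hc := card_eq_of_mem_123 ν hmem
  have h1 : ν.count 1 ≤ 1 := by
    have := Multiset.count_le_of_le 1 hνμ
    rw [mu31_count_one] at this
    exact this
  have h3 : ν.count 3 ≤ 1 := by
    have := Multiset.count_le_of_le 3 hνμ
    rw [mu31_count_three] at this
    exact this
  obtain ⟨k, hk⟩ := hνev 2 even_two
  rw [hWf] at hνsum hrank
  have h30 : ν.count 3 = 0 := by omega
  have h11 : ν.count 1 = 1 := by omega
  have h3mem : 3 ∉ ν := Multiset.count_eq_zero.mp h30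
  have hle2 : ∀ b ∈ ν, b ≤ 2 := by
    intro b hb
    rcases hmem b hb with rfl | rfl | rfl
    · norm_num
    · norm_num
    · exact absurd hb h3mem
  have hN2 := hpow 2 hle2
  have hNa : ∀ v, (Matrix.toLin' (y : Matrix I I F) - 1) v =
      Matrix.toLin' (y : Matrix I I F) v - v := fun v => by
    rw [LinearMap.sub_apply, Module.End.one_apply]
  refine class_of_typeA Qs h2 (Matrix.toLin' (y : Matrix I I F)) hy.iso W hWn
    (fun w hw => hWinv ⟨w, hw, rfl⟩) ?_ (2 * k) (by rw [hWf]; omega) (by omega)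
  intro w hw
  have h5 := hN2 w hw
  rw [pow_two, Module.End.mul_apply, hNa, hNa] at h5
  exact sub_eq_zero.mp h5

/-- the nonsingular fixed vectors all have the same square class -/
theorem IsUnip31.fixed (h2 : (2 : F) ≠ 0) {d : ℕ} (hd : 2 ≤ d)
    {y : Matrix.GeneralLinearGroup I F} (hy : IsUnip31 Qs d y) :
    ∃ η₁ : ℤ, ∀ v, Matrix.toLin' (y : Matrix I I F) v = v → Qs v ≠ 0 → chi (Qs v) = η₁ := by
  have hk1 : finrank F (LinearMap.ker (Matrix.toLin' (y : Matrix I I F) - 1)) = d := by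
    have := hy.2 1
    unfold kd at this
    rw [pow_one, kappa_mu31_one d hd] at this
    exact this
  have hk2 : finrank F (LinearMap.ker ((Matrix.toLin' (y : Matrix I I F) - 1) ^ 2)) + 1 =
      2 * d := by
    have := hy.2 2
    unfold kd at this
    rw [this]
    exact kappa_mu31_two d hd
  obtain ⟨u₀, -, hu₀⟩ := fixed_values Qs h2 (Matrix.toLin' (y : Matrix I I F)) hy.iso d hk1 hk2
  refine ⟨chi (Qs u₀), ?_⟩
  intro v hv hQv
  obtain ⟨c, hc⟩ := hu₀ v hv
  have hc0 : c ≠ 0 := by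
    rintro rfl
    rw [zero_mul, zero_mul] at hc
    exact hQv hc
  rw [hc, chi_sq_mul c (Qs u₀) hc0]

/-- invariant nondegenerate subspaces of the same dimension `≡ 1 (mod 4)` have the same class -/
theorem IsUnip31.same_class_one (h2 : (2 : F) ≠ 0) {d : ℕ} (hd : 2 ≤ d)
    (hcard : Fintype.card I = 2 * d)
    {y : Matrix.GeneralLinearGroup I F} (hy : IsUnip31 Qs d y)
    (W₁ W₂ : Submodule F (I → F)) (hn₁ : NondegOn (polarBilin Qs) W₁)
    (hn₂ : NondegOn (polarBilin Qs) W₂)
    (hi₁ : W₁.map (Matrix.toLin' (y : Matrix I I F)) ≤ W₁)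
    (hi₂ : W₂.map (Matrix.toLin' (y : Matrix I I F)) ≤ W₂)
    (hm₁ : finrank F W₁ % 4 = 1) (hm₂ : finrank F W₂ % 4 = 1) {η₁ η₂ : ℤ}
    (hs₁ : OddOn Qs W₁ η₁) (hs₂ : OddOn Qs W₂ η₂) : η₁ = η₂ := by
  obtain ⟨η, hη⟩ := hy.fixed h2 hd
  obtain ⟨u₁, -, hu₁, hQ₁, hc₁⟩ := hy.typeA h2 hd hcard W₁ hn₁ hi₁ _ rfl hm₁
  obtain ⟨u₂, -, hu₂, hQ₂, hc₂⟩ := hy.typeA h2 hd hcard W₂ hn₂ hi₂ _ rfl hm₂
  rw [hη u₁ hu₁ hQ₁] at hc₁
  rw [hη u₂ hu₂ hQ₂] at hc₂
  rw [OddOn.unique Qs hs₁ hc₁, OddOn.unique Qs hs₂ hc₂]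

end conc

end Cfsg.Agent.Lib.Helper20.OddC
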