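import Mathlib
import Cfsg.Agent.Lib.Helper20.OddC13

/-!
# Unipotent isometries of Jordan type `(3, 1, 2^(d-2))`, `d` even: the class of the invariant
subspaces of a given odd dimension is constant; conjugation by similitudes
-/

set_option autoImplicit false
set_option linter.unusedSectionVars false
set_option linter.style.haveILetI false

namespace Cfsg.Agent.Lib.Helper20.OddC

open Module Submodule QuadraticMap Cfsg.Agent.Lib.Helper15.PSpI Cfsg.Agent.Lib.Helper14.OrthEven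
  Cfsg.Agent.Lib.Helper15.PSpJ Cfsg.Agent.Lib.Helper15.PDec Cfsg.Agent.Lib.Helper15.PSub
  Cfsg.Agent.Lib.Helper6.OrtS Cfsg.Agent.Lib.Helper14 Cfsg.Agent.Lib.Helper14.JType

universe u

section scale

variable {F : Type u} [Field F] [Fintype F]

/-- the sign of an even-dimensional form does not change under scaling -/
theorem HasSign.scale {V : Type*} {Q Q' : V → F} {n : ℕ} {ε : ℤ} (h : HasSign Q n ε) (l : F)
    (hl : l ≠ 0) (hQ : ∀ v, Q' v = l * Q v) : HasSign Q' n ε := by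
  intro c
  have h1 : cnt Q' c = cnt Q (l⁻¹ * c) := by
    unfold cnt
    congr 1
    apply Nat.card_congr
    apply Equiv.subtypeEquivRight
    intro v
    rw [hQ]
    constructor
    · intro hv
      rw [← hv, ← mul_assoc, inv_mul_cancel₀ hl, one_mul]
    · intro hv
      rw [hv, ← mul_assoc, mul_inv_cancel₀ hl, one_mul]
  rw [h1, h (l⁻¹ * c)]
  have h3 : (l⁻¹ * c = 0) ↔ c = 0 := by
    constructor
    · intro h0
      rcases mul_eq_zero.mp h0 with h' | h'
      · exact absurd h' (inv_ne_zero hl)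
      · exact h'
    · rintro rfl
      rw [mul_zero]
  by_cases hc : c = 0
  · rw [if_pos hc, if_pos (h3.mpr hc)]
  · rw [if_neg hc, if_neg (fun h' => hc (h3.mp h'))]

end scale

section kdconj

variable {F : Type u} [Field F] {V : Type*} [AddCommGroup V] [Module F V]

/-- conjugation of an endomorphism by a linear equivalence -/
def cj (φ : V ≃ₗ[F] V) (A : V →ₗ[F] V) : V →ₗ[F] V :=
  φ.toLinearMap ∘ₗ A ∘ₗ φ.symm.toLinearMap

theorem cj_apply (φ : V ≃ₗ[F] V) (A : V →ₗ[F] V) (v : V) : cj φ A v = φ (A (φ.symm v)) := rfl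

theorem cj_one (φ : V ≃ₗ[F] V) : cj φ (1 : V →ₗ[F] V) = 1 := by
  apply LinearMap.ext
  intro v
  rw [cj_apply, Module.End.one_apply, Module.End.one_apply, LinearEquiv.apply_symm_apply]

theorem cj_mul (φ : V ≃ₗ[F] V) (A B : V →ₗ[F] V) : cj φ (A * B) = cj φ A * cj φ B := by
  apply LinearMap.ext
  intro v
  rw [cj_apply, Module.End.mul_apply, Module.End.mul_apply, cj_apply, cj_apply,
    LinearEquiv.symm_apply_apply]

theorem cj_sub (φ : V ≃ₗ[F] V) (A B : V →ₗ[F] V) : cj φ (A - B) = cj φ A - cj φ B := by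
  apply LinearMap.ext
  intro v
  rw [cj_apply, LinearMap.sub_apply, LinearMap.sub_apply, map_sub, cj_apply, cj_apply]

theorem cj_pow (φ : V ≃ₗ[F] V) (A : V →ₗ[F] V) (k : ℕ) : cj φ (A ^ k) = cj φ A ^ k := by
  induction k with
  | zero => rw [pow_zero, pow_zero, cj_one]
  | succ k ih => rw [pow_succ, pow_succ, cj_mul, ih]

theorem ker_cj (φ : V ≃ₗ[F] V) (A : V →ₗ[F] V) :
    LinearMap.ker (cj φ A) = (LinearMap.ker A).map φ.toLinearMap := by
  ext v
  rw [LinearMap.mem_ker, cj_apply, Submodule.mem_map]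
  constructor
  · intro h
    refine ⟨φ.symm v, ?_, φ.apply_symm_apply v⟩
    rw [LinearMap.mem_ker]
    have := congrArg φ.symm h
    rw [LinearEquiv.symm_apply_apply, map_zero] at this
    exact this
  · rintro ⟨w, hw, rfl⟩
    rw [LinearMap.mem_ker] at hw
    show φ (A (φ.symm (φ w))) = 0
    rw [LinearEquiv.symm_apply_apply, hw, map_zero]

theorem kd_cj (φ : V ≃ₗ[F] V) (A : V →ₗ[F] V) (k : ℕ) : kd (cj φ A) k = kd A k := by
  unfold kd
  rw [← cj_pow, ker_cj]
  exact LinearEquiv.finrank_map_eq φ _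

end kdconj

section conc

variable {F : Type u} [Field F] [Fintype F] {I : Type} [Fintype I] [DecidableEq I]
variable {Qs : QuadraticForm F (I → F)}

/-- the linear map of an invertible matrix is injective -/
theorem toLin'_GL_injective (y : Matrix.GeneralLinearGroup I F) :
    Function.Injective (Matrix.toLin' (y : Matrix I I F)) := by
  have hLiL : ∀ v, Matrix.toLin' ((y⁻¹ : Matrix.GeneralLinearGroup I F) : Matrix I I F)
      (Matrix.toLin' (y : Matrix I I F) v) = v := by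
    intro v
    rw [← LinearMap.comp_apply, ← Matrix.toLin'_mul, ← Units.val_mul, inv_mul_cancel,
      Units.val_one, Matrix.toLin'_one, LinearMap.id_apply]
  exact Function.LeftInverse.injective hLiL

/-- the orthogonal complement of an invariant subspace is invariant -/
theorem perp_invariant {L : (I → F) →ₗ[F] (I → F)} (hL : ∀ v, Qs (L v) = Qs v)
    (hinj : Function.Injective L) (W : Submodule F (I → F)) (hWinv : W.map L ≤ W) :
    (perpIn (polarBilin Qs) ⊤ W).map L ≤ perpIn (polarBilin Qs) ⊤ W := by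
  have hmapeq : W.map L = W := by
    apply Submodule.eq_of_le_of_finrank_eq hWinv
    exact (Submodule.equivMapOfInjective L hinj W).symm.finrank_eq
  rintro _ ⟨t, ht, rfl⟩
  refine mem_perpIn.mpr ⟨mem_top, ?_⟩
  intro w hw
  rw [← hmapeq] at hw
  obtain ⟨w', hw', rfl⟩ := hw
  rw [iso_of_Q Qs L hL]
  exact (mem_perpIn.mp ht).2 w' hw'

/-- **all invariant nondegenerate subspaces of a given odd dimension have the same class** -/
theorem IsUnip31.same_class (h2 : (2 : F) ≠ 0) {d : ℕ} (hd : 2 ≤ d) (hde : Even d)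
    (hcard : Fintype.card I = 2 * d) (hQ : (polarBilin Qs).Nondegenerate)
    {y : Matrix.GeneralLinearGroup I F} (hy : IsUnip31 Qs d y)
    (W₁ W₂ : Submodule F (I → F)) (hn₁ : NondegOn (polarBilin Qs) W₁)
    (hn₂ : NondegOn (polarBilin Qs) W₂)
    (hi₁ : W₁.map (Matrix.toLin' (y : Matrix I I F)) ≤ W₁)
    (hi₂ : W₂.map (Matrix.toLin' (y : Matrix I I F)) ≤ W₂)
    (m : ℕ) (hm : Odd m) (hf₁ : finrank F W₁ = m) (hf₂ : finrank F W₂ = m) {η₁ η₂ : ℤ}
    (hs₁ : OddOn Qs W₁ η₁) (hs₂ : OddOn Qs W₂ η₂) : η₁ = η₂ := by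
  have hS := pB_symm Qs
  have hQt := nondegOn_top_of Qs hQ
  have hfr : finrank F (I → F) = 2 * d := by rw [Module.finrank_fintype_fun_eq_card, hcard]
  obtain ⟨a, ha⟩ := hm
  obtain ⟨d', hd'⟩ := hde
  rcases Nat.even_or_odd a with hae | hao
  · -- `m ≡ 1 (mod 4)`
    obtain ⟨a', ha'⟩ := hae
    exact hy.same_class_one h2 hd hcard W₁ W₂ hn₁ hn₂ hi₁ hi₂ (by rw [hf₁]; omega)
      (by rw [hf₂]; omega) hs₁ hs₂
  · -- `m ≡ 3 (mod 4)`: pass to the orthogonal complements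
    obtain ⟨a', ha'⟩ := hao
    have hLiso := hy.iso
    have hinj := toLin'_GL_injective y
    have hP₁n := nondegOn_perpIn' hS (le_top : W₁ ≤ ⊤) hn₁ hQt
    have hP₂n := nondegOn_perpIn' hS (le_top : W₂ ≤ ⊤) hn₂ hQt
    have hP₁f := finrank_perpIn' hS (le_top : W₁ ≤ ⊤) hn₁
    have hP₂f := finrank_perpIn' hS (le_top : W₂ ≤ ⊤) hn₂
    rw [finrank_top, hfr, hf₁] at hP₁f
    rw [finrank_top, hfr, hf₂] at hP₂f
    have hP₁i := perp_invariant hLiso hinj W₁ hi₁
    have hP₂i := perp_invariant hLiso hinj W₂ hi₂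
    have hoddP : Odd (2 * d - m) := ⟨d - a - 1, by omega⟩
    have hc₁ : ∃ η : ℤ, (η = 1 ∨ η = -1) ∧ OddOn Qs (perpIn (polarBilin Qs) ⊤ W₁) η := by
      rcases oddOn_cases Qs h2 hP₁n (by
        rw [show finrank F ↥(perpIn (polarBilin Qs) ⊤ W₁) = 2 * d - m by omega]
        exact hoddP) with h | h
      · exact ⟨1, Or.inl rfl, h⟩
      · exact ⟨-1, Or.inr rfl, h⟩
    have hc₂ : ∃ η : ℤ, (η = 1 ∨ η = -1) ∧ OddOn Qs (perpIn (polarBilin Qs) ⊤ W₂) η := by
      rcases oddOn_cases Qs h2 hP₂n (by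
        rw [show finrank F ↥(perpIn (polarBilin Qs) ⊤ W₂) = 2 * d - m by omega]
        exact hoddP) with h | h
      · exact ⟨1, Or.inl rfl, h⟩
      · exact ⟨-1, Or.inr rfl, h⟩
    obtain ⟨η', hη', hs'⟩ := hc₁
    obtain ⟨η'', -, hs''⟩ := hc₂
    have heq : η' = η'' := hy.same_class_one h2 hd hcard _ _ hP₁n hP₂n hP₁i hP₂i
      (by omega) (by omega) hs' hs''
    rw [← heq] at hs''
    obtain ⟨g, hgQ, -, hgP⟩ := exists_isometry_fixing_odd Qs h2 hQt ⊥
      (perpIn (polarBilin Qs) ⊤ W₁) (perpIn (polarBilin Qs) ⊤ W₂) hP₁n hP₂n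
      (fun u _ v hv => by rw [(mem_bot F).mp hv, map_zero])
      (fun u _ v hv => by rw [(mem_bot F).mp hv, map_zero])
      (2 * d - m) hoddP (by omega) (by omega) hη' hs' hs''
    -- `g` maps `W₁` onto `W₂`
    have hW₂le : W₂ ≤ perpIn (polarBilin Qs) ⊤ (perpIn (polarBilin Qs) ⊤ W₂) := by
      intro w hw
      refine mem_perpIn.mpr ⟨mem_top, ?_⟩
      intro t ht
      rw [hS]
      exact (mem_perpIn.mp ht).2 w hw
    have hPPf := finrank_perpIn' hS (le_top : perpIn (polarBilin Qs) ⊤ W₂ ≤ ⊤) hP₂n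
    rw [finrank_top, hfr] at hPPf
    have hW₂eq : W₂ = perpIn (polarBilin Qs) ⊤ (perpIn (polarBilin Qs) ⊤ W₂) :=
      Submodule.eq_of_le_of_finrank_eq hW₂le (by omega)
    have hgW₁le : W₁.map g.toLinearMap ≤
        perpIn (polarBilin Qs) ⊤ (perpIn (polarBilin Qs) ⊤ W₂) := by
      rintro _ ⟨w, hw, rfl⟩
      refine mem_perpIn.mpr ⟨mem_top, ?_⟩
      intro t ht
      rw [← hgP] at ht
      obtain ⟨s, hs, rfl⟩ := ht
      show polarBilin Qs (g s) (g w) = 0
      have h5 := iso_of_Q Qs g.toLinearMap hgQ s w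
      rw [LinearEquiv.coe_coe] at h5
      rw [h5, hS]
      exact (mem_perpIn.mp hs).2 w hw
    have hgW₁f : finrank F ↥(W₁.map g.toLinearMap) = m := by
      rw [LinearEquiv.finrank_map_eq g W₁, hf₁]
    have hgW₁ : W₁.map g.toLinearMap = W₂ := by
      rw [hW₂eq]
      exact Submodule.eq_of_le_of_finrank_eq hgW₁le (by omega)
    let φ : W₁ ≃ₗ[F] W₂ := (g.submoduleMap W₁).trans (LinearEquiv.ofEq _ _ hgW₁)
    have hφ : ∀ w : W₁, Qs ((φ w : W₂) : I → F) = Qs (w : I → F) := by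
      intro w
      show Qs (g (w : I → F)) = Qs (w : I → F)
      exact hgQ w
    exact OddOn.unique Qs (oddOn_of_isometric Qs φ hφ hs₁) hs₂

/-- membership in `Ω`, order and non-scalarity -/
theorem IsUnip31.props (p : ℕ) [hp : Fact p.Prime] [CharP F p] (hp3 : 3 ≤ p) {d : ℕ}
    (hd : 3 ≤ d) (hcard : Fintype.card I = 2 * d) (hQ : (polarBilin Qs).Nondegenerate)
    {y : Matrix.GeneralLinearGroup I F} (hy : IsUnip31 Qs d y) :
    y ∈ Cfsg.Geo.omegaGL ⇑Qs ∧ y ^ p = 1 ∧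
      ∀ z : F, (y : Matrix I I F) ≠ z • (1 : Matrix I I F) := by
  have hne : Nonempty I := by
    rw [← Fintype.card_pos_iff, hcard]
    omega
  have hfin : finrank F (I → F) = (mu31 d).sum := by
    rw [mu31_sum d (by omega), Module.finrank_fintype_fun_eq_card, hcard]
  have hNp : (Matrix.toLin' (y : Matrix I I F) - 1) ^ p = 0 :=
    Cfsg.Agent.Lib.Helper20.OU.pow_eq_zero_of_kd _ (mu31 d) hfin hy.2 p (fun b hb => by
      rcases mem_mu31 hb with rfl | rfl | rfl <;> omega)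
  have hyp : y ^ p = 1 := Cfsg.Agent.Lib.Helper20.OU.pow_char_eq_one p y hNp
  have h3mem : 3 ∈ mu31 d := by
    unfold mu31
    exact Multiset.mem_add.mpr (Or.inr (Multiset.mem_cons_self 3 _))
  have hns := Cfsg.Agent.Lib.Helper20.OU.not_scalar_of_kd y (mu31 d) hy.2 ⟨p, hNp⟩
    ⟨3, h3mem, by norm_num⟩
  refine ⟨?_, hyp, hns⟩
  have hodd : Odd p := hp.out.odd_of_ne_two (by omega)
  have hgΩ : (⟨y, hy.1⟩ : ↥(Cfsg.isometryGroup F ⇑Qs)) ∈ Cfsg.Omega F ⇑Qs :=
    Cfsg.Agent.Lib.Helper6.mem_Omega_of_pow_odd' Qs hQ (by rw [hcard]; omega)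
      (Or.inr (by rw [hcard]; omega)) ⟨y, hy.1⟩ p hodd (Subtype.ext hyp)
  exact Subgroup.mem_map.mpr ⟨⟨y, hy.1⟩, hgΩ, rfl⟩

/-- conjugation by a similitude -/
theorem IsUnip31.conj {d : ℕ} {y : Matrix.GeneralLinearGroup I F} (hy : IsUnip31 Qs d y)
    (φ : (I → F) ≃ₗ[F] (I → F)) (l : F) (hφ : ∀ v, Qs (φ v) = l * Qs v) :
    ∃ y' : Matrix.GeneralLinearGroup I F, IsUnip31 Qs d y' ∧
      ∀ v, Matrix.toLin' (y' : Matrix I I F) v =
        φ (Matrix.toLin' (y : Matrix I I F) (φ.symm v)) := by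
  obtain ⟨L, hLdef⟩ : ∃ L : (I → F) →ₗ[F] (I → F), L = Matrix.toLin' (y : Matrix I I F) :=
    ⟨_, rfl⟩
  obtain ⟨L', hL'def⟩ : ∃ L' : (I → F) →ₗ[F] (I → F),
      L' = Matrix.toLin' ((y⁻¹ : Matrix.GeneralLinearGroup I F) : Matrix I I F) := ⟨_, rfl⟩
  have hLL' : L * L' = 1 := by
    rw [hLdef, hL'def]
    apply LinearMap.ext
    intro v
    rw [Module.End.mul_apply, ← LinearMap.comp_apply, ← Matrix.toLin'_mul, ← Units.val_mul,
      mul_inv_cancel, Units.val_one, Matrix.toLin'_one]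
    rfl
  have hL'L : L' * L = 1 := by
    rw [hLdef, hL'def]
    apply LinearMap.ext
    intro v
    rw [Module.End.mul_apply, ← LinearMap.comp_apply, ← Matrix.toLin'_mul, ← Units.val_mul,
      inv_mul_cancel, Units.val_one, Matrix.toLin'_one]
    rfl
  have h1 : LinearMap.toMatrix' (cj φ L) * LinearMap.toMatrix' (cj φ L') = 1 := by
    rw [← LinearMap.toMatrix'_mul, ← cj_mul, hLL', cj_one]
    exact LinearMap.toMatrix'_one
  have h1' : LinearMap.toMatrix' (cj φ L') * LinearMap.toMatrix' (cj φ L) = 1 := by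
    rw [← LinearMap.toMatrix'_mul, ← cj_mul, hL'L, cj_one]
    exact LinearMap.toMatrix'_one
  let y' : Matrix.GeneralLinearGroup I F :=
    ⟨LinearMap.toMatrix' (cj φ L), LinearMap.toMatrix' (cj φ L'), h1, h1'⟩
  have hy'L : Matrix.toLin' (y' : Matrix I I F) = cj φ L := Matrix.toLin'_toMatrix' _
  refine ⟨y', ⟨?_, ?_⟩, ?_⟩
  · rw [Cfsg.Agent.Lib.Helper6.OmegaAut.mem_isometryGroup_iff]
    intro v
    rw [← Matrix.toLin'_apply, hy'L, cj_apply, hφ, hLdef, hy.iso, ← hφ,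
      LinearEquiv.apply_symm_apply]
  · intro k
    rw [hy'L, ← cj_one φ, ← cj_sub, kd_cj, hLdef]
    exact hy.2 k
  · intro v
    rw [hy'L, cj_apply, hLdef]

end conc

end Cfsg.Agent.Lib.Helper20.OddC
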