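import Mathlib
import Cfsg.Agent.Lib.Helper21.OrtM1
import Cfsg.Agent.Lib.Helper20.OUMinus
import Cfsg.Agent.Lib.Helper20.OddC14

/-!
# `Ω⁻_{2d}(q)`, `q` odd: an element of order `p` fixing no nondegenerate subspace of a given odd
dimension and class
-/

set_option autoImplicit false
set_option linter.unusedSectionVars false
set_option linter.style.haveILetI false

namespace Cfsg.Agent.Lib.Helper20.OddC

open Module Submodule QuadraticMap Cfsg.Agent.Lib.Helper15.PSpI Cfsg.Agent.Lib.Helper14.OrthEven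
  Cfsg.Agent.Lib.Helper15.PSpJ Cfsg.Agent.Lib.Helper15.PDec Cfsg.Agent.Lib.Helper15.PSub
  Cfsg.Agent.Lib.Helper6.OrtS Cfsg.Agent.Lib.Helper14 Cfsg.Agent.Lib.Helper14.JType
  Cfsg.Agent.Lib.Helper15 Cfsg.Agent.Lib.Helper21.OrtM

universe u

variable {F : Type u} [Field F] [Fintype F]

omit [Fintype F] in
theorem nondegenerate_of_sepLeft {V : Type*} [AddCommGroup V] [Module F V]
    (Q : QuadraticForm F V) (h : ∀ x, (∀ y, polar Q x y = 0) → x = 0) :
    (polarBilin Q).Nondegenerate := by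
  have hl : (polarBilin Q).SeparatingLeft := by
    intro x hx
    exact h x (fun y => hx y)
  refine ⟨hl, ?_⟩
  intro y hy
  apply hl
  intro x
  rw [pB_symm]
  exact hy x

omit [Fintype F] in
theorem QMinus_eq_minusQF (k : ℕ) (a b : F) :
    QMinus F k a b = Cfsg.Agent.Lib.Helper20.OU.minusQF k F a b := by
  apply DFunLike.coe_injective
  rw [coe_QMinus, Cfsg.Agent.Lib.Helper20.OU.coe_minusQF]

/-- similitudes of the minus form with any nonzero multiplier -/
theorem exists_similitude_minus (k : ℕ) (a b : F)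
    (hab : ∀ x y : F, x ^ 2 + a * x * y + b * y ^ 2 = 0 → x = 0 ∧ y = 0) (l : F) (hl : l ≠ 0) :
    ∃ φ : ((Fin k ⊕ Fin k) ⊕ Fin 2 → F) ≃ₗ[F] ((Fin k ⊕ Fin k) ⊕ Fin 2 → F),
      ∀ v, QMinus F k a b (φ v) = l * QMinus F k a b v := by
  have hQ := nondegenerate_QMinus (F := F) k a b hab
  have hfr : finrank F ((Fin k ⊕ Fin k) ⊕ Fin 2 → F) = 2 * (k + 1) := by
    rw [Module.finrank_fintype_fun_eq_card]
    simp
    ring
  have hs : HasSign (⇑(QMinus F k a b)) (k + 1) (-1) := by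
    rw [coe_QMinus]
    exact hasSign_minus k a b hab
  have hs' : HasSign (⇑(l • QMinus F k a b)) (k + 1) (-1) :=
    HasSign.scale hs l hl (fun v => by rw [_root_.smul_apply, smul_eq_mul])
  have hQ' : (polarBilin (l • QMinus F k a b)).Nondegenerate := by
    apply nondegenerate_of_sepLeft
    intro x hx
    apply hQ.1 x
    intro y
    have h0 := hx y
    have h1 : l * polar (QMinus F k a b) x y = 0 := by
      unfold polar at h0 ⊢
      rw [_root_.smul_apply, _root_.smul_apply, _root_.smul_apply, smul_eq_mul, smul_eq_mul,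
        smul_eq_mul] at h0
      linear_combination h0
    rcases mul_eq_zero.mp h1 with h | h
    · exact absurd h hl
    · exact h
  obtain ⟨φ, hφ⟩ := exists_iso_of_sign (l • QMinus F k a b) (QMinus F k a b) hQ' hQ (k + 1)
    (by omega) hfr hfr hs' hs
  refine ⟨φ, fun v => ?_⟩
  rw [hφ, _root_.smul_apply, smul_eq_mul]

/-- A unipotent element of `Ω⁻_{2d}(q)` of prescribed Jordan type `μ` with an odd part, together
with the restriction on its invariant nondegenerate subspaces. -/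
theorem exists_unip_minus (h2 : (2 : F) ≠ 0) (p : ℕ) [Fact p.Prime] [CharP F p] (a b : F)
    (hab : ∀ x y : F, x ^ 2 + a * x * y + b * y ^ 2 = 0 → x = 0 ∧ y = 0) (k : ℕ)
    (μ : Multiset ℕ) (hμ : ∀ e ∈ μ, 0 < e ∧ e ≤ p) (hμev : ∀ e : ℕ, Even e → Even (μ.count e))
    (hsum : μ.sum = 2 * k + 2) (hodd : ∃ b ∈ μ, Odd b) (hbig : ∃ b ∈ μ, 1 < b) :
    ∃ y : Matrix.GeneralLinearGroup ((Fin k ⊕ Fin k) ⊕ Fin 2) F,
      y ∈ Cfsg.Geo.omegaGL (Cfsg.quadFormMinus k F a b) ∧ y ^ p = 1 ∧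
      (∀ z : F, (y : Matrix ((Fin k ⊕ Fin k) ⊕ Fin 2) ((Fin k ⊕ Fin k) ⊕ Fin 2) F) ≠
        z • (1 : Matrix ((Fin k ⊕ Fin k) ⊕ Fin 2) ((Fin k ⊕ Fin k) ⊕ Fin 2) F)) ∧
      ∀ W : Submodule F ((Fin k ⊕ Fin k) ⊕ Fin 2 → F),
        Cfsg.Geo.IsNondegenerateOn (QuadraticMap.polar (Cfsg.quadFormMinus k F a b)) W →
        W.map (Matrix.toLin'
          (y : Matrix ((Fin k ⊕ Fin k) ⊕ Fin 2) ((Fin k ⊕ Fin k) ⊕ Fin 2) F)) ≤ W →
        ∃ ν : Multiset ℕ, ν ≤ μ ∧ ν.sum = finrank F W ∧ ∀ e : ℕ, Even e → Even (ν.count e) := by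
  classical
  obtain ⟨b₀, hb₀, hb₀1⟩ := hbig
  obtain ⟨y, hyΩ, hk⟩ := Cfsg.Agent.Lib.Helper20.OU.exists_unipotent_minus h2 a b hab k μ
    (fun e he => (hμ e he).1) hμev hsum hodd
  have hne : Nonempty ((Fin k ⊕ Fin k) ⊕ Fin 2) := ⟨Sum.inr 0⟩
  have hcardI : Fintype.card ((Fin k ⊕ Fin k) ⊕ Fin 2) = 2 * k + 2 := by
    simp
    ring
  have hfin : Module.finrank F ((Fin k ⊕ Fin k) ⊕ Fin 2 → F) = μ.sum := by
    rw [hsum, Module.finrank_fintype_fun_eq_card, hcardI]
  have hNp : (Matrix.toLin'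
      (y : Matrix ((Fin k ⊕ Fin k) ⊕ Fin 2) ((Fin k ⊕ Fin k) ⊕ Fin 2) F) - 1) ^ p = 0 :=
    Cfsg.Agent.Lib.Helper20.OU.pow_eq_zero_of_kd _ μ hfin hk p (fun b hb => (hμ b hb).2)
  have hyp : y ^ p = 1 := Cfsg.Agent.Lib.Helper20.OU.pow_char_eq_one p y hNp
  have hns := Cfsg.Agent.Lib.Helper20.OU.not_scalar_of_kd y μ hk ⟨p, hNp⟩ ⟨b₀, hb₀, hb₀1⟩
  refine ⟨y, hyΩ, hyp, hns, ?_⟩
  intro W hWnd hWinv
  have hyiso : y ∈ Cfsg.isometryGroup F ⇑(Cfsg.Agent.Lib.Helper20.OU.minusQF k F a b) := by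
    rw [Cfsg.Agent.Lib.Helper20.OU.coe_minusQF]
    obtain ⟨x, -, rfl⟩ := Subgroup.mem_map.1 hyΩ
    exact x.2
  have hμ0 : (0 : ℕ) ∉ μ := fun h0 => absurd (hμ 0 h0).1 (lt_irrefl 0)
  exact Cfsg.Agent.Lib.Helper20.OU.exists_sub_partition h2
    (Cfsg.Agent.Lib.Helper20.OU.minusQF k F a b) y hyiso μ hμ0 (by rw [hsum, hcardI]) hk W
    (by rw [Cfsg.Agent.Lib.Helper20.OU.coe_minusQF]; exact hWnd) hWinv

/-- **`r = p` odd, odd `m`, minus type**: an element of order `p` of `Ω⁻_{2d}(q)` fixing no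
nondegenerate `m`-space of class `η`. -/
theorem exists_derangement_p_odd_minus (h2 : (2 : F) ≠ 0) (p : ℕ) [hp : Fact p.Prime]
    [CharP F p] (a b : F)
    (hab : ∀ x y : F, x ^ 2 + a * x * y + b * y ^ 2 = 0 → x = 0 ∧ y = 0)
    (d : ℕ) (hd : 4 ≤ d) (m : ℕ) (hm : Odd m) (_hmd : m < d) (η : ℤ) (hη : η = 1 ∨ η = -1) :
    ∃ y : Matrix.GeneralLinearGroup ((Fin (d - 1) ⊕ Fin (d - 1)) ⊕ Fin 2) F,
      y ∈ Cfsg.Geo.omegaGL (Cfsg.quadFormMinus (d - 1) F a b) ∧ y ^ p = 1 ∧
      (∀ z : F, (y : Matrix ((Fin (d - 1) ⊕ Fin (d - 1)) ⊕ Fin 2)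
          ((Fin (d - 1) ⊕ Fin (d - 1)) ⊕ Fin 2) F) ≠
        z • (1 : Matrix ((Fin (d - 1) ⊕ Fin (d - 1)) ⊕ Fin 2)
          ((Fin (d - 1) ⊕ Fin (d - 1)) ⊕ Fin 2) F)) ∧
      ∀ W : Submodule F ((Fin (d - 1) ⊕ Fin (d - 1)) ⊕ Fin 2 → F),
        W ∈ OSet (QMinus F (d - 1) a b) m η →
        ¬ W.map (Matrix.toLin' (y : Matrix ((Fin (d - 1) ⊕ Fin (d - 1)) ⊕ Fin 2)
          ((Fin (d - 1) ⊕ Fin (d - 1)) ⊕ Fin 2) F)) ≤ W := by
  classical
  have hp3 : 3 ≤ p := by
    have h2le := hp.out.two_le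
    rcases Nat.lt_or_ge 2 p with h | h
    · exact h
    · exfalso
      have hp2 : p = 2 := by omega
      apply h2
      have h1 : ((2 : ℕ) : F) = 0 := by
        rw [CharP.cast_eq_zero_iff F p 2, hp2]
      rw [Nat.cast_ofNat] at h1
      exact h1
  have hcoe := coe_QMinus (F := F) (d - 1) a b
  have hQ := nondegenerate_QMinus (F := F) (d - 1) a b hab
  have hcardI : Fintype.card ((Fin (d - 1) ⊕ Fin (d - 1)) ⊕ Fin 2) = 2 * d := by
    simp
    omega
  have hsumd : 2 * (d - 1) + 2 = 2 * d := by omega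
  -- the Jordan types with no admissible sub-multiset of sum `m`
  have key : ∀ μ : Multiset ℕ, (∀ e ∈ μ, e = 1 ∨ e = 2 ∨ e = 3) →
      (∀ e : ℕ, Even e → Even (μ.count e)) → μ.sum = 2 * d → (∃ b ∈ μ, Odd b) →
      (∃ b ∈ μ, 1 < b) →
      (∀ ν : Multiset ℕ, ν ≤ μ → (∀ e : ℕ, Even e → Even (ν.count e)) → ν.sum ≠ m) →
      ∃ y : Matrix.GeneralLinearGroup ((Fin (d - 1) ⊕ Fin (d - 1)) ⊕ Fin 2) F,
      y ∈ Cfsg.Geo.omegaGL (Cfsg.quadFormMinus (d - 1) F a b) ∧ y ^ p = 1 ∧
      (∀ z : F, (y : Matrix ((Fin (d - 1) ⊕ Fin (d - 1)) ⊕ Fin 2)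
          ((Fin (d - 1) ⊕ Fin (d - 1)) ⊕ Fin 2) F) ≠
        z • (1 : Matrix ((Fin (d - 1) ⊕ Fin (d - 1)) ⊕ Fin 2)
          ((Fin (d - 1) ⊕ Fin (d - 1)) ⊕ Fin 2) F)) ∧
      ∀ W : Submodule F ((Fin (d - 1) ⊕ Fin (d - 1)) ⊕ Fin 2 → F),
        W ∈ OSet (QMinus F (d - 1) a b) m η →
        ¬ W.map (Matrix.toLin' (y : Matrix ((Fin (d - 1) ⊕ Fin (d - 1)) ⊕ Fin 2)
          ((Fin (d - 1) ⊕ Fin (d - 1)) ⊕ Fin 2) F)) ≤ W := by
    intro μ hμ hμev hsum hodd hbig hno
    obtain ⟨y, hyΩ, hyp, hns, hsub⟩ := exists_unip_minus h2 p a b hab (d - 1) μ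
      (fun e he => by rcases hμ e he with rfl | rfl | rfl <;> omega) hμev
      (by rw [hsum, hsumd]) hodd hbig
    refine ⟨y, hyΩ, hyp, hns, ?_⟩
    rintro W ⟨hWf, hWn, -⟩ hWinv
    obtain ⟨ν, hνμ, hνsum, hνev⟩ := hsub W (by
      rw [← hcoe]
      exact (isNondegenerateOn_iff (QMinus F (d - 1) a b) W).mpr hWn) hWinv
    exact hno ν hνμ hνev (by rw [hνsum, hWf])
  obtain ⟨a', ha'⟩ := hm
  rcases Nat.even_or_odd d with hde | hdo
  · -- `d` even: Jordan type `(3, 1, 2^(d-2))` and the class argument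
    obtain ⟨y₀, hy₀Ω, hk₀⟩ := Cfsg.Agent.Lib.Helper20.OU.exists_unipotent_minus h2 a b hab (d - 1)
      (mu31 d) (fun e he => by rcases mem_mu31 he with rfl | rfl | rfl <;> omega)
      (mu31_even d hde) (by rw [mu31_sum d (by omega), hsumd])
      ⟨3, by
        unfold mu31
        exact Multiset.mem_add.mpr (Or.inr (Multiset.mem_cons_self 3 _)), by decide⟩
    have hy₀ : IsUnip31 (QMinus F (d - 1) a b) d y₀ := by
      refine ⟨?_, hk₀⟩
      rw [hcoe]
      obtain ⟨x, -, rfl⟩ := Subgroup.mem_map.1 hy₀Ω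
      exact x.2
    by_cases hfix : ∃ W : Submodule F ((Fin (d - 1) ⊕ Fin (d - 1)) ⊕ Fin 2 → F),
        W ∈ OSet (QMinus F (d - 1) a b) m η ∧
        W.map (Matrix.toLin' (y₀ : Matrix ((Fin (d - 1) ⊕ Fin (d - 1)) ⊕ Fin 2)
          ((Fin (d - 1) ⊕ Fin (d - 1)) ⊕ Fin 2) F)) ≤ W
    · -- conjugate by a similitude with nonsquare multiplier
      obtain ⟨W₁, ⟨hW₁f, hW₁n, hW₁s⟩, hW₁i⟩ := hfix
      obtain ⟨l, hl0, hl⟩ := exists_chi_eq (F := F) h2 (-1) (Or.inr rfl)
      obtain ⟨φ, hφ⟩ := exists_similitude_minus (d - 1) a b hab l hl0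
      obtain ⟨y', hy', hy'L⟩ := hy₀.conj φ l hφ
      obtain ⟨h1, h2', h3⟩ := hy'.props p hp3 (by omega) hcardI hQ
      rw [hcoe] at h1
      refine ⟨y', h1, h2', h3, ?_⟩
      rintro W₂ ⟨hW₂f, hW₂n, hW₂s⟩ hW₂i
      -- the image of `W₁` under the similitude
      have hpol : ∀ u v, polarBilin (QMinus F (d - 1) a b) (φ u) (φ v) =
          l * polarBilin (QMinus F (d - 1) a b) u v := by
        intro u v
        rw [pB_apply, pB_apply]
        unfold polar
        rw [← map_add, hφ, hφ, hφ]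
        ring
      have hW₃n : NondegOn (polarBilin (QMinus F (d - 1) a b)) (W₁.map φ.toLinearMap) := by
        rintro _ ⟨w, hw, rfl⟩ h0
        have : w = 0 := by
          apply hW₁n w hw
          intro w' hw'
          have h5 := h0 (φ w') ⟨w', hw', rfl⟩
          rw [LinearEquiv.coe_coe, hpol] at h5
          rcases mul_eq_zero.mp h5 with h | h
          · exact absurd h hl0
          · exact h
        rw [this, map_zero]
      have hW₃f : finrank F ↥(W₁.map φ.toLinearMap) = m := by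
        rw [LinearEquiv.finrank_map_eq φ W₁, hW₁f]
      have hW₃i : (W₁.map φ.toLinearMap).map (Matrix.toLin'
          (y' : Matrix ((Fin (d - 1) ⊕ Fin (d - 1)) ⊕ Fin 2)
            ((Fin (d - 1) ⊕ Fin (d - 1)) ⊕ Fin 2) F)) ≤ W₁.map φ.toLinearMap := by
        rintro _ ⟨_, ⟨w, hw, rfl⟩, rfl⟩
        rw [hy'L, LinearEquiv.coe_coe, LinearEquiv.symm_apply_apply]
        exact ⟨_, hW₁i ⟨w, hw, rfl⟩, rfl⟩
      have hW₃s : OddOn (QMinus F (d - 1) a b) (W₁.map φ.toLinearMap) (η * chi l) := by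
        have hs' : HasOdd (fun w : W₁ => l * QMinus F (d - 1) a b (w : _ → F))
            (finrank F W₁ / 2) (η * chi l) := HasOdd.scale hW₁s l hl0 (fun v => rfl)
        refine oddOn_of_equiv (QMinus F (d - 1) a b) _ (φ.submoduleMap W₁) (fun x => ?_)
          (by rw [hW₃f, hW₁f]) hs'
        show QMinus F (d - 1) a b (φ (x : _ → F)) = _
        rw [hφ]
      have heq := hy'.same_class h2 (by omega) hde hcardI hQ W₂ (W₁.map φ.toLinearMap) hW₂n hW₃n
        hW₂i hW₃i m ⟨a', ha'⟩ hW₂f hW₃f hW₂s hW₃s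
      rw [hl] at heq
      rcases hη with rfl | rfl <;> omega
    · obtain ⟨h1, h2', h3⟩ := hy₀.props p hp3 (by omega) hcardI hQ
      refine ⟨y₀, hy₀Ω, h2', h3, ?_⟩
      intro W hW hWi
      exact hfix ⟨W, hW, hWi⟩
  · obtain ⟨d', hd'⟩ := hdo
    rcases Nat.even_or_odd a' with hae | hao
    · -- `m ≡ 1 (mod 4)`: Jordan type `(3, 3, 2^(d-3))`
      refine key (Multiset.replicate (d - 3) 2 + Multiset.replicate 2 3) ?_ ?_ ?_ ?_ ?_ ?_
      · intro e he
        rcases Multiset.mem_add.mp he with h | h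
        · rw [Multiset.eq_of_mem_replicate h]
          exact Or.inr (Or.inl rfl)
        · rw [Multiset.eq_of_mem_replicate h]
          exact Or.inr (Or.inr rfl)
      · intro e he
        rw [Multiset.count_add, Multiset.count_replicate, Multiset.count_replicate]
        have he3 : (3 : ℕ) ≠ e := by
          rintro rfl
          exact absurd he (by decide)
        rw [if_neg he3, add_zero]
        split_ifs
        · exact ⟨d' - 1, by omega⟩
        · exact Even.zero
      · rw [Multiset.sum_add, Multiset.sum_replicate, Multiset.sum_replicate, smul_eq_mul,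
          smul_eq_mul]
        omega
      · exact ⟨3, Multiset.mem_add.mpr (Or.inr (Multiset.mem_replicate.mpr ⟨by norm_num, rfl⟩)),
          by decide⟩
      · exact ⟨3, Multiset.mem_add.mpr (Or.inr (Multiset.mem_replicate.mpr ⟨by norm_num, rfl⟩)),
          by norm_num⟩
      · intro ν hν hνev hsumν
        have hmem : ∀ e ∈ ν, e = 1 ∨ e = 2 ∨ e = 3 := by
          intro e he
          rcases Multiset.mem_add.mp (Multiset.mem_of_le hν he) with h | h
          · rw [Multiset.eq_of_mem_replicate h]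
            exact Or.inr (Or.inl rfl)
          · rw [Multiset.eq_of_mem_replicate h]
            exact Or.inr (Or.inr rfl)
        have hs := sum_eq_of_mem_123 ν hmem
        have h1 : ν.count 1 = 0 := by
          have := Multiset.count_le_of_le 1 hν
          rw [Multiset.count_add, Multiset.count_replicate, Multiset.count_replicate,
            if_neg (by norm_num), if_neg (by norm_num)] at this
          omega
        have h3 : ν.count 3 ≤ 2 := by
          have := Multiset.count_le_of_le 3 hν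
          rw [Multiset.count_add, Multiset.count_replicate, Multiset.count_replicate,
            if_neg (by norm_num), if_pos rfl] at this
          omega
        obtain ⟨k, hk⟩ := hνev 2 even_two
        obtain ⟨a'', ha''⟩ := hae
        omega
    · -- `m ≡ 3 (mod 4)`: Jordan type `(2^(d-1), 1, 1)`
      refine key (Multiset.replicate (d - 1) 2 + Multiset.replicate 2 1) ?_ ?_ ?_ ?_ ?_ ?_
      · intro e he
        rcases Multiset.mem_add.mp he with h | h
        · rw [Multiset.eq_of_mem_replicate h]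
          exact Or.inr (Or.inl rfl)
        · rw [Multiset.eq_of_mem_replicate h]
          exact Or.inl rfl
      · intro e he
        rw [Multiset.count_add, Multiset.count_replicate, Multiset.count_replicate]
        have he1 : (1 : ℕ) ≠ e := by
          rintro rfl
          exact absurd he (by decide)
        rw [if_neg he1, add_zero]
        split_ifs
        · exact ⟨d', by omega⟩
        · exact Even.zero
      · rw [Multiset.sum_add, Multiset.sum_replicate, Multiset.sum_replicate, smul_eq_mul,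
          smul_eq_mul]
        omega
      · exact ⟨1, Multiset.mem_add.mpr (Or.inr (Multiset.mem_replicate.mpr ⟨by norm_num, rfl⟩)),
          by decide⟩
      · exact ⟨2, Multiset.mem_add.mpr (Or.inl (Multiset.mem_replicate.mpr ⟨by omega, rfl⟩)),
          by norm_num⟩
      · intro ν hν hνev hsumν
        have hmem : ∀ e ∈ ν, e = 1 ∨ e = 2 ∨ e = 3 := by
          intro e he
          rcases Multiset.mem_add.mp (Multiset.mem_of_le hν he) with h | h
          · rw [Multiset.eq_of_mem_replicate h]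
            exact Or.inr (Or.inl rfl)
          · rw [Multiset.eq_of_mem_replicate h]
            exact Or.inl rfl
        have hs := sum_eq_of_mem_123 ν hmem
        have h3 : ν.count 3 = 0 := by
          have := Multiset.count_le_of_le 3 hν
          rw [Multiset.count_add, Multiset.count_replicate, Multiset.count_replicate,
            if_neg (by norm_num), if_neg (by norm_num)] at this
          omega
        have h1 : ν.count 1 ≤ 2 := by
          have := Multiset.count_le_of_le 1 hν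
          rw [Multiset.count_add, Multiset.count_replicate, Multiset.count_replicate,
            if_neg (by norm_num), if_pos rfl] at this
          omega
        obtain ⟨k, hk⟩ := hνev 2 even_two
        obtain ⟨a'', ha''⟩ := hao
        omega

end Cfsg.Agent.Lib.Helper20.OddC
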