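import Mathlib
import Cfsg.Agent.Lib.Helper20.OddC15

/-!
# `Ω⁻_{2d}(q)`, `q` odd, `r = p`: the derangement in the vocabulary of the statements
-/

set_option autoImplicit false
set_option linter.unusedSectionVars false
set_option linter.style.haveILetI false

namespace Cfsg.Agent.Lib.Helper20.OddC

open Module Submodule QuadraticMap Cfsg.Agent.Lib.Helper15.PSpI Cfsg.Agent.Lib.Helper14.OrthEven
  Cfsg.Agent.Lib.Helper6.OrtS Cfsg.Agent.Lib.Helper15 Cfsg.Agent.Lib.Helper21.OrtM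

universe u

variable {F : Type u} [Field F] [Fintype F]

/-- the members of the isometry class of `W₀`, in the vocabulary of the statements, form the set
`OSet Q m η` for the class `η` of `W₀` -/
theorem exists_class_bridge {ι : Type} [Fintype ι] [DecidableEq ι] (Q : QuadraticForm F (ι → F))
    (h2 : (2 : F) ≠ 0) (m : ℕ) (hm : Odd m) (W₀ : Submodule F (ι → F))
    (hW₀ : finrank F ↥W₀ = m ∧ Cfsg.Geo.IsNondegenerateOn (QuadraticMap.polar ⇑Q) W₀) :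
    ∃ η : ℤ, (η = 1 ∨ η = -1) ∧ ∀ W : Submodule F (ι → F),
      (finrank F ↥W = m ∧ Cfsg.Geo.IsNondegenerateOn (QuadraticMap.polar ⇑Q) W ∧
        Cfsg.Geo.AreIsometricFor ⇑Q W W₀) ↔ W ∈ OSet Q m η := by
  have hW₀n : NondegOn (polarBilin Q) W₀ := (isNondegenerateOn_iff Q W₀).mp hW₀.2
  obtain ⟨η, hη, hW₀s⟩ : ∃ η : ℤ, (η = 1 ∨ η = -1) ∧ OddOn Q W₀ η := by
    rcases oddOn_cases Q h2 hW₀n (by rw [hW₀.1]; exact hm) with h | h
    · exact ⟨1, Or.inl rfl, h⟩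
    · exact ⟨-1, Or.inr rfl, h⟩
  refine ⟨η, hη, ?_⟩
  intro W
  constructor
  · rintro ⟨h1, h2', ⟨e, he⟩⟩
    have hWn : NondegOn (polarBilin Q) W := (isNondegenerateOn_iff Q W).mp h2'
    refine ⟨h1, hWn, ?_⟩
    refine oddOn_of_isometric Q e.symm ?_ hW₀s
    intro w
    have h3 := he (e.symm w)
    rw [LinearEquiv.apply_symm_apply] at h3
    exact h3.symm
  · rintro ⟨h1, hWn, hWs⟩
    refine ⟨h1, (isNondegenerateOn_iff Q W).mpr hWn, ?_⟩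
    obtain ⟨φ, hφ⟩ := exists_iso_of_oddOn Q h2 hWn hW₀n m hm h1 hW₀.1 hη hWs hW₀s
    exact ⟨φ, fun w => hφ w⟩

/-- **`r = p` odd, odd `m`, minus type**, in the vocabulary of the statements. -/
theorem exists_derangement_minus_iso (h2 : (2 : F) ≠ 0) (p : ℕ) [hp : Fact p.Prime]
    [CharP F p] (d : ℕ) (hd : 4 ≤ d) (a b : F)
    (hab : ∀ x y : F, x ^ 2 + a * x * y + b * y ^ 2 = 0 → x = 0 ∧ y = 0)
    (m : ℕ) (hm : Odd m) (hmd : m < d)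
    (W₀ : Submodule F ((Fin (d - 1) ⊕ Fin (d - 1)) ⊕ Fin 2 → F))
    (hW₀ : finrank F ↥W₀ = m ∧ Cfsg.Geo.IsNondegenerateOn
      (QuadraticMap.polar (Cfsg.quadFormMinus (d - 1) F a b)) W₀) :
    ∃ y : Matrix.GeneralLinearGroup ((Fin (d - 1) ⊕ Fin (d - 1)) ⊕ Fin 2) F,
      y ∈ Cfsg.Geo.omegaGL (Cfsg.quadFormMinus (d - 1) F a b) ∧ y ^ p = 1 ∧
      (∀ z : F, (y : Matrix ((Fin (d - 1) ⊕ Fin (d - 1)) ⊕ Fin 2)
          ((Fin (d - 1) ⊕ Fin (d - 1)) ⊕ Fin 2) F) ≠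
        z • (1 : Matrix ((Fin (d - 1) ⊕ Fin (d - 1)) ⊕ Fin 2)
          ((Fin (d - 1) ⊕ Fin (d - 1)) ⊕ Fin 2) F)) ∧
      ∀ W : Submodule F ((Fin (d - 1) ⊕ Fin (d - 1)) ⊕ Fin 2 → F), finrank F ↥W = m →
        Cfsg.Geo.IsNondegenerateOn (QuadraticMap.polar (Cfsg.quadFormMinus (d - 1) F a b)) W →
        Cfsg.Geo.AreIsometricFor (Cfsg.quadFormMinus (d - 1) F a b) W W₀ →
        ¬ W.map (Matrix.toLin' (y : Matrix ((Fin (d - 1) ⊕ Fin (d - 1)) ⊕ Fin 2)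
          ((Fin (d - 1) ⊕ Fin (d - 1)) ⊕ Fin 2) F)) ≤ W := by
  have hcoe := coe_QMinus (F := F) (d - 1) a b
  rw [← hcoe] at hW₀
  obtain ⟨η, hη, hbridge⟩ := exists_class_bridge (QMinus F (d - 1) a b) h2 m hm W₀ hW₀
  obtain ⟨y, hyΩ, hyp, hns, hbad⟩ := exists_derangement_p_odd_minus h2 p a b hab d hd m hm hmd η hη
  refine ⟨y, hyΩ, hyp, hns, ?_⟩
  intro W hWf hWn hWiso
  rw [← hcoe] at hWn hWiso
  exact hbad W ((hbridge W).mp ⟨hWf, hWn, hWiso⟩)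

end Cfsg.Agent.Lib.Helper20.OddC
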