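import Mathlib
import Cfsg.Agent.Lib.Helper6.OrtT8
import Cfsg.Agent.Lib.Helper20.OddC7

/-!
# The plus type orthogonal group and odd-dimensional nondegenerate subspaces:
elements with scalar square, and elements of odd prime order different from the characteristic
-/

set_option autoImplicit false
set_option linter.unusedSectionVars false
set_option linter.style.haveILetI false

namespace Cfsg.Agent.Lib.Helper20.OddC

open Module Submodule QuadraticMap Matrix Cfsg.Agent.Lib.Helper15.PSpI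
  Cfsg.Agent.Lib.Helper14.OrthEven
  Cfsg.Agent.Lib.Helper15.PSpJ Cfsg.Agent.Lib.Helper15.PDec Cfsg.Agent.Lib.Helper15.PSub
  Cfsg.Agent.Lib.Helper15 Cfsg.Agent.Lib.Helper6.OrtS

universe u

section mat

variable {F : Type u} [Field F] [Fintype F]

/-- **`r = 2`, `q` odd, odd `m`**: all elements of `Ω⁺_{2d}(q)` with scalar square fix a
nondegenerate `m`-space of class `η`, iff there is no element with square `-1`. -/
theorem two_plus_iff_odd (h2 : (2 : F) ≠ 0) (d : ℕ) (hd : 4 ≤ d) (m : ℕ) (hm : Odd m)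
    (hmd : m < d) (η : ℤ) (hη : η = 1 ∨ η = -1) :
    (∀ x : GL (Fin d ⊕ Fin d) F, x ∈ Cfsg.Geo.omegaGL (Cfsg.quadFormPlus d F) →
      (∃ z : F, ((x ^ 2 : GL (Fin d ⊕ Fin d) F) : Matrix (Fin d ⊕ Fin d) (Fin d ⊕ Fin d) F) =
        z • (1 : Matrix (Fin d ⊕ Fin d) (Fin d ⊕ Fin d) F)) →
      (∀ z : F, (x : Matrix (Fin d ⊕ Fin d) (Fin d ⊕ Fin d) F) ≠
        z • (1 : Matrix (Fin d ⊕ Fin d) (Fin d ⊕ Fin d) F)) →
      ∃ W : Submodule F (Fin d ⊕ Fin d → F), W ∈ OSet (QPlus F d) m η ∧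
        W.map (Matrix.toLin' (x : Matrix (Fin d ⊕ Fin d) (Fin d ⊕ Fin d) F)) ≤ W) ↔
    ¬ Good (Fintype.card F) d := by
  classical
  obtain ⟨q, hq⟩ : ∃ q, q = Fintype.card F := ⟨_, rfl⟩
  rw [← hq]
  have hchar : ringChar F ≠ 2 := by
    intro h
    apply h2
    have := ringChar.Nat.cast_ringChar (R := F)
    rw [h] at this
    exact_mod_cast this
  have hqodd : q % 2 = 1 := by
    rw [hq]; exact FiniteField.odd_card_of_char_ne_two hchar
  have hQ := nondegenerate_QPlus F d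
  have hQt := nondegOn_top_of (QPlus F d) hQ
  have hcard : Fintype.card (Fin d ⊕ Fin d) = 2 * d := by simp [two_mul]
  have hfr : finrank F (Fin d ⊕ Fin d → F) = 2 * d := by
    rw [Module.finrank_fintype_fun_eq_card, hcard]
  have hsplit : (∃ i : F, i * i = -1) ↔ q % 4 = 1 := by
    have h1 := FiniteField.isSquare_neg_one_iff (F := F)
    rw [← hq] at h1
    constructor
    · rintro ⟨i, hi⟩
      have := h1.mp ⟨i, hi.symm⟩
      omega
    · intro h
      obtain ⟨i, hi⟩ := h1.mpr (by omega)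
      exact ⟨i, hi.symm⟩
  have hnsp : q % 4 ≠ 1 → ∀ a b : F, a * a + b * b = 0 → a = 0 ∧ b = 0 := by
    intro hq4 a b hab
    by_cases hb : b = 0
    · subst hb
      simp at hab
      exact ⟨hab, rfl⟩
    · exfalso
      apply hq4
      apply hsplit.mp
      refine ⟨a / b, ?_⟩
      field_simp
      linear_combination hab
  have hsq2 : IsSquare (2 : F) ↔ (q % 8 = 1 ∨ q % 8 = 7) := by
    have h1 := FiniteField.isSquare_two_iff (F := F)
    rw [← hq] at h1
    rw [h1]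
    omega
  obtain ⟨σ, hσ⟩ : ∃ σ : ℤ, σ = if q % 4 = 1 then (1 : ℤ) else -1 := ⟨_, rfl⟩
  -- plane picking for every isometry with square `-1`
  have hpick : ∀ M : Matrix (Fin d ⊕ Fin d) (Fin d ⊕ Fin d) F,
      (∀ v, QPlus F d (M *ᵥ v) = QPlus F d v) → (∀ v, M *ᵥ (M *ᵥ v) = -v) →
      PlanePick (QPlus F d) (Matrix.toLin' M) σ := by
    intro M hQM hM
    have hQx : ∀ v, QPlus F d (Matrix.toLin' M v) = QPlus F d v := fun v => by
      rw [Matrix.toLin'_apply]; exact hQM v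
    have hx : ∀ v, Matrix.toLin' M (Matrix.toLin' M v) = -v := fun v => by
      rw [Matrix.toLin'_apply, Matrix.toLin'_apply]; exact hM v
    by_cases hq4 : q % 4 = 1
    · rw [hσ, if_pos hq4]
      obtain ⟨i, hi⟩ := hsplit.mpr hq4
      exact planePick_split (QPlus F d) _ h2 hQx hx i hi
    · rw [hσ, if_neg hq4]
      exact planePick_nonsplit (QPlus F d) _ h2 hQx hx (hnsp hq4)
  -- an isometry with square `-1` fixes no nondegenerate subspace of odd dimension
  have hnofix : ∀ M : Matrix (Fin d ⊕ Fin d) (Fin d ⊕ Fin d) F,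
      (∀ v, QPlus F d (M *ᵥ v) = QPlus F d v) → (∀ v, M *ᵥ (M *ᵥ v) = -v) →
      ¬ ∃ W : Submodule F (Fin d ⊕ Fin d → F), W ∈ OSet (QPlus F d) m η ∧
        W.map (Matrix.toLin' M) ≤ W := by
    intro M hQM hM
    rintro ⟨W, ⟨hWf, hWn, -⟩, hWx⟩
    have hQx : ∀ v, QPlus F d (Matrix.toLin' M v) = QPlus F d v := fun v => by
      rw [Matrix.toLin'_apply]; exact hQM v
    have hx : ∀ v, Matrix.toLin' M (Matrix.toLin' M v) = -v := fun v => by
      rw [Matrix.toLin'_apply, Matrix.toLin'_apply]; exact hM v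
    obtain ⟨a, ha, -⟩ := sign_of_invt (QPlus F d) _ hQx hx σ (hpick M hQM hM) m W hWx hWn hWf
    obtain ⟨b, hb⟩ := hm
    omega
  have hne : Nonempty (Fin d ⊕ Fin d) := ⟨Sum.inl ⟨0, by omega⟩⟩
  obtain ⟨v₀, hv₀⟩ := exists_Q_ne_zero (QPlus F d) hQ
  constructor
  · intro hall hgood
    obtain ⟨hg1, hg2⟩ := hgood
    have hex : ∃ g : ↥(Cfsg.isometryGroup F ⇑(QPlus F d)), ∀ v,
        ((g.1 : GL (Fin d ⊕ Fin d) F) : Matrix (Fin d ⊕ Fin d) (Fin d ⊕ Fin d) F) *ᵥ
          (((g.1 : GL (Fin d ⊕ Fin d) F) : Matrix (Fin d ⊕ Fin d) (Fin d ⊕ Fin d) F) *ᵥ v) =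
          -v := by
      rcases hg1 with h | h
      · obtain ⟨i, hi⟩ := hsplit.mpr h
        exact exists_sq_neg_of_split h2 d (by omega) i hi
      · exact exists_sq_neg_of_even d h
    obtain ⟨g, hg⟩ := hex
    have hgΩ : g ∈ Cfsg.Omega F ⇑(QPlus F d) := by
      rw [sq_neg_mem_Omega_iff (QPlus F d) h2 hQ d (by omega) hcard g hg, isSquare_two_pow_iff h2,
        hsq2]
      exact hg2
    have hQM : ∀ v : Fin d ⊕ Fin d → F, QPlus F d (((g.1 : GL (Fin d ⊕ Fin d) F) :
        Matrix (Fin d ⊕ Fin d) (Fin d ⊕ Fin d) F) *ᵥ v) =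
        QPlus F d v := (Cfsg.Agent.Lib.Helper6.OmegaAut.mem_isometryGroup_iff (QPlus F d) g.1).mp g.2
    have hxΩ : g.1 ∈ Cfsg.Geo.omegaGL (Cfsg.quadFormPlus d F) := by
      rw [← coe_QPlus]
      exact Subgroup.mem_map.mpr ⟨g, hgΩ, rfl⟩
    have hsq : ((g.1 ^ 2 : GL (Fin d ⊕ Fin d) F) : Matrix (Fin d ⊕ Fin d) (Fin d ⊕ Fin d) F) =
        (-1 : F) • (1 : Matrix (Fin d ⊕ Fin d) (Fin d ⊕ Fin d) F) := by
      rw [Units.val_pow_eq_pow_val, pow_two]
      apply Cfsg.Agent.Lib.Helper6.matrix_ext_mulVec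
      intro v
      rw [← mulVec_mulVec, hg, smul_mulVec, one_mulVec, neg_one_smul]
    have hnsc : ∀ z : F, ((g.1 : GL (Fin d ⊕ Fin d) F) :
        Matrix (Fin d ⊕ Fin d) (Fin d ⊕ Fin d) F) ≠
        z • (1 : Matrix (Fin d ⊕ Fin d) (Fin d ⊕ Fin d) F) := by
      intro z hz
      have h1 := hg v₀
      have h3 := hQM v₀
      rw [hz, smul_mulVec, one_mulVec] at h1 h3
      rw [smul_mulVec, one_mulVec, smul_smul] at h1
      rw [QuadraticMap.map_smul, smul_eq_mul] at h3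
      have hzz : z * z = 1 := by
        have : (z * z - 1) * QPlus F d v₀ = 0 := by linear_combination h3
        rcases mul_eq_zero.mp this with h | h
        · linear_combination h
        · exact absurd h hv₀
      rw [hzz, one_smul] at h1
      have hv0 : v₀ ≠ 0 := by
        rintro rfl
        simp at hv₀
      have : (2 : F) • v₀ = 0 := by
        rw [two_smul]
        nth_rewrite 1 [h1]
        simp
      rcases smul_eq_zero.mp this with h | h
      · exact h2 h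
      · exact hv0 h
    obtain ⟨W, hW, hWx⟩ := hall g.1 hxΩ ⟨-1, hsq⟩ hnsc
    exact hnofix _ hQM hg ⟨W, hW, hWx⟩
  · intro hcond x hxΩ hz hns
    obtain ⟨z, hz⟩ := hz
    rw [← coe_QPlus] at hxΩ
    obtain ⟨g, hgΩ, hgx⟩ := Subgroup.mem_map.mp hxΩ
    have hgx' : g.1 = x := hgx
    obtain ⟨M, hM⟩ : ∃ M : Matrix (Fin d ⊕ Fin d) (Fin d ⊕ Fin d) F, M = x := ⟨_, rfl⟩
    have hQM : ∀ v, QPlus F d (M *ᵥ v) = QPlus F d v := by
      rw [hM, ← hgx']
      exact (Cfsg.Agent.Lib.Helper6.OmegaAut.mem_isometryGroup_iff (QPlus F d) g.1).mp g.2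
    rw [Units.val_pow_eq_pow_val, pow_two, ← hM] at hz
    rw [← hM]
    have hMM : ∀ v, M *ᵥ (M *ᵥ v) = z • v := by
      intro v
      rw [mulVec_mulVec, hz, smul_mulVec, one_mulVec]
    have hzz : z * z = 1 := by
      have h3 : QPlus F d (M *ᵥ (M *ᵥ v₀)) = QPlus F d v₀ := by rw [hQM, hQM]
      rw [hMM, QuadraticMap.map_smul, smul_eq_mul] at h3
      have : (z * z - 1) * QPlus F d v₀ = 0 := by linear_combination h3
      rcases mul_eq_zero.mp this with h | h
      · linear_combination h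
      · exact absurd h hv₀
    rcases mul_self_eq_one_iff.mp hzz with rfl | rfl
    · -- involutions
      have hy : (Matrix.toLin' M) ^ 2 = 1 := by
        rw [← Matrix.toLin'_pow, pow_two, hz, one_smul, Matrix.toLin'_one]
        rfl
      have hfe : Even (finrank F (Module.End.eigenspace (Matrix.toLin' M) 1)) := by
        have h1 := even_fix_of_mem_Omega (QPlus F d) hQ (Or.inr (by rw [hcard]; omega)) g hgΩ
        rw [hcard, hgx', ← hM] at h1
        exact (Nat.even_add.mp h1).mp (even_two_mul d)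
      obtain ⟨W, hWf, hWn, hWs, hWx⟩ := invol_fixes_odd (QPlus F d) h2 hQt (Matrix.toLin' M)
        (fun v => by rw [Matrix.toLin'_apply]; exact hQM v) hy (2 * d) hfr (even_two_mul d) hfe
        m hm (by omega) η hη
      exact ⟨W, ⟨hWf, hWn, hWs⟩, hWx⟩
    · -- square `-1`
      exfalso
      have hMneg : ∀ v, M *ᵥ (M *ᵥ v) = -v := fun v => by rw [hMM, neg_one_smul]
      have hgneg : ∀ v : Fin d ⊕ Fin d → F,
          ((g.1 : GL (Fin d ⊕ Fin d) F) : Matrix (Fin d ⊕ Fin d) (Fin d ⊕ Fin d) F) *ᵥ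
          (((g.1 : GL (Fin d ⊕ Fin d) F) : Matrix (Fin d ⊕ Fin d) (Fin d ⊕ Fin d) F) *ᵥ v) =
          -v := by
        rw [hgx', ← hM]
        exact hMneg
      have hsq := (sq_neg_mem_Omega_iff (QPlus F d) h2 hQ d (by omega) hcard g hgneg).mp hgΩ
      rw [isSquare_two_pow_iff h2, hsq2] at hsq
      apply hcond
      refine ⟨?_, hsq⟩
      by_cases hq4 : q % 4 = 1
      · exact Or.inl hq4
      · right
        have hp := hpick M hQM hMneg
        rw [hσ, if_neg hq4] at hp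
        have hQx : ∀ v, QPlus F d (Matrix.toLin' M v) = QPlus F d v := fun v => by
          rw [Matrix.toLin'_apply]; exact hQM v
        have hx : ∀ v, Matrix.toLin' M (Matrix.toLin' M v) = -v := fun v => by
          rw [Matrix.toLin'_apply, Matrix.toLin'_apply]; exact hMneg v
        obtain ⟨a', ha', hs⟩ := sign_of_invt (QPlus F d) _ hQx hx (-1) hp (2 * d) ⊤ le_top hQt
          (by rw [finrank_top, hfr])
        have ha'' : a' = d := by omega
        rw [ha''] at hs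
        have h5 := SgnOn.unique (QPlus F d) (sgnOn_top_QPlus d) hs
        by_contra hodd
        rw [Nat.not_even_iff_odd] at hodd
        rw [hodd.neg_one_pow] at h5
        omega

/-- the numerical condition in the form of the statements -/
theorem not_good_iff (q d : ℕ) (hq : q % 2 = 1) : ¬ Good q d ↔ (Odd d ∧ q % 8 ≠ 1) := by
  unfold Good
  rcases Nat.even_or_odd d with hd | hd
  · constructor
    · intro h
      exact absurd ⟨Or.inr hd, Or.inl hd⟩ h
    · rintro ⟨h, -⟩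
      exact absurd hd (Nat.not_even_iff_odd.mpr h)
  · have hne : ¬ Even d := Nat.not_even_iff_odd.mpr hd
    constructor
    · intro h
      refine ⟨hd, ?_⟩
      intro h8
      apply h
      exact ⟨Or.inl (by omega), Or.inr (Or.inl h8)⟩
    · rintro ⟨-, h8⟩ ⟨h1, h2⟩
      rcases h1 with h1 | h1
      · rcases h2 with h2 | h2 | h2
        · exact hne h2
        · exact h8 h2
        · omega
      · exact hne h1

/-- elements of odd prime order `r ≠ p` of `Ω⁺_{2d}(q)` and nondegenerate `m`-spaces, `m` odd,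
of class `η` -/
theorem odd_plus_odd (h2 : (2 : F) ≠ 0) (p : ℕ) [Fact p.Prime] [CharP F p] (r : ℕ)
    [hr : Fact r.Prime]
    (hrp : r ≠ p) (hr2 : r ≠ 2) (d : ℕ) (hd : 4 ≤ d) (m : ℕ) (hm : Odd m) (η : ℤ)
    (hη : η = 1 ∨ η = -1) :
    ((∀ x : GL (Fin d ⊕ Fin d) F, x ∈ Cfsg.Geo.omegaGL (Cfsg.quadFormPlus d F) →
      (∃ z : F, ((x ^ r : GL (Fin d ⊕ Fin d) F) : Matrix (Fin d ⊕ Fin d) (Fin d ⊕ Fin d) F) =
        z • (1 : Matrix (Fin d ⊕ Fin d) (Fin d ⊕ Fin d) F)) →
      (∀ z : F, (x : Matrix (Fin d ⊕ Fin d) (Fin d ⊕ Fin d) F) ≠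
        z • (1 : Matrix (Fin d ⊕ Fin d) (Fin d ⊕ Fin d) F)) →
      ∃ W : Submodule F (Fin d ⊕ Fin d → F), W ∈ OSet (QPlus F d) m η ∧
        W.map (Matrix.toLin' (x : Matrix (Fin d ⊕ Fin d) (Fin d ⊕ Fin d) F)) ≤ W) ↔
      CritOdd (2 * d) 1 m (orderOf ((Fintype.card F : ℕ) : ZMod r))) ∧
    (m < cOf (orderOf ((Fintype.card F : ℕ) : ZMod r)) →
      m < (2 * d) % cOf (orderOf ((Fintype.card F : ℕ) : ZMod r)) →
      ¬ r ∣ Nat.card (OSet (QPlus F d) m η)) := by
  have hcard : Fintype.card (Fin d ⊕ Fin d) = 2 * d := by simp [two_mul]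
  have hExist : ∀ s, 1 ≤ s → cOf (orderOf ((Fintype.card F : ℕ) : ZMod r)) * s ≤ 2 * d →
      (cOf (orderOf ((Fintype.card F : ℕ) : ZMod r)) * s = 2 * d →
        tau (orderOf ((Fintype.card F : ℕ) : ZMod r)) s = 1) →
      ∃ M : Matrix (Fin d ⊕ Fin d) (Fin d ⊕ Fin d) F,
        (∀ v, QPlus F d (M.mulVec v) = QPlus F d v) ∧ M ^ r = 1 ∧
        finrank F (Module.End.eigenspace (Matrix.toLin' M) 1) =
          2 * d - cOf (orderOf ((Fintype.card F : ℕ) : ZMod r)) * s := by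
    intro s hs1 hsd hfull
    obtain ⟨M, hM1, hM2, hM3⟩ := exists_elt_plus (F := F) p r hr2 hrp d s hs1 hsd hfull
    exact ⟨M, fun v => by rw [QPlus_apply, QPlus_apply]; exact hM1 v, hM2, hM3⟩
  constructor
  · have h := odd_iff_crit_odd (QPlus F d) h2 p r hrp hr2 (nondegenerate_QPlus F d) (2 * d) hcard
      (even_two_mul d) (by omega) (Or.inr (by omega)) 1 (Or.inl rfl) (sgnOn_top_QPlus d) hExist m hm
      η hη
    rw [coe_QPlus] at h
    exact h
  · intro hcm hgap
    exact not_dvd_of_gap (QPlus F d) h2 p r hrp hr2 (nondegenerate_QPlus F d) (2 * d) hcard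
      (even_two_mul d) 1 (Or.inl rfl) (sgnOn_top_QPlus d) hExist m hm η hη hcm hgap

end mat

end Cfsg.Agent.Lib.Helper20.OddC
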