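import Mathlib
import Cfsg.Agent.Lib.Helper1.SpecialAction
import Cfsg.Agent.Lib.Helper1.CoprimeAbelian
import Cfsg.Agent.Lib.Helper1.FpfCyclic
import Cfsg.Agent.Lib.Helper1.Frattini

/-!
# Helper20 library: odd-order automorphisms of a 2-group trivial on elements of order at most 4

`le_centralizer_of_centralizes_pow_four`: `P` a 2-subgroup of a finite group `X`, `A ≤ N_X(P)` of
odd order centralizing every `x ∈ P` with `x ^ 4 = 1`; then `A ≤ C_X(P)`.
-/

set_option autoImplicit false

namespace Cfsg.Agent.Lib.Helper20.OmegaTwo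

open Cfsg.Agent.Lib.Helper1
open scoped commutatorElement

variable {X : Type*} [Group X] [Finite X]

theorem le_centralizer_of_centralizes_pow_four (A : Subgroup X) (hA : Odd (Nat.card A)) :
    ∀ (n : ℕ) (P : Subgroup X), Nat.card P = n → IsPGroup 2 P →
      A ≤ Subgroup.normalizer (P : Set X) →
      (∀ x ∈ P, x ^ 4 = 1 → ∀ a ∈ A, a * x = x * a) → A ≤ Subgroup.centralizer (P : Set X) := by
  intro n
  induction n using Nat.strong_induction_on with
  | _ n ih =>
  intro P hn hP hAP hfour
  haveI : Fact (Nat.Prime 2) := ⟨Nat.prime_two⟩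
  have hcop : (Nat.card A).Coprime (Nat.card P) := by
    obtain ⟨k, hk⟩ := hP.exists_card_eq
    rw [hk]
    exact Nat.Coprime.pow_right k (Nat.coprime_two_right.mpr hA)
  have hsolv : Group.IsSolvable P := by
    haveI := hP.isNilpotent
    infer_instance
  have hact : CoprimeAct A P := ⟨hAP, hcop, Or.inr hsolv⟩
  -- proper invariant subgroups are centralized
  have hsub : ∀ Q : Subgroup X, Q < P → A ≤ Subgroup.normalizer (Q : Set X) →
      A ≤ Subgroup.centralizer (Q : Set X) := by
    intro Q hQ hAQ
    exact ih (Nat.card Q) (by rw [← hn]; exact card_lt_of_lt hQ) Q rfl (hP.to_le hQ.le) hAQ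
      (fun x hx => hfour x (hQ.le hx))
  have hKP : ⁅P, A⁆ ≤ P := commutator_le_of_le_normalizer hAP
  by_cases hK : ⁅P, A⁆ = P
  · -- `P = [P, A]`
    by_cases hab : ∀ x ∈ P, ∀ y ∈ P, x * y = y * x
    · haveI : IsMulCommutative P := ⟨⟨fun a b => Subtype.ext (hab a a.2 b b.2)⟩⟩
      apply le_centralizer_of_centralizes_prime_order A P hAP hcop
      intro v hv hvp a ha
      apply hfour v hv _ a ha
      have h1 : orderOf v ∣ 2 ^ 2 := by
        obtain ⟨k, hk⟩ := hP.exists_card_eq
        have h2 : orderOf v ∣ 2 ^ k := by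
          rw [← hk]
          exact Subgroup.orderOf_dvd_natCard P hv
        obtain ⟨j, -, hj⟩ := (Nat.dvd_prime_pow Nat.prime_two).mp h2
        rw [hj] at hvp ⊢
        have : j = 1 := by
          rcases j with _ | _ | j
          · exact absurd hvp (by norm_num)
          · rfl
          · exfalso
            exact Nat.Prime.not_prime_pow (by omega) hvp
        rw [this]; norm_num
      exact orderOf_dvd_iff_pow_eq_one.mp h1
    · -- non-abelian: `P` is special
      push Not at hab
      obtain ⟨x₀, hx₀, y₀, hy₀, hxy₀⟩ := hab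
      set ρ := conjHomOn A P hAP with hρ
      set A' : Subgroup (MulAut ↥P) := ρ.range with hA'
      have hcop' : Nat.Coprime (Nat.card A') 2 := by
        have h1 : Nat.card A' ∣ Nat.card A := Subgroup.card_range_dvd ρ
        exact Nat.Coprime.coprime_dvd_left h1 (Nat.coprime_two_right.mpr hA)
      have hGA : Subgroup.closure {x : ↥P | ∃ g : ↥P, ∃ a ∈ A', x = g⁻¹ * a g} = ⊤ := by
        rw [eq_top_iff]
        intro y _
        have hy : (y : X) ∈ ⁅P, A⁆ := by rw [hK]; exact y.2
        have key : ∀ z ∈ ⁅P, A⁆, ∃ hz : z ∈ P, (⟨z, hz⟩ : ↥P) ∈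
            Subgroup.closure {x : ↥P | ∃ g : ↥P, ∃ a ∈ A', x = g⁻¹ * a g} := by
          intro z hz
          rw [Subgroup.commutator_def] at hz
          induction hz using Subgroup.closure_induction with
          | mem z hz =>
            obtain ⟨p, hp, a, ha, rfl⟩ := hz
            refine ⟨hKP (Subgroup.commutator_mem_commutator hp ha), ?_⟩
            apply Subgroup.subset_closure
            refine ⟨⟨p, hp⟩⁻¹, ρ ⟨a, ha⟩, ⟨⟨a, ha⟩, rfl⟩, ?_⟩
            apply Subtype.ext
            rw [Subgroup.coe_mul, hρ, conjHomOn_apply]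
            simp only [InvMemClass.coe_inv, inv_inv, Subgroup.coe_mk]
            rw [commutatorElement_def]
            group
          | one => exact ⟨one_mem _, one_mem _⟩
          | mul z w _ _ hz hw =>
            obtain ⟨hz1, hz2⟩ := hz
            obtain ⟨hw1, hw2⟩ := hw
            exact ⟨mul_mem hz1 hw1, mul_mem hz2 hw2⟩
          | inv z _ hz =>
            obtain ⟨hz1, hz2⟩ := hz
            exact ⟨inv_mem hz1, inv_mem hz2⟩
        obtain ⟨_, h2⟩ := key y hy
        exact h2
      have hchar : ∀ H : Subgroup ↥P, H.Characteristic → IsMulCommutative H →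
          ∀ a ∈ A', ∀ h ∈ H, a h = h := by
        intro H hHc hHcomm a' ha' h hh
        obtain ⟨a, rfl⟩ := ha'
        have hHtop : H ≠ ⊤ := by
          intro htop
          apply hxy₀
          have h1 : (⟨x₀, hx₀⟩ : ↥P) ∈ H := by rw [htop]; trivial
          have h2 : (⟨y₀, hy₀⟩ : ↥P) ∈ H := by rw [htop]; trivial
          have h3 := mul_comm' (⟨⟨x₀, hx₀⟩, h1⟩ : ↥H) ⟨⟨y₀, hy₀⟩, h2⟩
          have h4 := congrArg (fun t : ↥H => ((t : ↥P) : X)) h3
          exact h4
        have hQP : H.map P.subtype < P := by
          refine lt_of_le_of_ne (Subgroup.map_subtype_le _) ?_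
          intro heq
          apply hHtop
          rw [eq_top_iff]
          intro y _
          have : (y : X) ∈ H.map P.subtype := by rw [heq]; exact y.2
          obtain ⟨y', hy', hyy'⟩ := this
          have : y' = y := Subtype.ext hyy'
          rwa [this] at hy'
        have hAQ : A ≤ Subgroup.normalizer ((H.map P.subtype : Subgroup X) : Set X) :=
          hAP.trans (normalizer_le_normalizer_map_of_characteristic P H)
        have hcent := hsub _ hQP hAQ
        have h5 := Subgroup.mem_centralizer_iff.mp (hcent a.2) (h : X) ⟨h, hh, rfl⟩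
        apply Subtype.ext
        rw [hρ, conjHomOn_apply, ← h5]
        group
      obtain ⟨hspec, -⟩ := isSpecial_of_char_abelian_fixed hP A' hcop' hGA hchar
      have hall : ∀ x ∈ P, x ^ 4 = 1 := by
        intro x hx
        have h1 : (⟨x, hx⟩ : ↥P) ^ 2 ∈ Subgroup.center ↥P := by
          rw [← hspec.2.1]
          exact IsPGroup.pow_mem_frattini hP _
        have h2 := IsSpecial.pow_eq_one_of_mem_center hspec _ h1
        have h3 : (⟨x, hx⟩ : ↥P) ^ 4 = 1 := by
          have : (4 : ℕ) = 2 * 2 := by norm_num
          rw [this, pow_mul]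
          exact h2
        have h4 := congrArg Subtype.val h3
        rw [Subgroup.coe_pow] at h4
        exact h4
      intro a ha
      rw [Subgroup.mem_centralizer_iff]
      intro x hx
      exact (hfour x hx (hall x hx) a ha).symm
  · -- `[P, A] < P`
    have hlt : ⁅P, A⁆ < P := lt_of_le_of_ne hKP hK
    have hcent := hsub _ hlt le_normalizer_commutator_right
    have h1 : ⁅⁅P, A⁆, A⁆ = ⊥ := by
      rw [Subgroup.commutator_eq_bot_iff_le_centralizer, ← Subgroup.le_centralizer_iff]
      exact hcent
    rw [hact.commutator_commutator_eq] at h1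
    rw [Subgroup.commutator_eq_bot_iff_le_centralizer, ← Subgroup.le_centralizer_iff] at h1
    exact h1

end Cfsg.Agent.Lib.Helper20.OmegaTwo
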