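import Mathlib
import Cfsg.Prelude.Def_Blocks
import Cfsg.Agent.Lib.Helper7.Kulshammer
import Cfsg.Agent.Lib.Helper24.BlockBasic
import Cfsg.Agent.Lib.Helper24.CenterRadical

/-!
# A criterion for a finite group to have exactly one `p`-block (helper20)

If for every nontrivial `p`-regular `g` the number of factorizations `g = x y` with `x` a
`p`-element and `y` `p`-regular is divisible by `p`, then (Külshammer's formula) the principal
block idempotent is congruent to a scalar multiple of `1` modulo the maximal ideal; evaluating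
central characters shows that the scalar is `≡ 1` and that every irreducible character lies in the
principal block.
-/

set_option autoImplicit false
set_option linter.style.haveILetI false
set_option linter.unusedSectionVars false

namespace Cfsg.Agent.Lib.Helper20.OneBlock

open Cfsg.Agent.Lib.Helper24 Cfsg.Agent.Lib.Helper7

variable {G : Type*} [Group G] [Fintype G] {p : ℕ} {M : Ideal Cfsg.AlgInt}

/-- the generic criterion: every irreducible character lies in the principal block -/
theorem mem_principalBlock_of_dvd [Fact p.Prime] (hM : Cfsg.IsPModular p M)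
    (hN : ∀ g : G, g ≠ 1 → ¬ p ∣ orderOf g →
      p ∣ Nat.card {xy : G × G // (∃ k : ℕ, orderOf xy.1 = p ^ k) ∧ ¬ p ∣ orderOf xy.2 ∧
          xy.1 * xy.2 = g})
    (ψ : Cfsg.IrrCharacter G) : ψ ∈ Cfsg.principalBlock M G := by
  classical
  set B : Set (Cfsg.IrrCharacter G) := Cfsg.principalBlock M G with hB
  set a : G → ℂ := Cfsg.blockCoeff B with ha
  -- the part of `a` away from the identity
  set a' : G → ℂ := fun g => if g = 1 then 0 else a g with ha'
  have hac : Cfsg.IsClassFunction G a := blockCoeff_isClassFunction B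
  have ha'c : Cfsg.IsClassFunction G a' := by
    intro g x
    have hiff : x * g * x⁻¹ = 1 ↔ g = 1 := by
      constructor
      · intro h
        have : g = x⁻¹ * (x * g * x⁻¹) * x := by group
        rw [this, h]; group
      · rintro rfl; group
    simp only [ha']
    by_cases hg : g = 1
    · rw [if_pos hg, if_pos (hiff.mpr hg)]
    · rw [if_neg hg, if_neg (fun h => hg (hiff.mp h)), hac g x]
  have hdecomp : a = a' + (a 1) • (deltaOne : G → ℂ) := by
    funext g
    simp only [ha', Pi.add_apply, Pi.smul_apply, smul_eq_mul, deltaOne]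
    by_cases hg : g = 1
    · subst hg; simp
    · simp [hg]
  -- all values of `a'` lie in the local ideal
  have ha'M : ∀ g, Cfsg.MemLocalIdeal M (a' g) := by
    intro g
    simp only [ha']
    by_cases hg : g = 1
    · rw [if_pos hg]; exact memLocalIdeal_zero hM
    · rw [if_neg hg]
      by_cases hs : p ∣ orderOf g
      · rw [ha, blockCoeff_eq_zero_of_singular hM B isPBlock_principalBlock g hs]
        exact memLocalIdeal_zero hM
      · have h1 := kulshammer (G := G) hM g hs
        have h2 : Cfsg.MemLocalIdeal M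
            ((Nat.card {xy : G × G // (∃ k : ℕ, orderOf xy.1 = p ^ k) ∧ ¬ p ∣ orderOf xy.2 ∧
              xy.1 * xy.2 = g} : ℂ) / (Nat.card {y : G // ¬ p ∣ orderOf y} : ℂ)) := by
          rw [div_eq_mul_inv]
          exact memLocalIdeal_mul_right hM ((memLocalIdeal_natCast_iff hM _).mpr (hN g hg hs))
            (memLocalRing_natCast_inv hM (not_dvd_card_pRegular (G := G) hM))
        have h3 := memLocalIdeal_add hM h1 h2
        rw [sub_add_cancel] at h3
        exact h3
  -- central characters of `a`
  have hom : ∀ χ : Cfsg.IrrCharacter G,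
      omega (χ : G → ℂ) a = omega (χ : G → ℂ) a' + a 1 := by
    intro χ
    conv_lhs => rw [hdecomp]
    rw [omega_add, omega_smul, omega_deltaOne _ (Cfsg.Agent.Lib.Helper25.irr_one_ne_zero χ.2),
      mul_one]
  have hom' : ∀ χ : Cfsg.IrrCharacter G, Cfsg.MemLocalIdeal M (omega (χ : G → ℂ) a') :=
    fun χ => omega_memLocalIdeal hM χ a' ha'c ha'M
  -- the trivial character: `1 = ω(a') + a 1`
  have htriv : omega ((trivIrr G : Cfsg.IrrCharacter G) : G → ℂ) a = 1 := by
    rw [ha, omega_blockCoeff B (trivIrr G), if_pos (trivIrr_mem_principalBlock hM)]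
  by_contra hψ
  have hψ0 : omega (ψ : G → ℂ) a = 0 := by
    rw [ha, omega_blockCoeff B ψ, if_neg hψ]
  have e1 : a 1 = 1 - omega ((trivIrr G : Cfsg.IrrCharacter G) : G → ℂ) a' := by
    have := hom (trivIrr G)
    rw [htriv] at this
    rw [this]; ring
  have e2 : a 1 = - omega (ψ : G → ℂ) a' := by
    have := hom ψ
    rw [hψ0] at this
    have h : omega (ψ : G → ℂ) a' + a 1 = 0 := this.symm
    exact eq_neg_of_add_eq_zero_right h
  have e3 : (1 : ℂ) = omega ((trivIrr G : Cfsg.IrrCharacter G) : G → ℂ) a'
      - omega (ψ : G → ℂ) a' := by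
    have : (1 : ℂ) - omega ((trivIrr G : Cfsg.IrrCharacter G) : G → ℂ) a'
        = - omega (ψ : G → ℂ) a' := by rw [← e1, e2]
    linear_combination this
  apply not_memLocalIdeal_one hM
  rw [e3]
  exact memLocalIdeal_sub hM (hom' (trivIrr G)) (hom' ψ)

/-- the generic criterion: exactly one `p`-block -/
theorem sameBlock_of_dvd [Fact p.Prime] (hM : Cfsg.IsPModular p M)
    (hN : ∀ g : G, g ≠ 1 → ¬ p ∣ orderOf g →
      p ∣ Nat.card {xy : G × G // (∃ k : ℕ, orderOf xy.1 = p ^ k) ∧ ¬ p ∣ orderOf xy.2 ∧
          xy.1 * xy.2 = g})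
    (χ ψ : Cfsg.IrrCharacter G) : Cfsg.SameBlock M (χ : G → ℂ) (ψ : G → ℂ) := by
  have h1 : Cfsg.SameBlock M (fun _ : G => (1 : ℂ)) (χ : G → ℂ) :=
    mem_principalBlock_of_dvd hM hN χ
  have h2 : Cfsg.SameBlock M (fun _ : G => (1 : ℂ)) (ψ : G → ℂ) :=
    mem_principalBlock_of_dvd hM hN ψ
  exact sameBlock_trans hM (sameBlock_symm hM h1) h2

end Cfsg.Agent.Lib.Helper20.OneBlock
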