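import Cfsg.Agent.Lib.Helper28.Ord459648.Basic

/-!
# S1022 `[P3]` (helper20): the final contradiction for order 459648

`V ≤ C_G(P)` of order 4 lies in a subgroup `T ≤ N_G(P)` of order 8, which is normal in a subgroup `K` of order 16.
For `g ∈ K ∖ T` the subgroups `V` and `gVg⁻¹` of `T` share an involution, which centralizes `P` and `gPg⁻¹`;
so `g` normalizes `P`, and `K ⊓ N_G(P)` is a 2-subgroup of `N_G(P)` of order more than 8.
-/

set_option autoImplicit false
set_option linter.unusedSectionVars false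

namespace Cfsg.Agent.Lib.Helper28.Ord459648

variable {G : Type*} [Group G] [Finite G]

namespace Helper20

theorem card_mul_relIndex {V T : Subgroup G} (h : V ≤ T) : Nat.card V * V.relIndex T = Nat.card T := by
  have := Subgroup.relIndex_mul_relIndex (⊥ : Subgroup G) V T bot_le h
  rwa [Subgroup.relIndex_bot_left, Subgroup.relIndex_bot_left] at this

/-- two subgroups of order 4 of a group of order 8 share an involution -/
theorem exists_invol_of_card4 (T V W : Subgroup G) (hT : Nat.card T = 8) (hV : Nat.card V = 4)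
    (hW : Nat.card W = 4) (hVT : V ≤ T) (hWT : W ≤ T) :
    ∃ y, y ∈ V ∧ y ∈ W ∧ orderOf y = 2 := by
  have h1 : (V ⊓ W).relIndex T ≤ V.relIndex T * W.relIndex T := Subgroup.relIndex_inf_le
  have hVi : V.relIndex T = 2 := by
    have := card_mul_relIndex hVT
    rw [hV, hT] at this
    omega
  have hWi : W.relIndex T = 2 := by
    have := card_mul_relIndex hWT
    rw [hW, hT] at this
    omega
  rw [hVi, hWi] at h1
  have h2 := card_mul_relIndex (le_trans inf_le_left hVT : V ⊓ W ≤ T)
  rw [hT] at h2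
  have h3 : Nat.card ↥(V ⊓ W) ∣ 4 := hV ▸ Subgroup.card_dvd_of_le inf_le_left
  have h4 : 2 ∣ Nat.card ↥(V ⊓ W) := by
    have hle : Nat.card ↥(V ⊓ W) ≤ 4 := Nat.le_of_dvd (by norm_num) h3
    have hge : 2 ≤ Nat.card ↥(V ⊓ W) := by
      by_contra hlt
      have hlt := not_le.mp hlt
      have : Nat.card ↥(V ⊓ W) * (V ⊓ W).relIndex T ≤ 1 * 4 := Nat.mul_le_mul (by omega) h1
      omega
    interval_cases hc : Nat.card ↥(V ⊓ W)
    · norm_num
    · exfalso; revert h3; decide
    · norm_num
  obtain ⟨x, hx⟩ := exists_prime_orderOf_dvd_card' 2 h4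
  refine ⟨x.1, (Subgroup.mem_inf.mp x.2).1, (Subgroup.mem_inf.mp x.2).2, ?_⟩
  rw [Subgroup.orderOf_coe]
  exact hx

end Helper20

open Helper20 in
/-- [P3] -/
theorem false_of_facts [IsSimpleGroup G] (hG : Nat.card G = 459648) (P : Sylow 19 G)
    (hN : Nat.card (Subgroup.normalizer ((P : Subgroup G) : Set G)) = 456)
    (hC : 4 ∣ Nat.card (Subgroup.centralizer ((P : Subgroup G) : Set G)))
    (hA : ∀ (R : Sylow 19 G) (x : G), orderOf x = 2 →
      x ∈ Subgroup.centralizer ((P : Subgroup G) : Set G) →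
      x ∈ Subgroup.centralizer ((R : Subgroup G) : Set G) → R = P) : False := by
  classical
  set N := Subgroup.normalizer ((P : Subgroup G) : Set G) with hNdef
  set C := Subgroup.centralizer ((P : Subgroup G) : Set G) with hCdef
  have hCN : C ≤ N := Subgroup.centralizer_le_normalizer _
  -- `V ≤ C` of order 4
  obtain ⟨V0, hV0⟩ := Sylow.exists_subgroup_card_pow_prime (G := C) 2 (n := 2) (by simpa using hC)
  set V : Subgroup G := V0.map C.subtype with hVdef
  have hVcard : Nat.card V = 2 ^ 2 := by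
    rw [hVdef, Subgroup.card_map_of_injective C.subtype_injective]
    exact hV0
  have hVC : V ≤ C := Subgroup.map_subtype_le V0
  have hVN : V ≤ N := le_trans hVC hCN
  -- `T ≤ N` of order 8 containing `V`
  have hVN' : Nat.card (V.subgroupOf N) = 2 ^ 2 := by
    rw [Nat.card_congr (Subgroup.subgroupOfEquivOfLe hVN).toEquiv]
    exact hVcard
  obtain ⟨T0, hT0, hVT0⟩ := Sylow.exists_subgroup_card_pow_prime_le (G := N) 2 (n := 2) (m := 3)
    (by rw [hN]; norm_num) (V.subgroupOf N) hVN' (by norm_num)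
  set T : Subgroup G := T0.map N.subtype with hTdef
  have hTcard : Nat.card T = 2 ^ 3 := by
    rw [hTdef, Subgroup.card_map_of_injective N.subtype_injective]
    exact hT0
  have hTN : T ≤ N := Subgroup.map_subtype_le T0
  have hVT : V ≤ T := by
    intro x hx
    refine ⟨⟨x, hVN hx⟩, hVT0 ?_, rfl⟩
    exact Subgroup.mem_subgroupOf.mpr hx
  -- `K` of order 16 containing `T`
  obtain ⟨K, hKcard, hTK⟩ := Sylow.exists_subgroup_card_pow_succ (G := G) (p := 2) (n := 3)
    (by rw [hG]; norm_num) hTcard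
  -- `T` is normal in `K`
  have hidx : (T.subgroupOf K).index = 2 := by
    have h1 := card_mul_relIndex hTK
    rw [hTcard, hKcard] at h1
    show T.relIndex K = 2
    omega
  have hnorm : (T.subgroupOf K).Normal := Subgroup.normal_of_index_eq_two hidx
  -- `g ∈ K ∖ T`
  have hTK' : T < K := by
    refine lt_of_le_of_ne hTK ?_
    intro h
    rw [h, hKcard] at hTcard
    norm_num at hTcard
  obtain ⟨g, hgK, hgT⟩ := SetLike.exists_of_lt hTK'
  have hconj : ∀ x ∈ T, g * x * g⁻¹ ∈ T := by
    intro x hx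
    have := hnorm.conj_mem ⟨x, hTK hx⟩ (Subgroup.mem_subgroupOf.mpr hx) ⟨g, hgK⟩
    exact Subgroup.mem_subgroupOf.mp this
  -- `W = g V g⁻¹`
  set W : Subgroup G := V.map (MulAut.conj g).toMonoidHom with hWdef
  have hWcard : Nat.card W = 4 := by
    rw [hWdef, Subgroup.card_map_of_injective (MulAut.conj g).injective]
    exact hVcard
  have hWT : W ≤ T := by
    rintro _ ⟨x, hx, rfl⟩
    exact hconj x (hVT hx)
  obtain ⟨y, hyV, hyW, hy2⟩ := exists_invol_of_card4 T V W (by rw [hTcard]; norm_num)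
    (by rw [hVcard]; norm_num) hWcard hVT hWT
  -- `y` centralizes `P` and `g • P`
  have hyP : y ∈ C := hVC hyV
  have hyR : y ∈ Subgroup.centralizer (((g • P : Sylow 19 G) : Subgroup G) : Set G) := by
    obtain ⟨v, hv, rfl⟩ := hyW
    have hvC : v ∈ C := hVC hv
    rw [Subgroup.mem_centralizer_iff]
    intro z hz
    rw [Sylow.coe_subgroup_smul] at hz
    obtain ⟨w, hw, rfl⟩ := hz
    have hvw : w * v = v * w := (Subgroup.mem_centralizer_iff.mp hvC) w hw
    show (MulAut.conj g) w * (MulAut.conj g) v = (MulAut.conj g) v * (MulAut.conj g) w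
    rw [← map_mul, ← map_mul, hvw]
  have hgP : g • P = P := hA (g • P) y hy2 hyP hyR
  have hgN : g ∈ N := Sylow.smul_eq_iff_mem_normalizer.mp hgP
  -- `K ⊓ N` has order dividing 8 and contains `T`
  have hd1 : Nat.card ↥(K ⊓ N) ∣ 16 := by
    have := Subgroup.card_dvd_of_le (inf_le_left : K ⊓ N ≤ K)
    rwa [hKcard] at this
  have hd2 : Nat.card ↥(K ⊓ N) ∣ 456 := by
    have := Subgroup.card_dvd_of_le (inf_le_right : K ⊓ N ≤ N)
    rwa [hN] at this
  have hd3 : Nat.card ↥(K ⊓ N) ∣ 8 := by
    have := Nat.dvd_gcd hd1 hd2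
    norm_num at this
    exact this
  have hle : T ≤ K ⊓ N := le_inf hTK hTN
  have heq : T = K ⊓ N := by
    apply Subgroup.eq_of_le_of_card_ge hle
    rw [hTcard]
    exact Nat.le_of_dvd (by norm_num) hd3
  apply hgT
  rw [heq]
  exact ⟨hgK, hgN⟩

end Cfsg.Agent.Lib.Helper28.Ord459648
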