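import Mathlib
import Cfsg.Prelude.Def_Blocks
import Cfsg.Prelude.Def_BlockLocal
import Cfsg.Prelude.Def_BlockRank
import Cfsg.Prelude.Def_BrauerPairs
import Cfsg.Agent.Lib.Helper7.Covering
import Cfsg.Agent.Lib.Helper2.Linear
import Cfsg.Agent.Lib.Helper2.Induction
import Cfsg.Agent.Lib.Helper2.Orthogonality

/-!
# S4640 farm, leaf [J] (helper20): the number of extensions in `B` of `θ ∈ b`.
-/

set_option autoImplicit false

namespace Cfsg.Agent.Lib.Helper24.PIdx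

open Cfsg
open scoped ComplexConjugate

variable {G : Type*} [Group G] [Fintype G] {p : ℕ} [Fact p.Prime] {M : Ideal Cfsg.AlgInt}

/-- [J] the number of extensions in `B` of `θ ∈ b` -/
theorem card_extensions (N : Subgroup G) [N.Normal] [Fintype N]
    (b : Set (Cfsg.IrrCharacter N)) (B : Set (Cfsg.IrrCharacter G))
    (hF : ∀ χ χ' : Cfsg.IrrCharacter G,
      Cfsg.classInner (fun n : N => (χ : G → ℂ) n) (fun n : N => (χ' : G → ℂ) n)
        = (Nat.card {lam : G →* ℂˣ // (∀ n ∈ N, lam n = 1) ∧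
            ∀ g : G, ((lam g : ℂˣ) : ℂ) * (χ : G → ℂ) g = (χ' : G → ℂ) g} : ℂ))
    (hG : Nat.card {lam : G →* ℂˣ // ∀ n ∈ N, lam n = 1} = N.index)
    (hH : ∀ (lam : G →* ℂˣ) (χ : Cfsg.IrrCharacter G),
      Cfsg.IsIrrCharacter G (fun g => ((lam g : ℂˣ) : ℂ) * (χ : G → ℂ) g))
    (hover : ∀ χ : Cfsg.IrrCharacter G, ∀ θ ∈ b,
      Cfsg.classInner (fun n : N => (χ : G → ℂ) n) (θ : N → ℂ) ≠ 0 → χ ∈ B)
    (hirr : ∀ χ ∈ B,
      Cfsg.classInner (fun n : N => (χ : G → ℂ) n) (fun n : N => (χ : G → ℂ) n) = 1)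
    (θ : Cfsg.IrrCharacter N) (hθ : θ ∈ b) :
    Nat.card {χ : Cfsg.IrrCharacter G // χ ∈ B ∧ ∀ n : N, (χ : G → ℂ) n = (θ : N → ℂ) n}
      = N.index := by
  classical
  -- Step 1: a character over θ
  obtain ⟨χ0, hχ0⟩ := Cfsg.Agent.Lib.Helper7.exists_irr_over N θ
  have hχ0B : χ0 ∈ B := hover χ0 θ hθ hχ0
  -- Step 2: its restriction is θ
  have hres_char : Cfsg.IsCharacter N (fun n : N => (χ0 : G → ℂ) n) :=
    Cfsg.Agent.Lib.Helper2.IsCharacter.restrict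
      (Cfsg.Agent.Lib.Helper2.IsIrrCharacter.isCharacter χ0.2) N
  have hres_irr : Cfsg.IsIrrCharacter N (fun n : N => (χ0 : G → ℂ) n) :=
    Cfsg.Agent.Lib.Helper2.isIrrCharacter_of_classInner_self_eq_one hres_char (hirr χ0 hχ0B)
  have hresθ : (⟨fun n : N => (χ0 : G → ℂ) n, hres_irr⟩ : Cfsg.IrrCharacter N) = θ := by
    by_contra hne
    have h0 := Cfsg.Agent.Lib.Helper2.classInner_irrCharacter_ne hne
    exact hχ0 h0
  have hres0 : ∀ n : N, (χ0 : G → ℂ) n = (θ : N → ℂ) n := by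
    intro n
    have := congrArg (fun ψ : Cfsg.IrrCharacter N => (ψ : N → ℂ) n) hresθ
    exact this
  have hθθ : Cfsg.classInner (θ : N → ℂ) (θ : N → ℂ) = 1 :=
    Cfsg.Agent.Lib.Helper2.classInner_irrCharacter_self θ
  -- Step 3: uniqueness of the twisting character for every member of the fibre
  have hT : ∀ χ : Cfsg.IrrCharacter G, (∀ n : N, (χ : G → ℂ) n = (θ : N → ℂ) n) →
      Nat.card {lam : G →* ℂˣ // (∀ n ∈ N, lam n = 1) ∧
            ∀ g : G, ((lam g : ℂˣ) : ℂ) * (χ0 : G → ℂ) g = (χ : G → ℂ) g} = 1 := by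
    intro χ hχ
    have h1 := hF χ0 χ
    have e1 : (fun n : N => (χ0 : G → ℂ) n) = (θ : N → ℂ) := funext hres0
    have e2 : (fun n : N => (χ : G → ℂ) n) = (θ : N → ℂ) := funext hχ
    rw [e1, e2, hθθ] at h1
    exact_mod_cast h1.symm
  -- the map
  have hmemB : ∀ χ : Cfsg.IrrCharacter G, (∀ n : N, (χ : G → ℂ) n = (θ : N → ℂ) n) → χ ∈ B := by
    intro χ hχ
    apply hover χ θ hθ
    have e2 : (fun n : N => (χ : G → ℂ) n) = (θ : N → ℂ) := funext hχ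
    rw [e2, hθθ]
    exact one_ne_zero
  have hresTw : ∀ lam : {lam : G →* ℂˣ // ∀ n ∈ N, lam n = 1}, ∀ n : N,
      ((⟨fun g => ((lam.1 g : ℂˣ) : ℂ) * (χ0 : G → ℂ) g, hH lam.1 χ0⟩ :
        Cfsg.IrrCharacter G) : G → ℂ) n = (θ : N → ℂ) n := by
    intro lam n
    show ((lam.1 (n : G) : ℂˣ) : ℂ) * (χ0 : G → ℂ) n = (θ : N → ℂ) n
    rw [lam.2 n n.2, Units.val_one, one_mul, hres0 n]
  let f : {lam : G →* ℂˣ // ∀ n ∈ N, lam n = 1} →
      {χ : Cfsg.IrrCharacter G // χ ∈ B ∧ ∀ n : N, (χ : G → ℂ) n = (θ : N → ℂ) n} :=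
    fun lam => ⟨⟨fun g => ((lam.1 g : ℂˣ) : ℂ) * (χ0 : G → ℂ) g, hH lam.1 χ0⟩,
      hmemB _ (hresTw lam), hresTw lam⟩
  have hf : Function.Bijective f := by
    constructor
    · intro lam lam' h
      have hc := hT (f lam).1 (f lam).2.2
      rw [Nat.card_eq_one_iff_unique] at hc
      obtain ⟨hsub, -⟩ := hc
      have hval : ∀ g : G, ((lam'.1 g : ℂˣ) : ℂ) * (χ0 : G → ℂ) g
          = (((f lam).1 : Cfsg.IrrCharacter G) : G → ℂ) g := by
        intro g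
        have := congrArg (fun χ : {χ : Cfsg.IrrCharacter G //
            χ ∈ B ∧ ∀ n : N, (χ : G → ℂ) n = (θ : N → ℂ) n} => ((χ.1 : Cfsg.IrrCharacter G) : G → ℂ) g) h
        exact this.symm
      have := hsub.elim ⟨lam.1, lam.2, fun g => rfl⟩ ⟨lam'.1, lam'.2, hval⟩
      have h2 : lam.1 = lam'.1 := congrArg (fun t : {μ : G →* ℂˣ // (∀ n ∈ N, μ n = 1) ∧
            ∀ g : G, ((μ g : ℂˣ) : ℂ) * (χ0 : G → ℂ) g
              = (((f lam).1 : Cfsg.IrrCharacter G) : G → ℂ) g} => t.1) this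
      exact Subtype.ext h2
    · intro χ
      have hc := hT χ.1 χ.2.2
      rw [Nat.card_eq_one_iff_unique] at hc
      obtain ⟨-, ⟨⟨μ, hμN, hμ⟩⟩⟩ := hc
      refine ⟨⟨μ, hμN⟩, ?_⟩
      apply Subtype.ext
      apply Subtype.ext
      funext g
      exact hμ g
  exact (Nat.card_eq_of_bijective f hf).symm.trans hG

end Cfsg.Agent.Lib.Helper24.PIdx
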