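import Mathlib
import Cfsg.Agent.Lib.Helper9.ClassGraph8
import Cfsg.Agent.Lib.Helper22.Jordan

set_option autoImplicit false

/-! S4321 farm (architect helper24), pieces [B4], [B5], [B6]. -/

namespace Cfsg.Agent.Lib.Helper24.PSing

open Subgroup
open Cfsg.Agent.Lib.Helper9.ClassGraph

variable {G : Type*} [Group G]

namespace Helper20

theorem mem_cent_iff (y x : G) : x ∈ centralizer ({y} : Set G) ↔ x * y = y * x := by
  rw [Subgroup.mem_centralizer_iff]
  constructor
  · intro h; exact (h y rfl).symm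
  · intro h z hz
    rw [Set.mem_singleton_iff] at hz
    rw [hz]; exact h.symm

end Helper20

/-- [B4] `y ∈ P` with `cs y` coprime to `cs a`: `y^G = y^P` -/
theorem conj_eq_conj_P [Finite G] (p : ℕ) [Fact p.Prime] {a : G} (P : Sylow p G)
    (hdec : ∀ l ∈ centralizer ({a} : Set G), ∃ u ∈ (P : Subgroup G), ∃ c : G,
      (∀ q ∈ (P : Subgroup G), Commute q c) ∧ l = u * c)
    {y : G} (hyP : y ∈ (P : Subgroup G)) (hcy : (cs y).Coprime (cs a)) (g : G) :
    ∃ w ∈ (P : Subgroup G), g * y * g⁻¹ = w * y * w⁻¹ := by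
  obtain ⟨l, hl, v, hv, rfl⟩ := exists_mul_of_coprime_cs hcy.symm g
  obtain ⟨u, hu, c, hc, rfl⟩ := hdec l hl
  refine ⟨u, hu, ?_⟩
  have hvy : v * y = y * v := (Helper20.mem_cent_iff y v).mp hv
  have hcy' : y * c = c * y := hc y hyP
  have h1 : v * y * v⁻¹ = y := by rw [hvy]; group
  have h2 : c * y * c⁻¹ = y := by rw [← hcy']; group
  calc u * c * v * y * (u * c * v)⁻¹ = u * (c * (v * y * v⁻¹) * c⁻¹) * u⁻¹ := by group
    _ = u * y * u⁻¹ := by rw [h1, h2]

/-- [B5] `b` lies in every Sylow; then `y ∈ P` not commuting with `b` has `cs y` coprime to `cs a` -/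
theorem coprime_of_not_commute [Finite G] (p : ℕ) [Fact p.Prime] {a b : G} (P : Sylow p G)
    (hnm : ∀ x : G, p ∣ orderOf x → p ∣ cs x → (cs x).Coprime (cs a))
    (hbS : ∀ Q : Sylow p G, b ∈ (Q : Subgroup G))
    {y : G} (hyP : y ∈ (P : Subgroup G)) (hyb : ¬ Commute y b) : (cs y).Coprime (cs a) := by
  apply hnm y
  · -- y is a nontrivial p-element
    have hy1 : y ≠ 1 := by
      rintro rfl
      exact hyb (Commute.one_left b)
    obtain ⟨k, hk⟩ := (IsPGroup.iff_orderOf.mp P.isPGroup') ⟨y, hyP⟩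
    rw [Subgroup.orderOf_mk] at hk
    rw [hk]
    rcases k with _ | k
    · exfalso
      rw [pow_zero, orderOf_eq_one_iff] at hk
      exact hy1 hk
    · exact dvd_pow_self p (Nat.succ_ne_zero k)
  · -- p ∣ cs y
    by_contra hnd
    obtain ⟨Q, hQ, -⟩ := Cfsg.Agent.Lib.Helper22.exists_sylow_le_mem_of_not_dvd_index
      (centralizer ({y} : Set G)) hnd 1 (one_mem _) 0 (by rw [orderOf_one, pow_zero])
    have hb : b ∈ centralizer ({y} : Set G) := hQ (hbS Q)
    exact hyb ((Helper20.mem_cent_iff y b).mp hb).symm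

/-- [B6] `P` is normal if the conjugates of all `y ∈ P` not commuting with `b` stay in `P` -/
theorem normal_of_conj_mem [Finite G] (p : ℕ) [Fact p.Prime] {b : G} (P : Sylow p G)
    (hconj : ∀ y ∈ (P : Subgroup G), ¬ Commute y b → ∀ g : G, g * y * g⁻¹ ∈ (P : Subgroup G))
    (hy₀ : ∃ y₀ ∈ (P : Subgroup G), ¬ Commute y₀ b) : (P : Subgroup G).Normal := by
  obtain ⟨y₀, hy₀P, hy₀b⟩ := hy₀
  constructor
  intro y hy g
  by_cases hyb : Commute y b
  · have h1 : ¬ Commute (y₀ * y) b := by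
      intro h
      apply hy₀b
      have : y₀ = (y₀ * y) * y⁻¹ := by group
      rw [this]
      exact h.mul_left hyb.inv_left
    have h2 := hconj (y₀ * y) (mul_mem hy₀P hy) h1 g
    have h3 := hconj y₀ hy₀P hy₀b g
    have h4 : g * y * g⁻¹ = (g * y₀ * g⁻¹)⁻¹ * (g * (y₀ * y) * g⁻¹) := by group
    rw [h4]
    exact mul_mem (inv_mem h3) h2
  · exact hconj y hy hyb g

end Cfsg.Agent.Lib.Helper24.PSing
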