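import Mathlib
import Cfsg.Agent.Lib.Helper1.SZ

set_option autoImplicit false

/-! S4321 farm (architect helper24), piece [B7]: Schur–Zassenhaus step. -/

namespace Cfsg.Agent.Lib.Helper24.PSing

open Subgroup

variable {G : Type*} [Group G]

/-- [B7] (Schur–Zassenhaus) if `P ⊴ G` is Sylow with complement `K₁` and `y^G = y^P`, then a
`P`-conjugate of `K₁` centralizes `y` -/
theorem exists_conj_compl_commute [Finite G] (p : ℕ) [Fact p.Prime] (P : Sylow p G)
    (hn : (P : Subgroup G).Normal) (K₁ : Subgroup G) (hK : IsComplement' (P : Subgroup G) K₁)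
    (y : G) (hy : ∀ g : G, ∃ w ∈ (P : Subgroup G), g * y * g⁻¹ = w * y * w⁻¹) :
    ∃ u ∈ (P : Subgroup G), ∀ k ∈ K₁, Commute (u * k * u⁻¹) y := by
  have := hn
  set C : Subgroup G := centralizer ({y} : Set G) with hC
  have hmemC : ∀ x : G, x ∈ C ↔ x * y = y * x := by
    intro x
    rw [hC, Subgroup.mem_centralizer_iff]
    constructor
    · intro h; exact (h y rfl).symm
    · intro h z hz
      rw [Set.mem_singleton_iff] at hz
      rw [hz]; exact h.symm
  -- G = P * C
  have hPC : ∀ g : G, ∃ w ∈ (P : Subgroup G), ∃ c ∈ C, g = w * c := by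
    intro g
    obtain ⟨w, hw, hwy⟩ := hy g
    refine ⟨w, hw, w⁻¹ * g, ?_, by group⟩
    rw [hmemC]
    have h1 : w⁻¹ * (g * y * g⁻¹) * w = y := by rw [hwy]; group
    have h2 : w⁻¹ * g * y = y * (w⁻¹ * g) := by
      calc w⁻¹ * g * y = (w⁻¹ * (g * y * g⁻¹) * w) * (w⁻¹ * g) := by group
        _ = y * (w⁻¹ * g) := by rw [h1]
    exact h2
  -- Schur–Zassenhaus existence inside C
  have hPp : IsPGroup p ↥((P : Subgroup G).subgroupOf C) :=
    P.isPGroup'.comap_subtype
  have hcop : (Nat.card ↥((P : Subgroup G).subgroupOf C)).Coprime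
      ((P : Subgroup G).subgroupOf C).index := by
    obtain ⟨n, hn'⟩ := IsPGroup.iff_card.mp hPp
    rw [hn']
    apply Nat.Coprime.pow_left
    rw [Nat.Prime.coprime_iff_not_dvd (Fact.out : p.Prime)]
    intro hdvd
    have h1 : ((P : Subgroup G).subgroupOf C).index ∣ (P : Subgroup G).index :=
      Subgroup.relIndex_dvd_index_of_normal (P : Subgroup G) C
    exact P.not_dvd_index (hdvd.trans h1)
  obtain ⟨K', hK'⟩ := Subgroup.exists_right_complement'_of_coprime hcop
  -- push the complement to G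
  set Ky : Subgroup G := K'.map C.subtype with hKy
  have hKyC : Ky ≤ C := by
    rintro x ⟨c, -, rfl⟩
    exact c.2
  have hcompl : IsComplement' (P : Subgroup G) Ky := by
    apply Subgroup.isComplement'_of_disjoint_and_mul_eq_univ
    · rw [Subgroup.disjoint_def]
      intro x hxP hxK
      obtain ⟨c, hcK, rfl⟩ := hxK
      have h1 : c ∈ (P : Subgroup G).subgroupOf C := Subgroup.mem_subgroupOf.mpr hxP
      have hdisj := hK'.disjoint
      rw [Subgroup.disjoint_def] at hdisj
      have := hdisj h1 hcK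
      rw [this]; rfl
    · apply Set.eq_univ_of_forall
      intro g
      obtain ⟨w, hw, c, hc, rfl⟩ := hPC g
      obtain ⟨⟨⟨n, hnP⟩, ⟨k, hk⟩⟩, hnk, -⟩ := hK'.existsUnique (⟨c, hc⟩ : ↥C)
      simp only at hnk
      have hnk' : (n : G) * (k : G) = c := by
        have := congrArg Subtype.val hnk
        simpa using this
      refine Set.mem_mul.mpr ⟨w * n, ?_, (k : G), ?_, ?_⟩
      · exact mul_mem hw (Subgroup.mem_subgroupOf.mp hnP)
      · exact ⟨k, hk, rfl⟩
      · rw [mul_assoc, hnk']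
  -- conjugacy of complements
  have hsolv : Group.IsSolvable ↥(P : Subgroup G) := by
    have : Group.IsNilpotent ↥(P : Subgroup G) := P.isPGroup'.isNilpotent
    infer_instance
  obtain ⟨g, hg⟩ := Cfsg.Agent.Lib.Helper1.sz_conj (P : Subgroup G) P.card_coprime_index
    (Or.inl hsolv) K₁ Ky hK hcompl
  obtain ⟨⟨⟨u, hu⟩, ⟨k₀, hk₀⟩⟩, huk, -⟩ := hK.existsUnique g
  simp only at huk
  refine ⟨u, hu, fun k hk => ?_⟩
  have h1 : g * (k₀⁻¹ * k * k₀) * g⁻¹ ∈ Ky := by
    rw [← hg]
    exact Subgroup.mem_pointwise_smul_iff_inv_smul_mem.mpr (by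
      simp only [MulAut.smul_def, MulAut.conj_inv_apply]
      have : g⁻¹ * (g * (k₀⁻¹ * k * k₀) * g⁻¹) * g = k₀⁻¹ * k * k₀ := by group
      rw [this]
      exact mul_mem (mul_mem (inv_mem hk₀) hk) hk₀)
  have h2 : g * (k₀⁻¹ * k * k₀) * g⁻¹ = u * k * u⁻¹ := by
    rw [← huk]; group
  rw [h2] at h1
  have h3 := (hmemC _).mp (hKyC h1)
  exact h3

end Cfsg.Agent.Lib.Helper24.PSing
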