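import Mathlib
import Cfsg.Prelude
import Cfsg.Agent.Lib.Helper9.Layer3
import Cfsg.Agent.Lib.Helper1.Cores
import Cfsg.Agent.Lib.Helper17.CharP
import Cfsg.Agent.Lib.Helper17.Conj

/-!
Relative (ambient) forms of subnormality, components, layer and generalized Fitting subgroup of a
subgroup `M` of a group `G`, all expressed with subgroups of `G`.
-/

set_option autoImplicit false

namespace Cfsg.Agent.Lib.Helper20

open Cfsg Cfsg.Agent.Lib.Helper9

section

variable {G : Type*} [Group G]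

/-- `L` is a subnormal subgroup of `M` (both subgroups of the ambient group). -/
def SnIn (L M : Subgroup G) : Prop := L ≤ M ∧ (L.subgroupOf M).IsSubnormal

theorem SnIn.le {L M : Subgroup G} (h : SnIn L M) : L ≤ M := h.1

theorem SnIn.of_normal {F M : Subgroup G} (h : F ≤ M)
    (hn : M ≤ Subgroup.normalizer (F : Set G)) : SnIn F M :=
  ⟨h, ((Subgroup.normal_subgroupOf_iff_le_normalizer h).mpr hn).isSubnormal⟩

theorem SnIn.refl (M : Subgroup G) : SnIn M M := SnIn.of_normal le_rfl Subgroup.le_normalizer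

theorem SnIn.restrict {L M D : Subgroup G} (h : SnIn L M) (hLD : L ≤ D) (hDM : D ≤ M) :
    SnIn L D := by
  refine ⟨hLD, ?_⟩
  have h1 : L.subgroupOf D = (L.subgroupOf M).comap (Subgroup.inclusion hDM) := by
    ext x
    simp [Subgroup.mem_subgroupOf]
  rw [h1]
  exact h.2.comap _

theorem SnIn.trans {L F M : Subgroup G} (h1 : SnIn L F) (h2 : SnIn F M) : SnIn L M := by
  refine ⟨h1.1.trans h2.1, ?_⟩
  have hHK : L.subgroupOf M ≤ F.subgroupOf M := by
    intro x hx
    rw [Subgroup.mem_subgroupOf] at hx ⊢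
    exact h1.1 hx
  refine Subgroup.IsSubnormal.trans hHK ?_ h2.2
  have h3 : (L.subgroupOf M).subgroupOf (F.subgroupOf M) =
      (L.subgroupOf F).comap (Subgroup.subgroupOfEquivOfLe h2.1).toMonoidHom := by
    ext x
    simp [Subgroup.mem_subgroupOf, Subgroup.subgroupOfEquivOfLe]
  rw [h3]
  exact h1.2.comap _

theorem isComponentOf_iff {L M : Subgroup G} :
    IsComponentOf L M ↔ SnIn L M ∧ IsQuasisimple ↥L := by
  unfold IsComponentOf IsComponent SnIn
  constructor
  · rintro ⟨h1, h2, h3⟩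
    exact ⟨⟨h1, h2⟩, qs_of_mulEquiv (Subgroup.subgroupOfEquivOfLe h1) h3⟩
  · rintro ⟨⟨h1, h2⟩, h3⟩
    exact ⟨h1, h2, qs_of_mulEquiv (Subgroup.subgroupOfEquivOfLe h1).symm h3⟩

/-- The layer of `M`, as a subgroup of `G`. -/
def layerOf (M : Subgroup G) : Subgroup G := (layer ↥M).map M.subtype

/-- The Fitting subgroup of `M`, as a subgroup of `G`. -/
def fitOf (M : Subgroup G) : Subgroup G := (fittingSubgroup ↥M).map M.subtype

/-- The generalized Fitting subgroup of `M`, as a subgroup of `G`. -/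
def gfsOf (M : Subgroup G) : Subgroup G := (generalizedFittingSubgroup ↥M).map M.subtype

theorem layerOf_le (M : Subgroup G) : layerOf M ≤ M := Subgroup.map_subtype_le _
theorem fitOf_le (M : Subgroup G) : fitOf M ≤ M := Subgroup.map_subtype_le _
theorem gfsOf_le (M : Subgroup G) : gfsOf M ≤ M := Subgroup.map_subtype_le _

theorem gfsOf_eq (M : Subgroup G) : gfsOf M = layerOf M ⊔ fitOf M := by
  unfold gfsOf layerOf fitOf generalizedFittingSubgroup
  rw [Subgroup.map_sup]

theorem layerOf_eq_sSup (M : Subgroup G) : layerOf M = sSup {L : Subgroup G | IsComponentOf L M} := by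
  unfold layerOf
  apply le_antisymm
  · unfold Cfsg.layer
    rw [sSup_eq_iSup, Subgroup.map_iSup]
    apply iSup_le
    intro K
    rw [Subgroup.map_iSup]
    apply iSup_le
    intro hK
    apply le_sSup
    refine ⟨Subgroup.map_subtype_le K, ?_⟩
    have e2 : (K.map M.subtype).subgroupOf M = K := by
      rw [Subgroup.subgroupOf, Subgroup.comap_map_eq_self_of_injective M.subtype_injective]
    rw [e2]
    exact hK
  · apply sSup_le
    rintro L ⟨hLM, hL⟩
    have h2 : L.subgroupOf M ≤ Cfsg.layer ↥M := le_sSup hL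
    have h3 := Subgroup.map_mono (f := M.subtype) h2
    rwa [Subgroup.map_subgroupOf_eq_of_le hLM] at h3

theorem IsComponentOf.le_layerOf {L M : Subgroup G} (h : IsComponentOf L M) : L ≤ layerOf M := by
  rw [layerOf_eq_sSup]
  exact le_sSup h

theorem le_normalizer_map_of_normal {M : Subgroup G} (N : Subgroup ↥M) [hN : N.Normal] :
    M ≤ Subgroup.normalizer ((N.map M.subtype : Subgroup G) : Set G) := by
  intro g hg
  rw [Subgroup.mem_normalizer_iff]
  intro x
  constructor
  · rintro ⟨y, hy, rfl⟩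
    exact ⟨⟨g, hg⟩ * y * ⟨g, hg⟩⁻¹, hN.conj_mem y hy ⟨g, hg⟩, rfl⟩
  · rintro ⟨y, hy, hyx⟩
    refine ⟨⟨g, hg⟩⁻¹ * y * ⟨g, hg⟩, ?_, ?_⟩
    · have := hN.conj_mem y hy ⟨g, hg⟩⁻¹
      simpa using this
    · simp only [Subgroup.subtype_apply, Subgroup.coe_mul, Subgroup.coe_inv] at hyx ⊢
      rw [hyx]; group

theorem le_normalizer_layerOf (M : Subgroup G) : M ≤ Subgroup.normalizer (layerOf M : Set G) := by
  haveI : (layer ↥M).Characteristic := layer_characteristic (G := ↥M)
  exact le_normalizer_map_of_normal _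

theorem le_normalizer_fitOf (M : Subgroup G) : M ≤ Subgroup.normalizer (fitOf M : Set G) := by
  haveI : (fittingSubgroup ↥M).Normal := Cfsg.Agent.Lib.Helper1.fittingSubgroup_normal
  exact le_normalizer_map_of_normal _

theorem le_normalizer_gfsOf (M : Subgroup G) : M ≤ Subgroup.normalizer (gfsOf M : Set G) := by
  haveI : (generalizedFittingSubgroup ↥M).Characteristic := gfs_characteristic (G := ↥M)
  exact le_normalizer_map_of_normal _

/-- `C_M(F*(M)) ≤ F*(M)`, ambient form. -/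
theorem inf_centralizer_gfsOf_le [Finite G] (M : Subgroup G) :
    M ⊓ Subgroup.centralizer (gfsOf M : Set G) ≤ gfsOf M := by
  intro x hx
  obtain ⟨hxM, hxC⟩ := Subgroup.mem_inf.mp hx
  have h1 : (⟨x, hxM⟩ : ↥M) ∈ Subgroup.centralizer (generalizedFittingSubgroup ↥M : Set ↥M) := by
    rw [Subgroup.mem_centralizer_iff]
    intro y hy
    rw [Subgroup.mem_centralizer_iff] at hxC
    have := hxC (y : G) ⟨y, hy, rfl⟩
    exact Subtype.ext this
  exact ⟨⟨x, hxM⟩, centralizer_gfs_le h1, rfl⟩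

/-- A component `L` of `D` and a subnormal subgroup `F` of `D`: `L ≤ F` or `[L, F] = 1`. -/
theorem IsComponentOf.le_or_commutator_eq_bot [Finite G] {L D F : Subgroup G}
    (hL : IsComponentOf L D) (hF : SnIn F D) : L ≤ F ∨ ⁅L, F⁆ = ⊥ := by
  rcases comp_le_or_commutator_eq_bot hL.2 hF.2 with h | h
  · left; exact le_of_subgroupOf_le hL.1 h
  · right; exact commutator_eq_bot_of_subgroupOf hL.1 hF.1 h

/-- Two subgroups normalizing each other and meeting trivially commute elementwise. -/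
theorem commute_of_le_normalizer_of_inf_eq_bot {X Y : Subgroup G}
    (hXY : X ≤ Subgroup.normalizer (Y : Set G)) (hYX : Y ≤ Subgroup.normalizer (X : Set G))
    (hd : X ⊓ Y = ⊥) : ∀ x ∈ X, ∀ y ∈ Y, x * y = y * x := by
  intro x hx y hy
  have h1 : x * y * x⁻¹ * y⁻¹ ∈ Y := by
    have := (Subgroup.mem_normalizer_iff.mp (hXY hx) y).mp hy
    exact Y.mul_mem this (Y.inv_mem hy)
  have h2 : x * y * x⁻¹ * y⁻¹ ∈ X := by
    have := (Subgroup.mem_normalizer_iff.mp (hYX hy) x⁻¹).mp (X.inv_mem hx)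
    have e : x * y * x⁻¹ * y⁻¹ = x * (y * x⁻¹ * y⁻¹) := by group
    rw [e]
    exact X.mul_mem hx this
  have h3 : x * y * x⁻¹ * y⁻¹ ∈ X ⊓ Y := Subgroup.mem_inf.mpr ⟨h2, h1⟩
  rw [hd, Subgroup.mem_bot] at h3
  calc x * y = (x * y * x⁻¹ * y⁻¹) * (y * x) := by group
    _ = y * x := by rw [h3, one_mul]

theorem le_normalizer_iSup [Finite G] {ι : Sort*} (A : ι → Subgroup G) {M : Subgroup G}
    (h : ∀ i, M ≤ Subgroup.normalizer (A i : Set G)) :
    M ≤ Subgroup.normalizer ((⨆ i, A i : Subgroup G) : Set G) := by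
  intro m hm
  apply Cfsg.Agent.Lib.Helper17.mem_normalizer_of_map_conj_eq
  rw [Subgroup.map_iSup]
  congr 1
  funext i
  exact Cfsg.Agent.Lib.Helper17.map_conj_eq_of_mem_normalizer (h i hm)

theorem le_centralizer_sup {H A B : Subgroup G} (hA : H ≤ Subgroup.centralizer (A : Set G))
    (hB : H ≤ Subgroup.centralizer (B : Set G)) :
    H ≤ Subgroup.centralizer ((A ⊔ B : Subgroup G) : Set G) := by
  rw [Subgroup.le_centralizer_iff] at hA hB ⊢
  exact sup_le hA hB

theorem le_centralizer_iSup {ι : Sort*} {H : Subgroup G} (A : ι → Subgroup G)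
    (hA : ∀ i, H ≤ Subgroup.centralizer (A i : Set G)) :
    H ≤ Subgroup.centralizer ((⨆ i, A i : Subgroup G) : Set G) := by
  rw [Subgroup.le_centralizer_iff]
  apply iSup_le
  intro i
  rw [← Subgroup.le_centralizer_iff]
  exact hA i

theorem fitOf_eq_iSup [Finite G] (M : Subgroup G) :
    fitOf M = ⨆ q : Nat.Primes, pCoreOf (q : ℕ) M := by
  unfold fitOf pCoreOf
  rw [Cfsg.Agent.Lib.Helper1.fittingSubgroup_eq_iSup_primes, Subgroup.map_iSup]

theorem pCoreOf_le_fitOf [Finite G] (M : Subgroup G) (q : ℕ) [hq : Fact q.Prime] :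
    pCoreOf q M ≤ fitOf M := by
  rw [fitOf_eq_iSup]
  exact le_iSup (fun r : Nat.Primes => pCoreOf (r : ℕ) M) ⟨q, hq.out⟩

end

end Cfsg.Agent.Lib.Helper20
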