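import Mathlib
import Cfsg.Prelude.Def_LocalStructure
import Cfsg.Agent.Lib.Helper17.PResidual

/-!
S2860 farm-out piece G (for helper27): a finite group generated by `p`-subgroups `Qs i`;
a normal subgroup containing all `[O^p(H), Qs i]` contains `O^p(H)`.
-/

set_option autoImplicit false

namespace Cfsg.Agent.Lib.Helper20.S2860G

open Cfsg Cfsg.Agent.Lib.Helper17

theorem pResidual_le_of_commutator_le {H : Type*} [Group H] [Finite H] {p : ℕ} [Fact p.Prime]
    {ι : Type*} (Qs : ι → Subgroup H) (hQp : ∀ i, IsPGroup p (Qs i)) (hgen : (⨆ i, Qs i) = ⊤)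
    (N : Subgroup H) [N.Normal] (hc : ∀ i, ⁅Cfsg.pResidual p H, Qs i⁆ ≤ N) :
    Cfsg.pResidual p H ≤ N := by
  have hsurj : Function.Surjective (QuotientGroup.mk' N) := QuotientGroup.mk'_surjective N
  obtain ⟨Rb, hRb⟩ : ∃ Rb : Subgroup (H ⧸ N), Rb = (pResidual p H).map (QuotientGroup.mk' N) :=
    ⟨_, rfl⟩
  -- each image of `Qs i` centralizes the image of `O^p(H)`
  have h1 : ∀ i, (Qs i).map (QuotientGroup.mk' N) ≤ Subgroup.centralizer (Rb : Set (H ⧸ N)) := by
    intro i
    rw [← Subgroup.commutator_eq_bot_iff_le_centralizer, Subgroup.commutator_comm, hRb,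
      ← Subgroup.map_commutator, eq_bot_iff]
    intro x hx
    obtain ⟨y, hy, rfl⟩ := hx
    rw [Subgroup.mem_bot]
    exact (QuotientGroup.eq_one_iff y).mpr (hc i hy)
  have h2 : Subgroup.centralizer (Rb : Set (H ⧸ N)) = ⊤ := by
    rw [eq_top_iff]
    calc (⊤ : Subgroup (H ⧸ N)) = (⊤ : Subgroup H).map (QuotientGroup.mk' N) :=
          (Subgroup.map_top_of_surjective _ hsurj).symm
      _ = ⨆ i, (Qs i).map (QuotientGroup.mk' N) := by rw [← hgen, Subgroup.map_iSup]
      _ ≤ _ := iSup_le h1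
  -- a Sylow subgroup of the quotient
  obtain ⟨T⟩ : Nonempty (Sylow p H) := inferInstance
  obtain ⟨Tb, hTb⟩ : ∃ Tb : Sylow p (H ⧸ N), Tb = T.mapSurjective hsurj := ⟨_, rfl⟩
  have hTbc : (Tb : Subgroup (H ⧸ N)) = (T : Subgroup H).map (QuotientGroup.mk' N) := by
    rw [hTb]; rfl
  have h3 : (Tb : Subgroup (H ⧸ N)) ⊔ Rb = ⊤ := by
    rw [hTbc, hRb, ← Subgroup.map_sup, sylow_sup_pResidual T,
      Subgroup.map_top_of_surjective _ hsurj]
  have h4 : (Tb : Subgroup (H ⧸ N)).Normal := by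
    rw [← Subgroup.normalizer_eq_top_iff, eq_top_iff, ← h3]
    apply sup_le Subgroup.le_normalizer
    intro r hr
    rw [Subgroup.mem_normalizer_iff]
    intro x
    have hrc : ∀ y : H ⧸ N, r * y * r⁻¹ = y := by
      intro y
      have hy : y ∈ Subgroup.centralizer (Rb : Set (H ⧸ N)) := by rw [h2]; trivial
      have := hy r hr
      rw [mul_inv_eq_iff_eq_mul]; exact this
    rw [hrc]
  -- every `p`-subgroup lies in the normal Sylow subgroup
  have h5 : ∀ i, (Qs i).map (QuotientGroup.mk' N) ≤ (Tb : Subgroup (H ⧸ N)) := by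
    intro i
    have hp : IsPGroup p ((Qs i).map (QuotientGroup.mk' N) ⊔ (Tb : Subgroup (H ⧸ N)) :
        Subgroup (H ⧸ N)) :=
      IsPGroup.to_sup_of_normal_right ((hQp i).map _) Tb.isPGroup'
    have := Tb.is_maximal' hp le_sup_right
    rw [← this]; exact le_sup_left
  have h6 : (Tb : Subgroup (H ⧸ N)) = ⊤ := by
    rw [eq_top_iff]
    calc (⊤ : Subgroup (H ⧸ N)) = (⊤ : Subgroup H).map (QuotientGroup.mk' N) :=
          (Subgroup.map_top_of_surjective _ hsurj).symm
      _ = ⨆ i, (Qs i).map (QuotientGroup.mk' N) := by rw [← hgen, Subgroup.map_iSup]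
      _ ≤ _ := iSup_le h5
  have h7 : IsPGroup p (H ⧸ N) := by
    have := Tb.isPGroup'
    rw [h6] at this
    exact this.of_equiv Subgroup.topEquiv
  exact pResidual_le_of_quotient_isPGroup h7

end Cfsg.Agent.Lib.Helper20.S2860G
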