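import Mathlib
import Cfsg.Prelude.Def_LocalStructure

/-!
S2860 farm-out piece Q (for helper27): quasisimple quotient criterion.
-/

set_option autoImplicit false

namespace Cfsg.Agent.Lib.Helper20.S2860Q

open Cfsg
open scoped commutatorElement

theorem isQuasisimple_quotient_of_commutator_le {H : Type*} [Group H] [Finite H]
    (N M : Subgroup H) [N.Normal] [M.Normal] (hNM : N ≤ M)
    (hperf : ⁅(⊤ : Subgroup H), (⊤ : Subgroup H)⁆ = ⊤) (hqs : Cfsg.IsQuasisimple (H ⧸ M))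
    (hc : ⁅M, (⊤ : Subgroup H)⁆ ≤ N) : Cfsg.IsQuasisimple (H ⧸ N) := by
  have hHperf : Group.IsPerfect H := ⟨hperf⟩
  have hAperf : Group.IsPerfect (H ⧸ N) :=
    Group.IsPerfect.ofSurjective (f := QuotientGroup.mk' N) (QuotientGroup.mk'_surjective N)
  refine ⟨hAperf, ?_⟩
  -- the natural map `A = H/N → B = H/M`
  obtain ⟨φ, hφ⟩ : ∃ φ : H ⧸ N →* H ⧸ M, φ = QuotientGroup.map N M (MonoidHom.id H) hNM :=
    ⟨_, rfl⟩
  have hφmk : ∀ h : H, φ (QuotientGroup.mk h) = QuotientGroup.mk h := by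
    intro h; rw [hφ]; rfl
  have hφsurj : Function.Surjective φ := by
    intro b
    induction b using QuotientGroup.induction_on with
    | H h => exact ⟨QuotientGroup.mk h, hφmk h⟩
  -- the kernel of `φ` is central
  have hker : φ.ker ≤ Subgroup.center (H ⧸ N) := by
    intro a ha
    induction a using QuotientGroup.induction_on with
    | H m =>
      rw [MonoidHom.mem_ker, hφmk, QuotientGroup.eq_one_iff] at ha
      rw [Subgroup.mem_center_iff]
      intro b
      induction b using QuotientGroup.induction_on with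
      | H h =>
        have h1 : ⁅m, h⁆ ∈ N := hc (Subgroup.commutator_mem_commutator ha (Subgroup.mem_top h))
        rw [← QuotientGroup.mk_mul, ← QuotientGroup.mk_mul, QuotientGroup.eq]
        have h2 : (h * m)⁻¹ * (m * h) = h⁻¹ * ⁅m⁻¹, h⁆⁻¹ * h := by
          simp only [commutatorElement_def]; group
        rw [h2]
        have h3 : ⁅m⁻¹, h⁆ ∈ N :=
          hc (Subgroup.commutator_mem_commutator (M.inv_mem ha) (Subgroup.mem_top h))
        have := ‹N.Normal›.conj_mem _ (N.inv_mem h3) h⁻¹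
        simpa using this
  -- the preimage of the centre of `B`
  obtain ⟨Z1, hZ1⟩ : ∃ Z1 : Subgroup (H ⧸ N), Z1 = (Subgroup.center (H ⧸ M)).comap φ := ⟨_, rfl⟩
  have hZ1c : ⁅Z1, (⊤ : Subgroup (H ⧸ N))⁆ ≤ φ.ker := by
    rw [Subgroup.commutator_le]
    intro z hz a _
    rw [hZ1, Subgroup.mem_comap] at hz
    rw [MonoidHom.mem_ker, map_commutatorElement]
    rw [commutatorElement_eq_one_iff_mul_comm]
    exact ((Subgroup.mem_center_iff.mp hz) (φ a)).symm
  have hZ1cen : Z1 ≤ Subgroup.center (H ⧸ N) := by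
    have h1 : ⁅⁅(⊤ : Subgroup (H ⧸ N)), Z1⁆, (⊤ : Subgroup (H ⧸ N))⁆ = ⊥ := by
      rw [Subgroup.commutator_comm ⊤ Z1, Subgroup.commutator_eq_bot_iff_le_centralizer]
      intro x hx
      have := hker (hZ1c hx)
      rw [Subgroup.mem_centralizer_iff]
      intro y _
      exact (Subgroup.mem_center_iff.mp this y)
    have h2 : ⁅⁅Z1, (⊤ : Subgroup (H ⧸ N))⁆, (⊤ : Subgroup (H ⧸ N))⁆ = ⊥ := by
      rw [Subgroup.commutator_comm Z1 ⊤]; exact h1
    have h3 := Subgroup.commutator_commutator_eq_bot_of_rotate h1 h2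
    have hA : ⁅(⊤ : Subgroup (H ⧸ N)), (⊤ : Subgroup (H ⧸ N))⁆ = ⊤ := hAperf.commutator_eq_top
    rw [hA, Subgroup.commutator_eq_bot_iff_le_centralizer] at h3
    intro z hz
    rw [Subgroup.mem_center_iff]
    intro a
    have := h3 (Subgroup.mem_top a)
    rw [Subgroup.mem_centralizer_iff] at this
    exact (this z hz).symm
  have hcenZ1 : Subgroup.center (H ⧸ N) ≤ Z1 := by
    intro z hz
    rw [hZ1, Subgroup.mem_comap, Subgroup.mem_center_iff]
    intro b
    obtain ⟨a, rfl⟩ := hφsurj b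
    rw [← map_mul, ← map_mul, (Subgroup.mem_center_iff.mp hz) a]
  have hZ1eq : Z1 = Subgroup.center (H ⧸ N) := le_antisymm hZ1cen hcenZ1
  -- the composite `A → B → B / Z(B)`
  obtain ⟨ψ, hψ⟩ : ∃ ψ : H ⧸ N →* (H ⧸ M) ⧸ Subgroup.center (H ⧸ M),
      ψ = (QuotientGroup.mk' (Subgroup.center (H ⧸ M))).comp φ := ⟨_, rfl⟩
  have hψsurj : Function.Surjective ψ := by
    rw [hψ]
    exact (QuotientGroup.mk'_surjective _).comp hφsurj
  have hψker : ψ.ker = Subgroup.center (H ⧸ N) := by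
    rw [← hZ1eq, hZ1, hψ]
    ext a
    rw [MonoidHom.mem_ker, Subgroup.mem_comap, MonoidHom.comp_apply, QuotientGroup.mk'_apply,
      QuotientGroup.eq_one_iff]
  have e1 : (H ⧸ N) ⧸ ψ.ker ≃* (H ⧸ M) ⧸ Subgroup.center (H ⧸ M) :=
    QuotientGroup.quotientKerEquivOfSurjective ψ hψsurj
  have e2 : (H ⧸ N) ⧸ Subgroup.center (H ⧸ N) ≃* (H ⧸ N) ⧸ ψ.ker :=
    QuotientGroup.quotientMulEquivOfEq hψker.symm
  have := hqs.2
  exact ((e2.trans e1).isSimpleGroup_congr).mpr this

end Cfsg.Agent.Lib.Helper20.S2860Q
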