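import Mathlib
import Cfsg.Agent.Lib.Helper19.S3313Defs
import Cfsg.Agent.Lib.Helper20.S3313Zi

/-!
# S3313 FO-Zg (architect helper19): `|I| = 120`, with FO-Zf1 and the involution count of `K` as
hypotheses
-/

set_option autoImplicit false

namespace Cfsg.Agent.Lib.Helper20.S3313Zg

open Cfsg Cfsg.Agent.Lib.Helper19.S3313 Cfsg.Agent.Lib.Helper20.S3313Zi

variable {G : Type*} [Group G] {z t : G} {Q K V B : Subgroup G}

/-- every element of `C(z) = K ⊔ Q` is a product `k x` -/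
theorem exists_mul_of_mem_centralizer (h : HJ z t Q K V B) (v : G)
    (hv : v ∈ Subgroup.centralizer ({z} : Set G)) : ∃ k ∈ K, ∃ x ∈ Q, v = k * x := by
  have hKC : K ≤ Subgroup.centralizer ({z} : Set G) := by
    rw [← h.KQ]; exact le_sup_left
  let S : Subgroup G :=
    { carrier := {g | ∃ k ∈ K, ∃ x ∈ Q, g = k * x}
      mul_mem' := by
        rintro a b ⟨k, hk, x, hx, rfl⟩ ⟨k', hk', x', hx', rfl⟩
        refine ⟨k * k', K.mul_mem hk hk', (k'⁻¹ * x * (k'⁻¹)⁻¹) * x', ?_, ?_⟩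
        · exact Q.mul_mem (h.Qnorm _ (Subgroup.inv_mem _ (hKC hk')) x hx) hx'
        · group
      one_mem' := ⟨1, K.one_mem, 1, Q.one_mem, by simp⟩
      inv_mem' := by
        rintro a ⟨k, hk, x, hx, rfl⟩
        refine ⟨k⁻¹, K.inv_mem hk, k * x⁻¹ * k⁻¹, ?_, ?_⟩
        · exact h.Qnorm _ (hKC hk) _ (Q.inv_mem hx)
        · group }
  have hKS : K ≤ S := fun k hk => ⟨k, hk, 1, Q.one_mem, by simp⟩
  have hQS : Q ≤ S := fun x hx => ⟨1, K.one_mem, x, hx, by simp⟩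
  have : v ∈ S := by
    have h1 : K ⊔ Q ≤ S := sup_le hKS hQS
    rw [h.KQ] at h1
    exact h1 hv
  exact this

variable [Finite G]

set_option maxHeartbeats 800000 in
/-- FO-Zg with its inputs as hypotheses -/
theorem card_I_aux (h : HJ z t Q K V B)
    (hcoset : ∀ v : G, IsConj v t → v * z = z * v →
      Nat.card {x : G // x ∈ Q ∧ (v * x) ^ 2 = 1} = 8)
    (h15 : Nat.card {x : K // orderOf x = 2} = 15) :
    Nat.card {v : G // IsConj v t ∧ v * z = z * v} = 120 := by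
  classical
  have hKC : K ≤ Subgroup.centralizer ({z} : Set G) := by
    rw [← h.KQ]; exact le_sup_left
  have hQC := h.QC
  -- involutions of `K` lie in `I`
  have hKI : ∀ k : G, k ∈ K → orderOf k = 2 → IsConj k t ∧ k * z = z * k := by
    intro k hkK hko
    have hk1 : k ≠ 1 := by
      intro h1
      rw [h1, orderOf_one] at hko
      omega
    have hkQ : k ∉ Q := by
      intro hkQ
      have : k ∈ K ⊓ Q := ⟨hkK, hkQ⟩
      rw [h.KQbot] at this
      exact hk1 (Subgroup.mem_bot.mp this)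
    exact ⟨h.hCz k (hKC hkK) hko hkQ, Subgroup.mem_centralizer_singleton_iff.mp (hKC hkK)⟩
  have h15' : Nat.card {k : G // k ∈ K ∧ orderOf k = 2} = 15 := by
    rw [← h15]
    apply Nat.card_congr
    refine ⟨fun k => ⟨⟨k.1, k.2.1⟩, ?_⟩, fun x => ⟨x.1.1, x.1.2, ?_⟩, ?_, ?_⟩
    · rw [← Subgroup.orderOf_coe]
      exact k.2.2
    · have := x.2
      rw [← Subgroup.orderOf_coe] at this
      exact this
    · intro k; rfl
    · intro x; rfl
  have hfib : ∀ k : {k : G // k ∈ K ∧ orderOf k = 2},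
      Nat.card {x : G // x ∈ Q ∧ (k.1 * x) ^ 2 = 1} = 8 := by
    rintro ⟨k, hkK, hko⟩
    obtain ⟨h1, h2⟩ := hKI k hkK hko
    exact hcoset k h1 h2
  have hsig : Nat.card (Σ k : {k : G // k ∈ K ∧ orderOf k = 2},
      {x : G // x ∈ Q ∧ (k.1 * x) ^ 2 = 1}) = 120 := by
    have : Fintype {k : G // k ∈ K ∧ orderOf k = 2} := Fintype.ofFinite _
    rw [Nat.card_sigma]
    simp only [hfib, Finset.sum_const, Finset.card_univ, smul_eq_mul]
    rw [← Nat.card_eq_fintype_card, h15']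
  rw [← hsig]
  symm
  -- the map `(k, x) ↦ k x`
  have hwd : ∀ s : (Σ k : {k : G // k ∈ K ∧ orderOf k = 2},
      {x : G // x ∈ Q ∧ (k.1 * x) ^ 2 = 1}),
      IsConj (s.1.1 * s.2.1) t ∧ (s.1.1 * s.2.1) * z = z * (s.1.1 * s.2.1) := by
    rintro ⟨⟨k, hkK, hko⟩, ⟨x, hxQ, hx2⟩⟩
    change IsConj (k * x) t ∧ (k * x) * z = z * (k * x)
    have hk1 : k ≠ 1 := by
      intro h1
      rw [h1, orderOf_one] at hko
      omega
    have hvC : k * x ∈ Subgroup.centralizer ({z} : Set G) :=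
      Subgroup.mul_mem _ (hKC hkK) (hQC hxQ)
    have hvQ : k * x ∉ Q := by
      intro hvQ
      have hkQ : k ∈ Q := by
        have : k = (k * x) * x⁻¹ := by group
        rw [this]
        exact Q.mul_mem hvQ (Q.inv_mem hxQ)
      have : k ∈ K ⊓ Q := ⟨hkK, hkQ⟩
      rw [h.KQbot] at this
      exact hk1 (Subgroup.mem_bot.mp this)
    have hv1 : k * x ≠ 1 := by
      intro h1
      apply hvQ
      rw [h1]
      exact Q.one_mem
    have hvo : orderOf (k * x) = 2 := orderOf_two_of_sq hx2 hv1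
    exact ⟨h.hCz _ hvC hvo hvQ, Subgroup.mem_centralizer_singleton_iff.mp hvC⟩
  refine Nat.card_congr (Equiv.ofBijective (fun s => ⟨s.1.1 * s.2.1, hwd s⟩) ⟨?_, ?_⟩)
  · -- injective
    rintro ⟨⟨k, hkK, hko⟩, ⟨x, hxQ, hx2⟩⟩ ⟨⟨k', hk'K, hk'o⟩, ⟨x', hx'Q, hx'2⟩⟩ heq
    have heq' : k * x = k' * x' := congrArg Subtype.val heq
    have h1 : k'⁻¹ * k = x' * x⁻¹ := by
      calc k'⁻¹ * k = k'⁻¹ * (k * x) * x⁻¹ := by group
        _ = k'⁻¹ * (k' * x') * x⁻¹ := by rw [heq']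
        _ = x' * x⁻¹ := by group
    have h2 : k'⁻¹ * k ∈ K ⊓ Q := by
      refine ⟨K.mul_mem (K.inv_mem hk'K) hkK, ?_⟩
      rw [h1]
      exact Q.mul_mem hx'Q (Q.inv_mem hxQ)
    rw [h.KQbot] at h2
    have h3 : k = k' := by
      have := Subgroup.mem_bot.mp h2
      calc k = k' * (k'⁻¹ * k) := by group
        _ = k' := by rw [this, mul_one]
    subst h3
    have h4 : x = x' := mul_left_cancel heq'
    subst h4
    rfl
  · -- surjective
    rintro ⟨v, hvt, hvz⟩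
    have hvC : v ∈ Subgroup.centralizer ({z} : Set G) :=
      Subgroup.mem_centralizer_singleton_iff.mpr hvz
    obtain ⟨k, hkK, x, hxQ, hvkx⟩ := exists_mul_of_mem_centralizer h v hvC
    have hvo : orderOf v = 2 := by rw [orderOf_of_isConj hvt, h.ht]
    have hv2 : v ^ 2 = 1 := sq_of_orderOf_two hvo
    have hvQ : v ∉ Q := by
      intro hvQ
      exact h.hzt ((h.hQz v hvQ hvo).symm.trans hvt)
    have hk1 : k ≠ 1 := by
      intro h1
      apply hvQ
      rw [hvkx, h1, one_mul]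
      exact hxQ
    have hk2 : k ^ 2 = 1 := by
      have h1 : k * x * (k * x) = 1 := by rw [← hvkx, ← pow_two, hv2]
      have h2 : k ^ 2 = ((k⁻¹ * x * (k⁻¹)⁻¹) * x)⁻¹ := by
        rw [eq_inv_iff_mul_eq_one]
        calc k ^ 2 * ((k⁻¹ * x * (k⁻¹)⁻¹) * x) = k * x * (k * x) := by group
          _ = 1 := h1
      have h3 : k ^ 2 ∈ K ⊓ Q := by
        refine ⟨K.pow_mem hkK 2, ?_⟩
        rw [h2]
        exact Q.inv_mem (Q.mul_mem (h.Qnorm _ (Subgroup.inv_mem _ (hKC hkK)) x hxQ) hxQ)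
      rw [h.KQbot] at h3
      exact Subgroup.mem_bot.mp h3
    have hko : orderOf k = 2 := orderOf_two_of_sq hk2 hk1
    refine ⟨⟨⟨k, hkK, hko⟩, ⟨x, hxQ, ?_⟩⟩, ?_⟩
    · change (k * x) ^ 2 = 1
      rw [← hvkx]; exact hv2
    · apply Subtype.ext
      exact hvkx.symm

end Cfsg.Agent.Lib.Helper20.S3313Zg
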