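import Mathlib
import Cfsg.Agent.Lib.Helper19.S3313Defs
import Cfsg.Agent.Lib.Helper3.S3313Zf
import Cfsg.Agent.Lib.Helper6.S3313A5
import Cfsg.Agent.Lib.Helper20.S3313Zi
import Cfsg.Agent.Lib.Helper20.S3313Zh
import Cfsg.Agent.Lib.Helper20.S3313Zj
import Cfsg.Agent.Lib.Helper20.S3313Zg

/-!
# S3313 FO-Zg, FO-Zh, FO-Zi, FO-Zj with the exact skeleton signatures (architect helper19)
-/

set_option autoImplicit false

namespace Cfsg.Agent.Lib.Helper20.S3313Z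

open Cfsg Cfsg.Agent.Lib.Helper19.S3313

variable {G : Type*} [Group G] [Finite G] {z t : G} {Q K V B : Subgroup G}

theorem a5b (h : HJ z t Q K V B) : Cfsg.Agent.Lib.Helper3.S3313Zd.A5bHyp B :=
  Cfsg.Agent.Lib.Helper3.S3313Zd.a5bHyp_of h
    (fun e x hx => Cfsg.Agent.Lib.Helper6.S3313A5.a5_centralizer e x hx)

/-- FO-Zi -/
theorem mem_zpowers_iff (h : HJ z t Q K V B) (v : G) (hv : IsConj v t) (hvz : v * z = z * v)
    (u : G) (huQ : u ∈ Q) (hu : orderOf u = 2) :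
    z ∈ Subgroup.zpowers (u * v) ↔ u * v ≠ v * u :=
  Cfsg.Agent.Lib.Helper20.S3313Zi.mem_zpowers_iff_aux h
    (fun v hv hvz u huQ hu2 =>
      Cfsg.Agent.Lib.Helper3.S3313Zf.no_flip_aux h (a5b h) v hv hvz u huQ hu2)
    v hv hvz u huQ hu

/-- FO-Zh -/
theorem card_invQ (h : HJ z t Q K V B) : Nat.card {u : G // u ∈ Q ∧ u ^ 2 = 1} = 12 := by
  obtain ⟨e⟩ := h.KA5
  obtain ⟨h15, ⟨x5, hx5⟩, -, -, -⟩ := Cfsg.Agent.Lib.Helper6.S3313A5.a5_involutions e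
  have hne : Nonempty {x : K // orderOf x = 2} := by
    have : 0 < Nat.card {x : K // orderOf x = 2} := by rw [h15]; norm_num
    exact (Nat.card_pos_iff.mp this).1
  obtain ⟨⟨k, hk⟩⟩ := hne
  refine Cfsg.Agent.Lib.Helper20.S3313Zh.card_invQ_aux h ⟨x5.1, x5.2, ?_⟩ ⟨k.1, k.2, ?_⟩
    (fun N hN x hx hx1 => Cfsg.Agent.Lib.Helper6.S3313A5.a5_simple e N hN x hx hx1)
    (fun v hv hvz => (Cfsg.Agent.Lib.Helper3.S3313Ze.card_CQ_aux h (a5b h) v hv hvz).1)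
  · rw [Subgroup.orderOf_coe]; exact hx5
  · rw [Subgroup.orderOf_coe]; exact hk

/-- FO-Zg -/
theorem card_I (h : HJ z t Q K V B) :
    Nat.card {v : G // IsConj v t ∧ v * z = z * v} = 120 := by
  obtain ⟨e⟩ := h.KA5
  obtain ⟨h15, -⟩ := Cfsg.Agent.Lib.Helper6.S3313A5.a5_involutions e
  exact Cfsg.Agent.Lib.Helper20.S3313Zg.card_I_aux h
    (fun v hv hvz => Cfsg.Agent.Lib.Helper3.S3313Zf.card_inv_coset_aux h (a5b h) v hv hvz) h15

/-- FO-Zj -/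
theorem count_z (h : HJ z t Q K V B) :
    Nat.card {p : G × G // IsConj z p.1 ∧ IsConj t p.2 ∧ z ∈ Subgroup.zpowers (p.1 * p.2)} =
      960 :=
  Cfsg.Agent.Lib.Helper20.S3313Zj.count_z_aux h
    (fun v hv hvz u huQ hu => mem_zpowers_iff h v hv hvz u huQ hu)
    (card_invQ h)
    (fun v hv hvz => Cfsg.Agent.Lib.Helper3.S3313Ze.card_CQ_aux h (a5b h) v hv hvz)
    (card_I h)

end Cfsg.Agent.Lib.Helper20.S3313Z
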