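import Mathlib
import Cfsg.Prelude.Def_GeometricClasses
import Cfsg.Agent.Lib.Helper7.AschDefs
import Cfsg.Agent.Lib.Helper24.AschUDefs
import Cfsg.Agent.Lib.Helper2.FormRedU
import Cfsg.Agent.Lib.Helper18.S5663U2
import Cfsg.Agent.Lib.Helper11.U4Defs
import Cfsg.Agent.Lib.Helper13.TensorNM
import Cfsg.Agent.Lib.Helper13.SubfField
import Cfsg.Agent.Lib.Helper26.FCliffGRAMADJ
import Cfsg.Agent.Lib.Helper1.GUS1

/-!
# S5663, block U4, piece U4T-22 (helper20; spare twin of helper28's block)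

`inClassU_of_tensor22`: a subgroup of `GU_4(q)` inside a tensor product group `2 ⊗ 2` (with a tensor form structure)
lies in a subfield group of class 5.  Self-contained: also 22a (`exists_hyperbolic_basis`), 22b (`similitude_rational`)
and 22θ (`exists_theta`) with the skeleton signatures.
-/

set_option autoImplicit false

namespace Cfsg.Agent.Lib.Helper20.S5663U4T22

open Matrix Cfsg Cfsg.Geo Cfsg.Agent.Lib.Helper7.Asch Cfsg.Agent.Lib.Helper24.AschU
  Cfsg.Agent.Lib.Helper2.FormRedU Cfsg.Agent.Lib.Helper11.U4 Cfsg.Agent.Lib.Helper13.TNM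
open scoped MatrixGroups Kronecker

section pieces

variable {F : Type*} [Field F] [Fintype F] {n q : ℕ}




/-- some element is moved by `x ↦ x ^ q` -/
theorem exists_pow_ne (hF : Fintype.card F = q ^ 2) : ∃ c : F, c ^ q ≠ c := by
  by_contra hne
  push Not at hne
  exact frobE_ne_refl hF (RingEquiv.ext fun x => by rw [frobE_apply, hne]; rfl)

theorem neg_pow_q (hF : Fintype.card F = q ^ 2) (x : F) : (-x) ^ q = -(x ^ q) :=
  map_neg (frobE hF) x

theorem sub_pow_q (hF : Fintype.card F = q ^ 2) (x y : F) : (x - y) ^ q = x ^ q - y ^ q :=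
  map_sub (frobE hF) x y

/-- Hilbert 90 for the norm-one elements of `F / F_q` -/
theorem exists_h90 (hF : Fintype.card F = q ^ 2) (κ : F) (hκ : κ * κ ^ q = 1) :
    ∃ lam : F, lam ≠ 0 ∧ lam ^ q = κ * lam := by
  by_cases h1 : κ = -1
  · obtain ⟨c, hc⟩ := exists_pow_ne hF
    refine ⟨c - c ^ q, sub_ne_zero.mpr (Ne.symm hc), ?_⟩
    have h2 : (c - c ^ q) ^ q = c ^ q - (c ^ q) ^ q := by
      have := (frobE hF).map_sub c (c ^ q)
      simpa using this
    rw [h2, pow_card_sq hF, h1]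
    ring
  · refine ⟨1 + κ ^ q, ?_, ?_⟩
    · intro h0
      apply h1
      have h3 : κ ^ q = -1 := eq_neg_of_add_eq_zero_right h0
      have h4 : (κ ^ q) ^ q = κ := pow_card_sq hF κ
      rw [h3] at h4
      have h5 : ((-1 : F)) ^ q = -1 := by
        have h6 : frobE hF (-1) = -frobE hF 1 := map_neg (frobE hF) 1
        rw [frobE_apply, frobE_apply, one_pow] at h6
        exact h6
      rw [h5] at h4
      exact h4.symm
    · have h2 : (1 + κ ^ q) ^ q = 1 + (κ ^ q) ^ q := by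
        have := (frobE hF).map_add 1 (κ ^ q)
        simpa using this
      rw [h2, pow_card_sq hF, mul_add, mul_one, hκ, add_comm]

/-- **U4T-22b** -/
theorem similitude_rational (hF : Fintype.card F = q ^ 2) (θ : F) (hθ0 : θ ≠ 0) (hθ : θ ^ q = -θ)
    (a : GL (Fin 2) F) (μ : F)
    (ha : ∀ x y : Fin 2 → F,
      ((a : Matrix (Fin 2) (Fin 2) F) *ᵥ x) 0 * (((a : Matrix (Fin 2) (Fin 2) F) *ᵥ y) 1) ^ q +
        ((a : Matrix (Fin 2) (Fin 2) F) *ᵥ x) 1 * (((a : Matrix (Fin 2) (Fin 2) F) *ᵥ y) 0) ^ q =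
        μ * (x 0 * (y 1) ^ q + x 1 * (y 0) ^ q)) :
    ∃ lam : F, lam ≠ 0 ∧ ((a : Matrix (Fin 2) (Fin 2) F) 0 0 / lam) ^ q = (a : Matrix (Fin 2) (Fin 2) F) 0 0 / lam ∧
      ((a : Matrix (Fin 2) (Fin 2) F) 1 1 / lam) ^ q = (a : Matrix (Fin 2) (Fin 2) F) 1 1 / lam ∧
      ((a : Matrix (Fin 2) (Fin 2) F) 0 1 / (lam * θ)) ^ q = (a : Matrix (Fin 2) (Fin 2) F) 0 1 / (lam * θ) ∧
      ((a : Matrix (Fin 2) (Fin 2) F) 1 0 / (lam * θ)) ^ q = (a : Matrix (Fin 2) (Fin 2) F) 1 0 / (lam * θ) := by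
  have hq0 : q ≠ 0 := by
    have := two_le_q hF
    omega
  obtain ⟨p, hp⟩ : ∃ p : F, p = (a : Matrix (Fin 2) (Fin 2) F) 0 0 := ⟨_, rfl⟩
  obtain ⟨r, hr⟩ : ∃ r : F, r = (a : Matrix (Fin 2) (Fin 2) F) 0 1 := ⟨_, rfl⟩
  obtain ⟨s, hs⟩ : ∃ s : F, s = (a : Matrix (Fin 2) (Fin 2) F) 1 0 := ⟨_, rfl⟩
  obtain ⟨t, ht⟩ : ∃ t : F, t = (a : Matrix (Fin 2) (Fin 2) F) 1 1 := ⟨_, rfl⟩
  have e00 := ha (Pi.single 0 1) (Pi.single 0 1)
  have e01 := ha (Pi.single 0 1) (Pi.single 1 1)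
  have e10 := ha (Pi.single 1 1) (Pi.single 0 1)
  have e11 := ha (Pi.single 1 1) (Pi.single 1 1)
  simp only [Matrix.mulVec_single_one, Matrix.col_apply, Pi.single_eq_same, one_pow, mul_one, one_mul,
    Pi.single_apply] at e00 e01 e10 e11
  simp [hq0] at e00 e01 e10 e11
  rw [← hp, ← hs] at e00
  rw [← hp, ← hs, ← hr, ← ht] at e01 e10
  rw [← hr, ← ht] at e11
  rw [← hp, ← hr, ← hs, ← ht]
  have hdet : p * t - r * s ≠ 0 := by
    have h1 : IsUnit (a : Matrix (Fin 2) (Fin 2) F).det :=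
      (Matrix.isUnit_iff_isUnit_det _).mp a.isUnit
    rw [Matrix.det_fin_two, ← hp, ← hr, ← hs, ← ht] at h1
    exact h1.ne_zero
  obtain ⟨κ, hκ⟩ : ∃ κ : F, κ = μ / (p * t - r * s) := ⟨_, rfl⟩
  have hμ : μ = κ * (p * t - r * s) := by
    rw [hκ]
    field_simp
  have hpq : p ^ q = κ * p := by
    have h1 : (p * t - r * s) * p ^ q = μ * p := by
      rw [← e10]
      linear_combination (-r) * e00
    have h2 : p ^ q = μ * p / (p * t - r * s) := eq_div_of_mul_eq hdet (by linear_combination h1)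
    rw [h2, hκ]
    ring
  have htq : t ^ q = κ * t := by
    have h1 : (p * t - r * s) * t ^ q = μ * t := by
      rw [← e01]
      linear_combination (-s) * e11
    have h2 : t ^ q = μ * t / (p * t - r * s) := eq_div_of_mul_eq hdet (by linear_combination h1)
    rw [h2, hκ]
    ring
  have hrq : r ^ q = -(κ * r) := by
    have h1 : (p * t - r * s) * r ^ q = -(μ * r) := by
      rw [← e01]
      linear_combination p * e11
    have h2 : r ^ q = -(μ * r) / (p * t - r * s) := eq_div_of_mul_eq hdet (by linear_combination h1)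
    rw [h2, hκ]
    ring
  have hsq : s ^ q = -(κ * s) := by
    have h1 : (p * t - r * s) * s ^ q = -(μ * s) := by
      rw [← e10]
      linear_combination t * e00
    have h2 : s ^ q = -(μ * s) / (p * t - r * s) := eq_div_of_mul_eq hdet (by linear_combination h1)
    rw [h2, hκ]
    ring
  have hκ1 : κ * κ ^ q = 1 := by
    have hpr : p ≠ 0 ∨ r ≠ 0 := by
      by_contra hne
      push Not at hne
      apply hdet
      rw [hne.1, hne.2]
      ring
    rcases hpr with h | h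
    · have h1 : (p ^ q) ^ q = p := pow_card_sq hF p
      rw [hpq, mul_pow, hpq] at h1
      have h2 : (κ * κ ^ q - 1) * p = 0 := by linear_combination h1
      rcases mul_eq_zero.mp h2 with h3 | h3
      · exact sub_eq_zero.mp h3
      · exact absurd h3 h
    · have h1 : (r ^ q) ^ q = r := pow_card_sq hF r
      rw [hrq, neg_pow_q hF, mul_pow, hrq] at h1
      have h2 : (κ * κ ^ q - 1) * r = 0 := by linear_combination h1
      rcases mul_eq_zero.mp h2 with h3 | h3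
      · exact sub_eq_zero.mp h3
      · exact absurd h3 h
  have hκ0 : κ ≠ 0 := by
    intro h0
    rw [h0, zero_mul] at hκ1
    exact zero_ne_one hκ1
  obtain ⟨lam, hlam, hlamq⟩ := exists_h90 hF κ hκ1
  refine ⟨lam, hlam, ?_, ?_, ?_, ?_⟩
  · rw [div_pow, hpq, hlamq]
    field_simp
  · rw [div_pow, htq, hlamq]
    field_simp
  · rw [div_pow, hrq, mul_pow, hlamq, hθ]
    field_simp
  · rw [div_pow, hsq, mul_pow, hlamq, hθ]
    field_simp






/-- **U4T-22θ** -/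
theorem exists_theta (hF : Fintype.card F = q ^ 2) : ∃ θ : F, θ ≠ 0 ∧ θ ^ q = -θ := by
  obtain ⟨c, hc⟩ := exists_pow_ne hF
  refine ⟨c - c ^ q, sub_ne_zero.mpr (Ne.symm hc), ?_⟩
  rw [sub_pow_q hF, pow_card_sq hF]
  ring

/-- an element of trace `-1` -/
theorem exists_trace_neg_one (hF : Fintype.card F = q ^ 2) : ∃ s : F, s + s ^ q = -1 := by
  by_cases h2 : (2 : F) = 0
  · obtain ⟨c, hc⟩ := exists_pow_ne hF
    have hneg : ∀ x : F, -x = x := by
      intro x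
      have : x + x = 0 := by linear_combination x * h2
      exact neg_eq_of_add_eq_zero_left this
    have hτ : c + c ^ q ≠ 0 := by
      intro h0
      apply hc
      have := eq_neg_of_add_eq_zero_right h0
      rw [this, hneg]
    have hτq : (c + c ^ q) ^ q = c + c ^ q := by
      rw [add_pow_q hF, pow_card_sq hF, add_comm]
    refine ⟨c / (c + c ^ q), ?_⟩
    rw [div_pow, hτq, ← add_div, div_self hτ, hneg]
  · have h2q : (2 : F) ^ q = 2 := by
      have : (2 : F) = 1 + 1 := by norm_num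
      rw [this, add_pow_q hF, one_pow]
    refine ⟨-(1 / 2), ?_⟩
    rw [neg_pow_q hF, div_pow, one_pow, h2q]
    field_simp
    norm_num

/-- **U4T-22a** -/
theorem exists_hyperbolic_basis (hF : Fintype.card F = q ^ 2) (f₁ : (Fin 2 → F) → (Fin 2 → F) → F)
    (hf₁ : IsUnitaryFormPow q f₁) :
    ∃ C : GL (Fin 2) F, ∀ x y : Fin 2 → F,
      f₁ ((C : Matrix (Fin 2) (Fin 2) F) *ᵥ x) ((C : Matrix (Fin 2) (Fin 2) F) *ᵥ y) =
        x 0 * (y 1) ^ q + x 1 * (y 0) ^ q := by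
  obtain ⟨P, hP⟩ := Cfsg.Agent.Lib.Helper1.GUS.exists_std hF f₁ hf₁
  have hm1 : ((-1 : F)) ^ q = -1 := by
    rw [neg_pow_q hF, one_pow]
  obtain ⟨α, hα⟩ := exists_norm_eq hF (-1 : F) hm1
  obtain ⟨s, hs⟩ := exists_trace_neg_one hF
  have hα0 : α ≠ 0 := by
    intro h0
    rw [h0, zero_mul] at hα
    have : (1 : F) = 0 := by linear_combination hα
    exact one_ne_zero this
  have hdet : (!![1, 1 + s; α, s * α] : Matrix (Fin 2) (Fin 2) F).det ≠ 0 := by
    rw [Matrix.det_fin_two_of]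
    intro h0
    apply hα0
    linear_combination -h0
  obtain ⟨B, hB⟩ : ∃ B : GL (Fin 2) F, (B : Matrix (Fin 2) (Fin 2) F) = !![1, 1 + s; α, s * α] :=
    ⟨Matrix.GeneralLinearGroup.mkOfDetNeZero _ hdet, rfl⟩
  refine ⟨P⁻¹ * B, fun x y => ?_⟩
  rw [← hP, Matrix.mulVec_mulVec, Matrix.mulVec_mulVec, ← Units.val_mul, mul_inv_cancel_left, hB]
  unfold hermForm
  simp only [Fin.sum_univ_two, Matrix.mulVec, dotProduct, Matrix.of_apply, Matrix.cons_val', Matrix.cons_val_zero,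
    Matrix.cons_val_one, Matrix.cons_val_fin_one]
  simp only [add_pow_q hF, mul_pow, one_pow, one_mul]
  linear_combination (x 0 * y 0 ^ q + x 0 * y 1 ^ q * s ^ q + x 1 * y 0 ^ q * s + x 1 * y 1 ^ q * (s * s ^ q)) * hα +
    (x 1 * y 1 ^ q) * hs


end pieces


open Matrix Cfsg Cfsg.Geo Cfsg.Agent.Lib.Helper7.Asch Cfsg.Agent.Lib.Helper24.AschU
  Cfsg.Agent.Lib.Helper2.FormRedU Cfsg.Agent.Lib.Helper11.U4 Cfsg.Agent.Lib.Helper13.TNM
open scoped MatrixGroups Kronecker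

section generic

variable {K : Type*} [Field K]

/-- two non-zero Kronecker products are equal only if the factors are proportional -/
theorem kron_prop {d s : ℕ} (A A' : Matrix (Fin d) (Fin d) K) (B B' : Matrix (Fin s) (Fin s) K)
    (h : A ⊗ₖ B = A' ⊗ₖ B') (hA' : A' ≠ 0) (hB' : B' ≠ 0) :
    (∃ ν : K, A = ν • A') ∧ (∃ ν : K, B = ν • B') := by
  have hent : ∀ i k j l, A i k * B j l = A' i k * B' j l := by
    intro i k j l
    have := congrFun (congrFun h (i, j)) (k, l)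
    simpa [Matrix.kroneckerMap_apply] using this
  obtain ⟨i₀, k₀, hik⟩ : ∃ i k, A' i k ≠ 0 := by
    by_contra hne
    push Not at hne
    exact hA' (by ext i k; exact hne i k)
  obtain ⟨j₀, l₀, hjl⟩ : ∃ j l, B' j l ≠ 0 := by
    by_contra hne
    push Not at hne
    exact hB' (by ext i k; exact hne i k)
  have h00 := hent i₀ k₀ j₀ l₀
  have hA0 : A i₀ k₀ ≠ 0 := by
    intro h0
    rw [h0, zero_mul] at h00
    exact mul_ne_zero hik hjl h00.symm
  have hB0 : B j₀ l₀ ≠ 0 := by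
    intro h0
    rw [h0, mul_zero] at h00
    exact mul_ne_zero hik hjl h00.symm
  constructor
  · refine ⟨B' j₀ l₀ / B j₀ l₀, ?_⟩
    ext i k
    have := hent i k j₀ l₀
    rw [Matrix.smul_apply, smul_eq_mul]
    field_simp
    linear_combination this
  · refine ⟨A' i₀ k₀ / A i₀ k₀, ?_⟩
    ext j l
    have := hent i₀ k₀ j l
    rw [Matrix.smul_apply, smul_eq_mul]
    field_simp
    linear_combination this

end generic

variable {F : Type*} [Field F] [Fintype F] {n q : ℕ}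

theorem q_ne_zero (hF : Fintype.card F = q ^ 2) : q ≠ 0 := by
  have := two_le_q hF
  omega

theorem zero_pow_q (hF : Fintype.card F = q ^ 2) : (0 : F) ^ q = 0 := zero_pow (q_ne_zero hF)

/-- the hyperbolic Gram matrix -/
def JJ (F : Type*) [Field F] : Matrix (Fin 2) (Fin 2) F := !![0, 1; 1, 0]

/-- the skew matrix -/
def JS (F : Type*) [Field F] : Matrix (Fin 2) (Fin 2) F := !![0, 1; -1, 0]

omit [Fintype F] in
theorem formOfGram_JJ (x y : Fin 2 → F) :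
    formOfGram (fun a : F => a ^ q) (JJ F) x y = x 0 * (y 1) ^ q + x 1 * (y 0) ^ q := by
  simp [formOfGram, JJ, Fin.sum_univ_two]

/-- a unitary form is the form of its Gram matrix -/
theorem unitary_eq_formOfGram (hF : Fintype.card F = q ^ 2) {k : ℕ} {f : (Fin k → F) → (Fin k → F) → F}
    (hf : IsUnitaryFormPow q f) (x y : Fin k → F) :
    f x y = formOfGram (fun a : F => a ^ q) (gramMatrix f) x y :=
  Cfsg.Agent.Lib.Helper26.FCliffGRAMADJ.eq_formOfGram (rsForm_of_unitary hF hf) x y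

theorem fog_mulVec (hF : Fintype.card F = q ^ 2) {κ : Type} [Fintype κ] [DecidableEq κ] (G A : Matrix κ κ F)
    (x y : κ → F) :
    formOfGram (fun a : F => a ^ q) G (A *ᵥ x) (A *ᵥ y) =
      formOfGram (fun a : F => a ^ q) (Aᵀ * G * A.map (fun a : F => a ^ q)) x y :=
  formOfGram_mulVec (fun a : F => a ^ q) (zero_pow (q_ne_zero hF)) (add_pow_q hF) (fun a b => mul_pow a b q) G A x y

theorem fog_ext (hF : Fintype.card F = q ^ 2) {κ : Type} [Fintype κ] [DecidableEq κ] {G G' : Matrix κ κ F}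
    (h : ∀ x y, formOfGram (fun a : F => a ^ q) G x y = formOfGram (fun a : F => a ^ q) G' x y) : G = G' :=
  gram_ext (fun a : F => a ^ q) (zero_pow (q_ne_zero hF)) (one_pow q) h

/-- the Gram matrix in a hyperbolic basis -/
theorem gram_hyp (hF : Fintype.card F = q ^ 2) {f : (Fin 2 → F) → (Fin 2 → F) → F}
    (hf : IsUnitaryFormPow q f) (C : Matrix (Fin 2) (Fin 2) F)
    (hC : ∀ x y : Fin 2 → F, f (C *ᵥ x) (C *ᵥ y) = x 0 * (y 1) ^ q + x 1 * (y 0) ^ q) :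
    Cᵀ * gramMatrix f * C.map (fun a : F => a ^ q) = JJ F := by
  apply fog_ext hF
  intro x y
  rw [← fog_mulVec hF, ← unitary_eq_formOfGram hF hf, hC, formOfGram_JJ]

/-- `diag(θ, 1)` -/
def DD (θ : F) : Matrix (Fin 2) (Fin 2) F := !![θ, 0; 0, 1]

omit [Fintype F] in
theorem DD_conj (hq : q ≠ 0) (θ : F) (hθ : θ ^ q = -θ) :
    (DD θ)ᵀ * JJ F * (DD θ).map (fun a : F => a ^ q) = θ • JS F := by
  ext i j
  fin_cases i <;> fin_cases j <;> simp [DD, JJ, JS, Matrix.mul_apply, Fin.sum_univ_two, hθ, hq]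

theorem map_mul_q (hF : Fintype.card F = q ^ 2) {κ : Type} [Fintype κ] (A B : Matrix κ κ F) :
    (A * B).map (fun a : F => a ^ q) = A.map (fun a : F => a ^ q) * B.map (fun a : F => a ^ q) :=
  Matrix.map_mul (f := frobH hF)

/-- the Gram matrix in the basis `C * diag(θ, 1)` -/
theorem gram_MM (hF : Fintype.card F = q ^ 2) {f : (Fin 2 → F) → (Fin 2 → F) → F}
    (hf : IsUnitaryFormPow q f) (C : Matrix (Fin 2) (Fin 2) F)
    (hC : ∀ x y : Fin 2 → F, f (C *ᵥ x) (C *ᵥ y) = x 0 * (y 1) ^ q + x 1 * (y 0) ^ q)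
    (θ : F) (hθ : θ ^ q = -θ) :
    (C * DD θ)ᵀ * gramMatrix f * (C * DD θ).map (fun a : F => a ^ q) = θ • JS F := by
  rw [map_mul_q hF, Matrix.transpose_mul]
  calc (DD θ)ᵀ * Cᵀ * gramMatrix f * (C.map (fun a : F => a ^ q) * (DD θ).map (fun a : F => a ^ q))
      = (DD θ)ᵀ * (Cᵀ * gramMatrix f * C.map (fun a : F => a ^ q)) * (DD θ).map (fun a : F => a ^ q) := by
        simp only [Matrix.mul_assoc]
    _ = θ • JS F := by rw [gram_hyp hF hf C hC, DD_conj (q_ne_zero hF) θ hθ]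

omit [Fintype F] in
theorem kron_map_q {d s : ℕ} (A : Matrix (Fin d) (Fin d) F) (B : Matrix (Fin s) (Fin s) F) :
    (A ⊗ₖ B).map (fun a : F => a ^ q) = A.map (fun a : F => a ^ q) ⊗ₖ B.map (fun a : F => a ^ q) := by
  ext ⟨i, j⟩ ⟨k, l⟩
  simp [Matrix.kroneckerMap_apply, mul_pow]

omit [Fintype F] in
theorem kron_gram {d s : ℕ} (M₁ G₁ : Matrix (Fin d) (Fin d) F) (M₂ G₂ : Matrix (Fin s) (Fin s) F) :
    (M₁ ⊗ₖ M₂)ᵀ * (G₁ ⊗ₖ G₂) * (M₁ ⊗ₖ M₂).map (fun a : F => a ^ q) =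
      (M₁ᵀ * G₁ * M₁.map (fun a : F => a ^ q)) ⊗ₖ (M₂ᵀ * G₂ * M₂.map (fun a : F => a ^ q)) := by
  rw [kron_map_q, ← Matrix.kroneckerMap_transpose, ← Matrix.mul_kronecker_mul, ← Matrix.mul_kronecker_mul]

/-- `diag(θ, 1)` as an invertible matrix -/
def DG (θ : F) (hθ0 : θ ≠ 0) : GL (Fin 2) F :=
  ⟨DD θ, DD θ⁻¹, by
    ext i j
    fin_cases i <;> fin_cases j <;> simp [DD, Matrix.mul_apply, Fin.sum_univ_two, hθ0], by
    ext i j
    fin_cases i <;> fin_cases j <;> simp [DD, Matrix.mul_apply, Fin.sum_univ_two, hθ0]⟩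

omit [Fintype F] in
theorem DG_val (θ : F) (hθ0 : θ ≠ 0) : ((DG θ hθ0 : GL (Fin 2) F) : Matrix (Fin 2) (Fin 2) F) = DD θ := rfl

omit [Fintype F] in
theorem DG_inv_val (θ : F) (hθ0 : θ ≠ 0) :
    (((DG θ hθ0)⁻¹ : GL (Fin 2) F) : Matrix (Fin 2) (Fin 2) F) = DD θ⁻¹ := rfl

omit [Fintype F] in
theorem DD_mul_mul (t θ : F) (X : Matrix (Fin 2) (Fin 2) F) :
    DD t * X * DD θ = !![t * X 0 0 * θ, t * X 0 1; X 1 0 * θ, X 1 1] := by
  ext i j
  fin_cases i <;> fin_cases j <;> simp [DD, Matrix.mul_apply, Fin.sum_univ_two, Matrix.vecMul, dotProduct]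

omit [Fintype F] in
theorem fog_smul {κ : Type} [Fintype κ] (c : F) (G : Matrix κ κ F) (x y : κ → F) :
    formOfGram (fun a : F => a ^ q) (c • G) x y = c * formOfGram (fun a : F => a ^ q) G x y := by
  unfold formOfGram
  rw [Finset.mul_sum]
  refine Finset.sum_congr rfl fun a _ => ?_
  rw [Finset.mul_sum]
  refine Finset.sum_congr rfl fun b _ => ?_
  rw [Matrix.smul_apply, smul_eq_mul]
  ring

/-- a similitude of a unitary plane becomes `F_q`-rational up to a scalar in the basis `C * diag(θ, 1)` -/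
theorem rational_factor (hF : Fintype.card F = q ^ 2) {f : (Fin 2 → F) → (Fin 2 → F) → F}
    (hf : IsUnitaryFormPow q f) (C : GL (Fin 2) F)
    (hC : ∀ x y : Fin 2 → F, f ((C : Matrix (Fin 2) (Fin 2) F) *ᵥ x) ((C : Matrix (Fin 2) (Fin 2) F) *ᵥ y) =
      x 0 * (y 1) ^ q + x 1 * (y 0) ^ q)
    (θ : F) (hθ0 : θ ≠ 0) (hθ : θ ^ q = -θ) (a : GL (Fin 2) F) (ν : F)
    (ha : (a : Matrix (Fin 2) (Fin 2) F)ᵀ * gramMatrix f * (a : Matrix (Fin 2) (Fin 2) F).map (fun a : F => a ^ q) =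
      ν • gramMatrix f) :
    ∃ (lam : F) (A₀ : Matrix (Fin 2) (Fin 2) (fixQ hF)), lam ≠ 0 ∧
      (((C * DG θ hθ0)⁻¹ * a * (C * DG θ hθ0) : GL (Fin 2) F) : Matrix (Fin 2) (Fin 2) F) =
        lam • A₀.map (fixQ hF).subtype := by
  have hfa : ∀ u v : Fin 2 → F, f ((a : Matrix (Fin 2) (Fin 2) F) *ᵥ u) ((a : Matrix (Fin 2) (Fin 2) F) *ᵥ v) =
      ν * f u v := by
    intro u v
    rw [unitary_eq_formOfGram hF hf, fog_mulVec hF, ha, fog_smul, ← unitary_eq_formOfGram hF hf]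
  obtain ⟨a₁, ha₁⟩ : ∃ a₁ : GL (Fin 2) F, a₁ = C⁻¹ * a * C := ⟨_, rfl⟩
  have hCa : C * a₁ = a * C := by
    rw [ha₁]
    group
  have hmv : ∀ x : Fin 2 → F, (C : Matrix (Fin 2) (Fin 2) F) *ᵥ ((a₁ : Matrix (Fin 2) (Fin 2) F) *ᵥ x) =
      (a : Matrix (Fin 2) (Fin 2) F) *ᵥ ((C : Matrix (Fin 2) (Fin 2) F) *ᵥ x) := by
    intro x
    rw [Matrix.mulVec_mulVec, Matrix.mulVec_mulVec, ← Units.val_mul, ← Units.val_mul, hCa]
  have hsim : ∀ x y : Fin 2 → F,
      ((a₁ : Matrix (Fin 2) (Fin 2) F) *ᵥ x) 0 * (((a₁ : Matrix (Fin 2) (Fin 2) F) *ᵥ y) 1) ^ q +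
        ((a₁ : Matrix (Fin 2) (Fin 2) F) *ᵥ x) 1 * (((a₁ : Matrix (Fin 2) (Fin 2) F) *ᵥ y) 0) ^ q =
        ν * (x 0 * (y 1) ^ q + x 1 * (y 0) ^ q) := by
    intro x y
    rw [← hC, hmv, hmv, hfa, hC]
  obtain ⟨lam, hlam, h00, h11, h01, h10⟩ :=
    similitude_rational hF θ hθ0 hθ a₁ ν hsim
  have hθ2 : (θ ^ 2) ^ q = θ ^ 2 := by
    rw [← pow_mul, mul_comm, pow_mul, hθ]
    ring
  have h10' : (θ ^ 2 * ((a₁ : Matrix (Fin 2) (Fin 2) F) 1 0 / (lam * θ))) ^ q =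
      θ ^ 2 * ((a₁ : Matrix (Fin 2) (Fin 2) F) 1 0 / (lam * θ)) := by
    rw [mul_pow, hθ2, h10]
  refine ⟨lam, !![⟨_, (mem_fixQ hF _).mpr h00⟩, ⟨_, (mem_fixQ hF _).mpr h01⟩;
    ⟨_, (mem_fixQ hF _).mpr h10'⟩, ⟨_, (mem_fixQ hF _).mpr h11⟩], hlam, ?_⟩
  have hconj : (C * DG θ hθ0)⁻¹ * a * (C * DG θ hθ0) = (DG θ hθ0)⁻¹ * a₁ * DG θ hθ0 := by
    rw [ha₁]
    group
  rw [hconj, Units.val_mul, Units.val_mul, DG_val, DG_inv_val, DD_mul_mul]
  ext i j
  fin_cases i <;> fin_cases j <;> simp <;> field_simp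

theorem gram_ne_zero (hF : Fintype.card F = q ^ 2) {f : (Fin 2 → F) → (Fin 2 → F) → F}
    (hf : IsUnitaryFormPow q f) : gramMatrix f ≠ 0 := by
  intro h0
  have h := Cfsg.Agent.Lib.Helper26.FCliffGRAMADJ.isUnit_det_gram (rsForm_of_unitary hF hf)
  rw [h0, Matrix.det_zero] at h
  exact not_isUnit_zero h

omit [Fintype F] in
theorem kronGL_conj {d s : ℕ} (M₁ a : GL (Fin d) F) (M₂ b : GL (Fin s) F) :
    (kronGL M₁ M₂)⁻¹ * kronGL a b * kronGL M₁ M₂ = kronGL (M₁⁻¹ * a * M₁) (M₂⁻¹ * b * M₂) := by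
  apply Units.ext
  rw [Units.val_mul, Units.val_mul, kronGL_inv_val, kronGL_val, kronGL_val, kronGL_val, ← Matrix.mul_kronecker_mul,
    ← Matrix.mul_kronecker_mul, Units.val_mul, Units.val_mul, Units.val_mul, Units.val_mul]

/-- the symmetric `F_q`-rational Gram matrix `JS ⊗ JS` -/
theorem JSK_mem (hF : Fintype.card F = q ^ 2) (a b : Fin 2 × Fin 2) : (JS F ⊗ₖ JS F) a b ∈ fixQ hF := by
  have h : ∀ i k : Fin 2, JS F i k ∈ fixQ hF := by
    intro i k
    fin_cases i <;> fin_cases k <;> simp [JS, (fixQ hF).zero_mem, (fixQ hF).one_mem, (fixQ hF).neg_mem]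
  rw [Matrix.kroneckerMap_apply]
  exact (fixQ hF).mul_mem (h _ _) (h _ _)

theorem fog_JSK_mem (hF : Fintype.card F = q ^ 2) (x y : Fin 2 × Fin 2 → F) (hx : ∀ a, x a ∈ fixQ hF)
    (hy : ∀ a, y a ∈ fixQ hF) : formOfGram (fun a : F => a ^ q) (JS F ⊗ₖ JS F) x y ∈ fixQ hF := by
  unfold formOfGram
  refine (fixQ hF).sum_mem fun a _ => (fixQ hF).sum_mem fun b _ => ?_
  exact (fixQ hF).mul_mem ((fixQ hF).mul_mem (hx a) (JSK_mem hF a b)) ((fixQ hF).pow_mem (hy b) q)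

theorem fog_JSK_self (hF : Fintype.card F = q ^ 2) (h2 : (2 : F) = 0) (x : Fin 2 × Fin 2 → F)
    (hx : ∀ a, x a ∈ fixQ hF) : formOfGram (fun a : F => a ^ q) (JS F ⊗ₖ JS F) x x = 0 := by
  have hxq : ∀ a, x a ^ q = x a := fun a => (mem_fixQ hF _).mp (hx a)
  unfold formOfGram
  simp only [hxq, Fintype.sum_prod_type, Fin.sum_univ_two, JS, Matrix.kroneckerMap_apply]
  simp
  linear_combination (x (0, 0) * x (1, 1) - x (0, 1) * x (1, 0)) * h2

theorem two_eq_zero_of_even (hF : Fintype.card F = q ^ 2) (hq : Even q) : (2 : F) = 0 := by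
  have h1 : Fintype.card F % 2 = 0 := by
    rw [hF]
    obtain ⟨k, rfl⟩ := hq
    have : (k + k) ^ 2 = 2 * (2 * k * k) := by ring
    rw [this]
    exact Nat.mul_mod_right 2 _
  have h2 : ringChar F = 2 := FiniteField.even_card_iff_char_two.mpr h1
  have h3 : ((ringChar F : ℕ) : F) = 0 := ringChar.Nat.cast_ringChar
  rw [h2] at h3
  exact_mod_cast h3

/-- **U4T-22**: the `n = 4 = 2 · 2` corner of the unitary tensor normalisation -/
theorem inClassU_of_tensor22 (hF : Fintype.card F = q ^ 2) (H : Subgroup (GL (Fin n) F)) (hHU : H ≤ GU n F q)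
    (e : Fin n ≃ Fin 2 × Fin 2) (P : GL (Fin n) F) (f₁ f₂ : (Fin 2 → F) → (Fin 2 → F) → F)
    (hf₁ : IsUnitaryFormPow q f₁) (hf₂ : IsUnitaryFormPow q f₂)
    (hT : IsTensorFormStructure (fun x : F => x ^ q) (hermForm n F q) f₁ f₂ e P)
    (hH : H ≤ tensorProductSubgroup 2 2 e P) : InClassU n q H := by
  obtain ⟨c, hc, hTc⟩ := hT
  have hTc' : ∀ x y : Fin 2 × Fin 2 → F, hermForm n F q (TT e P x) (TT e P y) =
      c * formOfGram (fun a : F => a ^ q) (gramMatrix f₁ ⊗ₖ gramMatrix f₂) x y := hTc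
  obtain ⟨C₁, hC₁⟩ := exists_hyperbolic_basis hF f₁ hf₁
  obtain ⟨C₂, hC₂⟩ := exists_hyperbolic_basis hF f₂ hf₂
  obtain ⟨θ, hθ0, hθ⟩ := exists_theta (F := F) hF
  obtain ⟨M₁, hM₁⟩ : ∃ M₁ : GL (Fin 2) F, M₁ = C₁ * DG θ hθ0 := ⟨_, rfl⟩
  obtain ⟨M₂, hM₂⟩ : ∃ M₂ : GL (Fin 2) F, M₂ = C₂ * DG θ hθ0 := ⟨_, rfl⟩
  obtain ⟨T, hTdef⟩ : ∃ T : GL (Fin 2 × Fin 2) F, T = kronGL M₁ M₂ := ⟨_, rfl⟩
  obtain ⟨Q, hQ⟩ : ∃ Q : GL (Fin n) F, Q = P * glReindex e.symm T := ⟨_, rfl⟩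
  -- the form in the new basis
  have hform : ∀ x y : Fin 2 × Fin 2 → F, hermForm n F q (TT e Q x) (TT e Q y) =
      (c * θ ^ 2) * formOfGram (fun a : F => a ^ q) (JS F ⊗ₖ JS F) x y := by
    intro x y
    rw [hQ, TT_change, TT_change, hTc', fog_mulVec hF, hTdef, kronGL_val, kron_gram, hM₁, hM₂, Units.val_mul,
      Units.val_mul, DG_val, gram_MM hF hf₁ _ hC₁ θ hθ, gram_MM hF hf₂ _ hC₂ θ hθ, Matrix.smul_kronecker,
      Matrix.kronecker_smul, smul_smul, fog_smul]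
    ring
  -- the constant is rational
  have hcq : (c * θ ^ 2) ^ q = c * θ ^ 2 := by
    have h0 : (fun a : F => a ^ q) 0 = 0 := zero_pow (q_ne_zero hF)
    have h1 : (fun a : F => a ^ q) 1 = 1 := one_pow q
    have e1 := hform (Pi.single (0, 0) 1) (Pi.single (1, 1) 1)
    have e2 := hform (Pi.single (1, 1) 1) (Pi.single (0, 0) 1)
    rw [formOfGram_single (fun a : F => a ^ q) h0 h1] at e1 e2
    have e3 := Cfsg.Agent.Lib.Helper18.S5663U2.hermForm_swap hF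
      (TT e Q (Pi.single (0, 0) 1)) (TT e Q (Pi.single (1, 1) 1))
    rw [e1, e2] at e3
    have k1 : (JS F ⊗ₖ JS F) (0, 0) (1, 1) = 1 := by simp [JS, Matrix.kroneckerMap_apply]
    have k2 : (JS F ⊗ₖ JS F) (1, 1) (0, 0) = 1 := by simp [JS, Matrix.kroneckerMap_apply]
    rw [k1, k2, mul_one] at e3
    exact e3.symm
  have hTTQ : ∀ u : Fin n → F, (Q : Matrix (Fin n) (Fin n) F) *ᵥ u = TT e Q (u ∘ e.symm) := by
    intro u
    unfold TT
    congr 1
    funext i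
    simp
  -- the rational structure
  have hrat : IsFormRationalStructure (hermForm n F q) (fixQ hF) 1 Q := by
    intro u v hu hv
    rw [one_mul, hTTQ u, hTTQ v, hform]
    exact (fixQ hF).mul_mem ((mem_fixQ hF _).mpr hcq)
      (fog_JSK_mem hF (u ∘ e.symm) (v ∘ e.symm) (fun a => hu _) (fun a => hv _))
  -- the group is rational
  have hsub : H ≤ subfieldSubgroup (fixQ hF) Q := by
    intro h hh
    have h1 := hH hh
    rw [tps_eq] at h1
    obtain ⟨g, hg, rfl⟩ := Subgroup.mem_map.mp h1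
    obtain ⟨a, b, rfl⟩ := eq_kronGL_of_mem hg
    have hGU : psi e P (kronGL a b) ∈ Cfsg.preserving (Units.coeHom (Matrix (Fin n) (Fin n) F)) (hermForm n F q) :=
      hHU hh
    have hpres := (psi_mem_preserving_iff e P hc hTc' (kronGL a b)).mp hGU
    have hgram := (preserves_iff (fun a : F => a ^ q) (zero_pow (q_ne_zero hF)) (one_pow q) (add_pow_q hF)
      (fun a b => mul_pow a b q) _ _).mp hpres
    rw [kronGL_val, kron_gram] at hgram
    obtain ⟨⟨ν₁, hν₁⟩, ⟨ν₂, hν₂⟩⟩ := kron_prop _ _ _ _ hgram (gram_ne_zero hF hf₁) (gram_ne_zero hF hf₂)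
    obtain ⟨lam₁, A₀, hlam₁, hA₀⟩ := rational_factor hF hf₁ C₁ hC₁ θ hθ0 hθ a ν₁ hν₁
    obtain ⟨lam₂, B₀, hlam₂, hB₀⟩ := rational_factor hF hf₂ C₂ hC₂ θ hθ0 hθ b ν₂ hν₂
    apply Cfsg.Agent.Lib.Helper13.mem_subfieldSubgroup_of_eq (fixQ hF) Q _ (lam₁ * lam₂)
      (mul_ne_zero hlam₁ hlam₂) ((A₀ ⊗ₖ B₀).submatrix e e)
    have hpsi : psi e P (kronGL a b) = psi e Q (T⁻¹ * kronGL a b * T) := by
      rw [hQ, psi_change]
      congr 1
      group
    have hconj : Q⁻¹ * psi e P (kronGL a b) * Q = glReindex e.symm (T⁻¹ * kronGL a b * T) := by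
      rw [hpsi]
      show Q⁻¹ * (Q * glReindex e.symm (T⁻¹ * kronGL a b * T) * Q⁻¹) * Q = _
      group
    rw [hconj, glReindex_val, hTdef, kronGL_conj, kronGL_val, hM₁, hM₂, hA₀, hB₀]
    ext i j
    simp [Cfsg.Agent.Lib.Helper13.rmat, Matrix.kroneckerMap_apply]
    ring
  rcases Nat.even_or_odd q with hq | hq
  · have h2 : (2 : F) = 0 := two_eq_zero_of_even hF hq
    have hn : Even n := by
      have hcard : n = 4 := by
        have := Fintype.card_congr e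
        simpa using this
      rw [hcard]
      decide
    refine InClassU.of_subfield_symp H hHU (fixQ hF) Q 1 hn (card_eq_fixQ_sq hF) one_ne_zero ?_ hrat ?_ hsub
    · rw [one_pow]
      linear_combination h2
    · intro u hu
      rw [hTTQ u, hform, fog_JSK_self hF h2 (u ∘ e.symm) (fun a => hu _), mul_zero]
  · exact InClassU.of_subfield_orth H hHU (fixQ hF) Q hq (card_eq_fixQ_sq hF) hrat hsub


end Cfsg.Agent.Lib.Helper20.S5663U4T22
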