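import Mathlib
import Cfsg.Agent.Lib.Helper28.USpDefs

/-!
# S5665 FO-GEOM (architect helper28): an isotropic vector with prescribed perpendicularity
-/

set_option autoImplicit false
set_option linter.unusedSectionVars false
set_option linter.unusedVariables false

namespace Cfsg.Agent.Lib.Helper20.S5665GEOM

open Matrix Module QuadraticMap Cfsg.Agent.Lib.Helper6 Cfsg.Agent.Lib.Helper13
open Cfsg.Agent.Lib.Helper28.SpSubf Cfsg.Agent.Lib.Helper28.USp

section general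

universe u
variable {F : Type u} [Field F]

/-- a subspace of `Y` meeting `R` trivially, of the expected dimension -/
theorem exists_le_disjoint {V : Type*} [AddCommGroup V] [Module F V] [FiniteDimensional F V]
    (Y R : Submodule F V) :
    ∃ C : Submodule F V, C ≤ Y ∧ C ⊓ R = ⊥ ∧ finrank F Y ≤ finrank F C + finrank F R := by
  obtain ⟨C', hC'⟩ := Submodule.exists_isCompl R
  refine ⟨C' ⊓ Y, inf_le_right, ?_, ?_⟩
  · have h1 : C' ⊓ Y ⊓ R ≤ R ⊓ C' := by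
      intro x hx
      exact ⟨hx.2, hx.1.1⟩
    rw [hC'.inf_eq_bot] at h1
    exact le_bot_iff.mp h1
  · have h1 := Submodule.finrank_sup_add_finrank_inf_eq C' Y
    have h2 : finrank F ↥(C' ⊔ Y) ≤ finrank F V := Submodule.finrank_le _
    have h3 := Submodule.finrank_add_eq_of_isCompl hC'
    omega

variable {ι : Type} [Fintype ι] [DecidableEq ι]

/-- a large subspace of a non-degenerate quadratic space over a finite field represents
every value -/
theorem exists_value [Finite F] (Q : QuadraticForm F (ι → F))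
    (hQ : (polarBilin Q).Nondegenerate) (Y : Submodule F (ι → F))
    (hY : finrank F (ι → F) + 3 ≤ 2 * finrank F Y) (c : F) : ∃ y ∈ Y, Q y = c := by
  have hR := LinearMap.BilinForm.finrank_orthogonal hQ Y
  obtain ⟨C, hCY, hCR, hfin⟩ := exists_le_disjoint Y (LinearMap.BilinForm.orthogonal (polarBilin Q) Y)
  have hYle : finrank F Y ≤ finrank F (ι → F) := Submodule.finrank_le _
  obtain ⟨e, heC, he0, he⟩ := OND.exists_singular_sub Q C (by omega)
  have heR : e ∉ LinearMap.BilinForm.orthogonal (polarBilin Q) Y := by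
    intro h
    have : e ∈ C ⊓ LinearMap.BilinForm.orthogonal (polarBilin Q) Y := ⟨heC, h⟩
    rw [hCR] at this
    exact he0 ((Submodule.mem_bot F).mp this)
  rw [LinearMap.BilinForm.mem_orthogonal_iff] at heR
  push Not at heR
  obtain ⟨e', he'Y, hee'⟩ := heR
  have hne : polar (⇑Q) e' e ≠ 0 := by
    intro h
    apply hee'
    change polarBilin Q e' e = 0
    rw [polarBilin_apply_apply]
    exact h
  refine ⟨e' + ((c - Q e') / polar (⇑Q) e' e) • e, Y.add_mem he'Y (Y.smul_mem _ (hCY heC)), ?_⟩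
  rw [Q_add, Q_smul, he, polar_smul_right, smul_eq_mul, mul_zero, add_zero,
    div_mul_cancel₀ _ hne]
  ring

/-- the general geometric statement -/
theorem exists_singular_general [Finite F] (Q : QuadraticForm F (ι → F))
    (hQ : (polarBilin Q).Nondegenerate) (hdim : 14 ≤ finrank F (ι → F))
    (f₁ f₂ f₃ f₀ : (ι → F) →ₗ[F] F) (T : Submodule F (ι → F)) (hT : finrank F T ≤ 2)
    (v : ι → F) (hv1 : f₁ v = 0) (hv2 : f₂ v = 0) (hv3 : f₃ v = 0) (hv0 : f₀ v ≠ 0) :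
    ∃ z, Q z = 0 ∧ f₁ z = 0 ∧ f₂ z = 0 ∧ f₃ z = 0 ∧ f₀ z ≠ 0 ∧ z ∉ T := by
  -- a big subspace cut out by five functionals
  have hcut : ∀ x : ι → F, ∃ Y : Submodule F (ι → F),
      finrank F (ι → F) ≤ finrank F Y + 5 ∧
      ∀ y ∈ Y, f₁ y = 0 ∧ f₂ y = 0 ∧ f₃ y = 0 ∧ f₀ y = 0 ∧ polar (⇑Q) x y = 0 := by
    intro x
    refine ⟨((((⊤ ⊓ LinearMap.ker f₁) ⊓ LinearMap.ker f₂) ⊓ LinearMap.ker f₃) ⊓
      LinearMap.ker f₀) ⊓ LinearMap.ker (polarBilin Q x), ?_, ?_⟩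
    · have h1 := finrank_le_inf_ker_add_one (⊤ : Submodule F (ι → F)) f₁
      have h2 := finrank_le_inf_ker_add_one (⊤ ⊓ LinearMap.ker f₁) f₂
      have h3 := finrank_le_inf_ker_add_one ((⊤ ⊓ LinearMap.ker f₁) ⊓ LinearMap.ker f₂) f₃
      have h4 := finrank_le_inf_ker_add_one
        (((⊤ ⊓ LinearMap.ker f₁) ⊓ LinearMap.ker f₂) ⊓ LinearMap.ker f₃) f₀
      have h5 := finrank_le_inf_ker_add_one
        ((((⊤ ⊓ LinearMap.ker f₁) ⊓ LinearMap.ker f₂) ⊓ LinearMap.ker f₃) ⊓ LinearMap.ker f₀)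
        (polarBilin Q x)
      have h0 : finrank F (⊤ : Submodule F (ι → F)) = finrank F (ι → F) := finrank_top F _
      omega
    · intro y hy
      simp only [Submodule.mem_inf, LinearMap.mem_ker, polarBilin_apply_apply] at hy
      exact ⟨hy.1.1.1.1.2, hy.1.1.1.2, hy.1.1.2, hy.1.2, hy.2⟩
  -- first step: an isotropic `z₁`
  obtain ⟨Y₁, hY₁d, hY₁⟩ := hcut v
  obtain ⟨y₁, hy₁Y, hy₁⟩ := exists_value Q hQ Y₁ (by omega) (-(Q v))
  obtain ⟨h11, h12, h13, h10, h1v⟩ := hY₁ y₁ hy₁Y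
  obtain ⟨z₁, hz₁def⟩ : ∃ z₁, z₁ = v + y₁ := ⟨_, rfl⟩
  have hz₁Q : Q z₁ = 0 := by rw [hz₁def, Q_add, hy₁, h1v]; ring
  have hz₁1 : f₁ z₁ = 0 := by rw [hz₁def, map_add, hv1, h11, add_zero]
  have hz₁2 : f₂ z₁ = 0 := by rw [hz₁def, map_add, hv2, h12, add_zero]
  have hz₁3 : f₃ z₁ = 0 := by rw [hz₁def, map_add, hv3, h13, add_zero]
  have hz₁0 : f₀ z₁ ≠ 0 := by rw [hz₁def, map_add, h10, add_zero]; exact hv0
  by_cases hz₁T : z₁ ∈ T
  · -- second step
    obtain ⟨Y₂, hY₂d, hY₂⟩ := hcut z₁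
    obtain ⟨C, hCY, hCT, hfin⟩ := exists_le_disjoint Y₂ T
    obtain ⟨z₂, hz₂C, hz₂0, hz₂Q⟩ := OND.exists_singular_sub Q C (by omega)
    obtain ⟨h21, h22, h23, h20, h2z⟩ := hY₂ z₂ (hCY hz₂C)
    have hz₂T : z₂ ∉ T := by
      intro h
      have : z₂ ∈ C ⊓ T := ⟨hz₂C, h⟩
      rw [hCT] at this
      exact hz₂0 ((Submodule.mem_bot F).mp this)
    refine ⟨z₁ + z₂, ?_, ?_, ?_, ?_, ?_, ?_⟩
    · rw [Q_add, hz₁Q, hz₂Q, h2z]; ring
    · rw [map_add, hz₁1, h21, add_zero]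
    · rw [map_add, hz₁2, h22, add_zero]
    · rw [map_add, hz₁3, h23, add_zero]
    · rw [map_add, h20, add_zero]; exact hz₁0
    · intro h
      apply hz₂T
      have : z₂ = (z₁ + z₂) - z₁ := by abel
      rw [this]
      exact T.sub_mem h hz₁T
  · exact ⟨z₁, hz₁Q, hz₁1, hz₁2, hz₁3, hz₁0, hz₁T⟩

end general

universe u
variable {F : Type u} [Field F] [Fintype F] {m : ℕ}
variable {θ : Matrix (Fin m ⊕ Fin m) (Fin m ⊕ Fin m) F} {d : F}

/-- FO-GEOM, exact signature -/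
theorem exists_iso (hU : UStrSp θ d) (hm : 7 ≤ m)
    (p₁ p₂ p₃ p₀ t₁ t₂ : (Fin m ⊕ Fin m) → F)
    (hp : p₀ ∉ Submodule.span F ({p₁, p₂, p₃} : Set ((Fin m ⊕ Fin m) → F))) :
    ∃ z : (Fin m ⊕ Fin m) → F, Nq θ z = 0 ∧ Cfsg.sympForm m F z p₁ = 0 ∧
      Cfsg.sympForm m F z p₂ = 0 ∧ Cfsg.sympForm m F z p₃ = 0 ∧ Cfsg.sympForm m F z p₀ ≠ 0 ∧
      z ∉ Submodule.span F ({t₁, t₂} : Set ((Fin m ⊕ Fin m) → F)) := by
  classical
  -- the vector `v`
  have hv : ∃ v : (Fin m ⊕ Fin m) → F, Cfsg.sympForm m F v p₁ = 0 ∧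
      Cfsg.sympForm m F v p₂ = 0 ∧ Cfsg.sympForm m F v p₃ = 0 ∧ Cfsg.sympForm m F v p₀ ≠ 0 := by
    by_contra hcon
    push Not at hcon
    apply hp
    apply symp_double_perp
    intro y hy
    have e1 : Cfsg.sympForm m F y p₁ = 0 := by
      rw [sympForm_swap, hy p₁ (Submodule.subset_span (by simp)), neg_zero]
    have e2 : Cfsg.sympForm m F y p₂ = 0 := by
      rw [sympForm_swap, hy p₂ (Submodule.subset_span (by simp)), neg_zero]
    have e3 : Cfsg.sympForm m F y p₃ = 0 := by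
      rw [sympForm_swap, hy p₃ (Submodule.subset_span (by simp)), neg_zero]
    exact hcon y e1 e2 e3
  obtain ⟨v, hv1, hv2, hv3, hv0⟩ := hv
  have hdim : 14 ≤ finrank F ((Fin m ⊕ Fin m) → F) := by
    rw [Module.finrank_fintype_fun_eq_card, card_iota]
    omega
  have hT : finrank F ↥(Submodule.span F ({t₁, t₂} : Set ((Fin m ⊕ Fin m) → F))) ≤ 2 := by
    have h1 := finrank_span_finset_le_card (R := F) ({t₁, t₂} : Finset ((Fin m ⊕ Fin m) → F))
    have h2 : ({t₁, t₂} : Finset ((Fin m ⊕ Fin m) → F)).card ≤ 2 := Finset.card_le_two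
    have h3 : ((({t₁, t₂} : Finset ((Fin m ⊕ Fin m) → F)) : Set ((Fin m ⊕ Fin m) → F))) =
        ({t₁, t₂} : Set ((Fin m ⊕ Fin m) → F)) := by simp
    rw [h3] at h1
    unfold Set.finrank at h1
    omega
  obtain ⟨z, hzQ, hz1, hz2, hz3, hz0, hzT⟩ := exists_singular_general (NQ θ) hU.NQ_nondeg hdim
    ((Cfsg.Agent.Lib.Helper15.stdSymp m F).flip p₁) ((Cfsg.Agent.Lib.Helper15.stdSymp m F).flip p₂)
    ((Cfsg.Agent.Lib.Helper15.stdSymp m F).flip p₃) ((Cfsg.Agent.Lib.Helper15.stdSymp m F).flip p₀)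
    (Submodule.span F ({t₁, t₂} : Set ((Fin m ⊕ Fin m) → F))) hT v hv1 hv2 hv3 hv0
  exact ⟨z, hzQ, hz1, hz2, hz3, hz0, hzT⟩

end Cfsg.Agent.Lib.Helper20.S5665GEOM
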