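import Mathlib
import Cfsg.Agent.Lib.Helper9.OExtDefs
import Cfsg.Agent.Lib.Helper7.SpExtBas
import Cfsg.Agent.Lib.Helper21.S5664FOBASb
import Cfsg.Agent.Lib.Helper26.S5701FOBAS
import Cfsg.Agent.Lib.Helper26.S5701FOSIEG

/-!
# S5701 FO-B1 (architect helper9): an invariant totally singular `r`-space through a
non-singular vector does not exist

`inv_contra_aux` takes FO-G3 (`exists_sieg_data`) for the given `y` as an explicit hypothesis.
-/

set_option autoImplicit false

namespace Cfsg.Agent.Lib.Helper20.S5701B1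

open Matrix Module QuadraticMap Cfsg.Agent.Lib.Helper7.SpExt Cfsg.Agent.Lib.Helper9.OExt
  Cfsg.Agent.Lib.Helper26.S5701BAS Cfsg.Agent.Lib.Helper26.S5701SIEG

variable {F : Type*} [Field F] [Fintype F] {L : Type*} [Field L] [Algebra F L] {ι : Type} [Fintype ι]
  [DecidableEq ι] {ρ : L →ₐ[F] Matrix ι ι F} {Q : QuadraticForm F (ι → F)} {τ : L →ₗ[F] F}
  {B : (ι → F) →ₗ[F] (ι → F) →ₗ[F] L} {r : ℕ}

/-- the displacement of `x` under the Siegel element `(s, a∙t)` -/
theorem sieg_disp (S : OStr ρ Q τ B) {s t : ι → F} (a : L) {g : GL ι F}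
    (hg : IsSieg ρ B s (ρ a *ᵥ t) g) (x : ι → F) :
    act g x - x = ρ (a * B x t) *ᵥ s - ρ a *ᵥ (ρ (B x s) *ᵥ t)
      - ρ (a * a * (B t t / 2 * B x s)) *ᵥ s := by
  rw [hg x, B_lin_right S, S.lin, B_lin_right S]
  have e1 : ρ (B x s) *ᵥ (ρ a *ᵥ t) = ρ a *ᵥ (ρ (B x s) *ᵥ t) := by
    rw [← rho_mul_mulVec, ← rho_mul_mulVec, mul_comm]
  have e2 : a * (a * B t t) / 2 * B x s = a * a * (B t t / 2 * B x s) := by ring
  rw [e1, e2]
  abel

theorem inv_contra_aux (S : OStr ρ Q τ B) (hrk : finrank F L = r) (hr : 0 < r)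
    (y : ι → F) (hy : B y y ≠ 0) (X : Submodule F (ι → F))
    (hG3 : ∀ π : ι → F, π ≠ 0 → B π y = 0 →
      ∃ s t, LSing B s ∧ B s y = 0 ∧ B t y = 0 ∧ B s t = 0 ∧ B s π ≠ 0 ∧ B t t ≠ 0)
    (hyX : y ∈ X) (hX : finrank F ↥X = r) (hts : ∀ x ∈ X, ∀ x' ∈ X, polar (⇑Q) x x' = 0)
    (hinv : ∀ (s t : ι → F) (g : GL ι F), LSing B s → B s y = 0 → B t y = 0 → B s t = 0 →
      IsSieg ρ B s t g → X.map (actL g) = X) : False := by
  have hy0 : y ≠ 0 := by
    rintro rfl
    apply hy
    simp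
  have h2 : (2 : L) ≠ 0 := two_ne_zero_L S
  -- every vector of `X` lies on the `L`-point of `y`
  have hXle : X ≤ pt ρ y := by
    intro x hx
    set lam := B x y / B y y with hlam
    set π := x - ρ lam *ᵥ y with hπ
    have hπy : B π y = 0 := by
      rw [hπ, map_sub, LinearMap.sub_apply, S.lin, hlam, div_mul_cancel₀ _ hy, sub_self]
    by_cases hπ0 : π = 0
    · have : x = ρ lam *ᵥ y := by
        rw [hπ, sub_eq_zero] at hπ0
        exact hπ0
      rw [this]
      exact smul_mem_pt ρ y lam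
    · exfalso
      obtain ⟨s, t, hs, hsy, hty, hst, hsπ, htt⟩ := hG3 π hπ0 hπy
      have hys : B y s = 0 := by rw [S.symm]; exact hsy
      have hyt : B y t = 0 := by rw [S.symm]; exact hty
      have hxs : B x s = B π s := by
        rw [hπ, map_sub, LinearMap.sub_apply, S.lin, hys, mul_zero, sub_zero]
      have hσ : B x s ≠ 0 := by
        rw [hxs, S.symm]
        exact hsπ
      -- the displacements lie in `X`
      have hd : ∀ a : L, ρ (a * B x t) *ᵥ s - ρ a *ᵥ (ρ (B x s) *ᵥ t)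
          - ρ (a * a * (B t t / 2 * B x s)) *ᵥ s ∈ X := by
        intro a
        have hsat : B s (ρ a *ᵥ t) = 0 := by rw [B_lin_right S, hst, mul_zero]
        obtain ⟨g, hg, -⟩ := exists_sieg S s (ρ a *ᵥ t) hs.2 hsat
        have hXg := hinv s (ρ a *ᵥ t) g hs hsy (by rw [S.lin, hty, mul_zero]) hsat hg
        have hgx : act g x ∈ X := by
          rw [← hXg]
          exact ⟨x, hx, rfl⟩
        rw [← sieg_disp S a hg x]
        exact X.sub_mem hgx hx
      -- second difference
      have hdd : ∀ a b : L, ρ (a * b * (B t t * B x s)) *ᵥ s ∈ X := by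
        intro a b
        have h1 := X.sub_mem (X.sub_mem (hd (a + b)) (hd a)) (hd b)
        have e : ρ ((a + b) * B x t) *ᵥ s - ρ (a + b) *ᵥ (ρ (B x s) *ᵥ t)
            - ρ ((a + b) * (a + b) * (B t t / 2 * B x s)) *ᵥ s
            - (ρ (a * B x t) *ᵥ s - ρ a *ᵥ (ρ (B x s) *ᵥ t)
              - ρ (a * a * (B t t / 2 * B x s)) *ᵥ s)
            - (ρ (b * B x t) *ᵥ s - ρ b *ᵥ (ρ (B x s) *ᵥ t)
              - ρ (b * b * (B t t / 2 * B x s)) *ᵥ s)
            = -(ρ (a * b * (B t t * B x s)) *ᵥ s) := by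
          have e1 : (a + b) * B x t = a * B x t + b * B x t := by ring
          have e2 : (a + b) * (a + b) * (B t t / 2 * B x s) =
              a * a * (B t t / 2 * B x s) + b * b * (B t t / 2 * B x s)
                + a * b * (B t t * B x s) := by
            field_simp
            ring
          rw [e1, e2, rho_add_mulVec, rho_add_mulVec, rho_add_mulVec, rho_add_mulVec]
          abel
        rw [e] at h1
        have := X.neg_mem h1
        rwa [neg_neg] at this
      have hpt : pt ρ s ≤ X := by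
        rintro _ ⟨c, rfl⟩
        have := hdd (c / (B t t * B x s)) 1
        rw [mul_one, div_mul_cancel₀ _ (mul_ne_zero htt hσ)] at this
        exact this
      have heq : pt ρ s = X := by
        apply Submodule.eq_of_le_of_finrank_eq hpt
        rw [hX]
        exact Cfsg.Agent.Lib.Helper21.S5664BASb.finrank_pt ρ hrk hr hs.1
      rw [← heq] at hyX
      obtain ⟨c, hc⟩ := (mem_pt ρ s y).mp hyX
      apply hy
      rw [← hc, S.lin, B_lin_right S, hs.2, mul_zero, mul_zero]
  have heq : X = pt ρ y := by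
    apply Submodule.eq_of_le_of_finrank_eq hXle
    rw [hX]
    exact (Cfsg.Agent.Lib.Helper21.S5664BASb.finrank_pt ρ hrk hr hy0).symm
  have hτ : τ ≠ 0 := tau_ne S hy0
  apply hy
  apply tau_sep hτ
  intro c
  have h1 : ρ c *ᵥ y ∈ X := by
    rw [heq]
    exact smul_mem_pt ρ y c
  have := hts _ h1 _ hyX
  rwa [polar_rho_left S] at this

end Cfsg.Agent.Lib.Helper20.S5701B1
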