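import Mathlib
import Cfsg.Agent.Lib.Helper9.OExtDefs
import Cfsg.Agent.Lib.Helper7.SpExtBas
import Cfsg.Agent.Lib.Helper21.S5664FOBASb
import Cfsg.Agent.Lib.Helper26.S5701FOBAS
import Cfsg.Agent.Lib.Helper26.S5701FOSIEG
import Cfsg.Agent.Lib.Helper20.S5701FOB1

/-!
# S5701 FO-B2 (architect helper9): an intersecting pair exists

`exists_ipair_aux` takes FO-A (`normalizes_of_pts`, for the given `g`) and FO-G3
(`exists_sieg_data`) as explicit hypotheses.
-/

set_option autoImplicit false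

namespace Cfsg.Agent.Lib.Helper20.S5701B2

open Matrix Module QuadraticMap Cfsg.Agent.Lib.Helper7.SpExt Cfsg.Agent.Lib.Helper9.OExt
  Cfsg.Agent.Lib.Helper26.S5701BAS Cfsg.Agent.Lib.Helper26.S5701SIEG

variable {F : Type*} [Field F] [Fintype F] {L : Type*} [Field L] [Algebra F L] {ι : Type} [Fintype ι]
  [DecidableEq ι] {ρ : L →ₐ[F] Matrix ι ι F} {Q : QuadraticForm F (ι → F)} {τ : L →ₗ[F] F}
  {B : (ι → F) →ₗ[F] (ι → F) →ₗ[F] L} {r : ℕ}

theorem Img_mul (g k : GL ι F) (v : ι → F) :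
    Img ρ (k * g) v = (Img ρ g v).map (actL k) := by
  ext x
  constructor
  · rintro ⟨z, hz, rfl⟩
    refine ⟨act g z, ⟨z, hz, rfl⟩, ?_⟩
    rw [actL_apply, actL_apply, act_mul]
  · rintro ⟨_, ⟨z, hz, rfl⟩, rfl⟩
    refine ⟨z, hz, ?_⟩
    rw [actL_apply, actL_apply, actL_apply, act_mul]

theorem exists_ipair_aux (S : OStr ρ Q τ B) (hr : 0 < r) (hrk : finrank F L = r)
    (H : Subgroup (GL ι F)) (hS : HasSieg ρ B H)
    (hH : H ≤ Cfsg.isometryGroup F ⇑Q) (g : GL ι F) (hg : g ∈ H) (hgN : ¬ Normalizes ρ g)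
    (hA : (∀ v, LSing B v → ∃ v', Img ρ g v = pt ρ v') → Normalizes ρ g)
    (hG3 : ∀ y π : ι → F, B y y ≠ 0 → π ≠ 0 → B π y = 0 →
      ∃ s t, LSing B s ∧ B s y = 0 ∧ B t y = 0 ∧ B s t = 0 ∧ B s π ≠ 0 ∧ B t t ≠ 0) :
    ∃ h h' v v', IPair ρ B H h h' v v' := by
  classical
  have hex : ∃ v, LSing B v ∧ ∀ v', Img ρ g v ≠ pt ρ v' := by
    by_contra hcon
    apply hgN
    apply hA
    intro v hv
    by_contra h2
    apply hcon
    exact ⟨v, hv, fun v' h3 => h2 ⟨v', h3⟩⟩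
  obtain ⟨v, hv, hne⟩ := hex
  by_cases hsing : ∃ s, s ∈ Img ρ g v ∧ LSing B s
  · obtain ⟨s, hsI, hs⟩ := hsing
    refine ⟨g, 1, v, s, hg, H.one_mem, hv, hs, ?_, ?_⟩
    · rw [Img_one]
      exact hne s
    · intro hbot
      have : s ∈ Img ρ g v ⊓ Img ρ 1 s := by
        refine Submodule.mem_inf.mpr ⟨hsI, ?_⟩
        rw [Img_one]
        exact self_mem_pt ρ s
      rw [hbot, Submodule.mem_bot] at this
      exact hs.1 this
  · set y := act g v with hy
    have hyI : y ∈ Img ρ g v := by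
      rw [mem_Img]
      exact ⟨1, by rw [rho_one_mulVec]⟩
    have hy0 : y ≠ 0 := by
      intro h0
      exact hv.1 ((act_eq_zero_iff g v).mp h0)
    have hyy : B y y ≠ 0 := fun h0 => hsing ⟨y, hyI, hy0, h0⟩
    by_cases hk : ∃ (s t : ι → F) (k : GL ι F), LSing B s ∧ B s y = 0 ∧ B t y = 0 ∧ B s t = 0 ∧
        IsSieg ρ B s t k ∧ Img ρ (k * g) v ≠ Img ρ g v
    · obtain ⟨s, t, k, hs, hsy, hty, hst, hkS, hkne⟩ := hk
      have hkH : k ∈ H := hS s t k hs.2 hst hkS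
      have hky : act k y = y := by
        rw [hkS y, S.symm y t, hty, S.symm y s, hsy]
        simp
      refine ⟨k * g, g, v, v, H.mul_mem hkH hg, hg, hv, hv, hkne, ?_⟩
      intro hbot
      have : y ∈ Img ρ (k * g) v ⊓ Img ρ g v := by
        refine Submodule.mem_inf.mpr ⟨?_, hyI⟩
        rw [mem_Img]
        exact ⟨1, by rw [rho_one_mulVec, act_mul, ← hy, hky]⟩
      rw [hbot, Submodule.mem_bot] at this
      exact hy0 this
    · exfalso
      push Not at hk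
      apply Cfsg.Agent.Lib.Helper20.S5701B1.inv_contra_aux S hrk hr y hyy (Img ρ g v)
        (fun π hπ hπy => hG3 y π hyy hπ hπy) hyI
        (Cfsg.Agent.Lib.Helper21.S5664BASb.finrank_Img ρ hrk hr g hv.1)
        (Img_isotropic S (hH hg) hv.2)
      intro s t k hs hsy hty hst hkS
      rw [← Img_mul]
      exact hk s t k hs hsy hty hst hkS

end Cfsg.Agent.Lib.Helper20.S5701B2
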