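import Mathlib
import Cfsg.Agent.Lib.Helper9.OExtDefs
import Cfsg.Agent.Lib.Helper7.SpExtBas
import Cfsg.Agent.Lib.Helper26.S5701FOGEOb
import Cfsg.Agent.H5.S5701FOA
import Cfsg.Agent.Lib.Helper20.S5701FOB1
import Cfsg.Agent.Lib.Helper20.S5701FOB2

/-!
# S5701 FO-B1, FO-B2 (architect helper9): exact-signature versions
-/

set_option autoImplicit false

namespace Cfsg.Agent.Lib.Helper20.S5701B12

open Matrix Module QuadraticMap Cfsg.Agent.Lib.Helper7.SpExt Cfsg.Agent.Lib.Helper9.OExt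

variable {F : Type*} [Field F] [Fintype F] {L : Type*} [Field L] [Algebra F L] {ι : Type} [Fintype ι]
  [DecidableEq ι] {ρ : L →ₐ[F] Matrix ι ι F} {Q : QuadraticForm F (ι → F)} {τ : L →ₗ[F] F}
  {B : (ι → F) →ₗ[F] (ι → F) →ₗ[F] L} {r : ℕ}

theorem inv_contra (S : OStr ρ Q τ B) (hrk : finrank F L = r) (hr : 0 < r)
    (hn : 4 * r ≤ Fintype.card ι) (y : ι → F) (hy : B y y ≠ 0) (X : Submodule F (ι → F))
    (hyX : y ∈ X) (hX : finrank F ↥X = r) (hts : ∀ x ∈ X, ∀ x' ∈ X, polar (⇑Q) x x' = 0)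
    (hinv : ∀ (s t : ι → F) (g : GL ι F), LSing B s → B s y = 0 → B t y = 0 → B s t = 0 →
      IsSieg ρ B s t g → X.map (actL g) = X) : False :=
  Cfsg.Agent.Lib.Helper20.S5701B1.inv_contra_aux S hrk hr y hy X
    (fun π hπ hπy =>
      Cfsg.Agent.Lib.Helper26.S5701GEO.exists_sieg_data S hrk hr hn y π (Or.inr hy) hπ hπy)
    hyX hX hts hinv

theorem normalizes_of_pts (S : OStr ρ Q τ B) (hrk : finrank F L = r) (hr : 0 < r)
    (hn : 4 * r ≤ Fintype.card ι) (g : GL ι F)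
    (h : ∀ v, LSing B v → ∃ v', Img ρ g v = pt ρ v') : Normalizes ρ g :=
  Cfsg.H5.S5701A.normalizes_of_pts_aux S hrk hr hn
    (fun φ hφ => Cfsg.Agent.Lib.Helper26.S5701GEO.lsing_span S hrk hr hn φ hφ) g h

theorem exists_ipair (S : OStr ρ Q τ B) (hr : r.Prime) (hrk : finrank F L = r)
    (hn : 4 * r ≤ Fintype.card ι) (H : Subgroup (GL ι F)) (hS : HasSieg ρ B H)
    (hH : H ≤ Cfsg.isometryGroup F ⇑Q) (g : GL ι F) (hg : g ∈ H) (hgN : ¬ Normalizes ρ g) :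
    ∃ h h' v v', IPair ρ B H h h' v v' :=
  Cfsg.Agent.Lib.Helper20.S5701B2.exists_ipair_aux S hr.pos hrk H hS hH g hg hgN
    (fun h => normalizes_of_pts S hrk hr.pos hn g h)
    (fun y π hy hπ hπy =>
      Cfsg.Agent.Lib.Helper26.S5701GEO.exists_sieg_data S hrk hr.pos hn y π (Or.inr hy) hπ hπy)

end Cfsg.Agent.Lib.Helper20.S5701B12
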