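import Mathlib
import Cfsg.Agent.Lib.Helper3.SpTDefs
import Cfsg.Agent.Lib.Helper3.SpTL1
import Cfsg.Agent.Lib.Helper3.SpTL2
import Cfsg.Agent.Lib.Helper3.SpTL3
import Cfsg.Agent.Lib.Helper3.SpTL3T

/-!
# S5704 (helper3 architect), layer 4, FO-T3A

A radical element of `M` outside `N0` yields a short root element `gE C w w'` in `M` with `C` non-scalar.
-/

set_option autoImplicit false
set_option linter.unusedSectionVars false
set_option linter.unusedVariables false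

namespace Cfsg.Agent.Lib.Helper20.S5704T3A

open Matrix Module QuadraticMap
open scoped Kronecker commutatorElement
open Cfsg.Agent.Lib.Helper16.Tens
open Cfsg.Agent.Lib.Helper23.S5637T3b (kronGL kronGL_mem_kron)
open Cfsg.Agent.Lib.Helper3.SpT

variable {F : Type*} [Field F] {a b : ℕ} {J1 : Matrix (Fin a) (Fin a) F} {J2 : Matrix (Fin b) (Fin b) F}
  {Q : QuadraticForm F (Fin a × Fin b → F)}

/-! ## linear algebra -/

/-- a vector orthogonal to three given vectors and outside a given line -/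
theorem exists_perp3 (hb : 5 ≤ b) (x1 x2 x3 w0 : Fin b → F) :
    ∃ w2 : Fin b → F, bf J2 x1 w2 = 0 ∧ bf J2 x2 w2 = 0 ∧ bf J2 x3 w2 = 0 ∧
      w2 ∉ Submodule.span F ({w0} : Set (Fin b → F)) := by
  let L : (Fin b → F) →ₗ[F] (Fin 3 → F) :=
    { toFun := fun y => ![bf J2 x1 y, bf J2 x2 y, bf J2 x3 y]
      map_add' := by
        intro y y'
        funext i
        fin_cases i <;> simp [bf_add_right]
      map_smul' := by
        intro c y
        funext i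
        fin_cases i <;> simp [bf_smul_right] }
  have h1 := LinearMap.finrank_range_add_finrank_ker L
  have h2 : finrank F (LinearMap.range L) ≤ 3 := by
    have := Submodule.finrank_le (LinearMap.range L)
    simpa using this
  have h3 : finrank F (Fin b → F) = b := by simp
  have h4 : finrank F (Submodule.span F ({w0} : Set (Fin b → F))) ≤ 1 := by
    have := finrank_span_le_card (R := F) ({w0} : Set (Fin b → F))
    simpa using this
  have h5 : ¬ LinearMap.ker L ≤ Submodule.span F ({w0} : Set (Fin b → F)) := by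
    intro hle
    have := Submodule.finrank_mono hle
    omega
  obtain ⟨w2, hw2, hw2'⟩ := Set.not_subset.1 h5
  refine ⟨w2, ?_, ?_, ?_, hw2'⟩
  · have := congrFun (LinearMap.mem_ker.1 hw2) 0
    simpa [L] using this
  · have := congrFun (LinearMap.mem_ker.1 hw2) 1
    simpa [L] using this
  · have := congrFun (LinearMap.mem_ker.1 hw2) 2
    simpa [L] using this

/-- induction principle for `Pk k = U ⊗ k^⊥` -/
theorem pk_induction (k : Fin b → F) {p : (Fin a × Fin b → F) → Prop} (h0 : p 0)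
    (hadd : ∀ x y, p x → p y → p (x + y))
    (hpur : ∀ (u : Fin a → F) (x : Fin b → F), bf J2 x k = 0 → p (pur u x))
    (v : Fin a × Fin b → F) (hv : v ∈ Pk (a := a) J2 k) : p v := by
  have hsum : v = ∑ i : Fin a, pur (Pi.single i 1) (fun j => v (i, j)) := by
    funext ⟨i, j⟩
    rw [Finset.sum_apply]
    simp only [pur_apply]
    rw [Finset.sum_eq_single i]
    · simp
    · intro i' _ hi'
      simp [Ne.symm hi']
    · simp
  have hrow : ∀ i : Fin a, bf J2 (fun j => v (i, j)) k = 0 := by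
    intro i
    have h1 := (mem_Pk_iff (J2 := J2) k v).1 hv
    have h2 := congrFun h1 i
    rw [ctr_apply] at h2
    exact h2
  have hgen : ∀ s : Finset (Fin a), p (∑ i ∈ s, pur (Pi.single i 1) (fun j => v (i, j))) := by
    intro s
    induction s using Finset.induction_on with
    | empty => simpa using h0
    | insert i s hi ih =>
      rw [Finset.sum_insert hi]
      exact hadd _ _ (hpur _ _ (hrow i)) ih
  rw [hsum]
  exact hgen Finset.univ

theorem pur_sub_right' (u : Fin a → F) (w w' : Fin b → F) : pur u (w - w') = pur u w - pur u w' := by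
  funext p; simp [pur, mul_sub]

/-! ## the `U`-components of a radical element -/

/-- `Cw J2 z w0' w *ᵥ u = (1 ⊗ f₂(·,w0')) (z (u ⊗ w) - u ⊗ w)`: for `w ⊥ w0`, `f₂(w0,w0') = 1` and `z` in the radical this is
the `U`-component of `z (u ⊗ w) - u ⊗ w ∈ U ⊗ w0` -/
noncomputable def Cw (J2 : Matrix (Fin b) (Fin b) F) (z : GL (Fin a × Fin b) F) (w0' w : Fin b → F) :
    Matrix (Fin a) (Fin a) F :=
  LinearMap.toMatrix' ((ctr (a := a) (J2 *ᵥ w0')).comp
    (((act z).toLinearMap - LinearMap.id).comp (purL (a := a) w)))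

theorem Cw_mulVec (z : GL (Fin a × Fin b) F) (w0' w : Fin b → F) (u : Fin a → F) :
    Cw J2 z w0' w *ᵥ u = ctr (J2 *ᵥ w0') (act z (pur u w) - pur u w) := by
  unfold Cw
  rw [← Matrix.toLin'_apply, Matrix.toLin'_toMatrix']
  rfl

/-- K1 -/
theorem act_pur_of_inRad {w0 w0' : Fin b → F} {z : GL (Fin a × Fin b) F} (hr : InRad J2 w0 z)
    (h00' : bf J2 w0 w0' = 1) {w : Fin b → F} (hw : bf J2 w w0 = 0) (u : Fin a → F) :
    act z (pur u w) = pur u w + pur (Cw J2 z w0' w *ᵥ u) w0 := by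
  have hx : pur u w ∈ Pk (a := a) J2 w0 := pur_mem_Pk u hw
  obtain ⟨u', hu'⟩ := (mem_Lk_iff w0 _).1 (hr.modL _ hx)
  rw [Cw_mulVec, hu', ctr_J_pur, h00', one_smul, ← hu']
  abel

theorem Cw_eq_zero {w0 w0' : Fin b → F} {z : GL (Fin a × Fin b) F} (hr : InRad J2 w0 z)
    {w : Fin b → F} (hw : ∀ u : Fin a → F, pur u w ∈ Lk (F := F) (a := a) w0) : Cw J2 z w0' w = 0 := by
  apply mat_ext_mulVec
  intro u
  rw [Cw_mulVec, hr.fixL _ (hw u), sub_self, map_zero, Matrix.zero_mulVec]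

/-- the inverse of a radical element on `U ⊗ w0^⊥` -/
theorem act_inv_pur_of_inRad {w0 w0' : Fin b → F} {z : GL (Fin a × Fin b) F} (hr : InRad J2 w0 z)
    (h00' : bf J2 w0 w0' = 1) {w : Fin b → F} (hw : bf J2 w w0 = 0) (u : Fin a → F) :
    act z⁻¹ (pur u w) = pur u w - pur (Cw J2 z w0' w *ᵥ u) w0 := by
  have h1 : act z (pur u w - pur (Cw J2 z w0' w *ᵥ u) w0) = pur u w := by
    rw [map_sub, act_pur_of_inRad hr h00' hw, hr.fixL _ (pur_mem_Lk _ _)]
    abel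
  have h2 := congrArg (act z⁻¹) h1
  rw [act_inv_act] at h2
  exact h2.symm

/-- the inverse of `1 ⊗ t_w(c)` on pure tensors -/
theorem act_rootW_inv (hJ2 : SympG J2) (w : Fin b → F) (c : F) (u : Fin a → F) (y : Fin b → F) :
    act (rootW (a := a) J2 hJ2 w c)⁻¹ (pur u y) = pur u (y - (c * bf J2 y w) • w) := by
  have h1 : act (rootW (a := a) J2 hJ2 w c) (pur u (y - (c * bf J2 y w) • w)) = pur u y := by
    rw [act_rootW]
    congr 1
    rw [bf_sub_left, bf_smul_left, hJ2.alt, mul_zero, sub_zero]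
    abel
  have h2 := congrArg (act (rootW (a := a) J2 hJ2 w c)⁻¹) h1
  rw [act_inv_act] at h2
  exact h2.symm

/-- the commutator `⁅1 ⊗ t_w(1), z⁆` on `U ⊗ w0^⊥` -/
theorem act_comm_pur (hJ2 : SympG J2) {w0 w0' : Fin b → F} {z : GL (Fin a × Fin b) F} (hr : InRad J2 w0 z)
    (h00' : bf J2 w0 w0' = 1) {w : Fin b → F} (hw : bf J2 w w0 = 0) {x : Fin b → F} (hx : bf J2 x w0 = 0)
    (u : Fin a → F) :
    act ⁅rootW (a := a) J2 hJ2 w 1, z⁆ (pur u x) =
      pur u x - bf J2 x w • pur (Cw J2 z w0' w *ᵥ u) w0 := by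
  have h0w : bf J2 w0 w = 0 := hJ2.eq_zero_comm hw
  -- step 1 : `z⁻¹`
  have e1 : act z⁻¹ (pur u x) = pur u x - pur (Cw J2 z w0' x *ᵥ u) w0 :=
    act_inv_pur_of_inRad hr h00' hx u
  -- step 2 : `t⁻¹`
  have e2 : act (rootW (a := a) J2 hJ2 w 1)⁻¹ (pur u x - pur (Cw J2 z w0' x *ᵥ u) w0) =
      pur u x - bf J2 x w • pur u w - pur (Cw J2 z w0' x *ᵥ u) w0 := by
    rw [map_sub, act_rootW_inv, act_rootW_inv, h0w, mul_zero, zero_smul, sub_zero, one_mul, pur_sub_right',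
      pur_smul_right]
  -- step 3 : `z`
  have e3 : act z (pur u x - bf J2 x w • pur u w - pur (Cw J2 z w0' x *ᵥ u) w0) =
      pur u x - bf J2 x w • pur u w - bf J2 x w • pur (Cw J2 z w0' w *ᵥ u) w0 := by
    rw [map_sub, map_sub, map_smul, act_pur_of_inRad hr h00' hx, act_pur_of_inRad hr h00' hw,
      hr.fixL _ (pur_mem_Lk _ _), smul_add]
    abel
  -- step 4 : `t`
  have e4 : act (rootW (a := a) J2 hJ2 w 1)
      (pur u x - bf J2 x w • pur u w - bf J2 x w • pur (Cw J2 z w0' w *ᵥ u) w0) =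
      pur u x - bf J2 x w • pur (Cw J2 z w0' w *ᵥ u) w0 := by
    rw [map_sub, map_sub, map_smul, map_smul, act_rootW, act_rootW, act_rootW, hJ2.alt, h0w, mul_zero,
      zero_smul, add_zero, add_zero, one_mul, pur_add_right, pur_smul_right]
    abel
  rw [commutatorElement_def, act_mul, act_mul, act_mul, e1, e2, e3, e4]

/-! ## case (i): some `C_w` is not scalar -/

theorem gE_one_mem [Fintype F] (hS : Setup J1 J2 Q) (hb : 6 ≤ b) {M : Subgroup (GL (Fin a × Fin b) F)}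
    (hM : Over Q M) (w w' : Fin b → F) (h : bf J2 w w' = 0) : gE J1 J2 hS.h2 1 w w' h ∈ M := by
  apply hM.kron_mem _ _ (gE_mem_Om hS hb 1 w w' h)
  have := gE_smul_one_mem_kron hS.h1 hS.h2 (1 : F) w w' h
  rwa [one_smul] at this

theorem case_i [Fintype F] (hS : Setup J1 J2 Q) (ha : 2 ≤ a) (hb : 6 ≤ b)
    (M : Subgroup (GL (Fin a × Fin b) F)) (hM : Over Q M) (w0 w0' : Fin b → F) (hw0 : w0 ≠ 0)
    (h00' : bf J2 w0 w0' = 1) (z : GL (Fin a × Fin b) F) (hz : z ∈ M) (hr : InRad J2 w0 z)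
    (w : Fin b → F) (hw : bf J2 w w0 = 0) (hns : ¬ IsScal (Cw J2 z w0' w)) :
    ∃ (C : Matrix (Fin a) (Fin a) F) (w w' : Fin b → F) (h : bf J2 w w' = 0), ¬ IsScal C ∧
      LinearIndependent F ![w, w'] ∧ gE J1 J2 hS.h2 C w w' h ∈ M := by
  have h1 := hS.h1
  have h2 := hS.h2
  have h0w : bf J2 w0 w = 0 := h2.eq_zero_comm hw
  have hli : LinearIndependent F ![w, w0] := by
    rw [LinearIndependent.pair_iff]
    intro s t hst
    by_cases hs : s = 0
    · subst hs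
      rw [zero_smul, zero_add] at hst
      exact ⟨rfl, (smul_eq_zero.1 hst).resolve_right hw0⟩
    · exfalso
      apply hns
      have hw' : w = (-(s⁻¹ * t)) • w0 := by
        have h3 : s • w = -(t • w0) := eq_neg_of_add_eq_zero_left hst
        calc w = s⁻¹ • (s • w) := by rw [smul_smul, inv_mul_cancel₀ hs, one_smul]
          _ = _ := by rw [h3, smul_neg, smul_smul, neg_smul]
      refine ⟨0, ?_⟩
      rw [zero_smul]
      apply Cw_eq_zero hr
      intro u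
      rw [hw', pur_smul_right]
      exact Submodule.smul_mem _ _ (pur_mem_Lk u w0)
  obtain ⟨w', hww', h0w'⟩ := exists_dual_pair h2 w w0 hli
  obtain ⟨w2, h0w2, hww2, hw'w2, hw2⟩ := exists_perp3 (J2 := J2) (by omega) w0 w w' w0
  have ht : rootW (a := a) J2 h2 w 1 ∈ M :=
    hM.kron_mem _ (rootW_mem_kron h2 w 1) (rootW_mem_Om hS hb w 1)
  have hz' : ⁅rootW (a := a) J2 h2 w 1, z⁆ ∈ M := by
    rw [commutatorElement_def]
    exact M.mul_mem (M.mul_mem (M.mul_mem ht hz) (M.inv_mem ht)) (M.inv_mem hz)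
  have hgiso := gE_mem_iso hS (-(Cw J2 z w0' w)) w0 w h0w
  have hagree : ∀ x ∈ Pk (a := a) J2 w0, act ⁅rootW (a := a) J2 h2 w 1, z⁆ x =
      act (gE J1 J2 h2 (-(Cw J2 z w0' w)) w0 w h0w) x := by
    intro x hx
    refine pk_induction (J2 := J2) w0
      (p := fun x => act ⁅rootW (a := a) J2 h2 w 1, z⁆ x =
        act (gE J1 J2 h2 (-(Cw J2 z w0' w)) w0 w h0w) x) ?_ ?_ ?_ x hx
    · simp
    · intro x y hx hy
      rw [map_add, map_add, hx, hy]
    · intro u x hx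
      rw [act_comm_pur h2 hr h00' hw hx, act_gE, hx, zero_smul, add_zero, Matrix.neg_mulVec, pur_neg_left,
        smul_neg]
      abel
  have hζiso : (gE J1 J2 h2 (-(Cw J2 z w0' w)) w0 w h0w)⁻¹ * ⁅rootW (a := a) J2 h2 w 1, z⁆ ∈
      Cfsg.isometryGroup F (⇑Q) :=
    (Cfsg.isometryGroup F (⇑Q)).mul_mem ((Cfsg.isometryGroup F (⇑Q)).inv_mem hgiso)
      (Om_le_iso (hM.le_Om hz'))
  have hfix : ∀ x ∈ Pk (a := a) J2 w0,
      act ((gE J1 J2 h2 (-(Cw J2 z w0' w)) w0 w h0w)⁻¹ * ⁅rootW (a := a) J2 h2 w 1, z⁆) x = x := by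
    intro x hx
    rw [act_mul, hagree x hx, act_inv_act]
  obtain ⟨α, hα, -, hζα⟩ := eq_zA_of_fix_Pk hS w0 hw0 _ hζiso hfix
  have hyM : gE J1 J2 h2 1 w' w2 hw'w2 ∈ M := gE_one_mem hS hb hM w' w2 hw'w2
  have hz'eq : ⁅rootW (a := a) J2 h2 w 1, z⁆ =
      gE J1 J2 h2 (-(Cw J2 z w0' w)) w0 w h0w * zA J2 h2 α w0 := by
    rw [← hζα, mul_inv_cancel_left]
  have hc : zA J2 h2 α w0 * gE J1 J2 h2 1 w' w2 hw'w2 = gE J1 J2 h2 1 w' w2 hw'w2 * zA J2 h2 α w0 :=
    zA_comm_gE_perp h2 α 1 w0 w' w2 hw'w2 h0w' h0w2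
  have hcomm : ⁅⁅rootW (a := a) J2 h2 w 1, z⁆, gE J1 J2 h2 1 w' w2 hw'w2⁆ =
      ⁅gE J1 J2 h2 (-(Cw J2 z w0' w)) w0 w h0w, gE J1 J2 h2 1 w' w2 hw'w2⁆ := by
    rw [hz'eq, commutatorElement_def, commutatorElement_def]
    have h3 : zA J2 h2 α w0 * gE J1 J2 h2 1 w' w2 hw'w2 * (zA J2 h2 α w0)⁻¹ =
        gE J1 J2 h2 1 w' w2 hw'w2 := by
      rw [hc, mul_inv_cancel_right]
    calc gE J1 J2 h2 (-(Cw J2 z w0' w)) w0 w h0w * zA J2 h2 α w0 * gE J1 J2 h2 1 w' w2 hw'w2 *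
          (gE J1 J2 h2 (-(Cw J2 z w0' w)) w0 w h0w * zA J2 h2 α w0)⁻¹ * (gE J1 J2 h2 1 w' w2 hw'w2)⁻¹
        = gE J1 J2 h2 (-(Cw J2 z w0' w)) w0 w h0w *
          (zA J2 h2 α w0 * gE J1 J2 h2 1 w' w2 hw'w2 * (zA J2 h2 α w0)⁻¹) *
          (gE J1 J2 h2 (-(Cw J2 z w0' w)) w0 w h0w)⁻¹ * (gE J1 J2 h2 1 w' w2 hw'w2)⁻¹ := by group
      _ = _ := by rw [h3]
  have hcomm1 := comm1 h1 h2 (-(Cw J2 z w0' w)) 1 w0 w w' w2 h0w hw'w2 h0w2 hww' h0w' hww2
  refine ⟨Cw J2 z w0' w, w0, w2, h0w2, hns, ?_, ?_⟩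
  · rw [LinearIndependent.pair_iff' hw0]
    intro c hc
    apply hw2
    rw [← hc]
    exact Submodule.smul_mem _ c (Submodule.mem_span_singleton_self w0)
  · have h4 : gE J1 J2 h2 (Cw J2 z w0' w) w0 w2 h0w2 =
        ⁅⁅rootW (a := a) J2 h2 w 1, z⁆, gE J1 J2 h2 1 w' w2 hw'w2⁆ := by
      rw [hcomm, hcomm1]
      exact gE_congr h2 _ _ (by rw [neg_mul, mul_one, neg_neg]) rfl rfl
    rw [h4, commutatorElement_def]
    exact M.mul_mem (M.mul_mem (M.mul_mem hz' hyM) (M.inv_mem hz')) (M.inv_mem hyM)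

/-! ## case (ii): all `C_w` are scalar -/

theorem case_ii [Fintype F] (hS : Setup J1 J2 Q) (ha : 2 ≤ a) (hb : 6 ≤ b)
    (M : Subgroup (GL (Fin a × Fin b) F)) (hM : Over Q M) (w0 w0' : Fin b → F) (hw0 : w0 ≠ 0)
    (h00' : bf J2 w0 w0' = 1) (z : GL (Fin a × Fin b) F) (hz : z ∈ M)
    (hzN : z ∉ Cfsg.Geo.kroneckerSubgroup a b F) (hr : InRad J2 w0 z)
    (hall : ∀ w : Fin b → F, bf J2 w w0 = 0 → IsScal (Cw J2 z w0' w)) :
    ∃ (C : Matrix (Fin a) (Fin a) F) (w w' : Fin b → F) (h : bf J2 w w' = 0), ¬ IsScal C ∧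
      LinearIndependent F ![w, w'] ∧ gE J1 J2 hS.h2 C w w' h ∈ M := by
  have h1 := hS.h1
  have h2 := hS.h2
  let i0 : Fin a := ⟨0, by omega⟩
  let e0 : Fin a → F := Pi.single i0 1
  let lam : (Fin b → F) →ₗ[F] F := (LinearMap.proj i0).comp ((ctr (a := a) (J2 *ᵥ w0')).comp
    (((act z).toLinearMap - LinearMap.id).comp (purR (b := b) e0)))
  have hlam : ∀ w, lam w = (Cw J2 z w0' w *ᵥ e0) i0 := by
    intro w
    rw [Cw_mulVec]
    rfl
  have hscal : ∀ w, bf J2 w w0 = 0 → Cw J2 z w0' w = lam w • (1 : Matrix (Fin a) (Fin a) F) := by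
    intro w hw
    obtain ⟨c, hc⟩ := hall w hw
    rw [hlam, hc]
    simp [e0]
  let φ : Fin b → F := fun j => lam (fun j' => if j = j' then 1 else 0)
  have hφ : ∀ x, lam x = x ⬝ᵥ φ := by
    intro x
    rw [LinearMap.pi_apply_eq_sum_univ lam x]
    simp [dotProduct, φ]
  obtain ⟨d, hd⟩ := exists_dual_vec h2 φ
  have h0d : bf J2 w0 d = 0 := by
    rw [hd, ← hφ, hlam, Cw_eq_zero hr (fun u => pur_mem_Lk u w0)]
    simp
  have hy0M : gE J1 J2 h2 1 w0 d h0d ∈ M := gE_one_mem hS hb hM w0 d h0d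
  have hagree : ∀ x ∈ Pk (a := a) J2 w0, act z x = act (gE J1 J2 h2 1 w0 d h0d) x := by
    intro x hx
    refine pk_induction (J2 := J2) w0
      (p := fun x => act z x = act (gE J1 J2 h2 1 w0 d h0d) x) ?_ ?_ ?_ x hx
    · simp
    · intro x y hx hy
      rw [map_add, map_add, hx, hy]
    · intro u x hx
      rw [act_pur_of_inRad hr h00' hx, act_gE, hx, zero_smul, add_zero, hscal x hx, Matrix.smul_mulVec,
        Matrix.one_mulVec, pur_smul_left, hd, ← hφ]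
  have hy0iso := gE_mem_iso hS 1 w0 d h0d
  have hζiso : (gE J1 J2 h2 1 w0 d h0d)⁻¹ * z ∈ Cfsg.isometryGroup F (⇑Q) :=
    (Cfsg.isometryGroup F (⇑Q)).mul_mem ((Cfsg.isometryGroup F (⇑Q)).inv_mem hy0iso)
      (Om_le_iso (hM.le_Om hz))
  have hfix : ∀ x ∈ Pk (a := a) J2 w0, act ((gE J1 J2 h2 1 w0 d h0d)⁻¹ * z) x = x := by
    intro x hx
    rw [act_mul, hagree x hx, act_inv_act]
  obtain ⟨α, hα, -, hζα⟩ := eq_zA_of_fix_Pk hS w0 hw0 _ hζiso hfix
  have hζM : zA J2 h2 α w0 ∈ M := by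
    rw [← hζα]
    exact M.mul_mem (M.inv_mem hy0M) hz
  have hαns : ¬ IsScal α := by
    intro hsc
    apply hzN
    have h3 : z = gE J1 J2 h2 1 w0 d h0d * zA J2 h2 α w0 := by
      rw [← hζα, mul_inv_cancel_left]
    rw [h3]
    apply (Cfsg.Geo.kroneckerSubgroup a b F).mul_mem _ (zA_mem_kron_of_isScal h2 α hsc w0)
    have := gE_smul_one_mem_kron h1 h2 (1 : F) w0 d h0d
    rwa [one_smul] at this
  -- the auxiliary vector `w2 ⊥ w0, w0'`
  have hfr : 2 * finrank F (Submodule.span F (Set.range ![w0, w0'])) < b := by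
    have h3 := finrank_range_le_card (R := F) ![w0, w0']
    rw [Set.finrank] at h3
    simp only [Fintype.card_fin] at h3
    omega
  obtain ⟨w2, w2', hw2S, -, hw22'⟩ := exists_pair_perp h2 _ hfr
  have h02 : bf J2 w0 w2 = 0 := hw2S w0 (Submodule.subset_span ⟨0, rfl⟩)
  have h0'2 : bf J2 w0' w2 = 0 := hw2S w0' (Submodule.subset_span ⟨1, rfl⟩)
  have hw2 : w2 ≠ 0 := by
    rintro rfl
    rw [bf_zero_left] at hw22'
    exact zero_ne_one hw22'
  have hyyM : gE J1 J2 h2 1 w0' w2 h0'2 ∈ M := gE_one_mem hS hb hM w0' w2 h0'2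
  have hc3 := comm3 h1 h2 α 1 hα w0 w0' w2 h00' h02 h0'2
  rw [adj_one h1, one_mul, mul_one] at hc3
  obtain ⟨β, hβ, hβw, hβOm⟩ := transW1 (a := a) hS hb w0 w2 hw0 hw2
  have hβM : kronGL (1 : GL (Fin a) F) β ∈ M := hM.kron_mem _ (kronGL_mem_kron _ _) hβOm
  have hconj := conjW_zA h2 β hβ (-α) w0
  rw [hβw] at hconj
  have hz2M : zA J2 h2 (-α) w2 ∈ M := by
    rw [← hconj]
    apply M.mul_mem (M.mul_mem hβM _) (M.inv_mem hβM)
    rw [← zA_inv]
    exact M.inv_mem hζM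
  have hcM : ⁅zA J2 h2 α w0, gE J1 J2 h2 1 w0' w2 h0'2⁆ ∈ M := by
    rw [commutatorElement_def]
    exact M.mul_mem (M.mul_mem (M.mul_mem hζM hyyM) (M.inv_mem hζM)) (M.inv_mem hyyM)
  refine ⟨-α, w0, w2, h02, ?_, ?_, ?_⟩
  · rintro ⟨c, hc⟩
    apply hαns
    refine ⟨-c, ?_⟩
    rw [neg_smul, ← hc, neg_neg]
  · have h3 := linInd_of_bf h2 w2 w0 w0' (h2.eq_zero_comm h0'2) (by rw [h00']; exact one_ne_zero) hw2
    rw [LinearIndependent.pair_symm_iff] at h3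
    exact h3
  · have h3 : gE J1 J2 h2 (-α) w0 w2 h02 =
        ⁅zA J2 h2 α w0, gE J1 J2 h2 1 w0' w2 h0'2⁆ * (zA J2 h2 (-α) w2)⁻¹ := by
      rw [hc3, mul_inv_cancel_right]
    rw [h3]
    exact M.mul_mem hcM (M.inv_mem hz2M)

/-! ## FO-T3A -/

/-- a radical element of `M` outside `N0` yields a short root element `gE C w w'` in `M` with `C` non-scalar -/
theorem T3A [Fintype F] (hS : Setup J1 J2 Q) (ha : 2 ≤ a) (hb : 6 ≤ b)
    (M : Subgroup (GL (Fin a × Fin b) F)) (hM : Over Q M) (w0 : Fin b → F) (hw0 : w0 ≠ 0)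
    (z : GL (Fin a × Fin b) F) (hz : z ∈ M) (hzN : z ∉ Cfsg.Geo.kroneckerSubgroup a b F) (hr : InRad J2 w0 z) :
    ∃ (C : Matrix (Fin a) (Fin a) F) (w w' : Fin b → F) (h : bf J2 w w' = 0), ¬ IsScal C ∧
      LinearIndependent F ![w, w'] ∧ gE J1 J2 hS.h2 C w w' h ∈ M := by
  obtain ⟨w0', h00'⟩ := exists_partner hS.h2 w0 hw0
  by_cases hcase : ∃ w : Fin b → F, bf J2 w w0 = 0 ∧ ¬ IsScal (Cw J2 z w0' w)
  · obtain ⟨w, hw, hns⟩ := hcase
    exact case_i hS ha hb M hM w0 w0' hw0 h00' z hz hr w hw hns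
  · push Not at hcase
    exact case_ii hS ha hb M hM w0 w0' hw0 h00' z hz hzN hr hcase

end Cfsg.Agent.Lib.Helper20.S5704T3A
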