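import Mathlib
import Cfsg.Prelude.Def_GeometricClasses
import Cfsg.Prelude.Def_LieClassical
import Cfsg.Agent.Lib.Helper14.GUConj2
import Cfsg.Agent.Lib.Helper16.S5778NF2

/-!
# S5778 (SU_3), piece E3, part (a): unitary elements of the standard index-2 subfield group, `q = 5`

An element of `subfieldSubgroup F₀ 1 ⊓ GU_3(5)` (`|F| = 25`, `|F₀| = 5`) is `c • B`, `B` a matrix over the prime field
`ZMod 5` with `Bᵀ B = 1`.
-/

set_option autoImplicit false

namespace Cfsg.Agent.Lib.Helper20.S5778E3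

open Matrix Cfsg Cfsg.Geo

variable {F : Type*} [Field F] [Fintype F]

/-- the prime field inside `F` -/
noncomputable abbrev psi (F : Type*) [Field F] [CharP F 5] : ZMod 5 →+* F := ZMod.castHom (dvd_refl 5) F

omit [Fintype F] in
theorem psi_injective [CharP F 5] : Function.Injective (psi F) := by
  have : Fact (Nat.Prime 5) := ⟨by norm_num⟩
  exact (psi F).injective

omit [Fintype F] in
theorem psi_pow_five [CharP F 5] (a : ZMod 5) : (psi F a) ^ 5 = psi F a := by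
  have : Fact (Nat.Prime 5) := ⟨by norm_num⟩
  rw [← map_pow, ZMod.pow_card]

omit [Fintype F] in
theorem psi_mem [CharP F 5] (F₀ : Subfield F) (a : ZMod 5) : psi F a ∈ F₀ := by
  have h : psi F a = ((a.val : ℕ) : F) := by
    conv_lhs => rw [← ZMod.natCast_zmod_val a]
    rw [map_natCast]
  rw [h]
  exact natCast_mem F₀ _

/-- every element of the subfield with five elements comes from `ZMod 5` -/
theorem exists_psi_eq [CharP F 5] (F₀ : Subfield F) (h5 : Nat.card F₀ = 5) (y : F) (hy : y ∈ F₀) :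
    ∃ a : ZMod 5, psi F a = y := by
  classical
  have : Fintype ↥F₀ := Fintype.ofFinite _
  let f : ZMod 5 → ↥F₀ := fun a => ⟨psi F a, psi_mem F₀ a⟩
  have hinj : Function.Injective f := fun a b hab => psi_injective (congrArg Subtype.val hab)
  have hcard : Fintype.card (ZMod 5) = Fintype.card ↥F₀ := by
    rw [ZMod.card, ← Nat.card_eq_fintype_card, h5]
  have hbij := (Fintype.bijective_iff_injective_and_card f).mpr ⟨hinj, hcard⟩
  obtain ⟨a, ha⟩ := hbij.2 ⟨y, hy⟩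
  exact ⟨a, congrArg Subtype.val ha⟩

theorem sq_of_cube_eq_sq : ∀ μ d : ZMod 5, μ ≠ 0 → μ ^ 3 = d ^ 2 → ∃ ν : ZMod 5, ν ≠ 0 ∧ ν ^ 2 = μ := by decide

/-- **E3, part (a)** -/
theorem exists_orth_of_mem [CharP F 5] (hF : Fintype.card F = 5 ^ 2) (F₀ : Subfield F)
    (hc : Fintype.card F = Nat.card F₀ ^ 2) (x : GL (Fin 3) F) (hx : x ∈ subfieldSubgroup F₀ (1 : GL (Fin 3) F))
    (hxU : x ∈ GU 3 F 5) :
    ∃ (c : F) (B : Matrix (Fin 3) (Fin 3) (ZMod 5)), c ≠ 0 ∧ Bᵀ * B = 1 ∧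
      (x : Matrix (Fin 3) (Fin 3) F) = c • B.map (psi F) := by
  have : Fact (Nat.Prime 5) := ⟨by norm_num⟩
  have h5 : Nat.card F₀ = 5 := Cfsg.Agent.Lib.Helper16.S5778NF2.card_sub hF F₀ hc
  obtain ⟨g₀, c, rfl⟩ := (Cfsg.Agent.Lib.Helper16.S5778NF2.mem_subfieldSubgroup_one_iff F₀ x).mp hx
  choose B₀' hB₀' using fun i j => exists_psi_eq F₀ h5 ((g₀ : Matrix (Fin 3) (Fin 3) F₀) i j : F) (g₀ i j).2
  obtain ⟨B₀, hB₀⟩ : ∃ B₀ : Matrix (Fin 3) (Fin 3) (ZMod 5),
      ∀ i j, psi F (B₀ i j) = ((g₀ : Matrix (Fin 3) (Fin 3) F₀) i j : F) := ⟨Matrix.of B₀', hB₀'⟩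
  -- the matrix
  have hval : ((Matrix.GeneralLinearGroup.map (F₀.subtype : F₀ →+* F) g₀ *
      Matrix.GeneralLinearGroup.scalar (Fin 3) c : GL (Fin 3) F) : Matrix (Fin 3) (Fin 3) F) =
      (c : F) • B₀.map (psi F) := by
    rw [Units.val_mul, Matrix.GeneralLinearGroup.coe_scalar]
    ext i j
    rw [Matrix.mul_apply, Matrix.smul_apply, Matrix.map_apply, hB₀]
    simp only [Matrix.scalar_apply, Matrix.diagonal_apply, mul_ite, mul_zero, Finset.sum_ite_eq',
      Finset.mem_univ, if_true, Matrix.GeneralLinearGroup.map_apply, smul_eq_mul]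
    rw [mul_comm]
    rfl
  have hc0 : (c : F) ≠ 0 := c.ne_zero
  -- unitarity
  have hU := (Cfsg.Agent.Lib.Helper14.GUConj.pres_iff hF _).mp (fun u v => hxU u v)
  have hU' : ∀ i j : Fin 3, (c : F) ^ 6 * psi F ((B₀ᵀ * B₀) i j) = if i = j then 1 else 0 := by
    intro i j
    have h1 := congrFun (congrFun hU i) j
    rw [Matrix.mul_apply, Matrix.one_apply] at h1
    rw [← h1, Matrix.mul_apply, map_sum, Finset.mul_sum]
    apply Finset.sum_congr rfl
    intro k _
    rw [Cfsg.Agent.Lib.Helper14.GUConj.sharp_apply, Cfsg.Agent.Lib.Helper14.HSemi.sigQ_apply]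
    simp only [Units.coeHom_apply]
    rw [hval, Matrix.smul_apply, Matrix.smul_apply, Matrix.map_apply, Matrix.map_apply, smul_eq_mul, smul_eq_mul,
      mul_pow, psi_pow_five, Matrix.transpose_apply, map_mul]
    ring
  have hc6 : (c : F) ^ 6 ≠ 0 := pow_ne_zero _ hc0
  have hoff : ∀ i j : Fin 3, i ≠ j → (B₀ᵀ * B₀) i j = 0 := by
    intro i j hij
    have h1 := hU' i j
    rw [if_neg hij] at h1
    have h2 : psi F ((B₀ᵀ * B₀) i j) = 0 := (mul_eq_zero.mp h1).resolve_left hc6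
    exact psi_injective (by rw [h2, map_zero])
  have hdiag : ∀ i : Fin 3, (B₀ᵀ * B₀) i i = (B₀ᵀ * B₀) 0 0 := by
    intro i
    apply psi_injective (F := F)
    have h1 := hU' i i
    have h2 := hU' 0 0
    rw [if_pos rfl] at h1 h2
    exact mul_left_cancel₀ hc6 (h1.trans h2.symm)
  set μ := (B₀ᵀ * B₀) 0 0 with hμ
  have hμ0 : μ ≠ 0 := by
    intro h0
    have h2 := hU' 0 0
    rw [if_pos rfl, ← hμ, h0, map_zero, mul_zero] at h2
    exact zero_ne_one h2
  have hBB : B₀ᵀ * B₀ = μ • (1 : Matrix (Fin 3) (Fin 3) (ZMod 5)) := by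
    ext i j
    rw [Matrix.smul_apply, Matrix.one_apply]
    by_cases hij : i = j
    · subst hij
      rw [if_pos rfl, hdiag, smul_eq_mul, mul_one]
    · rw [if_neg hij, hoff i j hij, smul_zero]
  have hdet : μ ^ 3 = B₀.det ^ 2 := by
    have h1 := congrArg Matrix.det hBB
    rw [Matrix.det_mul, Matrix.det_transpose, Matrix.det_smul, Matrix.det_one, Fintype.card_fin, mul_one] at h1
    rw [← h1, pow_two]
  obtain ⟨ν, hν0, hν⟩ := sq_of_cube_eq_sq μ B₀.det hμ0 hdet
  refine ⟨(c : F) * psi F ν, ν⁻¹ • B₀, mul_ne_zero hc0 (fun h => hν0 (psi_injective (by rw [h, map_zero]))), ?_, ?_⟩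
  · rw [Matrix.transpose_smul, Matrix.smul_mul, Matrix.mul_smul, hBB, smul_smul, smul_smul, ← hν]
    have : ν⁻¹ * ν⁻¹ * ν ^ 2 = 1 := by
      field_simp
    rw [this, one_smul]
  · rw [hval]
    ext i j
    simp only [Matrix.smul_apply, Matrix.map_apply, smul_eq_mul, map_mul]
    have : psi F ν * psi F ν⁻¹ = 1 := by
      rw [← map_mul, mul_inv_cancel₀ hν0, map_one]
    rw [mul_assoc, ← mul_assoc (psi F ν), this, one_mul]

end Cfsg.Agent.Lib.Helper20.S5778E3
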