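import Mathlib
import Cfsg.Prelude.Def_GeometricClasses
import Cfsg.Prelude.Def_LieClassical
import Cfsg.Agent.Lib.Helper15.S5778Final
import Cfsg.Agent.Lib.Helper15.S5778Data5b
import Cfsg.Agent.Lib.Helper16.S5778NF2
import Cfsg.Agent.Lib.Helper17.S5778O3
import Cfsg.Agent.Lib.Helper20.S5778E3a

/-!
# S5778 (SU_3), piece E3: the index-2 subfield group of `SU_3(5)` is not maximal  (helper20)

Normal form (helper16): the subfield group is the conjugate by a unitary matrix of the standard one.  An element of the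
standard one that is unitary is `c • B`, `B` orthogonal over the prime field (part (a)), `B` is a signed permutation
matrix or `σ W σ'` (helper17), and all of these preserve the set `S105` of helper15.  The diagonal matrix
`diag(ω, ω², 1)` preserves `S105` too but is not in the subfield group, and `s` does not preserve `S105`.
-/

set_option autoImplicit false

namespace Cfsg.Agent.Lib.Helper20.S5778E3

open Matrix Cfsg Cfsg.Geo Cfsg.Agent.Lib.Helper15.S5778Tools Cfsg.Agent.Lib.Helper15.S5778Core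
  Cfsg.Agent.Lib.Helper15.S5778Data5 Cfsg.Agent.Lib.Helper15.FQuad Cfsg.Agent.Lib.Helper17.S5778O3

variable {F : Type*} [Field F] [Fintype F]

omit [Fintype F] in
/-- the symmetric form of `inS105` -/
theorem inS105_iff (v : Fin 3 → F) : inS105 v ↔
    (∑ i, v i ^ 6 ≠ 0) ∧ (∃ i j, i ≠ j ∧ v i ^ 6 = v j ^ 6) ∧
      ((∏ i, v i) ^ 8 = 0 ∨ (∏ i, v i) ^ 8 = 1) := by
  unfold inS105
  rw [Fin.sum_univ_three, Fin.prod_univ_three]
  have e : ∀ x : F, x * x ^ 5 = x ^ 6 := fun x => by ring
  rw [e, e, e]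
  refine and_congr Iff.rfl (and_congr ?_ Iff.rfl)
  constructor
  · rintro (h | h | h)
    · exact ⟨0, 1, by decide, h⟩
    · exact ⟨1, 2, by decide, h⟩
    · exact ⟨0, 2, by decide, h⟩
  · rintro ⟨i, j, hij, h⟩
    fin_cases i <;> fin_cases j <;> simp at hij <;> simp at h
    · exact Or.inl h
    · exact Or.inr (Or.inr h)
    · exact Or.inl h.symm
    · exact Or.inr (Or.inl h)
    · exact Or.inr (Or.inr h.symm)
    · exact Or.inr (Or.inl h.symm)

omit [Fintype F] in
/-- monomial transformations with coefficients of norm one and product of eighth power one preserve `S105` -/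
theorem inS105_monomial (π : Equiv.Perm (Fin 3)) (t : Fin 3 → F) (ht : ∀ i, t i ^ 6 = 1)
    (hp : (∏ i, t i) ^ 8 = 1) (v u : Fin 3 → F) (hu : ∀ i, u i = t i * v (π i)) (hv : inS105 v) :
    inS105 u := by
  rw [inS105_iff] at hv ⊢
  obtain ⟨h1, ⟨i, j, hij, h2⟩, h3⟩ := hv
  have hu6 : ∀ i, u i ^ 6 = v (π i) ^ 6 := by
    intro i
    rw [hu, mul_pow, ht, one_mul]
  have hprod : (∏ i, u i) ^ 8 = (∏ i, v i) ^ 8 := by
    have : ∏ i, u i = (∏ i, t i) * ∏ i, v i := by
      rw [← Equiv.prod_comp π v, ← Finset.prod_mul_distrib]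
      exact Finset.prod_congr rfl (fun i _ => hu i)
    rw [this, mul_pow, hp, one_mul]
  refine ⟨?_, ⟨π.symm i, π.symm j, fun h => hij (π.symm.injective h), ?_⟩, ?_⟩
  · have : ∑ i, u i ^ 6 = ∑ i, v i ^ 6 := by
      rw [← Equiv.sum_comp π (fun i => v i ^ 6)]
      exact Finset.sum_congr rfl (fun i _ => hu6 i)
    rw [this]
    exact h1
  · rw [hu6, hu6, Equiv.apply_symm_apply, Equiv.apply_symm_apply]
    exact h2
  · rw [hprod]
    exact h3

omit [Fintype F] in
/-- signed permutation matrices over the prime field preserve `S105` -/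
theorem signed_pres [CharP F 5] (σ : Matrix (Fin 3) (Fin 3) (ZMod 5)) (hσ : IsSignedPerm σ) (v : Fin 3 → F)
    (hv : inS105 v) : inS105 (σ.map (psi F) *ᵥ v) := by
  obtain ⟨π, ε, hε, hσ⟩ := hσ
  have hε6 : ∀ j, (psi F (ε j)) ^ 6 = 1 := by
    intro j
    rcases hε j with h | h
    · rw [h, map_one, one_pow]
    · rw [h, map_neg, map_one]
      norm_num
  have hε8 : ∀ j, (psi F (ε j)) ^ 8 = 1 := by
    intro j
    rcases hε j with h | h
    · rw [h, map_one, one_pow]
    · rw [h, map_neg, map_one]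
      norm_num
  refine inS105_monomial π.symm (fun i => psi F (ε (π.symm i))) (fun i => hε6 _) ?_ v _ ?_ hv
  · rw [← Finset.prod_pow]
    exact Finset.prod_eq_one (fun i _ => hε8 _)
  · intro i
    rw [Matrix.mulVec, dotProduct, Finset.sum_eq_single (π.symm i)]
    · rw [Matrix.map_apply, hσ, if_pos (Equiv.apply_symm_apply π i).symm]
    · intro j _ hj
      rw [Matrix.map_apply, hσ, if_neg, map_zero, zero_mul]
      intro h
      apply hj
      rw [h, Equiv.symm_apply_apply]
    · intro h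
      exact absurd (Finset.mem_univ _) h

/-- the matrix `4J - I` over the prime field preserves `S105` -/
theorem w5_pres [CharP F 5] (φ : K25 →+* F) (hφ : Function.Bijective φ) (v : Fin 3 → F)
    (hv : inS105 v) : inS105 (W5.map (psi F) *ᵥ v) := by
  have h1 := mem_stab105_of φ hφ.surjective w det_w w_pres
  have h2 : W5.map (psi F) = w.map φ := by
    have e3 : φ (e 3 0) = 3 := by
      rw [show e 3 0 = (3 : K25) from rfl, map_ofNat]
    have e4 : φ (e 4 0) = 4 := by
      rw [show e 4 0 = (4 : K25) from rfl, map_ofNat]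
    ext i j
    fin_cases i <;> fin_cases j <;>
      first
        | (show psi F 3 = φ (e 3 0); rw [e3, map_ofNat])
        | (show psi F 4 = φ (e 4 0); rw [e4, map_ofNat])
  rw [h2]
  exact ((mem_stabSet.mp h1) v).mp hv

theorem pow24F (hF : Fintype.card F = 5 ^ 2) (c : F) (hc : c ≠ 0) : c ^ 24 = 1 := by
  have h := FiniteField.pow_card_sub_one_eq_one c hc
  rw [hF] at h
  exact h

/-- **ST**: the unitary part of the standard subfield group stabilises `S105` -/
theorem std_le [CharP F 5] (hF : Fintype.card F = 5 ^ 2) (φ : K25 →+* F) (hφ : Function.Bijective φ)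
    (F₀ : Subfield F) (hc : Fintype.card F = Nat.card F₀ ^ 2) :
    subfieldSubgroup F₀ (1 : GL (Fin 3) F) ⊓ SUn 3 F 5 ≤ stabSet (S105 F) := by
  intro x hx
  obtain ⟨c, B, hc0, hB, hxB⟩ := exists_orth_of_mem hF F₀ hc x hx.1 hx.2.1
  obtain ⟨σ, σ', hσ, hσ', h | h⟩ := o3_five B hB
  · apply mem_stabSet_of_forall
    intro v hv
    show inS105 ((x : Matrix (Fin 3) (Fin 3) F) *ᵥ v)
    rw [hxB, Matrix.smul_mulVec, inS105_smul (pow24F hF) c hc0, h]
    exact signed_pres σ hσ v hv
  · apply mem_stabSet_of_forall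
    intro v hv
    show inS105 ((x : Matrix (Fin 3) (Fin 3) F) *ᵥ v)
    rw [hxB, Matrix.smul_mulVec, inS105_smul (pow24F hF) c hc0, h, Matrix.map_mul, Matrix.map_mul,
      ← Matrix.mulVec_mulVec, ← Matrix.mulVec_mulVec]
    exact signed_pres σ hσ _ (w5_pres φ hφ _ (signed_pres σ' hσ' v hv))

theorem omega_pow_five : ω ^ 5 ≠ ω := by decide +kernel

/-- **PR**: `diag(ω, ω², 1)` is not in the standard subfield group -/
theorem d_not_mem [CharP F 5] (hF : Fintype.card F = 5 ^ 2) (φ : K25 →+* F)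
    (F₀ : Subfield F) (hc : Fintype.card F = Nat.card F₀ ^ 2) :
    mapGL φ d det_d ∉ subfieldSubgroup F₀ (1 : GL (Fin 3) F) := by
  intro hmem
  obtain ⟨c, B, hc0, hB, hxB⟩ := exists_orth_of_mem hF F₀ hc _ hmem (mem_SU_of φ hF d det_d unit_d).1
  rw [mapGL_coe] at hxB
  have h00 : φ ω = c * psi F (B 0 0) := by
    have := congrFun (congrFun hxB 0) 0
    simpa [d] using this
  have h22 : (1 : F) = c * psi F (B 2 2) := by
    have := congrFun (congrFun hxB 2) 2
    simpa [d] using this
  have hb0 : psi F (B 2 2) ≠ 0 := by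
    intro h0
    rw [h0, mul_zero] at h22
    exact one_ne_zero h22
  have hc5 : c ^ 5 = c := by
    have h1 : c ^ 5 * psi F (B 2 2) = c * psi F (B 2 2) := by
      rw [← h22]
      calc c ^ 5 * psi F (B 2 2) = (c * psi F (B 2 2)) ^ 5 := by rw [mul_pow, psi_pow_five]
        _ = 1 := by rw [← h22, one_pow]
    exact mul_right_cancel₀ hb0 h1
  have h5 : φ (ω ^ 5) = φ ω := by
    rw [map_pow, h00, mul_pow, psi_pow_five, hc5]
  exact omega_pow_five (φ.injective h5)

/-- **E3** -/
theorem e3 (hF : Fintype.card F = 5 ^ 2) : Cfsg.Agent.Lib.Helper15.S5778Final.E3 F := by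
  intro F₀ P hc hP
  obtain ⟨hchar, φ, hφ⟩ := exists_equiv25 hF
  have := hchar
  obtain ⟨g, hg, he⟩ := Cfsg.Agent.Lib.Helper16.S5778NF2.exists_unitary_structure hF (by decide) F₀ P hc hP
  rw [he, Cfsg.Agent.Lib.Helper16.S5778NF2.subfieldSubgroup_eq_map]
  refine not_maximal_conj g hg (subfieldSubgroup F₀ 1) ?_
  exact not_maximal_of_stabSet (S105 F) (std_le hF φ hφ F₀ hc)
    (w := mapGL φ d det_d) (mem_SU_of φ hF d det_d unit_d) (mem_stab105_of φ hφ.surjective d det_d d_pres)
    (fun h => d_not_mem hF φ F₀ hc h.1)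
    (s := mapGL φ s det_s) (mem_SU_of φ hF s det_s unit_s) (s_not_mem_stab105 φ)

end Cfsg.Agent.Lib.Helper20.S5778E3
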