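import Mathlib
import Cfsg.Agent.Lib.Helper17.ExtFDefs

/-!
# S5886 FO-BR1 : bridge between `Geo.subalgebraNormalizer K` and `ExtF.Normalizes K.val`
-/

set_option autoImplicit false

namespace Cfsg.Agent.Lib.Helper20.S5886BR

open Matrix Module Cfsg Cfsg.Agent.Lib.Helper17.ExtF

variable {F : Type*} [Field F] [Fintype F] {n : ℕ}

/-- the field structure on a field subalgebra (same term as `Cfsg.Agent.S5886.fieldOf` of the skeleton) -/
noncomputable abbrev fieldOf {r : ℕ} (K : Subalgebra F (Matrix (Fin n) (Fin n) F))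
    (hK : Cfsg.Geo.IsFieldSubalgebra r K) (hn : 0 < n) : Field ↥K :=
  IsField.toField (R := ↥K)
    { exists_pair_ne := by
        have : Nonempty (Fin n) := ⟨⟨0, hn⟩⟩
        refine ⟨0, 1, ?_⟩
        intro h
        have := congrArg Subtype.val h
        exact zero_ne_one this
      mul_comm := fun a b => Subtype.ext (hK.comm a a.2 b b.2)
      mul_inv_cancel := by
        intro a ha
        have ha' : (a : Matrix (Fin n) (Fin n) F) ≠ 0 := fun h => ha (Subtype.ext h)
        obtain ⟨y, hy, hxy⟩ := hK.inv a a.2 ha'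
        exact ⟨⟨y, hy⟩, Subtype.ext hxy⟩ }

/-- conjugation by `g` maps `K` into itself, hence onto itself (finite dimension) -/
theorem conj_mem_iff (K : Subalgebra F (Matrix (Fin n) (Fin n) F)) (g : GL (Fin n) F)
    (h : ∀ k ∈ K, (g : Matrix (Fin n) (Fin n) F) * k * ((g⁻¹ : GL (Fin n) F) : Matrix (Fin n) (Fin n) F) ∈ K)
    (k : Matrix (Fin n) (Fin n) F) :
    k ∈ K ↔ (g : Matrix (Fin n) (Fin n) F) * k * ((g⁻¹ : GL (Fin n) F) : Matrix (Fin n) (Fin n) F) ∈ K := by
  refine ⟨h k, ?_⟩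
  intro hk
  -- the linear map `c : K → K`
  let c : ↥K →ₗ[F] ↥K :=
    { toFun := fun a => ⟨(g : Matrix (Fin n) (Fin n) F) * a.1 *
        ((g⁻¹ : GL (Fin n) F) : Matrix (Fin n) (Fin n) F), h a.1 a.2⟩
      map_add' := by
        intro a b
        apply Subtype.ext
        simp [Matrix.mul_add, Matrix.add_mul]
      map_smul' := by
        intro t a
        apply Subtype.ext
        simp }
  have hinj : Function.Injective c := by
    intro a b hab
    have h1 : (g : Matrix (Fin n) (Fin n) F) * a.1 * ((g⁻¹ : GL (Fin n) F) : Matrix (Fin n) (Fin n) F)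
        = (g : Matrix (Fin n) (Fin n) F) * b.1 * ((g⁻¹ : GL (Fin n) F) : Matrix (Fin n) (Fin n) F) :=
      congrArg Subtype.val hab
    have h2 := congrArg (fun m => ((g⁻¹ : GL (Fin n) F) : Matrix (Fin n) (Fin n) F) * m *
      (g : Matrix (Fin n) (Fin n) F)) h1
    have e : ∀ m : Matrix (Fin n) (Fin n) F, ((g⁻¹ : GL (Fin n) F) : Matrix (Fin n) (Fin n) F) *
        ((g : Matrix (Fin n) (Fin n) F) * m * ((g⁻¹ : GL (Fin n) F) : Matrix (Fin n) (Fin n) F)) *
        (g : Matrix (Fin n) (Fin n) F) = m := by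
      intro m
      have e1 : ((g⁻¹ : GL (Fin n) F) : Matrix (Fin n) (Fin n) F) * (g : Matrix (Fin n) (Fin n) F) = 1 := by
        rw [← Units.val_mul, inv_mul_cancel, Units.val_one]
      calc _ = (((g⁻¹ : GL (Fin n) F) : Matrix (Fin n) (Fin n) F) * (g : Matrix (Fin n) (Fin n) F)) * m *
            (((g⁻¹ : GL (Fin n) F) : Matrix (Fin n) (Fin n) F) * (g : Matrix (Fin n) (Fin n) F)) := by
            simp only [Matrix.mul_assoc]
        _ = m := by rw [e1, Matrix.one_mul, Matrix.mul_one]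
    rw [e, e] at h2
    exact Subtype.ext h2
  have hsurj : Function.Surjective c := LinearMap.surjective_of_injective hinj
  obtain ⟨a, ha⟩ := hsurj ⟨_, hk⟩
  have h1 : (g : Matrix (Fin n) (Fin n) F) * a.1 * ((g⁻¹ : GL (Fin n) F) : Matrix (Fin n) (Fin n) F)
      = (g : Matrix (Fin n) (Fin n) F) * k * ((g⁻¹ : GL (Fin n) F) : Matrix (Fin n) (Fin n) F) :=
    congrArg Subtype.val ha
  have e1 : ((g⁻¹ : GL (Fin n) F) : Matrix (Fin n) (Fin n) F) * (g : Matrix (Fin n) (Fin n) F) = 1 := by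
    rw [← Units.val_mul, inv_mul_cancel, Units.val_one]
  have h2 := congrArg (fun m => ((g⁻¹ : GL (Fin n) F) : Matrix (Fin n) (Fin n) F) * m *
    (g : Matrix (Fin n) (Fin n) F)) h1
  have e : ∀ m : Matrix (Fin n) (Fin n) F, ((g⁻¹ : GL (Fin n) F) : Matrix (Fin n) (Fin n) F) *
      ((g : Matrix (Fin n) (Fin n) F) * m * ((g⁻¹ : GL (Fin n) F) : Matrix (Fin n) (Fin n) F)) *
      (g : Matrix (Fin n) (Fin n) F) = m := by
    intro m
    calc _ = (((g⁻¹ : GL (Fin n) F) : Matrix (Fin n) (Fin n) F) * (g : Matrix (Fin n) (Fin n) F)) * m *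
          (((g⁻¹ : GL (Fin n) F) : Matrix (Fin n) (Fin n) F) * (g : Matrix (Fin n) (Fin n) F)) := by
          simp only [Matrix.mul_assoc]
      _ = m := by rw [e1, Matrix.one_mul, Matrix.mul_one]
  rw [e, e] at h2
  rw [← h2]
  exact a.2

/-- FO-BR1 -/
theorem mem_normalizer_iff {r : ℕ} (K : Subalgebra F (Matrix (Fin n) (Fin n) F))
    (hK : Cfsg.Geo.IsFieldSubalgebra r K) (hn : 0 < n) (g : GL (Fin n) F) :
    letI := fieldOf K hK hn
    g ∈ Cfsg.Geo.subalgebraNormalizer K ↔ Normalizes K.val g := by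
  have e1 : ((g⁻¹ : GL (Fin n) F) : Matrix (Fin n) (Fin n) F) * (g : Matrix (Fin n) (Fin n) F) = 1 := by
    rw [← Units.val_mul, inv_mul_cancel, Units.val_one]
  have e2 : (g : Matrix (Fin n) (Fin n) F) * ((g⁻¹ : GL (Fin n) F) : Matrix (Fin n) (Fin n) F) = 1 := by
    rw [← Units.val_mul, mul_inv_cancel, Units.val_one]
  constructor
  · intro hg a
    have h1 : (g : Matrix (Fin n) (Fin n) F) * a.1 * ((g⁻¹ : GL (Fin n) F) : Matrix (Fin n) (Fin n) F) ∈ K :=
      (hg a.1).1 a.2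
    refine ⟨⟨_, h1⟩, ?_⟩
    change (g : Matrix (Fin n) (Fin n) F) * a.1 =
      (g : Matrix (Fin n) (Fin n) F) * a.1 * ((g⁻¹ : GL (Fin n) F) : Matrix (Fin n) (Fin n) F) *
        (g : Matrix (Fin n) (Fin n) F)
    rw [Matrix.mul_assoc _ _ (g : Matrix (Fin n) (Fin n) F), e1, Matrix.mul_one]
  · intro hg
    have h : ∀ k ∈ K, (g : Matrix (Fin n) (Fin n) F) * k *
        ((g⁻¹ : GL (Fin n) F) : Matrix (Fin n) (Fin n) F) ∈ K := by
      intro k hk
      obtain ⟨b, hb⟩ := hg ⟨k, hk⟩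
      have hb' : (g : Matrix (Fin n) (Fin n) F) * k = b.1 * (g : Matrix (Fin n) (Fin n) F) := hb
      rw [hb', Matrix.mul_assoc, e2, Matrix.mul_one]
      exact b.2
    intro k
    exact conj_mem_iff K g h k

end Cfsg.Agent.Lib.Helper20.S5886BR
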