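import Mathlib
import Cfsg.Agent.Lib.Helper17.ExtFDefs

/-!
# S5886 FO-DET : determinant of an elementary `L`-linear map, and FO-DETSURJ
-/

set_option autoImplicit false

namespace Cfsg.Agent.Lib.Helper20.S5886DET

open Matrix Module Cfsg.Agent.Lib.Helper17.ExtF

variable {F : Type*} [Field F] [Fintype F] {L : Type*} [Field L] [Algebra F L] {n : ℕ}
  (ρ : L →ₐ[F] Matrix (Fin n) (Fin n) F) {r : ℕ}

/-- FO-DET -/
theorem det_elem (hrk : finrank F L = r) (hr : 0 < r) (ψ : (Fin n → F) →ₗ[F] L) (e : Fin n → F)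
    (hψ : Lin ρ ψ) (g : GL (Fin n) F) (hg : ∀ v, act g v = v + ρ (ψ v) *ᵥ e) :
    (g : Matrix (Fin n) (Fin n) F).det = Algebra.norm F (1 + ψ e) := by
  classical
  let _ : Module L (Fin n → F) := Module.compHom (Fin n → F)
    (((Matrix.toLinAlgEquiv' (R := F) (n := Fin n)).toAlgHom.comp ρ).toRingHom)
  have hsm : ∀ (a : L) (v : Fin n → F), a • v = ρ a *ᵥ v := fun a v => rfl
  have htower : IsScalarTower F L (Fin n → F) := ⟨fun c a v => by
    change ρ (c • a) *ᵥ v = c • (ρ a *ᵥ v)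
    rw [map_smul, Matrix.smul_mulVec]⟩
  have hfdL : FiniteDimensional F L := by
    apply Module.finite_of_finrank_pos
    rw [hrk]; exact hr
  have hfdV : Module.Finite L (Fin n → F) := Module.Finite.of_restrictScalars_finite F L (Fin n → F)
  let ψL : Module.Dual L (Fin n → F) :=
    { toFun := ψ
      map_add' := ψ.map_add
      map_smul' := fun a v => by
        rw [hsm, hψ a v]; rfl }
  have hT : (LinearMap.transvection ψL e).restrictScalars F =
      Matrix.toLin' (g : Matrix (Fin n) (Fin n) F) := by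
    apply LinearMap.ext
    intro v
    rw [Matrix.toLin'_apply]
    have := hg v
    unfold act at this
    rw [this]
    rfl
  have h1 : (g : Matrix (Fin n) (Fin n) F).det =
      LinearMap.det (Matrix.toLin' (g : Matrix (Fin n) (Fin n) F)) := (LinearMap.det_toLin' _).symm
  rw [h1, ← hT, LinearMap.det_restrictScalars, LinearMap.transvection.det]
  rfl

/-- an `L`-linear functional taking the value `1` at a given non-zero vector -/
theorem exists_lin_one (v₁ : Fin n → F) (hv₁ : v₁ ≠ 0) :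
    ∃ π : (Fin n → F) →ₗ[F] L, Lin ρ π ∧ π v₁ = 1 := by
  classical
  let _ : Module L (Fin n → F) := Module.compHom (Fin n → F)
    (((Matrix.toLinAlgEquiv' (R := F) (n := Fin n)).toAlgHom.comp ρ).toRingHom)
  have hsm : ∀ (a : L) (v : Fin n → F), a • v = ρ a *ᵥ v := fun a v => rfl
  have htower : IsScalarTower F L (Fin n → F) := ⟨fun c a v => by
    change ρ (c • a) *ᵥ v = c • (ρ a *ᵥ v)
    rw [map_smul, Matrix.smul_mulVec]⟩
  obtain ⟨f, hf⟩ := Module.Projective.exists_dual_eq_one L hv₁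
  refine ⟨f.restrictScalars F, ?_, hf⟩
  intro a v
  change f (ρ a *ᵥ v) = a * f v
  rw [← hsm, map_smul, smul_eq_mul]

/-- FO-DETSURJ -/
theorem exists_centralizes_det (hrk : finrank F L = r) (hr : 0 < r) (hn : r ≤ n) (c : Fˣ) :
    ∃ g : GL (Fin n) F, (∀ a : L, (g : Matrix (Fin n) (Fin n) F) * ρ a =
      ρ a * (g : Matrix (Fin n) (Fin n) F)) ∧ (g : Matrix (Fin n) (Fin n) F).det = c := by
  classical
  have hfdL : FiniteDimensional F L := by
    apply Module.finite_of_finrank_pos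
    rw [hrk]; exact hr
  have hfinL : Finite L := Module.finite_of_finite F
  obtain ⟨ν, hν⟩ := FiniteField.norm_surjective F L (c : F)
  have hν0 : ν ≠ 0 := by
    rintro rfl
    rw [Algebra.norm_zero] at hν
    exact c.ne_zero hν.symm
  have hn0 : 0 < n := lt_of_lt_of_le hr hn
  let v₁ : Fin n → F := Pi.single ⟨0, hn0⟩ 1
  have hv₁ : v₁ ≠ 0 := by
    intro h
    have := congrFun h ⟨0, hn0⟩
    simp [v₁] at this
  obtain ⟨π, hπ, hπ1⟩ := exists_lin_one ρ v₁ hv₁
  -- the maps `T a : v ↦ v + ρ (a * π v) v₁`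
  let T : L → (Fin n → F) →ₗ[F] (Fin n → F) := fun a =>
    LinearMap.id + (orb ρ v₁) ∘ₗ (LinearMap.mulLeft F a) ∘ₗ π
  have hT : ∀ a v, T a v = v + ρ (a * π v) *ᵥ v₁ := fun a v => rfl
  have hTT : ∀ a b v, T b (T a v) = T (a + b + a * b) v := by
    intro a b v
    rw [hT, hT, hT, map_add, hπ, hπ1, mul_one]
    rw [show (a + b + a * b) * π v = a * π v + b * (π v + a * π v) by ring, rho_add_mulVec]
    abel
  have hT0 : ∀ v, T 0 v = v := by
    intro v
    rw [hT, zero_mul, rho_zero_mulVec, add_zero]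
  have e1 : (ν - 1) + (ν⁻¹ - 1) + (ν - 1) * (ν⁻¹ - 1) = 0 := by
    field_simp
    ring
  have e2 : (ν⁻¹ - 1) + (ν - 1) + (ν⁻¹ - 1) * (ν - 1) = 0 := by
    field_simp
    ring
  obtain ⟨g, hg, -⟩ := exists_gl (T (ν - 1)) (T (ν⁻¹ - 1))
    (fun v => by rw [hTT, e2, hT0]) (fun v => by rw [hTT, e1, hT0])
  refine ⟨g, ?_, ?_⟩
  · intro a
    apply Matrix.toLin'.injective
    apply LinearMap.ext
    intro v
    rw [Matrix.toLin'_apply, Matrix.toLin'_apply, ← Matrix.mulVec_mulVec, ← Matrix.mulVec_mulVec]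
    have h1 := hg (ρ a *ᵥ v)
    have h2 := hg v
    unfold act at h1 h2
    rw [h1, h2, hT, hT, hπ a v, Matrix.mulVec_add, ← rho_mul_mulVec,
      show (ν - 1) * (a * π v) = a * ((ν - 1) * π v) by ring]
  · have hdet := det_elem ρ hrk hr ((LinearMap.mulLeft F (ν - 1)) ∘ₗ π) v₁ (hπ.mulLeft (ν - 1)) g
      (fun v => by rw [hg v, hT]; rfl)
    rw [hdet]
    simp only [LinearMap.comp_apply, LinearMap.mulLeft_apply, hπ1, mul_one]
    rw [show (1 : L) + (ν - 1) = ν by ring, hν]

end Cfsg.Agent.Lib.Helper20.S5886DET
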