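import Mathlib
import Cfsg.Agent.Lib.Helper24.SLB.Defs

set_option autoImplicit false

/-! S4538 farm (architect helper24), leaves [E1], [E2]: the matrix computations in the rank one
subgroup `⟨x_k, x_{-k}⟩` of `SL_n(F)`. -/

namespace Cfsg.Agent.Lib.Helper24.SLB.Helper20

open Matrix

variable {n : ℕ} {F : Type*} [Field F]

theorem mul_single_apply' (V : Matrix (Fin n) (Fin n) F) (a b : Fin n) (c : F) (r s : Fin n) :
    (V * Matrix.single a b c) r s = if s = b then V r a * c else 0 := by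
  by_cases h : s = b
  · subst h; simp
  · simp [h]

theorem single_mul_apply' (W : Matrix (Fin n) (Fin n) F) (a b : Fin n) (c : F) (r s : Fin n) :
    (Matrix.single a b c * W) r s = if r = a then c * W b s else 0 := by
  by_cases h : r = a
  · subst h; simp
  · simp [h]

/-- the embedding of `2 × 2` matrices at the rows and columns `i`, `j` -/
def emb (i j : Fin n) (A : Matrix (Fin 2) (Fin 2) F) : Matrix (Fin n) (Fin n) F :=
  1 + Matrix.single i i (A 0 0 - 1) + Matrix.single i j (A 0 1) + Matrix.single j i (A 1 0) +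
    Matrix.single j j (A 1 1 - 1)

theorem mul_emb {i j : Fin n} (hij : i ≠ j) (V : Matrix (Fin n) (Fin n) F)
    (A : Matrix (Fin 2) (Fin 2) F) (r s : Fin n) :
    (V * emb i j A) r s = if s = i then V r i * A 0 0 + V r j * A 1 0
      else if s = j then V r i * A 0 1 + V r j * A 1 1 else V r s := by
  unfold emb
  simp only [Matrix.mul_add, Matrix.mul_one, Matrix.add_apply, mul_single_apply']
  by_cases h1 : s = i
  · subst h1
    simp only [if_true, if_neg hij]
    ring
  · by_cases h2 : s = j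
    · subst h2
      simp only [if_true, if_neg h1]
      ring
    · simp only [if_neg h1, if_neg h2]
      ring

theorem emb_mul {i j : Fin n} (hij : i ≠ j) (W : Matrix (Fin n) (Fin n) F)
    (A : Matrix (Fin 2) (Fin 2) F) (r s : Fin n) :
    (emb i j A * W) r s = if r = i then A 0 0 * W i s + A 0 1 * W j s
      else if r = j then A 1 0 * W i s + A 1 1 * W j s else W r s := by
  unfold emb
  simp only [Matrix.add_mul, Matrix.one_mul, Matrix.add_apply, single_mul_apply']
  by_cases h1 : r = i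
  · subst h1
    simp only [if_true, if_neg hij]
    ring
  · by_cases h2 : r = j
    · subst h2
      simp only [if_true, if_neg h1]
      ring
    · simp only [if_neg h1, if_neg h2]
      ring

theorem emb_apply {i j : Fin n} (hij : i ≠ j) (A : Matrix (Fin 2) (Fin 2) F) (r s : Fin n) :
    emb i j A r s = if r = i then (if s = i then A 0 0 else if s = j then A 0 1 else 0)
      else if r = j then (if s = i then A 1 0 else if s = j then A 1 1 else 0)
      else (if r = s then 1 else 0) := by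
  have := mul_emb hij (1 : Matrix (Fin n) (Fin n) F) A r s
  rw [Matrix.one_mul] at this
  rw [this]
  simp only [Matrix.one_apply]
  have hji : j ≠ i := hij.symm
  by_cases h1 : r = i <;> by_cases h2 : r = j <;> by_cases h3 : s = i <;> by_cases h4 : s = j <;>
    simp_all <;> (rintro rfl; simp_all)

theorem emb_mul_emb {i j : Fin n} (hij : i ≠ j) (A B : Matrix (Fin 2) (Fin 2) F) :
    emb i j A * emb i j B = emb i j (A * B) := by
  ext r s
  rw [mul_emb hij]
  simp only [emb_apply hij, Matrix.mul_apply, Fin.sum_univ_two]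
  have hji : j ≠ i := hij.symm
  by_cases h1 : r = i <;> by_cases h2 : r = j <;> by_cases h3 : s = i <;> by_cases h4 : s = j <;>
    simp_all

theorem emb_one {i j : Fin n} : emb i j (1 : Matrix (Fin 2) (Fin 2) F) = 1 := by
  unfold emb
  simp

/-- off-diagonal entries of the embedding of a diagonal matrix vanish -/
theorem emb_diag_apply {i j : Fin n} (hij : i ≠ j) (A : Matrix (Fin 2) (Fin 2) F)
    (h01 : A 0 1 = 0) (h10 : A 1 0 = 0) (r s : Fin n) (hrs : r ≠ s) : emb i j A r s = 0 := by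
  rw [emb_apply hij]
  have hji : j ≠ i := hij.symm
  by_cases h1 : r = i <;> by_cases h2 : r = j <;> by_cases h3 : s = i <;> by_cases h4 : s = j <;>
    simp_all

/-! ### the `2 × 2` matrices -/

def X2 (a : F) : Matrix (Fin 2) (Fin 2) F := !![1, a; 0, 1]
def Y2 (a : F) : Matrix (Fin 2) (Fin 2) F := !![1, 0; a, 1]
def N2 : Matrix (Fin 2) (Fin 2) F := !![0, 1; -1, 0]
def N2i : Matrix (Fin 2) (Fin 2) F := !![0, -1; 1, 0]
def H2 (e : F) : Matrix (Fin 2) (Fin 2) F := !![e, 0; 0, e⁻¹]

variable (k : ℕ) (hk : k + 1 < n)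

theorem xs_emb (a : F) :
    ((xs k hk a : SpecialLinearGroup (Fin n) F) : Matrix (Fin n) (Fin n) F) =
      emb (fi k hk) (fs k hk) (X2 a) := by
  rw [xs_coe]
  unfold emb X2
  simp

theorem xm_emb (a : F) :
    ((xm k hk a : SpecialLinearGroup (Fin n) F) : Matrix (Fin n) (Fin n) F) =
      emb (fi k hk) (fs k hk) (Y2 a) := by
  rw [xm_coe]
  unfold emb Y2
  simp

theorem xs_add (a b : F) : xs k hk a * xs k hk b = (xs k hk (a + b) : SpecialLinearGroup (Fin n) F) :=
  Cfsg.Agent.Lib.Helper25.SLCC.T_add (fi_ne_fs k hk) a b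

theorem xs_zero : (xs k hk 0 : SpecialLinearGroup (Fin n) F) = 1 :=
  Cfsg.Agent.Lib.Helper25.SLCC.T_zero (fi_ne_fs k hk)

theorem xs_inv (a : F) : (xs k hk a : SpecialLinearGroup (Fin n) F)⁻¹ = xs k hk (-a) :=
  Cfsg.Agent.Lib.Helper25.SLCC.T_inv (fi_ne_fs k hk) a

theorem xm_inv (a : F) : (xm k hk a : SpecialLinearGroup (Fin n) F)⁻¹ = xm k hk (-a) :=
  Cfsg.Agent.Lib.Helper25.SLCC.T_inv (fi_ne_fs k hk).symm a

theorem ns_emb :
    ((ns k hk : SpecialLinearGroup (Fin n) F) : Matrix (Fin n) (Fin n) F) =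
      emb (fi k hk) (fs k hk) N2 := by
  unfold ns
  rw [Matrix.SpecialLinearGroup.coe_mul, Matrix.SpecialLinearGroup.coe_mul, xs_emb, xm_emb,
    emb_mul_emb (fi_ne_fs k hk), emb_mul_emb (fi_ne_fs k hk)]
  congr 1
  unfold X2 Y2 N2
  ext a b
  fin_cases a <;> fin_cases b <;> simp [Matrix.mul_apply, Fin.sum_univ_two]

theorem ns_inv_emb :
    (((ns k hk)⁻¹ : SpecialLinearGroup (Fin n) F) : Matrix (Fin n) (Fin n) F) =
      emb (fi k hk) (fs k hk) N2i := by
  have h : ((ns k hk)⁻¹ : SpecialLinearGroup (Fin n) F) = xs k hk (-1) * xm k hk 1 * xs k hk (-1) := by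
    unfold ns
    rw [_root_.mul_inv_rev, _root_.mul_inv_rev, xs_inv, xm_inv, neg_neg, mul_assoc]
  rw [h, Matrix.SpecialLinearGroup.coe_mul, Matrix.SpecialLinearGroup.coe_mul, xs_emb, xm_emb,
    emb_mul_emb (fi_ne_fs k hk), emb_mul_emb (fi_ne_fs k hk)]
  congr 1
  unfold X2 Y2 N2i
  ext a b
  fin_cases a <;> fin_cases b <;> simp [Matrix.mul_apply, Fin.sum_univ_two]

/-- `n x(a) n = x_-(-a) n n` -/
theorem ns_xs_ns (a : F) :
    ns k hk * xs k hk a * ns k hk = (xm k hk (-a) * ns k hk * ns k hk : SpecialLinearGroup (Fin n) F) := by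
  apply Subtype.ext
  show ((ns k hk * xs k hk a * ns k hk : SpecialLinearGroup (Fin n) F) : Matrix (Fin n) (Fin n) F) =
    ((xm k hk (-a) * ns k hk * ns k hk : SpecialLinearGroup (Fin n) F) : Matrix (Fin n) (Fin n) F)
  simp only [Matrix.SpecialLinearGroup.coe_mul, xs_emb, xm_emb, ns_emb, emb_mul_emb (fi_ne_fs k hk)]
  congr 1
  unfold X2 Y2 N2
  ext a b
  fin_cases a <;> fin_cases b <;> simp [Matrix.mul_apply, Fin.sum_univ_two]

/-- the torus element `h(-c)` -/
noncomputable def hh (c : F) : SpecialLinearGroup (Fin n) F :=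
  (ns k hk)⁻¹ * xs k hk (-c⁻¹) * xm k hk c * xs k hk (-c⁻¹)

theorem xm_eq (c : F) :
    (xm k hk c : SpecialLinearGroup (Fin n) F) = xs k hk c⁻¹ * ns k hk * hh k hk c * xs k hk c⁻¹ := by
  unfold hh
  have h1 : xs k hk c⁻¹ * xs k hk (-c⁻¹) = (1 : SpecialLinearGroup (Fin n) F) := by
    rw [xs_add, add_neg_cancel, xs_zero]
  have h2 : xs k hk (-c⁻¹) * xs k hk c⁻¹ = (1 : SpecialLinearGroup (Fin n) F) := by
    rw [xs_add, neg_add_cancel, xs_zero]
  calc (xm k hk c : SpecialLinearGroup (Fin n) F)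
      = (xs k hk c⁻¹ * xs k hk (-c⁻¹)) * xm k hk c * (xs k hk (-c⁻¹) * xs k hk c⁻¹) := by
        rw [h1, h2, one_mul, mul_one]
    _ = _ := by group

theorem hh_emb {c : F} (hc : c ≠ 0) :
    ((hh k hk c : SpecialLinearGroup (Fin n) F) : Matrix (Fin n) (Fin n) F) =
      emb (fi k hk) (fs k hk) (H2 (-c)) := by
  unfold hh
  simp only [Matrix.SpecialLinearGroup.coe_mul, xs_emb, xm_emb, ns_inv_emb, emb_mul_emb (fi_ne_fs k hk)]
  congr 1
  unfold X2 Y2 N2i H2
  ext a b
  fin_cases a <;> fin_cases b <;> simp [Matrix.mul_apply, Fin.sum_univ_two] <;> field_simp <;> ring_nf <;> simp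

theorem hh_mem_Tsl {c : F} (hc : c ≠ 0) : hh k hk c ∈ Tsl n F := by
  rw [mem_Tsl]
  intro r s hrs
  rw [hh_emb k hk hc]
  exact emb_diag_apply (fi_ne_fs k hk) _ (by simp [H2]) (by simp [H2]) r s hrs

theorem ns_ns_mem_Tsl : ns k hk * ns k hk ∈ Tsl n F := by
  rw [mem_Tsl]
  intro r s hrs
  rw [Matrix.SpecialLinearGroup.coe_mul, ns_emb, emb_mul_emb (fi_ne_fs k hk)]
  exact emb_diag_apply (fi_ne_fs k hk) _ (by simp [N2, Matrix.mul_apply, Fin.sum_univ_two])
    (by simp [N2, Matrix.mul_apply, Fin.sum_univ_two]) r s hrs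

/-- conjugation by `n_k` permutes the entries (up to signs) -/
theorem ns_conj_apply (v : SpecialLinearGroup (Fin n) F) (r s : Fin n) :
    (((ns k hk)⁻¹ * v * ns k hk : SpecialLinearGroup (Fin n) F) : Matrix (Fin n) (Fin n) F) r s =
      (if r = fi k hk then -1 else 1) * (if s = fi k hk then -1 else 1) *
        (v : Matrix (Fin n) (Fin n) F) (Equiv.swap (fi k hk) (fs k hk) r)
          (Equiv.swap (fi k hk) (fs k hk) s) := by
  have hij := fi_ne_fs k hk
  have hji := hij.symm
  rw [Matrix.SpecialLinearGroup.coe_mul, Matrix.SpecialLinearGroup.coe_mul, ns_emb, ns_inv_emb,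
    Matrix.mul_assoc, emb_mul hij]
  simp only [mul_emb hij]
  by_cases h1 : r = fi k hk <;> by_cases h2 : r = fs k hk <;> by_cases h3 : s = fi k hk <;>
    by_cases h4 : s = fs k hk <;>
    simp_all [N2, N2i, Equiv.swap_apply_of_ne_of_ne]

theorem ns_conj_Tsl {t : SpecialLinearGroup (Fin n) F} (ht : t ∈ Tsl n F) :
    (ns k hk)⁻¹ * t * ns k hk ∈ Tsl n F := by
  rw [mem_Tsl] at ht ⊢
  intro r s hrs
  rw [ns_conj_apply, ht _ _ (fun h => hrs ((Equiv.swap _ _).injective h)), mul_zero]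

theorem ns_conj_Usl {v : SpecialLinearGroup (Fin n) F} (hv : v ∈ Usl n F)
    (h0 : (v : Matrix (Fin n) (Fin n) F) (fi k hk) (fs k hk) = 0) :
    (ns k hk)⁻¹ * v * ns k hk ∈ Usl n F := by
  have hswap : ∀ r : Fin n, ((Equiv.swap (fi k hk) (fs k hk) r : Fin n) : ℕ) =
      if (r : ℕ) = k then k + 1 else if (r : ℕ) = k + 1 then k else (r : ℕ) := by
    intro r
    by_cases h1 : r = fi k hk
    · subst h1; simp
    · by_cases h2 : r = fs k hk
      · subst h2; simp
      · rw [Equiv.swap_apply_of_ne_of_ne h1 h2]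
        have e1 : (r : ℕ) ≠ k := fun h => h1 (Fin.ext h)
        have e2 : (r : ℕ) ≠ k + 1 := fun h => h2 (Fin.ext h)
        simp [e1, e2]
  rw [mem_Usl]
  constructor
  · intro r s hrs
    have hrs' : (s : ℕ) < (r : ℕ) := hrs
    rw [ns_conj_apply]
    by_cases hc : Equiv.swap (fi k hk) (fs k hk) r = fi k hk ∧
        Equiv.swap (fi k hk) (fs k hk) s = fs k hk
    · rw [hc.1, hc.2, h0, mul_zero]
    · have : Equiv.swap (fi k hk) (fs k hk) s < Equiv.swap (fi k hk) (fs k hk) r := by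
        rw [Fin.lt_def, hswap, hswap]
        have hr := hswap r
        have hs := hswap s
        have c1 : Equiv.swap (fi k hk) (fs k hk) r = fi k hk ↔
            ((Equiv.swap (fi k hk) (fs k hk) r : Fin n) : ℕ) = k := by
          constructor
          · intro h; rw [h]
          · intro h; exact Fin.ext h
        have c2 : Equiv.swap (fi k hk) (fs k hk) s = fs k hk ↔
            ((Equiv.swap (fi k hk) (fs k hk) s : Fin n) : ℕ) = k + 1 := by
          constructor
          · intro h; rw [h]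
          · intro h; exact Fin.ext h
        rw [c1, c2, hr, hs] at hc
        split_ifs at hc ⊢ <;> omega
      rw [hv.1 this, mul_zero]
  · intro r
    rw [ns_conj_apply, hv.2]
    by_cases h : r = fi k hk <;> simp [h]

theorem xs_mem_Usl' (a : F) : xs k hk a ∈ Usl n F := by
  rw [mem_Usl, xs_coe]
  constructor
  · intro r s hrs
    have hrs' : (s : ℕ) < (r : ℕ) := hrs
    rw [Matrix.add_apply, Matrix.one_apply_ne (by intro h; rw [h] at hrs'; omega),
      Matrix.single_apply_of_ne, add_zero]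
    rintro ⟨h1, h2⟩
    rw [← h1, ← h2] at hrs'
    simp at hrs'
  · intro r
    rw [Matrix.add_apply, Matrix.one_apply_eq, Matrix.single_apply_of_ne, add_zero]
    rintro ⟨h1, h2⟩
    exact fi_ne_fs k hk (h1.trans h2.symm)

theorem diag_mul_inv {b : SpecialLinearGroup (Fin n) F} (hb : b ∈ Bsl n F) (r : Fin n) :
    (b : Matrix (Fin n) (Fin n) F) r r *
      ((b⁻¹ : SpecialLinearGroup (Fin n) F) : Matrix (Fin n) (Fin n) F) r r = 1 := by
  have h := diag_mul_of_upper (mem_Bsl.mp hb) (mem_Bsl.mp ((Bsl n F).inv_mem hb)) r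
  rw [← Matrix.SpecialLinearGroup.coe_mul, mul_inv_cancel, Matrix.SpecialLinearGroup.coe_one,
    Matrix.one_apply_eq] at h
  exact h.symm

/-- `B` normalizes `U` -/
theorem Bsl_conj_Usl {b u : SpecialLinearGroup (Fin n) F} (hb : b ∈ Bsl n F) (hu : u ∈ Usl n F) :
    b * u * b⁻¹ ∈ Usl n F := by
  have hbi : b⁻¹ ∈ Bsl n F := (Bsl n F).inv_mem hb
  have hub : u ∈ Bsl n F := Usl_le_Bsl hu
  have hbu : b * u ∈ Bsl n F := (Bsl n F).mul_mem hb hub
  refine ⟨(Bsl n F).mul_mem hbu hbi, fun r => ?_⟩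
  rw [Matrix.SpecialLinearGroup.coe_mul, diag_mul_of_upper (mem_Bsl.mp hbu) (mem_Bsl.mp hbi),
    Matrix.SpecialLinearGroup.coe_mul, diag_mul_of_upper (mem_Bsl.mp hb) (mem_Bsl.mp hub), hu.2,
    mul_one, diag_mul_inv hb]

theorem Bsl_conj_Usl' {b u : SpecialLinearGroup (Fin n) F} (hb : b ∈ Bsl n F) (hu : u ∈ Usl n F) :
    b⁻¹ * u * b ∈ Usl n F := by
  have := Bsl_conj_Usl ((Bsl n F).inv_mem hb) hu
  rwa [inv_inv] at this

theorem Tsl_mul_xs {t : SpecialLinearGroup (Fin n) F} (ht : t ∈ Tsl n F) (a : F) :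
    t * xs k hk a = xs k hk ((t : Matrix (Fin n) (Fin n) F) (fi k hk) (fi k hk) * a *
      ((t : Matrix (Fin n) (Fin n) F) (fs k hk) (fs k hk))⁻¹) * t := by
  have hne : (t : Matrix (Fin n) (Fin n) F) (fs k hk) (fs k hk) ≠ 0 := by
    intro h
    have := diag_mul_inv (Tsl_le_Bsl ht) (fs k hk)
    rw [h, zero_mul] at this
    exact zero_ne_one this
  rw [mem_Tsl] at ht
  apply Subtype.ext
  show ((t * xs k hk a : SpecialLinearGroup (Fin n) F) : Matrix (Fin n) (Fin n) F) = _
  rw [Matrix.SpecialLinearGroup.coe_mul, Matrix.SpecialLinearGroup.coe_mul, xs_coe, xs_coe,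
    Matrix.mul_add, Matrix.add_mul, Matrix.mul_one, Matrix.one_mul]
  congr 1
  ext r s
  rw [mul_single_apply', single_mul_apply']
  by_cases h1 : s = fs k hk
  · by_cases h2 : r = fi k hk
    · subst h1 h2
      simp only [if_true]
      field_simp
    · subst h1
      simp only [if_true, if_neg h2]
      rw [ht r (fi k hk) h2, zero_mul]
  · by_cases h2 : r = fi k hk
    · simp only [if_neg h1, if_pos h2]
      rw [ht (fs k hk) s (fun h => h1 h.symm), mul_zero]
    · simp only [if_neg h1, if_neg h2]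

/-- the key relation for the action of `U` on the vectors `x_k(a) n_k y` -/
theorem Usl_move {u : SpecialLinearGroup (Fin n) F} (hu : u ∈ Usl n F) (a : F) :
    ∃ u' ∈ Usl n F, u * (xs k hk a * ns k hk) =
      xs k hk (a + (u : Matrix (Fin n) (Fin n) F) (fi k hk) (fs k hk)) * ns k hk * u' := by
  set b := (u : Matrix (Fin n) (Fin n) F) (fi k hk) (fs k hk) with hb
  have hij := fi_ne_fs k hk
  refine ⟨(ns k hk)⁻¹ * (xs k hk (-(a + b)) * u * xs k hk a) * ns k hk, ?_, ?_⟩
  · apply ns_conj_Usl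
    · exact (Usl n F).mul_mem ((Usl n F).mul_mem (xs_mem_Usl' k hk _) hu) (xs_mem_Usl' k hk _)
    · rw [Matrix.SpecialLinearGroup.coe_mul, Matrix.SpecialLinearGroup.coe_mul, xs_emb, xs_emb,
        Matrix.mul_assoc, emb_mul hij]
      simp only [mul_emb hij, if_true, if_neg hij.symm]
      have h1 : (u : Matrix (Fin n) (Fin n) F) (fi k hk) (fi k hk) = 1 := hu.2 _
      have h2 : (u : Matrix (Fin n) (Fin n) F) (fs k hk) (fs k hk) = 1 := hu.2 _
      have h3 : (u : Matrix (Fin n) (Fin n) F) (fs k hk) (fi k hk) = 0 := by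
        apply hu.1
        show (fi k hk : Fin n) < fs k hk
        rw [Fin.lt_def]
        simp
      rw [h1, h2, h3, ← hb]
      simp [X2]
  · rw [← xs_inv]
    group

end Cfsg.Agent.Lib.Helper24.SLB.Helper20
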