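import Mathlib
import Cfsg.Agent.Lib.Helper24.SLB.Defs
import Cfsg.Agent.Lib.Helper20.SLBEMat

set_option autoImplicit false

/-! S4538 farm (architect helper24), leaves [E1] `torus_conj_fixed` and [E2]
`reflection_dichotomy`: the rank one computation on the line of `U`-fixed vectors. -/

namespace Cfsg.Agent.Lib.Helper24.SLB

open Matrix

variable {n : ℕ} {F : Type*} [Field F] [Fintype F]

namespace Helper20

variable {d : ℕ} (ρ : Representation ℂ (SpecialLinearGroup (Fin n) F) (Fin d → ℂ))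

theorem rho_mul (g h : SpecialLinearGroup (Fin n) F) (v : Fin d → ℂ) :
    ρ (g * h) v = ρ g (ρ h v) := by
  rw [map_mul]
  rfl

theorem rho_inj (g : SpecialLinearGroup (Fin n) F) {v : Fin d → ℂ} (h : ρ g v = 0) : v = 0 := by
  have : ρ (g⁻¹ * g) v = v := by
    rw [inv_mul_cancel, map_one]
    rfl
  rw [rho_mul, h, map_zero] at this
  exact this.symm

variable {ρ} {y : Fin d → ℂ}

theorem torus_scalar (hU : ∀ u ∈ Usl n F, ρ u y = y)
    (hline : ∀ v : Fin d → ℂ, (∀ u ∈ Usl n F, ρ u v = v) → ∃ c : ℂ, v = c • y)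
    {t : SpecialLinearGroup (Fin n) F} (ht : t ∈ Tsl n F) : ∃ c : ℂ, ρ t y = c • y := by
  apply hline
  intro u hu
  have h1 : u * t = t * (t⁻¹ * u * t) := by group
  rw [← rho_mul, h1, rho_mul, hU _ (Bsl_conj_Usl' (Tsl_le_Bsl ht) hu)]

variable (k : ℕ) (hk : k + 1 < n)

/-- the vector `w = ∑_a x_k(a) n_k y` is fixed by `U` -/
theorem wsum_fixed (hU : ∀ u ∈ Usl n F, ρ u y = y) :
    ∀ u ∈ Usl n F, ρ u (∑ a : F, ρ (xs k hk a * ns k hk) y) = ∑ a : F, ρ (xs k hk a * ns k hk) y := by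
  intro u hu
  rw [map_sum]
  have h1 : ∀ a : F, ρ u (ρ (xs k hk a * ns k hk) y) =
      ρ (xs k hk (a + (u : Matrix (Fin n) (Fin n) F) (fi k hk) (fs k hk)) * ns k hk) y := by
    intro a
    obtain ⟨u', hu', he⟩ := Usl_move k hk hu a
    rw [← rho_mul, he, rho_mul, hU u' hu']
  simp_rw [h1]
  exact Equiv.sum_comp (Equiv.addRight ((u : Matrix (Fin n) (Fin n) F) (fi k hk) (fs k hk)))
    (fun a => ρ (xs k hk a * ns k hk) y)

/-- averaging over the root group maps every `x_k(e) n_k y` to `w` -/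
theorem avg_z (e : F) :
    ∑ b : F, ρ (xs k hk b) (ρ (xs k hk e * ns k hk) y) = ∑ a : F, ρ (xs k hk a * ns k hk) y := by
  have h1 : ∀ b : F, ρ (xs k hk b) (ρ (xs k hk e * ns k hk) y) = ρ (xs k hk (b + e) * ns k hk) y := by
    intro b
    rw [← rho_mul, ← mul_assoc, xs_add]
  simp_rw [h1]
  exact Equiv.sum_comp (Equiv.addRight e) (fun a => ρ (xs k hk a * ns k hk) y)

/-- `n x(a) n` for `a ≠ 0` -/
theorem ns_xs_ns_eq (a : F) :
    ns k hk * xs k hk a * ns k hk =
      (xs k hk (-a)⁻¹ * ns k hk * (hh k hk (-a) * (xs k hk (-a)⁻¹ * (ns k hk * ns k hk))) :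
        SpecialLinearGroup (Fin n) F) := by
  rw [ns_xs_ns, xm_eq k hk (-a)]
  group

end Helper20

open Helper20

/-- **[E1]** the character by which the torus acts on the `U`-fixed line is invariant under the
simple reflections -/
theorem torus_conj_fixed {d : ℕ}
    (ρ : Representation ℂ (SpecialLinearGroup (Fin n) F) (Fin d → ℂ))
    (y : Fin d → ℂ) (hy0 : y ≠ 0) (hU : ∀ u ∈ Usl n F, ρ u y = y)
    (hline : ∀ v : Fin d → ℂ, (∀ u ∈ Usl n F, ρ u v = v) → ∃ c : ℂ, v = c • y)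
    (k : ℕ) (hk : k + 1 < n) :
    ∀ t ∈ Tsl n F, ρ ((ns k hk)⁻¹ * t * ns k hk) y = ρ t y := by
  obtain ⟨c, hc⟩ := hline _ (wsum_fixed k hk hU)
  set w := ∑ a : F, ρ (xs k hk a * ns k hk) y with hw
  -- `w ≠ 0`
  have hw0 : w ≠ 0 := by
    intro h0
    obtain ⟨μ, hμ⟩ := torus_scalar hU hline (ns_ns_mem_Tsl k hk)
    have hμ0 : μ ≠ 0 := by
      intro h
      rw [h, zero_smul] at hμ
      exact hy0 (rho_inj ρ _ hμ)
    have h1 : ρ (ns k hk) w = ∑ a : F, ρ (ns k hk * xs k hk a * ns k hk) y := by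
      rw [hw, map_sum]
      refine Finset.sum_congr rfl fun a _ => ?_
      rw [← rho_mul, mul_assoc]
    have h2 : ∑ b : F, ρ (xs k hk b) (ρ (ns k hk) w) = 0 := by
      rw [h0, map_zero]
      simp
    rw [h1] at h2
    simp_rw [map_sum] at h2
    rw [Finset.sum_comm] at h2
    have h3 : ∀ a : F, a ≠ 0 →
        ∑ b : F, ρ (xs k hk b) (ρ (ns k hk * xs k hk a * ns k hk) y) = 0 := by
      intro a ha
      obtain ⟨l, hl⟩ := torus_scalar hU hline (hh_mem_Tsl k hk (neg_ne_zero.mpr ha))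
      have h4 : ρ (ns k hk * xs k hk a * ns k hk) y =
          (μ * l) • ρ (xs k hk (-a)⁻¹ * ns k hk) y := by
        rw [ns_xs_ns_eq, rho_mul ρ (xs k hk (-a)⁻¹ * ns k hk), rho_mul ρ (hh k hk (-a)),
          rho_mul ρ (xs k hk (-a)⁻¹) (ns k hk * ns k hk), hμ, map_smul, hU _ (xs_mem_Usl' k hk _),
          map_smul, hl, map_smul, map_smul, smul_smul]
      rw [h4]
      simp_rw [map_smul]
      rw [← Finset.smul_sum, avg_z, ← hw, h0, smul_zero]
    rw [Finset.sum_eq_single 0 (fun a _ ha => h3 a ha) (fun h => absurd (Finset.mem_univ _) h)] at h2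
    have h5 : ∀ b : F, ρ (xs k hk b) (ρ (ns k hk * xs k hk 0 * ns k hk) y) = μ • y := by
      intro b
      rw [xs_zero, mul_one, hμ, map_smul, hU _ (xs_mem_Usl' k hk _)]
    simp_rw [h5] at h2
    rw [Finset.sum_const, Finset.card_univ] at h2
    have h6 : (Fintype.card F : ℂ) ≠ 0 := Nat.cast_ne_zero.mpr Fintype.card_ne_zero
    rw [← Nat.cast_smul_eq_nsmul ℂ, smul_smul] at h2
    rcases smul_eq_zero.mp h2 with h | h
    · exact (mul_ne_zero h6 hμ0) h
    · exact hy0 h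
  intro t ht
  obtain ⟨l, hl⟩ := torus_scalar hU hline ht
  obtain ⟨l', hl'⟩ := torus_scalar hU hline (ns_conj_Tsl k hk ht)
  have hti : (t : Matrix (Fin n) (Fin n) F) (fi k hk) (fi k hk) ≠ 0 := by
    intro h
    have := diag_mul_inv (Tsl_le_Bsl ht) (fi k hk)
    rw [h, zero_mul] at this
    exact zero_ne_one this
  have htj : (t : Matrix (Fin n) (Fin n) F) (fs k hk) (fs k hk) ≠ 0 := by
    intro h
    have := diag_mul_inv (Tsl_le_Bsl ht) (fs k hk)
    rw [h, zero_mul] at this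
    exact zero_ne_one this
  -- `ρ t w = l' • w`
  have h1 : ρ t w = l' • w := by
    rw [hw, map_sum, Finset.smul_sum]
    have h2 : ∀ a : F, ρ t (ρ (xs k hk a * ns k hk) y) =
        l' • ρ (xs k hk ((t : Matrix (Fin n) (Fin n) F) (fi k hk) (fi k hk) * a *
          ((t : Matrix (Fin n) (Fin n) F) (fs k hk) (fs k hk))⁻¹) * ns k hk) y := by
      intro a
      have h3 : t * (xs k hk a * ns k hk) =
          xs k hk ((t : Matrix (Fin n) (Fin n) F) (fi k hk) (fi k hk) * a *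
            ((t : Matrix (Fin n) (Fin n) F) (fs k hk) (fs k hk))⁻¹) * ns k hk *
              ((ns k hk)⁻¹ * t * ns k hk) := by
        rw [← mul_assoc, Tsl_mul_xs k hk ht a]
        group
      rw [← rho_mul, h3, rho_mul, hl', map_smul]
    simp_rw [h2]
    have hbij : Function.Bijective (fun a : F => (t : Matrix (Fin n) (Fin n) F) (fi k hk) (fi k hk) * a *
        ((t : Matrix (Fin n) (Fin n) F) (fs k hk) (fs k hk))⁻¹) := by
      apply Finite.injective_iff_bijective.mp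
      intro a a' h
      exact mul_left_cancel₀ hti (mul_right_cancel₀ (inv_ne_zero htj) h)
    exact hbij.sum_comp (fun a => l' • ρ (xs k hk a * ns k hk) y)
  have h2 : ρ t w = l • w := by
    rw [hc, map_smul, hl, smul_comm]
  have h3 : (l' - l) • w = 0 := by
    rw [sub_smul, ← h1, ← h2, sub_self]
  rcases smul_eq_zero.mp h3 with h | h
  · rw [hl', hl, sub_eq_zero.mp h]
  · exact absurd h hw0

/-- **[E2]** the quadratic relation: a `B`-fixed vector spanning the `U`-fixed line is either fixed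
by `n_k` or is an eigenvector of `T_k = ∑_a x_k(a) n_k` for the eigenvalue `-1` -/
theorem reflection_dichotomy {d : ℕ}
    (ρ : Representation ℂ (SpecialLinearGroup (Fin n) F) (Fin d → ℂ))
    (y : Fin d → ℂ) (hy0 : y ≠ 0) (hB : ∀ b ∈ Bsl n F, ρ b y = y)
    (hline : ∀ v : Fin d → ℂ, (∀ u ∈ Usl n F, ρ u v = v) → ∃ c : ℂ, v = c • y)
    (k : ℕ) (hk : k + 1 < n) :
    ρ (ns k hk) y = y ∨ ∑ a : F, ρ (xs k hk a * ns k hk) y = -y := by
  classical
  have hU : ∀ u ∈ Usl n F, ρ u y = y := fun u hu => hB u (Usl_le_Bsl hu)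
  have hT : ∀ t ∈ Tsl n F, ρ t y = y := fun t ht => hB t (Tsl_le_Bsl ht)
  obtain ⟨c, hc⟩ := hline _ (wsum_fixed k hk hU)
  set w := ∑ a : F, ρ (xs k hk a * ns k hk) y with hw
  have h1 : ρ (ns k hk) w = ∑ a : F, ρ (ns k hk * xs k hk a * ns k hk) y := by
    rw [hw, map_sum]
    refine Finset.sum_congr rfl fun a _ => ?_
    rw [← rho_mul, mul_assoc]
  have h2 : ∀ a : F, ρ (ns k hk * xs k hk a * ns k hk) y =
      ρ (xs k hk (-a)⁻¹ * ns k hk) y + (if a = 0 then y - ρ (ns k hk) y else 0) := by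
    intro a
    by_cases ha : a = 0
    · subst ha
      rw [if_pos rfl, xs_zero, mul_one, hT _ (ns_ns_mem_Tsl k hk), neg_zero, _root_.inv_zero, xs_zero,
        one_mul]
      abel
    · rw [if_neg ha, add_zero, ns_xs_ns_eq, rho_mul ρ (xs k hk (-a)⁻¹ * ns k hk),
        rho_mul ρ (hh k hk (-a)), rho_mul ρ (xs k hk (-a)⁻¹) (ns k hk * ns k hk),
        hT _ (ns_ns_mem_Tsl k hk), hU _ (xs_mem_Usl' k hk _),
        hT _ (hh_mem_Tsl k hk (neg_ne_zero.mpr ha))]
  have h3 : ρ (ns k hk) w = w + (y - ρ (ns k hk) y) := by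
    rw [h1]
    simp_rw [h2]
    rw [Finset.sum_add_distrib, Finset.sum_ite_eq' Finset.univ (0 : F), if_pos (Finset.mem_univ _)]
    congr 1
    have hinv : Function.Involutive (fun a : F => (-a)⁻¹) := by
      intro a
      simp
    exact hinv.bijective.sum_comp (fun a => ρ (xs k hk a * ns k hk) y)
  rw [hc, map_smul] at h3
  have h4 : (c + 1) • (ρ (ns k hk) y - y) = 0 := by
    have : c • ρ (ns k hk) y - (c • y + (y - ρ (ns k hk) y)) = 0 := by rw [h3, sub_self]
    rw [← this, add_smul, one_smul, smul_sub]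
    abel
  rcases smul_eq_zero.mp h4 with h | h
  · right
    rw [hc, show c = -1 from by linear_combination h, neg_smul, one_smul]
  · left
    exact sub_eq_zero.mp h

end Cfsg.Agent.Lib.Helper24.SLB
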