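import Cfsg.Agent.Lib.Helper20.SLqF

/-!
# Final group-level step for the `SL₂(q)`-module bound
-/

set_option autoImplicit false
set_option linter.unusedSectionVars false
set_option linter.unusedSimpArgs false
set_option linter.unnecessarySeqFocus false

namespace Cfsg.Agent.Lib.Helper20.SLq

open Subgroup

theorem final_step {G : Type*} [Group G] [Finite G] {p : ℕ} [Fact p.Prime] (V H : Subgroup G)
    (hVp : IsPGroup p V) (hHV : H ≤ normalizer (V : Set G))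
    (hf : H ⊓ centralizer (V : Set G) = ⊥) {K : Type*} [Group K] (φ : ↥H ≃* K) (a₀ : ↥H)
    (y g₁ : K) (hg₁ : g₁ = φ a₀ ∨ g₁ = (φ a₀)⁻¹) (ℓ e : ℕ) (hℓ : ℓ.Prime) (hℓp : ℓ ≠ p)
    (hord : orderOf ((φ a₀ * (y * g₁ * y⁻¹)) ^ 2) = ℓ ^ (e + 1)) (N : ℕ)
    (hN : ∀ d : ℕ, 0 < d → ℓ ^ (e + 1) ∣ p ^ d - 1 → N ≤ d) :
    p ^ N ≤ (idx V (a₀ : G)) ^ 2 := by
  have hp : p.Prime := Fact.out
  set h : ↥H := φ.symm y with hh
  set a₁ : ↥H := φ.symm g₁ with ha₁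
  set r₀ : ↥H := (a₀ * (h * a₁ * h⁻¹)) ^ 2 with hr₀
  have hφr : φ r₀ = (φ a₀ * (y * g₁ * y⁻¹)) ^ 2 := by
    rw [hr₀, map_pow, map_mul, map_mul, map_mul, map_inv, hh, ha₁, MulEquiv.apply_symm_apply,
      MulEquiv.apply_symm_apply]
  have hordr₀ : orderOf r₀ = ℓ ^ (e + 1) := by
    rw [← hord, ← hφr, MulEquiv.orderOf_eq]
  have hordr : orderOf (r₀ : G) = ℓ ^ (e + 1) := by
    rw [Subgroup.orderOf_coe, hordr₀]
  have hrcoe : (r₀ : G) = ((a₀ : G) * ((h : G) * (a₁ : G) * (h : G)⁻¹)) ^ 2 := by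
    rw [hr₀]
    simp
  -- index comparisons
  have ha₁idx : idx V (a₁ : G) = idx V (a₀ : G) := by
    rcases hg₁ with hg | hg
    · have : a₁ = a₀ := by rw [ha₁, hg, MulEquiv.symm_apply_apply]
      rw [this]
    · have : a₁ = a₀⁻¹ := by rw [ha₁, hg, ← map_inv, MulEquiv.symm_apply_apply]
      rw [this, Subgroup.coe_inv, idx_inv]
  have hconj : idx V ((h : G) * (a₁ : G) * (h : G)⁻¹) ≤ idx V (a₀ : G) := by
    rw [← ha₁idx]
    exact idx_conj_le V (h : G) (hHV h.2) _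
  have hr_le : idx V (r₀ : G) ≤ idx V (a₀ : G) ^ 2 := by
    rw [hrcoe, pow_two (idx V (a₀ : G))]
    exact (idx_mul_sq_le V _ _).trans (Nat.mul_le_mul_left _ hconj)
  -- σ
  set σ : G := (r₀ : G) ^ (ℓ ^ e) with hσ
  have hσH : σ ∈ H := H.pow_mem r₀.2 _
  have hσ1 : σ ≠ 1 := by
    intro h1
    have h2 := orderOf_dvd_of_pow_eq_one h1
    rw [hordr] at h2
    have h3 := (Nat.pow_dvd_pow_iff_le_right hℓ.one_lt).1 h2
    omega
  have hσC : σ ∉ centralizer (V : Set G) := by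
    intro hc
    have : σ ∈ H ⊓ centralizer (V : Set G) := ⟨hσH, hc⟩
    rw [hf, Subgroup.mem_bot] at this
    exact hσ1 this
  obtain ⟨d, hd⟩ := idx_eq_pow V hVp σ
  have hd1 := idx_ne_one V σ hσC
  have hdpos : 0 < d := by
    rcases Nat.eq_zero_or_pos d with h0 | h0
    · rw [h0, pow_zero] at hd
      exact absurd hd hd1
    · exact h0
  have hdvd := order_dvd_pow_sub_one V hVp (r₀ : G) (hHV r₀.2) ℓ e hℓ hℓp hordr d hd
  have hNd := hN d hdpos hdvd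
  calc p ^ N ≤ p ^ d := Nat.pow_le_pow_right hp.pos hNd
    _ = idx V σ := hd.symm
    _ ≤ idx V (r₀ : G) := idx_pow_le V _ _
    _ ≤ idx V (a₀ : G) ^ 2 := hr_le

end Cfsg.Agent.Lib.Helper20.SLq
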