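import Mathlib

/-!
# Helper20 library: Schur's method for regular abelian subgroups

`G` acts on `Ω`, `ι : K →* G` makes the group `K` act regularly (`IsReg ι ω₀`).
`Rel ι ω₀ h h'` says that `h, h' : K` lie in the same orbit of the point stabiliser `G_{ω₀}`
(under the identification `K ≃ Ω`).  `InvSet`, `InvFun`: unions of such orbits, functions constant
on them.

* `invFun_mul`: the coefficient functions constant on orbits are closed under the convolution of
  `MonoidAlgebra R K` (the transitivity module is a Schur ring), `invFun_pow`, `invFun_one`.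
* `invSet_closure`: the subgroup generated by an invariant set is invariant.
* `isBlock_blockOf`, `prim_of_preprimitive`: an invariant subgroup gives a block.
* `two_trans`: one nontrivial orbit gives double transitivity.
* `main`: (Schur, Wielandt) `K` abelian, `{y | y ^ p = 1}` of order `p` and not all of `K`, no
  nontrivial proper invariant subgroup, then all non-identity elements are related.
-/

set_option autoImplicit false

namespace Cfsg.Agent.Lib.Helper20.SchurRing

open scoped Pointwise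

section Basic

variable {G Ω K : Type*} [Group G] [MulAction G Ω] [Group K] (ι : K →* G) (ω₀ : Ω)

/-- `h` and `h'` lie in the same orbit of the point stabiliser. -/
def Rel (h h' : K) : Prop := ∃ g ∈ MulAction.stabilizer G ω₀, ι h' • ω₀ = g • ι h • ω₀

/-- `K` acts regularly through `ι`. -/
def IsReg : Prop := ∀ ω : Ω, ∃! k : K, ι k • ω₀ = ω

/-- union of orbits of the point stabiliser. -/
def InvSet (X : Set K) : Prop := ∀ h h', Rel ι ω₀ h h' → h ∈ X → h' ∈ X

/-- function constant on the orbits of the point stabiliser. -/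
def InvFun {R : Type*} (c : K → R) : Prop := ∀ h h', Rel ι ω₀ h h' → c h' = c h

variable {ι ω₀}

theorem Rel.refl (h : K) : Rel ι ω₀ h h := ⟨1, one_mem _, by rw [one_smul]⟩

theorem Rel.symm {h h' : K} (H : Rel ι ω₀ h h') : Rel ι ω₀ h' h := by
  obtain ⟨g, hg, e⟩ := H
  exact ⟨g⁻¹, inv_mem hg, by rw [e, inv_smul_smul]⟩

theorem Rel.trans {h h' h'' : K} (H : Rel ι ω₀ h h') (H' : Rel ι ω₀ h' h'') :
    Rel ι ω₀ h h'' := by
  obtain ⟨g, hg, e⟩ := H
  obtain ⟨g', hg', e'⟩ := H'
  exact ⟨g' * g, mul_mem hg' hg, by rw [e', e, mul_smul]⟩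

theorem IsReg.inj (hreg : IsReg ι ω₀) {h h' : K} (e : ι h • ω₀ = ι h' • ω₀) : h = h' :=
  (hreg (ι h' • ω₀)).unique e rfl

theorem IsReg.exists (hreg : IsReg ι ω₀) (ω : Ω) : ∃ k : K, ι k • ω₀ = ω := (hreg ω).exists

theorem Rel.eq_one (hreg : IsReg ι ω₀) {h' : K} (H : Rel ι ω₀ 1 h') : h' = 1 := by
  obtain ⟨g, hg, e⟩ := H
  rw [map_one, one_smul, MulAction.mem_stabilizer_iff.mp hg] at e
  apply hreg.inj
  rw [e, map_one, one_smul]

theorem Rel.ne_one (hreg : IsReg ι ω₀) {h h' : K} (H : Rel ι ω₀ h h') (hne : h ≠ 1) :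
    h' ≠ 1 := by
  intro e
  subst e
  exact hne (H.symm.eq_one hreg)

theorem Rel.div {g : G} (hg : g ∈ MulAction.stabilizer G ω₀) {k k' h h' : K}
    (ek : ι k' • ω₀ = g • ι k • ω₀) (eh : ι h' • ω₀ = g • ι h • ω₀) :
    Rel ι ω₀ (k⁻¹ * h) (k'⁻¹ * h') := by
  refine ⟨(ι k')⁻¹ * g * ι k, ?_, ?_⟩
  · rw [MulAction.mem_stabilizer_iff, mul_smul, mul_smul, ← ek, inv_smul_smul]
  · simp only [map_mul, map_inv, mul_smul]
    rw [eh, smul_inv_smul]

theorem Rel.inv {h h' : K} (H : Rel ι ω₀ h h') : Rel ι ω₀ h⁻¹ h'⁻¹ := by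
  obtain ⟨g, hg, e⟩ := H
  have e1 : ι (1 : K) • ω₀ = g • ι (1 : K) • ω₀ := by
    rw [map_one, one_smul, MulAction.mem_stabilizer_iff.mp hg]
  have := Rel.div hg e e1
  rwa [mul_one, mul_one] at this

/-! ### the Schur ring -/

theorem invFun_mul [Finite K] (hreg : IsReg ι ω₀) {R : Type*} [Semiring R]
    (x y : MonoidAlgebra R K) (hx : InvFun ι ω₀ (fun k => x.coeff k))
    (hy : InvFun ι ω₀ (fun k => y.coeff k)) : InvFun ι ω₀ (fun k => (x * y).coeff k) := by
  classical
  have : Fintype K := Fintype.ofFinite K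
  rintro h h' ⟨g, hg, e⟩
  show (x * y).coeff h' = (x * y).coeff h
  rw [MonoidAlgebra.coeff_mul_apply_left, MonoidAlgebra.coeff_mul_apply_left,
    Finsupp.sum_fintype _ _ (fun _ => zero_mul _), Finsupp.sum_fintype _ _ (fun _ => zero_mul _)]
  choose σ hσ using fun k : K => hreg.exists (g • ι k • ω₀)
  have hinj : Function.Injective σ := by
    intro k₁ k₂ e12
    have h1 := hσ k₁
    rw [e12, hσ k₂] at h1
    exact hreg.inj (smul_left_cancel g h1).symm
  have hbij : Function.Bijective σ := Finite.injective_iff_bijective.mp hinj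
  rw [← (Equiv.ofBijective σ hbij).sum_comp]
  apply Finset.sum_congr rfl
  intro k _
  simp only [Equiv.ofBijective_apply]
  have h1 : x.coeff (σ k) = x.coeff k := hx k (σ k) ⟨g, hg, hσ k⟩
  have h2 : y.coeff ((σ k)⁻¹ * h') = y.coeff (k⁻¹ * h) := hy _ _ (Rel.div hg (hσ k) e)
  rw [h1, h2]

theorem invFun_one (hreg : IsReg ι ω₀) {R : Type*} [Semiring R] :
    InvFun ι ω₀ (fun k => (1 : MonoidAlgebra R K).coeff k) := by
  classical
  intro h h' H
  show (1 : MonoidAlgebra R K).coeff h' = (1 : MonoidAlgebra R K).coeff h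
  rw [MonoidAlgebra.one_def, MonoidAlgebra.coeff_single, Finsupp.single_apply,
    Finsupp.single_apply]
  by_cases h1 : h = 1
  · subst h1
    rw [H.eq_one hreg]
  · rw [if_neg (Ne.symm h1), if_neg (Ne.symm (H.ne_one hreg h1))]

theorem invFun_pow [Finite K] (hreg : IsReg ι ω₀) {R : Type*} [Semiring R]
    (x : MonoidAlgebra R K) (hx : InvFun ι ω₀ (fun k => x.coeff k)) (n : ℕ) :
    InvFun ι ω₀ (fun k => (x ^ n).coeff k) := by
  induction n with
  | zero =>
    rw [pow_zero]
    exact invFun_one hreg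
  | succ n ih =>
    rw [pow_succ]
    exact invFun_mul hreg _ _ ih hx

/-- the indicator element of a finite set. -/
noncomputable def ind (R : Type*) [Semiring R] (T : Finset K) : MonoidAlgebra R K :=
  ∑ t ∈ T, MonoidAlgebra.single t 1

theorem coeff_ind [DecidableEq K] (R : Type*) [Semiring R] (T : Finset K) (k : K) :
    (ind R T).coeff k = if k ∈ T then 1 else 0 := by
  unfold ind
  rw [MonoidAlgebra.coeff_sum, Finsupp.finset_sum_apply]
  simp only [MonoidAlgebra.coeff_single, Finsupp.single_apply]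
  rw [Finset.sum_ite_eq']

theorem invFun_ind (R : Type*) [Semiring R] (T : Finset K) (hT : InvSet ι ω₀ (T : Set K)) :
    InvFun ι ω₀ (fun k => (ind R T).coeff k) := by
  classical
  intro h h' H
  show (ind R T).coeff h' = (ind R T).coeff h
  rw [coeff_ind, coeff_ind]
  by_cases hh : h ∈ T
  · have hh' : h' ∈ T := hT h h' H hh
    rw [if_pos hh, if_pos hh']
  · have hh' : h' ∉ T := fun hc => hh (hT h' h H.symm hc)
    rw [if_neg hh, if_neg hh']

theorem coeff_ind_mul_ind [Fintype K] [DecidableEq K] (X Y : Finset K) (x : K) :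
    (ind ℕ X * ind ℕ Y).coeff x = (X.filter (fun k => k⁻¹ * x ∈ Y)).card := by
  rw [MonoidAlgebra.coeff_mul_apply_left, Finsupp.sum_fintype _ _ (fun _ => zero_mul _)]
  simp only [coeff_ind, ite_mul, one_mul, zero_mul]
  rw [Finset.card_filter, ← Finset.sum_filter]
  congr 1
  ext k
  simp

theorem invFun_cnt [Finite K] (hreg : IsReg ι ω₀) [DecidableEq K] (T : Finset K)
    (hT : InvSet ι ω₀ (T : Set K)) :
    InvFun ι ω₀ (fun v => (T.filter (fun t => v⁻¹ * t ∈ T)).card) := by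
  have : Fintype K := Fintype.ofFinite K
  set T' : Finset K := Finset.univ.filter (fun k => k⁻¹ ∈ T) with hT'def
  have hT' : InvSet ι ω₀ (T' : Set K) := by
    intro h h' H hh
    simp only [hT'def, Finset.coe_filter, Finset.mem_univ, true_and, Set.mem_setOf_eq] at hh ⊢
    exact hT _ _ H.inv hh
  have h1 := invFun_mul hreg (ind ℕ T) (ind ℕ T') (invFun_ind ℕ T hT) (invFun_ind ℕ T' hT')
  intro v v' H
  have h2 := h1 v v' H
  simp only [coeff_ind_mul_ind] at h2
  have h3 : ∀ w : K, T.filter (fun t => w⁻¹ * t ∈ T) = T.filter (fun k => k⁻¹ * w ∈ T') := by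
    intro w
    apply Finset.filter_congr
    intro t _
    simp only [hT'def, Finset.mem_filter, Finset.mem_univ, true_and, mul_inv_rev, inv_inv]
  show (T.filter (fun t => v'⁻¹ * t ∈ T)).card = (T.filter (fun t => v⁻¹ * t ∈ T)).card
  rw [h3, h3]
  exact h2

/-! ### generated subgroups -/

theorem invSet_closure [Finite K] (hreg : IsReg ι ω₀) (X : Set K) (hX : InvSet ι ω₀ X) :
    InvSet ι ω₀ (Subgroup.closure X : Set K) := by
  have key : ∀ y ∈ Submonoid.closure X, ∀ y', Rel ι ω₀ y y' → y' ∈ Submonoid.closure X := by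
    intro y hy
    induction hy using Submonoid.closure_induction_left with
    | one =>
      intro y' H
      rw [H.eq_one hreg]
      exact one_mem _
    | mul_left x hx y hy ih =>
      intro h' H
      obtain ⟨g, hg, e⟩ := H
      obtain ⟨x', hx'⟩ := hreg.exists (g • ι x • ω₀)
      have hx'X : x' ∈ X := hX x x' ⟨g, hg, hx'⟩ hx
      have hrel : Rel ι ω₀ (x⁻¹ * (x * y)) (x'⁻¹ * h') := Rel.div hg hx' e
      rw [inv_mul_cancel_left] at hrel
      have h2 := ih _ hrel
      have h3 : h' = x' * (x'⁻¹ * h') := by group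
      rw [h3]
      exact mul_mem (Submonoid.subset_closure hx'X) h2
  intro h h' H hh
  rw [SetLike.mem_coe, ← Subgroup.mem_toSubmonoid, Subgroup.closure_toSubmonoid_of_finite] at hh ⊢
  exact key h hh h' H

/-! ### blocks -/

/-- the block attached to a subgroup of the regular group. -/
def blockOf (ι : K →* G) (ω₀ : Ω) (L : Subgroup K) : Set Ω :=
  (fun l : K => ι l • ω₀) '' (L : Set K)

theorem mem_blockOf {L : Subgroup K} {ω : Ω} :
    ω ∈ blockOf ι ω₀ L ↔ ∃ l ∈ L, ι l • ω₀ = ω := Iff.rfl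

theorem smul_blockOf_stab (hreg : IsReg ι ω₀) (L : Subgroup K) (hL : InvSet ι ω₀ (L : Set K))
    {a : G} (ha : a ∈ MulAction.stabilizer G ω₀) : a • blockOf ι ω₀ L = blockOf ι ω₀ L := by
  have hsub : ∀ b ∈ MulAction.stabilizer G ω₀, b • blockOf ι ω₀ L ⊆ blockOf ι ω₀ L := by
    intro b hb ω hω
    obtain ⟨ω', hω', rfl⟩ := Set.mem_smul_set.mp hω
    obtain ⟨l, hl, rfl⟩ := mem_blockOf.mp hω'
    obtain ⟨l', hl'⟩ := hreg.exists (b • ι l • ω₀)
    exact mem_blockOf.mpr ⟨l', hL l l' ⟨b, hb, hl'⟩ hl, hl'⟩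
  apply le_antisymm (hsub a ha)
  intro ω hω
  have h1 : a⁻¹ • ω ∈ blockOf ι ω₀ L := hsub a⁻¹ (inv_mem ha) (Set.smul_mem_smul_set hω)
  rw [← smul_inv_smul a ω]
  exact Set.smul_mem_smul_set h1

theorem smul_blockOf (hreg : IsReg ι ω₀) (L : Subgroup K) (hL : InvSet ι ω₀ (L : Set K))
    (x : G) (k : K) (hk : ι k • ω₀ = x • ω₀) :
    x • blockOf ι ω₀ L = ι k • blockOf ι ω₀ L := by
  have ha : (ι k)⁻¹ * x ∈ MulAction.stabilizer G ω₀ := by
    rw [MulAction.mem_stabilizer_iff, mul_smul, ← hk, inv_smul_smul]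
  have h1 := smul_blockOf_stab hreg L hL ha
  calc x • blockOf ι ω₀ L = (ι k * ((ι k)⁻¹ * x)) • blockOf ι ω₀ L := by
        rw [mul_inv_cancel_left]
    _ = ι k • ((ι k)⁻¹ * x) • blockOf ι ω₀ L := mul_smul _ _ _
    _ = ι k • blockOf ι ω₀ L := by rw [h1]

theorem mem_smul_blockOf {L : Subgroup K} {k : K} {ω : Ω} :
    ω ∈ ι k • blockOf ι ω₀ L ↔ ∃ l ∈ L, ι (k * l) • ω₀ = ω := by
  constructor
  · intro hω
    obtain ⟨ω', hω', rfl⟩ := Set.mem_smul_set.mp hω
    obtain ⟨l, hl, rfl⟩ := mem_blockOf.mp hω'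
    exact ⟨l, hl, by rw [map_mul, mul_smul]⟩
  · rintro ⟨l, hl, rfl⟩
    rw [map_mul, mul_smul]
    exact Set.smul_mem_smul_set (mem_blockOf.mpr ⟨l, hl, rfl⟩)

theorem smul_blockOf_of_mem (L : Subgroup K) {k : K} (hk : k ∈ L) :
    ι k • blockOf ι ω₀ L = blockOf ι ω₀ L := by
  ext ω
  rw [mem_smul_blockOf, mem_blockOf]
  constructor
  · rintro ⟨l, hl, rfl⟩
    exact ⟨k * l, L.mul_mem hk hl, rfl⟩
  · rintro ⟨l, hl, rfl⟩
    exact ⟨k⁻¹ * l, L.mul_mem (L.inv_mem hk) hl, by rw [mul_inv_cancel_left]⟩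

theorem isBlock_blockOf (hreg : IsReg ι ω₀) (L : Subgroup K) (hL : InvSet ι ω₀ (L : Set K)) :
    MulAction.IsBlock G (blockOf ι ω₀ L) := by
  rw [MulAction.isBlock_iff_smul_eq_or_disjoint]
  intro x
  obtain ⟨k, hk⟩ := hreg.exists (x • ω₀)
  rw [smul_blockOf hreg L hL x k hk]
  by_cases hkL : k ∈ L
  · left
    exact smul_blockOf_of_mem L hkL
  · right
    rw [Set.disjoint_left]
    intro ω h1 h2
    obtain ⟨l, hl, rfl⟩ := mem_smul_blockOf.mp h1
    obtain ⟨l', hl', e⟩ := mem_blockOf.mp h2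
    apply hkL
    have h3 : l' = k * l := hreg.inj e
    have hk' : k = l' * l⁻¹ := by
      rw [h3]
      group
    rw [hk']
    exact L.mul_mem hl' (L.inv_mem hl)

theorem prim_of_preprimitive (hreg : IsReg ι ω₀) (hprim : MulAction.IsPreprimitive G Ω)
    (L : Subgroup K) (hL : InvSet ι ω₀ (L : Set K)) : L = ⊥ ∨ L = ⊤ := by
  have hB := isBlock_blockOf hreg L hL
  rcases hprim.isTrivialBlock_of_isBlock hB with hs | hu
  · left
    rw [eq_bot_iff]
    intro l hl
    have h1 : ι l • ω₀ ∈ blockOf ι ω₀ L := mem_blockOf.mpr ⟨l, hl, rfl⟩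
    have h2 : ι (1 : K) • ω₀ ∈ blockOf ι ω₀ L := mem_blockOf.mpr ⟨1, L.one_mem, rfl⟩
    exact Subgroup.mem_bot.mpr (hreg.inj (hs h1 h2))
  · right
    rw [eq_top_iff]
    intro k _
    have h1 : ι k • ω₀ ∈ blockOf ι ω₀ L := by
      rw [hu]
      trivial
    obtain ⟨l, hl, e⟩ := mem_blockOf.mp h1
    rw [← hreg.inj e]
    exact hl

/-! ### double transitivity -/

theorem two_trans (hreg : IsReg ι ω₀)
    (hall : ∀ h h' : K, h ≠ 1 → h' ≠ 1 → Rel ι ω₀ h h') :
    MulAction.IsMultiplyPretransitive G Ω 2 := by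
  rw [MulAction.is_two_pretransitive_iff]
  intro a b c d hab hcd
  obtain ⟨k₁, hk₁⟩ := hreg.exists a
  obtain ⟨k₂, hk₂⟩ := hreg.exists c
  obtain ⟨h, hh⟩ := hreg.exists ((ι k₁)⁻¹ • b)
  obtain ⟨h', hh'⟩ := hreg.exists ((ι k₂)⁻¹ • d)
  have hne : h ≠ 1 := by
    rintro rfl
    rw [map_one, one_smul] at hh
    apply hab
    rw [← hk₁, hh, smul_inv_smul]
  have hne' : h' ≠ 1 := by
    rintro rfl
    rw [map_one, one_smul] at hh'
    apply hcd
    rw [← hk₂, hh', smul_inv_smul]
  obtain ⟨s, hs, e⟩ := hall h h' hne hne'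
  refine ⟨ι k₂ * s * (ι k₁)⁻¹, ?_, ?_⟩
  · rw [mul_smul, mul_smul, ← hk₁, inv_smul_smul, MulAction.mem_stabilizer_iff.mp hs, hk₂]
  · rw [mul_smul, mul_smul, ← hh, ← e, hh', smul_inv_smul]

end Basic


section Main

variable {G Ω K : Type*} [Group G] [MulAction G Ω] [CommGroup K] [Finite K] {ι : K →* G} {ω₀ : Ω}

/-- the stabiliser of a finite subset under multiplication. -/
def stab (T : Finset K) : Subgroup K where
  carrier := {x | ∀ t ∈ T, x * t ∈ T}
  one_mem' := fun t ht => by rwa [one_mul]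
  mul_mem' := fun {a b} ha hb t ht => by
    rw [mul_assoc]
    exact ha _ (hb t ht)
  inv_mem' := fun {a} ha => by
    have hpow : ∀ n : ℕ, ∀ t ∈ T, a ^ n * t ∈ T := by
      intro n
      induction n with
      | zero =>
        intro t ht
        rwa [pow_zero, one_mul]
      | succ n ih =>
        intro t ht
        rw [pow_succ, mul_assoc]
        exact ih _ (ha t ht)
    have hinv : a⁻¹ = a ^ (orderOf a - 1) := by
      have hpos : 0 < orderOf a := orderOf_pos a
      symm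
      apply eq_inv_of_mul_eq_one_left
      rw [← pow_succ, Nat.sub_add_cancel hpos, pow_orderOf_eq_one]
    intro t ht
    rw [hinv]
    exact hpow _ t ht

theorem mem_stab {T : Finset K} {x : K} : x ∈ stab T ↔ ∀ t ∈ T, x * t ∈ T := Iff.rfl

theorem invSet_stab (hreg : IsReg ι ω₀) (T : Finset K) (hT : InvSet ι ω₀ (T : Set K)) :
    InvSet ι ω₀ (stab T : Set K) := by
  classical
  intro x x' H hx
  have hcnt : (T.filter (fun t => x'⁻¹ * t ∈ T)).card = (T.filter (fun t => x⁻¹ * t ∈ T)).card :=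
    invFun_cnt hreg T hT x x' H
  have hx1 : (T.filter (fun t => x⁻¹ * t ∈ T)).card = T.card := by
    rw [Finset.filter_true_of_mem]
    intro t ht
    exact mem_stab.mp ((stab T).inv_mem hx) t ht
  have hx2 : (T.filter (fun t => x'⁻¹ * t ∈ T)).card = T.card := hcnt.trans hx1
  have hx3 : ∀ t ∈ T, x'⁻¹ * t ∈ T := fun t ht => Finset.filter_card_eq hx2 t ht
  have hx4 : x'⁻¹ ∈ stab T := mem_stab.mpr hx3
  have hx5 := (stab T).inv_mem hx4
  rwa [inv_inv] at hx5

theorem card_filter_mem [Fintype K] [DecidableEq K] (P₀ : Subgroup K) [DecidablePred (· ∈ P₀)] :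
    (Finset.univ.filter (fun v : K => v ∈ P₀)).card = Nat.card P₀ := by
  rw [Nat.card_eq_fintype_card, Fintype.card_subtype]

theorem step1 (hreg : IsReg ι ω₀)
    (hprim : ∀ L : Subgroup K, InvSet ι ω₀ (L : Set K) → L = ⊥ ∨ L = ⊤)
    (p : ℕ) [hp : Fact p.Prime] (P₀ : Subgroup K) (hP₀ : ∀ y : K, y ∈ P₀ ↔ y ^ p = 1)
    (hcard : Nat.card P₀ = p) (T : Finset K) (hT : InvSet ι ω₀ (T : Set K)) :
    ∀ y ∈ T, y ∉ P₀ → ∀ u ∈ P₀, y * u ∈ T := by
  classical
  have : Fintype K := Fintype.ofFinite K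
  have hinjS : Function.Injective
      (MonoidAlgebra.singleOneRingHom : ZMod p →+* MonoidAlgebra (ZMod p) K) :=
    MonoidAlgebra.single_right_injective
  haveI : CharP (MonoidAlgebra (ZMod p) K) p := charP_of_injective_ringHom hinjS p
  haveI : ExpChar (MonoidAlgebra (ZMod p) K) p := ExpChar.prime hp.out
  set θ : MonoidAlgebra (ZMod p) K := (ind (ZMod p) T) ^ p with hθ
  have hθinv : InvFun ι ω₀ (fun k => θ.coeff k) := invFun_pow hreg _ (invFun_ind _ T hT) p
  have hθsum : θ = ∑ t ∈ T, MonoidAlgebra.single (t ^ p) (1 : ZMod p) := by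
    rw [hθ]
    unfold ind
    rw [sum_pow_char p]
    apply Finset.sum_congr rfl
    intro t _
    rw [MonoidAlgebra.single_pow, one_pow]
  have hθcoeff : ∀ x : K, θ.coeff x = ((T.filter (fun t => t ^ p = x)).card : ZMod p) := by
    intro x
    rw [hθsum, MonoidAlgebra.coeff_sum, Finsupp.finset_sum_apply]
    simp only [MonoidAlgebra.coeff_single, Finsupp.single_apply]
    rw [Finset.sum_boole]
  set X : Set K := {x | x ≠ 1 ∧ θ.coeff x ≠ 0} with hX
  have hXinv : InvSet ι ω₀ X := by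
    intro x x' H hx
    refine ⟨H.ne_one hreg hx.1, ?_⟩
    have h1 : θ.coeff x' = θ.coeff x := hθinv x x' H
    rw [h1]
    exact hx.2
  have hXle : Subgroup.closure X ≤ (powMonoidHom p : K →* K).range := by
    rw [Subgroup.closure_le]
    intro x hx
    have h2 := hx.2
    rw [hθcoeff] at h2
    have h3 : (T.filter (fun t => t ^ p = x)).card ≠ 0 := by
      intro h0
      apply h2
      rw [h0]
      simp
    obtain ⟨t, ht⟩ := Finset.card_ne_zero.mp h3
    exact ⟨t, (Finset.mem_filter.mp ht).2⟩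
  have hP₀bot : P₀ ≠ ⊥ := by
    rw [← Subgroup.one_lt_card_iff_ne_bot, hcard]
    exact hp.out.one_lt
  obtain ⟨⟨u₀, hu₀⟩, hu₀1⟩ := (Subgroup.ne_bot_iff_exists_ne_one).mp hP₀bot
  have hu₀1' : u₀ ≠ 1 := fun h => hu₀1 (Subtype.ext h)
  have hrange : (powMonoidHom p : K →* K).range ≠ ⊤ := by
    intro htop
    have hsurj : Function.Surjective (powMonoidHom p : K →* K) := MonoidHom.range_eq_top.mp htop
    have hinj : Function.Injective (powMonoidHom p : K →* K) :=
      Finite.injective_iff_surjective.mpr hsurj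
    apply hu₀1'
    apply hinj
    rw [powMonoidHom_apply, powMonoidHom_apply, one_pow]
    exact (hP₀ u₀).mp hu₀
  have hcl : Subgroup.closure X = ⊥ := by
    rcases hprim _ (invSet_closure hreg X hXinv) with h | h
    · exact h
    · exfalso
      apply hrange
      rw [eq_top_iff, ← h]
      exact hXle
  have hXempty : ∀ x : K, x ≠ 1 → θ.coeff x = 0 := by
    intro x hx1
    by_contra h0
    have hxX : x ∈ X := ⟨hx1, h0⟩
    have h1 : x ∈ Subgroup.closure X := Subgroup.subset_closure hxX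
    rw [hcl, Subgroup.mem_bot] at h1
    exact hx1 h1
  intro y hyT hyP u hu
  have hyp : y ^ p ≠ 1 := fun h => hyP ((hP₀ y).mpr h)
  have hdvd : p ∣ (T.filter (fun t => t ^ p = y ^ p)).card := by
    have h1 := hXempty _ hyp
    rw [hθcoeff] at h1
    exact (ZMod.natCast_eq_zero_iff _ _).mp h1
  set F := T.filter (fun t => t ^ p = y ^ p) with hF
  have hyF : y ∈ F := Finset.mem_filter.mpr ⟨hyT, rfl⟩
  have hFpos : 0 < F.card := Finset.card_pos.mpr ⟨y, hyF⟩
  have hple : p ≤ F.card := Nat.le_of_dvd hFpos hdvd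
  set C : Finset K := (Finset.univ.filter (fun v => v ∈ P₀)).image (fun v => y * v) with hC
  have hCcard : C.card = p := by
    rw [hC, Finset.card_image_of_injective _ (mul_right_injective y), card_filter_mem, hcard]
  have hFC : F ⊆ C := by
    intro t ht
    have ht2 := (Finset.mem_filter.mp ht).2
    rw [hC, Finset.mem_image]
    refine ⟨y⁻¹ * t, ?_, by rw [mul_inv_cancel_left]⟩
    rw [Finset.mem_filter]
    refine ⟨Finset.mem_univ _, ?_⟩
    rw [hP₀, mul_pow, inv_pow, ht2, inv_mul_cancel]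
  have hFeq : F = C := Finset.eq_of_subset_of_card_le hFC (by rw [hCcard]; exact hple)
  have h1 : y * u ∈ C := by
    rw [hC, Finset.mem_image]
    exact ⟨u, Finset.mem_filter.mpr ⟨Finset.mem_univ _, hu⟩, rfl⟩
  rw [← hFeq] at h1
  exact (Finset.mem_filter.mp h1).1

theorem step2 (hreg : IsReg ι ω₀)
    (hprim : ∀ L : Subgroup K, InvSet ι ω₀ (L : Set K) → L = ⊥ ∨ L = ⊤)
    (p : ℕ) [hp : Fact p.Prime] (P₀ : Subgroup K) (hP₀ : ∀ y : K, y ∈ P₀ ↔ y ^ p = 1)
    (hcard : Nat.card P₀ = p) (T : Finset K) (hT : InvSet ι ω₀ (T : Set K)) (hne : T.Nonempty)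
    (h1 : (1 : K) ∉ T) : ∃ a ∈ T, a ∈ P₀ := by
  classical
  by_contra hcon
  push Not at hcon
  have hstep := step1 hreg hprim p P₀ hP₀ hcard T hT
  have hP₀le : P₀ ≤ stab T := by
    intro u hu
    rw [mem_stab]
    intro t ht
    rw [mul_comm]
    exact hstep t ht (hcon t ht) u hu
  have hP₀bot : P₀ ≠ ⊥ := by
    rw [← Subgroup.one_lt_card_iff_ne_bot, hcard]
    exact hp.out.one_lt
  rcases hprim _ (invSet_stab hreg T hT) with h | h
  · apply hP₀bot
    rw [eq_bot_iff, ← h]
    exact hP₀le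
  · obtain ⟨t, ht⟩ := hne
    have h2 : t⁻¹ ∈ stab T := by
      rw [h]
      trivial
    have h3 := mem_stab.mp h2 t ht
    rw [inv_mul_cancel] at h3
    exact h1 h3

open scoped Classical in
theorem step3 [Fintype K] (hreg : IsReg ι ω₀)
    (hprim : ∀ L : Subgroup K, InvSet ι ω₀ (L : Set K) → L = ⊥ ∨ L = ⊤)
    (p : ℕ) [hp : Fact p.Prime] (P₀ : Subgroup K) (hP₀ : ∀ y : K, y ∈ P₀ ↔ y ^ p = 1)
    (hcard : Nat.card P₀ = p) (T : Finset K) (hT : InvSet ι ω₀ (T : Set K)) :
    (∀ t ∈ T, t ∈ P₀) ∨ p ≤ 2 * (T.filter (fun t => t ∈ P₀)).card := by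
  by_cases hB : ∀ t ∈ T, t ∈ P₀
  · exact Or.inl hB
  right
  push Not at hB
  obtain ⟨b, hbT, hbP⟩ := hB
  have hb1 : b ≠ 1 := fun h => hbP (h ▸ P₀.one_mem)
  have hstep := step1 hreg hprim p P₀ hP₀ hcard T hT
  -- the class of b
  set Tb : Finset K := Finset.univ.filter (fun k => Rel ι ω₀ b k) with hTb
  have hTbinv : InvSet ι ω₀ (Tb : Set K) := by
    intro k k' H hk
    simp only [hTb, Finset.coe_filter, Finset.mem_univ, true_and, Set.mem_setOf_eq] at hk ⊢
    exact hk.trans H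
  have hTbne : Tb.Nonempty := ⟨b, Finset.mem_filter.mpr ⟨Finset.mem_univ _, Rel.refl b⟩⟩
  have hTb1 : (1 : K) ∉ Tb := by
    intro hm
    have h2 := (Finset.mem_filter.mp hm).2
    exact hb1 (h2.symm.eq_one hreg)
  obtain ⟨x, hxTb, hxP⟩ := step2 hreg hprim p P₀ hP₀ hcard Tb hTbinv hTbne hTb1
  have hbx : Rel ι ω₀ b x := (Finset.mem_filter.mp hxTb).2
  have hcnt : (T.filter (fun t => x⁻¹ * t ∈ T)).card = (T.filter (fun t => b⁻¹ * t ∈ T)).card :=
    invFun_cnt hreg T hT b x hbx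
  set A := T.filter (fun t => t ∈ P₀) with hA
  set B := T.filter (fun t => t ∉ P₀) with hBdef
  -- (i)
  have hi : B.card ≤ (T.filter (fun t => x⁻¹ * t ∈ T)).card := by
    apply Finset.card_le_card
    intro t ht
    rw [hBdef, Finset.mem_filter] at ht
    rw [Finset.mem_filter]
    refine ⟨ht.1, ?_⟩
    rw [mul_comm]
    exact hstep t ht.1 ht.2 _ (P₀.inv_mem hxP)
  -- (ii)
  set F2 := T.filter (fun t => t ∉ P₀ ∧ b⁻¹ * t ∈ P₀ ∧ b⁻¹ * t ∈ T) with hF2
  set F3 := T.filter (fun t => t ∉ P₀ ∧ b⁻¹ * t ∉ P₀ ∧ b⁻¹ * t ∈ T) with hF3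
  have hcover : T.filter (fun t => b⁻¹ * t ∈ T) ⊆ A ∪ (F2 ∪ F3) := by
    intro t ht
    rw [Finset.mem_filter] at ht
    rw [Finset.mem_union, Finset.mem_union]
    by_cases h1 : t ∈ P₀
    · exact Or.inl (Finset.mem_filter.mpr ⟨ht.1, h1⟩)
    · right
      by_cases h2 : b⁻¹ * t ∈ P₀
      · exact Or.inl (Finset.mem_filter.mpr ⟨ht.1, h1, h2, ht.2⟩)
      · exact Or.inr (Finset.mem_filter.mpr ⟨ht.1, h1, h2, ht.2⟩)
  have hF2le : F2.card ≤ A.card := by
    apply Finset.card_le_card_of_injOn (fun t => b⁻¹ * t)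
    · intro t ht
      have ht' := Finset.mem_filter.mp (Finset.mem_coe.mp ht)
      exact Finset.mem_coe.mpr (Finset.mem_filter.mpr ⟨ht'.2.2.2, ht'.2.2.1⟩)
    · intro t₁ _ t₂ _ h12
      exact mul_left_cancel h12
  set C : Finset K := (Finset.univ.filter (fun v => v ∈ P₀)).image (fun v => b * v) with hC
  have hCcard : C.card = p := by
    rw [hC, Finset.card_image_of_injective _ (mul_right_injective b), card_filter_mem, hcard]
  have hCB : C ⊆ B := by
    intro t ht
    rw [hC, Finset.mem_image] at ht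
    obtain ⟨u, hu, rfl⟩ := ht
    have hu' := (Finset.mem_filter.mp hu).2
    rw [hBdef, Finset.mem_filter]
    refine ⟨hstep b hbT hbP u hu', ?_⟩
    intro hc
    apply hbP
    have h3 : b = (b * u) * u⁻¹ := by group
    rw [h3]
    exact P₀.mul_mem hc (P₀.inv_mem hu')
  have hF3B : F3 ⊆ B := by
    intro t ht
    have ht' := Finset.mem_filter.mp ht
    exact Finset.mem_filter.mpr ⟨ht'.1, ht'.2.1⟩
  have hdisj : Disjoint F3 C := by
    rw [Finset.disjoint_left]
    intro t ht htC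
    have ht' := Finset.mem_filter.mp ht
    rw [hC, Finset.mem_image] at htC
    obtain ⟨u, hu, rfl⟩ := htC
    apply ht'.2.2.1
    rw [inv_mul_cancel_left]
    exact (Finset.mem_filter.mp hu).2
  have hF3le : F3.card + p ≤ B.card := by
    rw [← hCcard, ← Finset.card_union_of_disjoint hdisj]
    exact Finset.card_le_card (Finset.union_subset hF3B hCB)
  have hii : (T.filter (fun t => b⁻¹ * t ∈ T)).card ≤ A.card + (F2.card + F3.card) := by
    calc (T.filter (fun t => b⁻¹ * t ∈ T)).card ≤ (A ∪ (F2 ∪ F3)).card := Finset.card_le_card hcover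
      _ ≤ A.card + (F2 ∪ F3).card := Finset.card_union_le _ _
      _ ≤ A.card + (F2.card + F3.card) := by
          have := Finset.card_union_le F2 F3
          omega
  omega

theorem main (hreg : IsReg ι ω₀)
    (hprim : ∀ L : Subgroup K, InvSet ι ω₀ (L : Set K) → L = ⊥ ∨ L = ⊤)
    (p : ℕ) [hp : Fact p.Prime] (P₀ : Subgroup K) (hP₀ : ∀ y : K, y ∈ P₀ ↔ y ^ p = 1)
    (hcard : Nat.card P₀ = p) (hP₀top : P₀ ≠ ⊤) :
    ∀ h h' : K, h ≠ 1 → h' ≠ 1 → Rel ι ω₀ h h' := by
  classical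
  have : Fintype K := Fintype.ofFinite K
  intro h₁ h₂ hne₁ hne₂
  by_contra hrel
  have hinv : ∀ h : K, InvSet ι ω₀
      ((Finset.univ.filter (fun k => Rel ι ω₀ h k) : Finset K) : Set K) := by
    intro h k k' H hk
    simp only [Finset.coe_filter, Finset.mem_univ, true_and, Set.mem_setOf_eq] at hk ⊢
    exact hk.trans H
  have hone : ∀ h : K, h ≠ 1 → (1 : K) ∉ Finset.univ.filter (fun k => Rel ι ω₀ h k) := by
    intro h hne hm
    have h2 := (Finset.mem_filter.mp hm).2
    exact hne (h2.symm.eq_one hreg)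
  have key : ∀ h : K, h ≠ 1 →
      ¬ (∀ t ∈ Finset.univ.filter (fun k => Rel ι ω₀ h k), t ∈ P₀) := by
    intro h hne hall
    have hle : Subgroup.closure
        ((Finset.univ.filter (fun k => Rel ι ω₀ h k) : Finset K) : Set K) ≤ P₀ := by
      rw [Subgroup.closure_le]
      intro t ht
      exact hall t (Finset.mem_coe.mp ht)
    rcases hprim _ (invSet_closure hreg _ (hinv h)) with hb | ht
    · have h3 : h ∈ Subgroup.closure
          ((Finset.univ.filter (fun k => Rel ι ω₀ h k) : Finset K) : Set K) :=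
        Subgroup.subset_closure
          (Finset.mem_coe.mpr (Finset.mem_filter.mpr ⟨Finset.mem_univ _, Rel.refl h⟩))
      rw [hb, Subgroup.mem_bot] at h3
      exact hne h3
    · apply hP₀top
      rw [eq_top_iff, ← ht]
      exact hle
  have b1 := (step3 hreg hprim p P₀ hP₀ hcard _ (hinv h₁)).resolve_left (key h₁ hne₁)
  have b2 := (step3 hreg hprim p P₀ hP₀ hcard _ (hinv h₂)).resolve_left (key h₂ hne₂)
  set T₁ := Finset.univ.filter (fun k => Rel ι ω₀ h₁ k) with hT₁
  set T₂ := Finset.univ.filter (fun k => Rel ι ω₀ h₂ k) with hT₂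
  have hdisj : Disjoint (T₁.filter (fun t => t ∈ P₀)) (T₂.filter (fun t => t ∈ P₀)) := by
    rw [Finset.disjoint_left]
    intro k hk1 hk2
    have r1 := (Finset.mem_filter.mp (Finset.mem_filter.mp hk1).1).2
    have r2 := (Finset.mem_filter.mp (Finset.mem_filter.mp hk2).1).2
    exact hrel (r1.trans r2.symm)
  have hsub : (T₁.filter (fun t => t ∈ P₀)) ∪ (T₂.filter (fun t => t ∈ P₀)) ⊆
      (Finset.univ.filter (fun v : K => v ∈ P₀)).erase 1 := by
    intro k hk
    rw [Finset.mem_union] at hk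
    rw [Finset.mem_erase, Finset.mem_filter]
    rcases hk with hk | hk
    · have hk' := Finset.mem_filter.mp hk
      refine ⟨?_, Finset.mem_univ _, hk'.2⟩
      rintro rfl
      exact hone h₁ hne₁ hk'.1
    · have hk' := Finset.mem_filter.mp hk
      refine ⟨?_, Finset.mem_univ _, hk'.2⟩
      rintro rfl
      exact hone h₂ hne₂ hk'.1
  have hle := Finset.card_le_card hsub
  rw [Finset.card_union_of_disjoint hdisj, Finset.card_erase_of_mem
    (Finset.mem_filter.mpr ⟨Finset.mem_univ _, P₀.one_mem⟩), card_filter_mem, hcard] at hle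
  have hp1 := hp.out.one_lt
  omega

end Main

/-! ### cyclic groups -/

section Cyclic

variable {K : Type*} [CommGroup K] [Finite K]

theorem mem_powKer (p : ℕ) (y : K) : y ∈ (powMonoidHom p : K →* K).ker ↔ y ^ p = 1 := by
  rw [MonoidHom.mem_ker, powMonoidHom_apply]

theorem card_powKer_of_cyclic [IsCyclic K] (p : ℕ) [hp : Fact p.Prime] (hdvd : p ∣ Nat.card K) :
    Nat.card (powMonoidHom p : K →* K).ker = p := by
  classical
  have : Fintype K := Fintype.ofFinite K
  apply le_antisymm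
  · have h1 := IsCyclic.card_pow_eq_one_le (α := K) hp.out.pos
    rw [← card_filter_mem]
    have h2 : Finset.univ.filter (fun v : K => v ∈ (powMonoidHom p : K →* K).ker) =
        Finset.univ.filter (fun a : K => a ^ p = 1) := by
      apply Finset.filter_congr
      intro y _
      exact mem_powKer p y
    rw [h2]
    convert h1
  · obtain ⟨x, hx⟩ := exists_prime_orderOf_dvd_card' p hdvd
    have hle : Subgroup.zpowers x ≤ (powMonoidHom p : K →* K).ker := by
      rw [Subgroup.zpowers_le, mem_powKer, ← hx]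
      exact pow_orderOf_eq_one x
    have h2 := Subgroup.card_le_of_le hle
    rwa [Nat.card_zpowers, hx] at h2

/-- in an abelian `p`-group whose elements of order dividing `p` form a subgroup of order `p`,
that subgroup lies in every nontrivial subgroup. -/
theorem powKer_le_of_ne_bot (p : ℕ) [hp : Fact p.Prime] (hK : IsPGroup p K)
    (hcard : Nat.card (powMonoidHom p : K →* K).ker = p) (S : Subgroup K) (hS : S ≠ ⊥) :
    (powMonoidHom p : K →* K).ker ≤ S := by
  obtain ⟨⟨s, hsS⟩, hs1⟩ := (Subgroup.ne_bot_iff_exists_ne_one).mp hS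
  have hs1' : s ≠ 1 := fun h => hs1 (Subtype.ext h)
  obtain ⟨i, hi⟩ := (IsPGroup.iff_orderOf.mp hK) s
  have hipos : i ≠ 0 := by
    rintro rfl
    rw [pow_zero, orderOf_eq_one_iff] at hi
    exact hs1' hi
  have hpdvd : p ∣ orderOf s := by
    rw [hi]
    exact dvd_pow_self p hipos
  have ho : orderOf (s ^ (orderOf s / p)) = p :=
    orderOf_pow_orderOf_div (orderOf_pos s).ne' hpdvd
  set s' := s ^ (orderOf s / p) with hs'
  have hs'S : s' ∈ S := S.pow_mem hsS _
  have hle : Subgroup.zpowers s' ≤ (powMonoidHom p : K →* K).ker := by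
    rw [Subgroup.zpowers_le, mem_powKer, ← ho]
    exact pow_orderOf_eq_one s'
  have heq : Subgroup.zpowers s' = (powMonoidHom p : K →* K).ker := by
    apply Subgroup.eq_of_le_of_card_ge hle
    rw [Nat.card_zpowers, ho, hcard]
  rw [← heq, Subgroup.zpowers_le]
  exact hs'S

end Cyclic

end Cfsg.Agent.Lib.Helper20.SchurRing
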