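import Mathlib
import Cfsg.Agent.Lib.Helper23.ExtInvariant

/-!
# Helper20 library: Maschke for elementary abelian sections of an abelian `p`-group

`exists_invariant_section_complement`: `A` a finite abelian `p`-group, `X ≤ Aut A` of order prime
to `p`, `C ≤ M ≤ D` invariant subgroups with `d ^ p ∈ C` for all `d ∈ D`. Then there is an
invariant `E` with `C ≤ E ≤ D`, `E ⊓ M = C` and `E ⊔ M = D`.
-/

set_option autoImplicit false

namespace Cfsg.Agent.Lib.Helper20.SectionMaschke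

open Cfsg.Agent.Lib.Helper23

variable {A : Type*} [CommGroup A]

/-- The action of `X ≤ Aut A` on an invariant subgroup `D`. -/
@[reducible] def subAction (X : Subgroup (MulAut A)) (D : Subgroup A)
    (hD : ∀ x ∈ X, ∀ d ∈ D, x d ∈ D) : MulDistribMulAction ↥X ↥D where
  smul x d := ⟨(x : MulAut A) d, hD x x.2 d d.2⟩
  one_smul _ := Subtype.ext rfl
  mul_smul _ _ _ := Subtype.ext rfl
  smul_mul x d d' := Subtype.ext (map_mul (x : MulAut A) (d : A) (d' : A))
  smul_one x := Subtype.ext (map_one (x : MulAut A))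

theorem exists_invariant_section_complement [Finite A] {p : ℕ} [Fact p.Prime]
    (hA : IsPGroup p A) (X : Subgroup (MulAut A)) (hX : (Nat.card X).Coprime p)
    (C M D : Subgroup A) (hCM : C ≤ M) (hMD : M ≤ D)
    (hC : ∀ x ∈ X, ∀ d ∈ C, x d ∈ C) (hM : ∀ x ∈ X, ∀ d ∈ M, x d ∈ M)
    (hD : ∀ x ∈ X, ∀ d ∈ D, x d ∈ D) (hpow : ∀ d ∈ D, d ^ p ∈ C) :
    ∃ E : Subgroup A, (∀ x ∈ X, ∀ d ∈ E, x d ∈ E) ∧ C ≤ E ∧ E ≤ D ∧ E ⊓ M = C ∧ E ⊔ M = D := by
  classical
  letI := subAction X D hD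
  have hsmul : ∀ (x : ↥X) (d : ↥D), ((x • d : ↥D) : A) = (x : MulAut A) (d : A) := fun _ _ => rfl
  have hDp : IsPGroup p ↥D := hA.to_subgroup D
  have hcop : (Nat.card ↥X).Coprime (Nat.card ↥D) := by
    obtain ⟨n, hn⟩ := hDp.exists_card_eq
    rw [hn]
    exact Nat.Coprime.pow_right n hX
  have hLinv : IsInv ↥X (M.subgroupOf D) := by
    intro x d hd
    rw [Subgroup.mem_subgroupOf] at hd ⊢
    rw [hsmul]
    exact hM x x.2 d hd
  have hΦC : frattini ↥D ≤ C.subgroupOf D := by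
    apply Cfsg.Agent.Lib.Helper1.frattini_le_of_commutator_le_of_pow_mem (p := p)
    · rw [commutator_eq_bot]
      exact bot_le
    · intro d
      rw [Subgroup.mem_subgroupOf, Subgroup.coe_pow]
      exact hpow d d.2
  have hΦL : frattini ↥D ≤ M.subgroupOf D := by
    intro d hd
    have := hΦC hd
    rw [Subgroup.mem_subgroupOf] at this ⊢
    exact hCM this
  obtain ⟨L', hL'inv, _, hinf, hsup⟩ := exists_isInv_compl_mod_frattini hDp hcop hLinv hΦL
  refine ⟨L'.map D.subtype ⊔ C, ?_, le_sup_right, sup_le (Subgroup.map_subtype_le _)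
    (hCM.trans hMD), ?_, ?_⟩
  · intro x hx d hd
    obtain ⟨l, hl, c, hc, rfl⟩ := Subgroup.mem_sup.mp hd
    rw [map_mul]
    refine Subgroup.mul_mem_sup ?_ (hC x hx c hc)
    obtain ⟨l', hl', rfl⟩ := hl
    exact ⟨(⟨x, hx⟩ : ↥X) • l', hL'inv ⟨x, hx⟩ l' hl', rfl⟩
  · apply le_antisymm
    · intro d hd
      obtain ⟨hdE, hdM⟩ := Subgroup.mem_inf.mp hd
      obtain ⟨l, hl, c, hc, rfl⟩ := Subgroup.mem_sup.mp hdE
      obtain ⟨l', hl', rfl⟩ := hl
      have h1 : (l' : A) ∈ M := by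
        have h2 : (l' : A) = (D.subtype l' * c) * c⁻¹ := by
          rw [mul_inv_cancel_right]; rfl
        rw [h2]
        exact mul_mem hdM (inv_mem (hCM hc))
      have h3 : l' ∈ M.subgroupOf D ⊓ L' :=
        Subgroup.mem_inf.mpr ⟨Subgroup.mem_subgroupOf.mpr h1, hl'⟩
      rw [hinf] at h3
      have h4 := hΦC h3
      rw [Subgroup.mem_subgroupOf] at h4
      exact mul_mem h4 hc
    · exact le_inf le_sup_right hCM
  · apply le_antisymm
    · exact sup_le (sup_le (Subgroup.map_subtype_le _) (hCM.trans hMD)) hMD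
    · intro d hd
      have h1 : (⟨d, hd⟩ : ↥D) ∈ M.subgroupOf D ⊔ L' := by rw [hsup]; trivial
      obtain ⟨m, hm, l, hl, hml⟩ := Subgroup.mem_sup.mp h1
      have h2 : d = (l : A) * (m : A) := by
        have := congrArg Subtype.val hml
        rw [Subgroup.coe_mul] at this
        rw [mul_comm]
        exact this.symm
      rw [h2]
      rw [Subgroup.mem_subgroupOf] at hm
      exact Subgroup.mul_mem_sup (Subgroup.mem_sup_left ⟨l, hl, rfl⟩) hm

end Cfsg.Agent.Lib.Helper20.SectionMaschke
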