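import Mathlib

/-!
# Parameters of a strongly regular graph on 100 vertices of degree 22

Spectral (integrality) argument: `(l, m) = (0, 6)`.
-/

namespace Cfsg.Agent.Lib.Helper20.Srg100

open Matrix

/-- The trace of an idempotent real matrix is a natural number. -/
theorem trace_idem_nat {V : Type*} [Fintype V] [DecidableEq V] (E : Matrix V V ℝ)
    (hE : E * E = E) : ∃ n : ℕ, E.trace = n := by
  have h1 : IsIdempotentElem (Matrix.toLin' E) := by
    unfold IsIdempotentElem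
    rw [Module.End.mul_eq_comp, ← Matrix.toLin'_mul, hE]
  have h2 := (LinearMap.IsIdempotentElem.isProj_range _ h1).trace
  rw [Matrix.trace_toLin'_eq] at h2
  exact ⟨_, h2⟩

theorem key {V : Type*} [Fintype V] [DecidableEq V] (Γ : SimpleGraph V) [DecidableRel Γ.Adj]
    (l m : ℕ) (h : Γ.IsSRGWith 100 22 l m) (θ τ : ℝ) (hne : θ ≠ τ)
    (hs : θ + τ = (l : ℝ) - m) (hp : θ * τ = (m : ℝ) - 22)
    (h100 : (22 - θ) * (22 - τ) = 100 * m) :
    ∃ n : ℕ, (n : ℝ) * (θ - τ) = -99 * τ - 22 := by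
  obtain ⟨A, hA⟩ : ∃ A : Matrix V V ℝ, A = Γ.adjMatrix ℝ := ⟨_, rfl⟩
  obtain ⟨J, hJ⟩ : ∃ J : Matrix V V ℝ, J = Matrix.of (fun _ _ => (1 : ℝ)) := ⟨_, rfl⟩
  have hcompl : Γᶜ.adjMatrix ℝ = J - 1 - A := by
    ext v w
    simp only [SimpleGraph.adjMatrix_apply, SimpleGraph.compl_adj, hA, hJ, Matrix.sub_apply,
      Matrix.of_apply, Matrix.one_apply]
    by_cases hvw : v = w
    · subst hvw
      simp
    · by_cases hadj : Γ.Adj v w <;> simp [hvw, hadj]
  have hA2 : A * A = ((22 : ℝ) - m) • (1 : Matrix V V ℝ) + ((l : ℝ) - m) • A + (m : ℝ) • J := by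
    have := h.matrix_eq (α := ℝ)
    rw [hcompl, ← hA, pow_two] at this
    rw [this, ← Nat.cast_smul_eq_nsmul ℝ, ← Nat.cast_smul_eq_nsmul ℝ, ← Nat.cast_smul_eq_nsmul ℝ]
    push_cast
    module
  have hAJ : A * J = (22 : ℝ) • J := by
    ext v w
    rw [hA, SimpleGraph.adjMatrix_mul_apply]
    simp [hJ, h.regular v]
  have hJA : J * A = (22 : ℝ) • J := by
    ext v w
    rw [hA, SimpleGraph.mul_adjMatrix_apply]
    simp [hJ, h.regular w]
  have hJJ : J * J = (100 : ℝ) • J := by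
    ext v w
    simp [hJ, Matrix.mul_apply, h.card]
  have htA : A.trace = 0 := by rw [hA]; exact SimpleGraph.trace_adjMatrix ℝ Γ
  have htJ : J.trace = 100 := by
    simp [hJ, Matrix.trace, h.card]
  have ht1 : (1 : Matrix V V ℝ).trace = 100 := by
    simp [Matrix.trace_one, h.card]
  obtain ⟨c, hc⟩ : ∃ c : ℝ, c = (22 - τ) / 100 := ⟨_, rfl⟩
  obtain ⟨F, hF⟩ : ∃ F : Matrix V V ℝ, F = A - τ • (1 : Matrix V V ℝ) - c • J := ⟨_, rfl⟩
  have e1 : F * F = ((22 : ℝ) - m + τ ^ 2) • (1 : Matrix V V ℝ) + ((l : ℝ) - m - 2 * τ) • A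
      + ((m : ℝ) - 44 * c + 2 * τ * c + 100 * c ^ 2) • J := by
    simp only [hF, sub_mul, mul_sub, smul_mul_assoc, mul_smul_comm, Matrix.one_mul,
      Matrix.mul_one, hAJ, hJA, hJJ, hA2]
    module
  have c1 : (22 : ℝ) - m + τ ^ 2 = -((θ - τ) * τ) := by linear_combination hp
  have c2 : (l : ℝ) - m - 2 * τ = θ - τ := by linear_combination -hs
  have c3 : (m : ℝ) - 44 * c + 2 * τ * c + 100 * c ^ 2 = -((θ - τ) * c) := by
    rw [hc]
    linear_combination (-1 / 100 : ℝ) * h100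
  have hFF : F * F = (θ - τ) • F := by
    rw [e1, c1, c2, c3, hF]
    module
  have hd : θ - τ ≠ 0 := sub_ne_zero.mpr hne
  obtain ⟨n, hn⟩ := trace_idem_nat ((θ - τ)⁻¹ • F) (by
    rw [smul_mul_assoc, mul_smul_comm, hFF, smul_smul, smul_smul]
    congr 1
    field_simp)
  refine ⟨n, ?_⟩
  rw [← hn, Matrix.trace_smul, hF, Matrix.trace_sub, Matrix.trace_sub, Matrix.trace_smul,
    Matrix.trace_smul, htA, htJ, ht1, hc]
  simp only [smul_eq_mul]
  field_simp
  ring

/-- A strongly regular graph on 100 vertices of degree 22 has parameters `(0, 6)`. -/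
theorem srg_100_22_params {V : Type*} [Fintype V] [DecidableEq V] (Γ : SimpleGraph V)
    [DecidableRel Γ.Adj] (l m : ℕ) (h : Γ.IsSRGWith 100 22 l m) : l = 0 ∧ m = 6 := by
  have hpar := h.param_eq Γ (by norm_num)
  have hV : 0 < Fintype.card V := by rw [h.card]; norm_num
  obtain ⟨v⟩ := Fintype.card_pos_iff.mp hV
  have hdeg : Γ.degree v = 22 := h.regular v
  have hne : (Γ.neighborFinset v).Nonempty := by
    rw [← Finset.card_pos, SimpleGraph.card_neighborFinset_eq_degree, hdeg]; norm_num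
  obtain ⟨w, hw⟩ := hne
  rw [SimpleGraph.mem_neighborFinset] at hw
  have hl : l < 22 := by
    have := hw.card_commonNeighbors_lt_degree
    rw [h.of_adj v w hw, hdeg] at this
    exact this
  have hcases : (l = 0 ∧ m = 6) ∨ (l = 7 ∧ m = 4) ∨ (l = 14 ∧ m = 2) ∨ (l = 21 ∧ m = 0) := by
    omega
  rcases hcases with h0 | ⟨rfl, rfl⟩ | ⟨rfl, rfl⟩ | ⟨rfl, rfl⟩
  · exact h0
  · exfalso
    obtain ⟨n, hn⟩ := key Γ 7 4 h 6 (-3) (by norm_num) (by norm_num) (by norm_num) (by norm_num)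
    have h1 : (n : ℝ) * 9 = 275 := by linarith
    have h2 : n * 9 = 275 := by exact_mod_cast h1
    omega
  · exfalso
    obtain ⟨s, hs⟩ : ∃ s : ℝ, s = Real.sqrt 14 := ⟨_, rfl⟩
    have hss : s * s = 14 := by rw [hs]; exact Real.mul_self_sqrt (by norm_num)
    have hs0 : 0 < s := by rw [hs]; exact Real.sqrt_pos.mpr (by norm_num)
    obtain ⟨n, hn⟩ := key Γ 14 2 h (6 + 2 * s) (6 - 2 * s) (by intro h; linarith)
      (by push_cast; ring) (by push_cast; linear_combination -4 * hss)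
      (by push_cast; linear_combination -4 * hss)
    have e : ((4 : ℝ) * n - 198) * s = -616 := by linear_combination hn
    have e2 : ((4 : ℝ) * n - 198) ^ 2 * 14 = 616 ^ 2 := by
      have h3 : (((4 : ℝ) * n - 198) * s) ^ 2 = (-616) ^ 2 := by rw [e]
      rw [mul_pow, pow_two s, hss] at h3
      linarith
    have e3 : ((4 : ℤ) * n - 198) ^ 2 * 14 = 616 ^ 2 := by exact_mod_cast e2
    obtain ⟨z, hz⟩ : ∃ z : ℤ, z = 4 * n - 198 := ⟨_, rfl⟩
    rw [← hz] at e3
    have h4 : z ^ 2 = 27104 := by linarith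
    have h1 : z ≤ 164 ∨ 165 ≤ z := by omega
    have h2 : -164 ≤ z ∨ z ≤ -165 := by omega
    rcases h1 with h1 | h1 <;> rcases h2 with h2 | h2 <;> nlinarith
  · exfalso
    obtain ⟨n, hn⟩ := key Γ 21 0 h 22 (-1) (by norm_num) (by norm_num) (by norm_num)
      (by norm_num)
    have h1 : (n : ℝ) * 23 = 77 := by linarith
    have h2 : n * 23 = 77 := by exact_mod_cast h1
    omega

end Cfsg.Agent.Lib.Helper20.Srg100
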