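import Mathlib
import Cfsg.Prelude.Def_PLocal
import Cfsg.Agent.S0624

set_option autoImplicit false

/-! The characteristic subgroup `W(R)` (stable normal closure of `Ω₁(Z(R))`) viewed inside the
ambient group: functoriality under homomorphisms injective on `R`, invariance under the normalizer,
nontriviality, and a general criterion for `W(S)` to be normal (the argument of S0624 with the
hypotheses separated). -/

namespace Cfsg.Agent.Lib.Helper20.StableW

open Cfsg
open scoped commutatorElement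

universe u

variable {G : Type u} [Group G]

/-- `W(R)` for a subgroup `R ≤ G`, viewed inside `G`. -/
def Wof (p : ℕ) (R : Subgroup G) : Subgroup G :=
  (Cfsg.stableNormalClosure p ↥R).map R.subtype

theorem Wof_le {p : ℕ} {R : Subgroup G} : Wof p R ≤ R := Subgroup.map_subtype_le _

theorem Wof_map_hom {p : ℕ} {H : Type u} [Group H] {f : G →* H} {P : Subgroup G}
    (hinj : P ⊓ f.ker = ⊥) : (Wof p P).map f = Wof p (P.map f) := by
  have hg : Function.Injective (f.comp P.subtype) := by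
    rw [injective_iff_map_eq_one]
    intro x hx
    have h1 : (x : G) ∈ P ⊓ f.ker := ⟨x.2, hx⟩
    rw [hinj, Subgroup.mem_bot] at h1
    exact Subtype.ext h1
  obtain ⟨φ, hφ⟩ : ∃ φ : ↥P →* ↥(P.map f), ∀ x, ((φ x : ↥(P.map f)) : H) = f x :=
    ⟨(f.comp P.subtype).codRestrict (P.map f) (fun x => ⟨x.1, x.2, rfl⟩), fun x => rfl⟩
  have hbij : Function.Bijective φ := by
    constructor
    · intro x y hxy
      apply hg
      show f x = f y
      rw [← hφ x, ← hφ y, hxy]
    · rintro ⟨y, x, hx, rfl⟩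
      exact ⟨⟨x, hx⟩, Subtype.ext (hφ _)⟩
  have h1 := Cfsg.H5.stableNormalClosure_map_equiv p (MulEquiv.ofBijective φ hbij)
  have h2 : (P.map f).subtype.comp (MulEquiv.ofBijective φ hbij).toMonoidHom = f.comp P.subtype := by
    ext x
    exact hφ x
  unfold Wof
  rw [← h1, Subgroup.map_map, Subgroup.map_map, h2]

theorem Wof_map_equiv {p : ℕ} (P : Subgroup G) (φ : G ≃* G) :
    (Wof p P).map φ.toMonoidHom = Wof p (P.map φ.toMonoidHom) := by
  apply Wof_map_hom
  rw [eq_bot_iff]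
  intro x hx
  have h1 : φ.toMonoidHom x = 1 := hx.2
  rw [Subgroup.mem_bot]
  apply φ.injective
  rw [map_one]; exact h1

/-- the normalizer of `R` normalizes `W(R)` -/
theorem normalizer_le_normalizer_Wof {p : ℕ} (R : Subgroup G) :
    Subgroup.normalizer (R : Set G) ≤ Subgroup.normalizer (Wof p R : Set G) := by
  intro g hg
  rw [Subgroup.mem_normalizer_iff_map_conj_eq] at hg ⊢
  have := Wof_map_equiv (p := p) R (MulAut.conj g)
  rw [show R.map (MulAut.conj g).toMonoidHom = R from hg] at this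
  exact this

theorem Wof_conj_mem {p : ℕ} (R : Subgroup G) {s w : G} (hs : s ∈ R) (hw : w ∈ Wof p R) :
    s * w * s⁻¹ ∈ Wof p R :=
  (Subgroup.mem_normalizer_iff.mp
    (normalizer_le_normalizer_Wof (p := p) R (Subgroup.le_normalizer hs)) w).mp hw

theorem Wof_ne_bot [Finite G] {p : ℕ} [Fact p.Prime] {R : Subgroup G} (hR : IsPGroup p R)
    (hne : R ≠ ⊥) : Wof p R ≠ ⊥ := by
  have : Nontrivial ↥R := (Subgroup.nontrivial_iff_ne_bot R).2 hne
  have h1 := (Cfsg.Agent.S0622.result hR).2.2.2.1 this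
  intro h
  apply h1
  unfold Wof at h
  exact (Subgroup.map_eq_bot_iff_of_injective _ R.subtype_injective).mp h

theorem Wof_isElementaryAbelian [Finite G] {p : ℕ} [Fact p.Prime] {R : Subgroup G}
    (hR : IsPGroup p R) : Cfsg.IsElementaryAbelian p (Wof p R) := by
  have hWsJ := (Cfsg.Agent.S0622.result hR).2.2.1
  exact Cfsg.H5.isElementaryAbelian_map _
    (Cfsg.H5.isElementaryAbelian_mono
      (Cfsg.Agent.S0624.isElementaryAbelian_omegaCenterThompson p _) hWsJ)

theorem Wof_comm [Finite G] {p : ℕ} [Fact p.Prime] {R : Subgroup G}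
    (hR : IsPGroup p R) {x y : G} (hx : x ∈ Wof p R) (hy : y ∈ Wof p R) : x * y = y * x := by
  have := (Wof_isElementaryAbelian hR).1
  exact congrArg Subtype.val (mul_comm' (⟨x, hx⟩ : ↥(Wof p R)) ⟨y, hy⟩)

theorem sylow_le_normalizer_thompson [Finite G] {p : ℕ} [Fact p.Prime] (S : Sylow p G) :
    (S : Subgroup G) ≤
      Subgroup.normalizer (Cfsg.thompsonSubgroupOf p (S : Subgroup G) : Set G) := by
  have hKn : (Cfsg.thompsonSubgroup p ↥(S : Subgroup G)).Normal := by
    haveI := Cfsg.H5.thompsonSubgroup_characteristic (G := ↥(S : Subgroup G)) p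
    infer_instance
  intro s hs
  exact Subgroup.le_normalizer_map (S : Subgroup G).subtype
    ⟨⟨s, hs⟩, by rw [Subgroup.normalizer_eq_top_iff.mpr hKn]; exact Subgroup.mem_top _, rfl⟩

/-- an element of `W(S)` acts quadratically on `O_p(G)` -/
theorem quad_pCore_of_mem_Wof [Finite G] {p : ℕ} [Fact p.Prime] (S : Sylow p G) {a : G}
    (ha : a ∈ Wof p (S : Subgroup G)) :
    ⁅⁅Cfsg.pCore p G, Subgroup.zpowers a⁆, Subgroup.zpowers a⁆ = ⊥ := by
  have hQp := Cfsg.H5.pCore_isPGroup p G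
  have hQS : Cfsg.pCore p G ≤ S := hQp.le_sylow_of_normal S
  rw [Cfsg.Agent.S0623.quad_iff]
  intro v hv g hg g' hg'
  have hgW : g ∈ Wof p (S : Subgroup G) := (Subgroup.zpowers_le.mpr ha) hg
  have hg'W : g' ∈ Wof p (S : Subgroup G) := (Subgroup.zpowers_le.mpr ha) hg'
  have hu : ⁅v, g⁆ ∈ Wof p (S : Subgroup G) := by
    rw [commutatorElement_def]
    exact Subgroup.mul_mem _ (Wof_conj_mem _ (hQS hv) hgW) (Subgroup.inv_mem _ hgW)
  exact commutatorElement_eq_one_iff_mul_comm.mpr (Wof_comm S.isPGroup' hu hg'W)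

/-- `W(S) ≤ O_p(G)` when `G` acts `p`-stably on `O_p(G)` and `O_p(G)` is self-centralizing -/
theorem Wof_le_pCore [Finite G] {p : ℕ} [Fact p.Prime] (S : Sylow p G)
    (hc : Subgroup.centralizer (Cfsg.pCore p G : Set G) ≤ Cfsg.pCore p G)
    (hstQ : Cfsg.IsPStableOn p (Cfsg.pCore p G)) :
    Wof p (S : Subgroup G) ≤ Cfsg.pCore p G := by
  have hQp := Cfsg.H5.pCore_isPGroup p G
  intro a ha
  have hmk := hstQ a (quad_pCore_of_mem_Wof S ha)
  obtain ⟨D, hD⟩ : ∃ D : Subgroup G, D =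
      (Cfsg.pCore p (G ⧸ Subgroup.centralizer (Cfsg.pCore p G : Set G))).comap
        (QuotientGroup.mk' (Subgroup.centralizer (Cfsg.pCore p G : Set G))) := ⟨_, rfl⟩
  have hDn : D.Normal := by
    rw [hD]
    exact (Cfsg.H5.pCore_normal p _).comap _
  have hDp : IsPGroup p D := by
    rw [hD]
    apply IsPGroup.comap_of_ker_isPGroup (Cfsg.H5.pCore_isPGroup p _)
    rw [QuotientGroup.ker_mk']
    exact hQp.to_le hc
  have haD : a ∈ D := by rw [hD]; exact hmk
  exact Cfsg.H5.le_pCore hDn hDp haD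

/-- General criterion (the argument of S0624): `W(S)` is normal in `G` as soon as `G` acts `p`-stably
on its normal elementary abelian `p`-subgroups, `W(S) ≤ O_p(G)`, and `N_G(J(S))` normalizes `W(S)`. -/
theorem Wof_normal_of [Finite G] {p : ℕ} [Fact p.Prime] (S : Sylow p G)
    (hst1 : ∀ (V : Subgroup G) [V.Normal], Cfsg.IsElementaryAbelian p V → Cfsg.IsPStableOn p V)
    (hWQ : Wof p (S : Subgroup G) ≤ Cfsg.pCore p G)
    (hNW : Subgroup.normalizer (Cfsg.thompsonSubgroupOf p (S : Subgroup G) : Set G) ≤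
      Subgroup.normalizer (Wof p (S : Subgroup G) : Set G)) :
    (Wof p (S : Subgroup G)).Normal := by
  have hS : IsPGroup p ↥(S : Subgroup G) := S.isPGroup'
  obtain ⟨W, hW⟩ : ∃ W : Subgroup G, W = Wof p (S : Subgroup G) := ⟨_, rfl⟩
  have hW' : W = (Cfsg.stableNormalClosure p ↥(S : Subgroup G)).map (S : Subgroup G).subtype := hW
  rw [← hW] at hWQ hNW ⊢
  have hWS : W ≤ S := by rw [hW]; exact Wof_le
  have hWea : Cfsg.IsElementaryAbelian p W := by rw [hW]; exact Wof_isElementaryAbelian hS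
  have hWcomm : ∀ x ∈ W, ∀ y ∈ W, x * y = y * x := by
    intro x hx y hy
    rw [hW] at hx hy
    exact Wof_comm hS hx hy
  have hnormS : ∀ s ∈ (S : Subgroup G), ∀ w ∈ W, s * w * s⁻¹ ∈ W := by
    intro s hs w hw
    rw [hW] at hw ⊢
    exact Wof_conj_mem _ hs hw
  have hQp := Cfsg.H5.pCore_isPGroup p G
  have hQn : (Cfsg.pCore p G).Normal := inferInstance
  have hQS : Cfsg.pCore p G ≤ S := hQp.le_sylow_of_normal S
  -- Lemma B
  have hB : ∀ s ∈ (S : Subgroup G), ⁅⁅W, Subgroup.zpowers s⁆, Subgroup.zpowers s⁆ = ⊥ →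
      s ∈ Subgroup.centralizer (W : Set G) := by
    intro s hs hq
    have hq' : ⁅⁅Cfsg.stableNormalClosure p ↥(S : Subgroup G),
        Subgroup.zpowers (⟨s, hs⟩ : ↥(S : Subgroup G))⁆,
        Subgroup.zpowers (⟨s, hs⟩ : ↥(S : Subgroup G))⁆ = ⊥ := by
      apply Subgroup.map_injective (S : Subgroup G).subtype_injective
      rw [Subgroup.map_bot, Subgroup.map_commutator, Subgroup.map_commutator,
        MonoidHom.map_zpowers, ← hW']
      exact hq
    have hr := Cfsg.Agent.S0623.result hS ⟨s, hs⟩ hq'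
    have hr' : ⁅W, Subgroup.zpowers s⁆ = ⊥ := by
      have h1 := congrArg (Subgroup.map (S : Subgroup G).subtype) hr
      rwa [Subgroup.map_bot, Subgroup.map_commutator, MonoidHom.map_zpowers, ← hW'] at h1
    rw [Subgroup.mem_centralizer_iff]
    intro w hw
    have h2 : ⁅w, s⁆ ∈ ⁅W, Subgroup.zpowers s⁆ :=
      Subgroup.commutator_mem_commutator hw (Subgroup.mem_zpowers s)
    rw [hr', Subgroup.mem_bot] at h2
    exact commutatorElement_eq_one_iff_mul_comm.mp h2
  -- Lemma A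
  have hA : ∀ x ∈ W, ∀ g : G, g⁻¹ * x * g ∈ Subgroup.centralizer (W : Set G) := by
    intro x hx g
    obtain ⟨y, hy⟩ : ∃ y, y = g⁻¹ * x * g := ⟨_, rfl⟩
    rw [← hy]
    have hyQ : y ∈ Cfsg.pCore p G := by
      have := hQn.conj_mem x (hWQ hx) g⁻¹
      rw [inv_inv] at this
      rw [hy]; exact this
    apply hB y (hQS hyQ)
    rw [Cfsg.Agent.S0623.quad_iff]
    have hz : ∀ k ∈ Subgroup.zpowers y, g * k * g⁻¹ ∈ W := by
      intro k hk
      obtain ⟨i, rfl⟩ := Subgroup.mem_zpowers_iff.mp hk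
      have e : g * y ^ i * g⁻¹ = x ^ i := by
        rw [← conj_zpow]
        congr 1
        rw [hy]; group
      rw [e]; exact W.zpow_mem hx i
    intro v hv k hk k' hk'
    have hkW := hz k hk
    have hk'W := hz k' hk'
    have hgvQ : g * v * g⁻¹ ∈ Cfsg.pCore p G := hQn.conj_mem v (hWQ hv) g
    have huW : g * ⁅v, k⁆ * g⁻¹ ∈ W := by
      have e2 : g * ⁅v, k⁆ * g⁻¹ =
          ((g * v * g⁻¹) * (g * k * g⁻¹) * (g * v * g⁻¹)⁻¹) * (g * k * g⁻¹)⁻¹ := by group
      rw [e2]
      exact W.mul_mem (hnormS _ (hQS hgvQ) _ hkW) (W.inv_mem hkW)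
    have h1 := hWcomm _ huW _ hk'W
    rw [commutatorElement_eq_one_iff_mul_comm]
    calc ⁅v, k⁆ * k' = g⁻¹ * ((g * ⁅v, k⁆ * g⁻¹) * (g * k' * g⁻¹)) * g := by group
      _ = g⁻¹ * ((g * k' * g⁻¹) * (g * ⁅v, k⁆ * g⁻¹)) * g := by rw [h1]
      _ = k' * ⁅v, k⁆ := by group
  -- the normal closure L of W
  obtain ⟨L, hL⟩ : ∃ L : Subgroup G, L = Subgroup.normalClosure (W : Set G) := ⟨_, rfl⟩
  have hLn : L.Normal := by rw [hL]; exact Subgroup.normalClosure_normal
  have hWL : W ≤ L := by rw [hL]; exact Subgroup.le_normalClosure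
  have hLea : Cfsg.IsElementaryAbelian p L := by
    rw [hL]
    show Cfsg.IsElementaryAbelian p (Subgroup.closure (Group.conjugatesOfSet (W : Set G)))
    apply Cfsg.H5.isElementaryAbelian_closure
    · intro x hx y hy
      obtain ⟨w, hw, hwx⟩ := Group.mem_conjugatesOfSet_iff.mp hx
      obtain ⟨w', hw', hwy⟩ := Group.mem_conjugatesOfSet_iff.mp hy
      obtain ⟨c, rfl⟩ := isConj_iff.mp hwx
      obtain ⟨d, rfl⟩ := isConj_iff.mp hwy
      have h1 := hA w hw (c⁻¹ * d)
      have h2 := (Subgroup.mem_centralizer_iff.mp h1) w' hw'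
      calc c * w * c⁻¹ * (d * w' * d⁻¹)
          = d * (((c⁻¹ * d)⁻¹ * w * (c⁻¹ * d)) * w') * d⁻¹ := by group
        _ = d * (w' * ((c⁻¹ * d)⁻¹ * w * (c⁻¹ * d))) * d⁻¹ := by rw [h2]
        _ = d * w' * d⁻¹ * (c * w * c⁻¹) := by group
    · intro x hx
      obtain ⟨w, hw, hwx⟩ := Group.mem_conjugatesOfSet_iff.mp hx
      obtain ⟨c, rfl⟩ := isConj_iff.mp hwx
      rw [conj_pow, hWea.2 w hw]
      group
  have hstL : Cfsg.IsPStableOn p L := hst1 L hLea
  -- Lemma C
  have hC1 : ∀ a : G, ⁅⁅L, Subgroup.zpowers a⁆, Subgroup.zpowers a⁆ = ⊥ →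
      a ∈ Subgroup.centralizer (W : Set G) := by
    intro a haq
    have hmk := hstL a haq
    have hn := Cfsg.H5.pCore_normal p (G ⧸ Subgroup.centralizer (L : Set G))
    have hD := (Cfsg.H5.pCore_isPGroup p (G ⧸ Subgroup.centralizer (L : Set G))).le_sylow_of_normal
      (S.mapSurjective (QuotientGroup.mk'_surjective (Subgroup.centralizer (L : Set G))))
    have hy2 := hD hmk
    rw [← SetLike.mem_coe, Sylow.coe_mapSurjective] at hy2
    obtain ⟨s, hs, hsx⟩ := hy2
    have hc' : s⁻¹ * a ∈ Subgroup.centralizer (L : Set G) := by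
      rw [← QuotientGroup.eq]; exact hsx
    have hsq := Cfsg.Agent.S0623.quad_of_mk_eq L haq hc'
    have hsW : ⁅⁅W, Subgroup.zpowers s⁆, Subgroup.zpowers s⁆ = ⊥ := by
      rw [eq_bot_iff, ← hsq]
      exact Subgroup.commutator_mono (Subgroup.commutator_mono hWL le_rfl) le_rfl
    have h1 := hB s hs hsW
    have h2 : s⁻¹ * a ∈ Subgroup.centralizer (W : Set G) :=
      Subgroup.centralizer_le (SetLike.coe_subset_coe.mpr hWL) hc'
    have e : a = s * (s⁻¹ * a) := by group
    rw [e]; exact Subgroup.mul_mem _ h1 h2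
  have hC : ∀ a : G, ⁅⁅L, Subgroup.zpowers a⁆, Subgroup.zpowers a⁆ = ⊥ →
      a ∈ Subgroup.centralizer (L : Set G) := by
    intro a haq
    have hLa : L ≤ Subgroup.centralizer ({a} : Set G) := by
      rw [hL]
      show Subgroup.closure (Group.conjugatesOfSet (W : Set G)) ≤ _
      rw [Subgroup.closure_le]
      intro x hx
      obtain ⟨w, hw, hwx⟩ := Group.mem_conjugatesOfSet_iff.mp hx
      obtain ⟨c, rfl⟩ := isConj_iff.mp hwx
      have hq' := Cfsg.Agent.S0624.quad_conj L haq c⁻¹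
      rw [inv_inv] at hq'
      have h1 := hC1 _ hq'
      have h2 := (Subgroup.mem_centralizer_iff.mp h1) w hw
      rw [SetLike.mem_coe, Subgroup.mem_centralizer_iff]
      intro b hb
      rw [Set.mem_singleton_iff] at hb
      rw [hb]
      calc a * (c * w * c⁻¹) = c * ((c⁻¹ * a * c) * w) * c⁻¹ := by group
        _ = c * (w * (c⁻¹ * a * c)) * c⁻¹ := by rw [h2]
        _ = c * w * c⁻¹ * a := by group
    rw [Subgroup.mem_centralizer_iff]
    intro l hl
    exact ((Subgroup.mem_centralizer_iff.mp (hLa hl)) a (Set.mem_singleton a)).symm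
  -- Steps 4, 5
  have hAL : ∀ A ∈ Cfsg.maxElementaryAbelianSubgroups p G,
      A ≤ Subgroup.centralizer (L : Set G) := by
    intro A hAm
    obtain ⟨h1, h2, h3⟩ := Cfsg.Agent.S0607.result L hLea A hAm
    have hbot : ⁅L, A⁆ = ⊥ := by
      by_contra hne
      apply h3 hne
      rw [eq_bot_iff, Subgroup.commutator_le]
      intro l hl a ha
      have haq : ⁅⁅L, Subgroup.zpowers a⁆, Subgroup.zpowers a⁆ = ⊥ := by
        rw [eq_bot_iff, ← h2]
        exact Subgroup.commutator_mono (Subgroup.commutator_mono le_rfl (Subgroup.zpowers_le.mpr ha))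
          (Subgroup.zpowers_le.mpr ha)
      have hac := hC a haq
      rw [Subgroup.mem_bot, commutatorElement_eq_one_iff_mul_comm]
      exact (Subgroup.mem_centralizer_iff.mp hac) l hl
    exact Subgroup.le_centralizer_iff.mp (Subgroup.commutator_eq_bot_iff_le_centralizer.mp hbot)
  -- Step 6
  obtain ⟨A₀, hA₀, hA₀S⟩ := Cfsg.H5.exists_max_le_sylow S
  have hJ := Cfsg.H5.thompsonSubgroupOf_eq_sSup hA₀ hA₀S
  have hconj : ∀ a ∈ Subgroup.normalizer ((((S : Subgroup G) ⊓ Subgroup.centralizer (L : Set G) :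
      Subgroup G)) : Set G),
      (Cfsg.thompsonSubgroupOf p (S : Subgroup G)).map (MulAut.conj a).toMonoidHom ≤
        Cfsg.thompsonSubgroupOf p (S : Subgroup G) := by
    intro a ha
    rw [Subgroup.map_le_iff_le_comap]
    conv_lhs => rw [hJ]
    apply sSup_le
    rintro A ⟨hAm, hAS⟩
    rw [← Subgroup.map_le_iff_le_comap, hJ]
    apply le_sSup
    refine ⟨Cfsg.H5.map_equiv_mem_maxElementaryAbelianSubgroups (MulAut.conj a) hAm, ?_⟩
    have hASC : A ≤ (S : Subgroup G) ⊓ Subgroup.centralizer (L : Set G) :=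
      le_inf hAS (hAL A hAm)
    rintro _ ⟨x, hx, rfl⟩
    have h5 := (Subgroup.mem_normalizer_iff.mp ha x).mp (hASC hx)
    exact h5.1
  have hNJ : Subgroup.normalizer ((((S : Subgroup G) ⊓ Subgroup.centralizer (L : Set G) :
      Subgroup G)) : Set G) ≤
      Subgroup.normalizer (Cfsg.thompsonSubgroupOf p (S : Subgroup G) : Set G) := by
    intro a ha
    rw [Subgroup.mem_normalizer_iff]
    intro h
    constructor
    · intro hh
      exact hconj a ha (Subgroup.mem_map_of_mem _ hh)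
    · intro hh
      have h5 : (MulAut.conj a⁻¹).toMonoidHom (a * h * a⁻¹) ∈
          Cfsg.thompsonSubgroupOf p (S : Subgroup G) :=
        hconj a⁻¹ (Subgroup.inv_mem _ ha) (Subgroup.mem_map_of_mem _ hh)
      have e : (MulAut.conj a⁻¹).toMonoidHom (a * h * a⁻¹) = h := by
        show a⁻¹ * (a * h * a⁻¹) * a⁻¹⁻¹ = h
        group
      rwa [e] at h5
  -- conclusion
  constructor
  intro w hw g
  obtain ⟨a, ha, c, hcC, rfl⟩ :=
    Cfsg.Agent.Lib.Helper16.frattini_inf_normal S (Subgroup.centralizer (L : Set G)) g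
  have haN : a ∈ Subgroup.normalizer (W : Set G) := hNW (hNJ ha)
  have hcw : c * w * c⁻¹ = w := by
    have h7 := (Subgroup.mem_centralizer_iff.mp hcC) w (hWL hw)
    rw [← h7]; group
  have e : a * c * w * (a * c)⁻¹ = a * (c * w * c⁻¹) * a⁻¹ := by group
  rw [e, hcw]
  exact (Subgroup.mem_normalizer_iff.mp haN w).mp hw

end Cfsg.Agent.Lib.Helper20.StableW
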