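import Mathlib
import Cfsg.Agent.S2117

/-!
# Rank-one Steinberg relations (helper20)

Abstract consequences of the relations `x(t)x(u) = x(t+u)`, `y(t)y(u) = y(t+u)`,
`w(t) x(u) w(t)⁻¹ = y(-t⁻²u)`, `w'(t) y(u) w'(t)⁻¹ = x(-t⁻²u)` in an arbitrary group:
Weyl-element calculus, the torus elements `hh t`, Bruhat decomposition.
-/

set_option autoImplicit false
set_option linter.style.haveILetI false

namespace Cfsg.Agent.Lib.Helper20.Stein

open Matrix Cfsg.Agent.Lib.Helper3.SL2
open scoped commutatorElement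

variable {K : Type*} [Field K] {D : Type*} [Group D]

/-- the Weyl-type word `g b t * g (!b) (-t⁻¹) * g b t` -/
def W (g : Bool → K → D) (b : Bool) (t : K) : D := g b t * g (!b) (-t⁻¹) * g b t

/-- the rank-one Steinberg relations -/
structure IsStein (g : Bool → K → D) : Prop where
  add : ∀ b t u, g b t * g b u = g b (t + u)
  conj : ∀ b t u, t ≠ 0 → W g b t * g b u * (W g b t)⁻¹ = g (!b) (-(t⁻¹ ^ 2 * u))

/-- torus elements -/
def hh (g : Bool → K → D) (t : K) : D := W g true t * (W g true 1)⁻¹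

theorem conj_self_word {w a c : D} (h : w = a * c * a) :
    w = (w * a * w⁻¹) * (w * c * w⁻¹) * (w * a * w⁻¹) := by
  calc w = w * (a * c * a) * w⁻¹ := by rw [← h]; group
    _ = _ := by group

namespace IsStein

variable {g : Bool → K → D} (S : IsStein g)
include S

theorem zero (b : Bool) : g b 0 = 1 := by
  have h := S.add b 0 0
  rw [add_zero] at h
  exact mul_left_cancel (a := g b 0) (by rw [h, mul_one])

theorem inv (b : Bool) (t : K) : (g b t)⁻¹ = g b (-t) := by
  apply inv_eq_of_mul_eq_one_right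
  rw [S.add, add_neg_cancel, S.zero]

theorem W_inv (b : Bool) (t : K) : (W g b t)⁻¹ = W g b (-t) := by
  unfold W
  rw [_root_.mul_inv_rev, _root_.mul_inv_rev, S.inv, S.inv, inv_neg, mul_assoc]

theorem conj' (b : Bool) (t u : K) (ht : t ≠ 0) :
    W g b t * g (!b) u * (W g b t)⁻¹ = g b (-(t ^ 2 * u)) := by
  have h := S.conj b (-t) (-(t ^ 2 * u)) (neg_ne_zero.mpr ht)
  rw [← S.W_inv b t] at h
  have e : -((-t)⁻¹ ^ 2 * -(t ^ 2 * u)) = u := by field_simp
  rw [e, inv_inv] at h
  rw [← h]; group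

theorem W_swap (b : Bool) (t : K) (ht : t ≠ 0) : W g b t = W g (!b) (-t⁻¹) := by
  have e := conj_self_word (w := W g b t) (a := g b t) (c := g (!b) (-t⁻¹)) rfl
  rw [S.conj b t t ht, S.conj' b t (-t⁻¹) ht] at e
  have e1 : -(t⁻¹ ^ 2 * t) = -t⁻¹ := by field_simp
  have e2 : -(t ^ 2 * -t⁻¹) = t := by field_simp
  have e3 : -(-t⁻¹)⁻¹ = t := by field_simp
  rw [e1, e2] at e
  rw [e]
  unfold W
  rw [Bool.not_not, e3]

theorem cx (t u : K) (ht : t ≠ 0) :
    W g true t * g true u * (W g true t)⁻¹ = g false (-(t⁻¹ ^ 2 * u)) := by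
  have h := S.conj true t u ht
  simpa only [Bool.not_true] using h

theorem cy (t u : K) (ht : t ≠ 0) :
    W g true t * g false u * (W g true t)⁻¹ = g true (-(t ^ 2 * u)) := by
  have h := S.conj' true t u ht
  simpa only [Bool.not_true] using h

theorem w1_conj_x (u : K) : W g true 1 * g true u * (W g true 1)⁻¹ = g false (-u) := by
  have h := S.cx 1 u one_ne_zero
  simpa using h

theorem w1_conj_y (u : K) : W g true 1 * g false u * (W g true 1)⁻¹ = g true (-u) := by
  have h := S.cy 1 u one_ne_zero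
  simpa using h

theorem w1_inv_conj_x (u : K) : (W g true 1)⁻¹ * g true u * W g true 1 = g false (-u) := by
  have h := S.cx (-1) u (by norm_num)
  rw [← S.W_inv true 1, inv_inv] at h
  simpa using h

theorem w1_inv_conj_y (u : K) : (W g true 1)⁻¹ * g false u * W g true 1 = g true (-u) := by
  have h := S.cy (-1) u (by norm_num)
  rw [← S.W_inv true 1, inv_inv] at h
  simpa using h

theorem hh_conj_x (t u : K) (ht : t ≠ 0) :
    hh g t * g true u * (hh g t)⁻¹ = g true (t ^ 2 * u) := by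
  unfold hh
  have e : W g true t * (W g true 1)⁻¹ * g true u * (W g true t * (W g true 1)⁻¹)⁻¹ =
      W g true t * ((W g true 1)⁻¹ * g true u * W g true 1) * (W g true t)⁻¹ := by group
  rw [e, S.w1_inv_conj_x, S.cy t (-u) ht]
  congr 1; ring

theorem hh_conj_y (t u : K) (ht : t ≠ 0) :
    hh g t * g false u * (hh g t)⁻¹ = g false (t⁻¹ ^ 2 * u) := by
  unfold hh
  have e : W g true t * (W g true 1)⁻¹ * g false u * (W g true t * (W g true 1)⁻¹)⁻¹ =
      W g true t * ((W g true 1)⁻¹ * g false u * W g true 1) * (W g true t)⁻¹ := by group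
  rw [e, S.w1_inv_conj_y, S.cx t (-u) ht]
  congr 1; ring

theorem w1_conj_w (t : K) (ht : t ≠ 0) :
    W g true 1 * W g true t * (W g true 1)⁻¹ = W g true t⁻¹ := by
  have e : W g true 1 * W g true t * (W g true 1)⁻¹ =
      (W g true 1 * g true t * (W g true 1)⁻¹) * (W g true 1 * g false (-t⁻¹) * (W g true 1)⁻¹) *
        (W g true 1 * g true t * (W g true 1)⁻¹) := by
    have : W g true t = g true t * g false (-t⁻¹) * g true t := rfl
    rw [this]; group
  rw [e, S.w1_conj_x, S.w1_conj_y, neg_neg]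
  have e3 : -(-t)⁻¹ = t⁻¹ := by rw [inv_neg, neg_neg]
  have h := S.W_swap false (-t) (neg_ne_zero.mpr ht)
  rw [e3] at h
  have h' : W g false (-t) = g false (-t) * g true t⁻¹ * g false (-t) := by
    show g false (-t) * g (!false) (-(-t)⁻¹) * g false (-t) = _
    rw [e3]; rfl
  rw [← h', h]; rfl

theorem w1_conj_hh (t : K) (ht : t ≠ 0) :
    W g true 1 * hh g t * (W g true 1)⁻¹ = hh g t⁻¹ := by
  unfold hh
  rw [← S.w1_conj_w t ht]; group

theorem w1_sq : W g true 1 * W g true 1 = (hh g (-1))⁻¹ := by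
  unfold hh
  rw [← S.W_inv true 1, _root_.mul_inv_rev, inv_inv]

theorem w1_inv_eq : (W g true 1)⁻¹ = hh g (-1) * W g true 1 := by
  unfold hh
  rw [← S.W_inv true 1]; group

omit S in
theorem hh_mul_w1 (t : K) : hh g t * W g true 1 = W g true t := by unfold hh; group

theorem y_eq (a : K) :
    g false (-a) = g true (-a⁻¹) * hh g a⁻¹ * W g true 1 * g true (-a⁻¹) := by
  rw [mul_assoc (g true (-a⁻¹)), hh_mul_w1]
  have : W g true a⁻¹ = g true a⁻¹ * g false (-a) * g true a⁻¹ := by
    show g true a⁻¹ * g (!true) (-(a⁻¹)⁻¹) * g true a⁻¹ = _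
    rw [inv_inv]; rfl
  rw [this, ← S.inv true a⁻¹]
  group

end IsStein

end Cfsg.Agent.Lib.Helper20.Stein
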