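import Mathlib
import Cfsg.Agent.Lib.Helper20.SteinSL2a

/-!
# Rank-one Steinberg relations: torus, Bruhat decomposition, central kernel (helper20)
-/

set_option autoImplicit false
set_option linter.style.haveILetI false

namespace Cfsg.Agent.Lib.Helper20.Stein

open Matrix Cfsg.Agent.Lib.Helper3.SL2
open scoped commutatorElement

variable {K : Type*} [Field K] {D : Type*} [Group D]

/-- the torus subgroup -/
def Hs (g : Bool → K → D) : Subgroup D := Subgroup.closure {d | ∃ t : K, t ≠ 0 ∧ d = hh g t}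

/-- elements acting on the root subgroups through a character, with diagonal image -/
def Pch (g : Bool → K → D) (φ : D →* Matrix.SpecialLinearGroup (Fin 2) K) (d : D) : Prop :=
  ∃ c : K, c ≠ 0 ∧ (∀ u, d * g true u * d⁻¹ = g true (c ^ 2 * u)) ∧
    (∀ u, d * g false u * d⁻¹ = g false (c⁻¹ ^ 2 * u)) ∧
    ((φ d : Matrix.SpecialLinearGroup (Fin 2) K) : Matrix (Fin 2) (Fin 2) K) = !![c, 0; 0, c⁻¹]

/-- the big set `UH ∪ UHwU` -/
def Big (g : Bool → K → D) : Set D :=
  {d | (∃ a : K, ∃ k ∈ Hs g, d = g true a * k) ∨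
    (∃ a b : K, ∃ k ∈ Hs g, d = g true a * k * W g true 1 * g true b)}

variable {g : Bool → K → D} {φ : D →* Matrix.SpecialLinearGroup (Fin 2) K}

theorem Pch_one : Pch g φ 1 :=
  ⟨1, one_ne_zero, by simp, by simp, by simp [Matrix.one_fin_two]⟩

theorem Pch_mul {d d' : D} (h : Pch g φ d) (h' : Pch g φ d') : Pch g φ (d * d') := by
  obtain ⟨c, hc, hx, hy, hm⟩ := h
  obtain ⟨c', hc', hx', hy', hm'⟩ := h'
  refine ⟨c * c', mul_ne_zero hc hc', ?_, ?_, ?_⟩
  · intro u
    have e : d * d' * g true u * (d * d')⁻¹ = d * (d' * g true u * d'⁻¹) * d⁻¹ := by group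
    rw [e, hx', hx]; congr 1; ring
  · intro u
    have e : d * d' * g false u * (d * d')⁻¹ = d * (d' * g false u * d'⁻¹) * d⁻¹ := by group
    rw [e, hy', hy]; congr 1; rw [mul_inv]; ring
  · rw [map_mul, Matrix.SpecialLinearGroup.coe_mul, hm, hm', Matrix.mul_fin_two]
    simp [mul_comm]

theorem Pch_inv {d : D} (h : Pch g φ d) : Pch g φ d⁻¹ := by
  obtain ⟨c, hc, hx, hy, hm⟩ := h
  refine ⟨c⁻¹, inv_ne_zero hc, ?_, ?_, ?_⟩
  · intro u
    have h1 := hx (c⁻¹ ^ 2 * u)
    have e : c ^ 2 * (c⁻¹ ^ 2 * u) = u := by field_simp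
    rw [e] at h1
    rw [← h1]; group
  · intro u
    have h1 := hy ((c⁻¹)⁻¹ ^ 2 * u)
    have e : c⁻¹ ^ 2 * ((c⁻¹)⁻¹ ^ 2 * u) = u := by field_simp
    rw [e] at h1
    rw [← h1]; group
  · rw [map_inv, Matrix.SpecialLinearGroup.coe_inv, hm, Matrix.adjugate_fin_two_of]
    simp

theorem phi_W (hφx : ∀ t, φ (g true t) = upper t) (hφy : ∀ t, φ (g false t) = lower t)
    (t : K) (ht : t ≠ 0) :
    ((φ (W g true t) : Matrix.SpecialLinearGroup (Fin 2) K) : Matrix (Fin 2) (Fin 2) K) =
      !![0, t; -t⁻¹, 0] := by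
  have h : W g true t = g true t * g false (-t⁻¹) * g true t := rfl
  rw [h, map_mul, map_mul, hφx, hφy]
  simp only [Matrix.SpecialLinearGroup.coe_mul]
  show (!![1, t; 0, 1] * !![1, 0; -t⁻¹, 1] * !![1, t; 0, 1] : Matrix (Fin 2) (Fin 2) K) = _
  rw [Matrix.mul_fin_two, Matrix.mul_fin_two]
  ext i j
  fin_cases i <;> fin_cases j <;> simp [ht]

theorem Pch_hh (S : IsStein g) (hφx : ∀ t, φ (g true t) = upper t)
    (hφy : ∀ t, φ (g false t) = lower t) (t : K) (ht : t ≠ 0) : Pch g φ (hh g t) := by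
  refine ⟨t, ht, fun u => S.hh_conj_x t u ht, fun u => S.hh_conj_y t u ht, ?_⟩
  unfold hh
  rw [map_mul, map_inv, Matrix.SpecialLinearGroup.coe_mul, Matrix.SpecialLinearGroup.coe_inv,
    phi_W hφx hφy t ht, phi_W hφx hφy 1 one_ne_zero, Matrix.adjugate_fin_two_of,
    Matrix.mul_fin_two]
  simp

theorem Pch_of_mem (S : IsStein g) (hφx : ∀ t, φ (g true t) = upper t)
    (hφy : ∀ t, φ (g false t) = lower t) {k : D} (hk : k ∈ Hs g) : Pch g φ k := by
  unfold Hs at hk
  exact Subgroup.closure_induction (p := fun d _ => Pch g φ d)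
    (fun x hx => by obtain ⟨t, ht, rfl⟩ := hx; exact Pch_hh S hφx hφy t ht) Pch_one
    (fun x y _ _ hx hy => Pch_mul hx hy) (fun x _ hx => Pch_inv hx) hk

theorem w1_conj_mem (S : IsStein g) {k : D} (hk : k ∈ Hs g) :
    W g true 1 * k * (W g true 1)⁻¹ ∈ Hs g := by
  have hle : Hs g ≤ (Hs g).comap ((MulAut.conj (W g true 1)).toMonoidHom) := by
    refine (Subgroup.closure_le ((Hs g).comap ((MulAut.conj (W g true 1)).toMonoidHom))).mpr ?_
    rintro d ⟨t, ht, rfl⟩
    show W g true 1 * hh g t * (W g true 1)⁻¹ ∈ Hs g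
    rw [S.w1_conj_hh t ht]
    exact Subgroup.subset_closure ⟨t⁻¹, inv_ne_zero ht, rfl⟩
  have h := hle hk
  simpa [MulAut.conj_apply] using h

theorem big_x (S : IsStein g) (c : K) {d : D} (hd : d ∈ Big g) : g true c * d ∈ Big g := by
  rcases hd with ⟨a, k, hk, rfl⟩ | ⟨a, b, k, hk, rfl⟩
  · left; exact ⟨c + a, k, hk, by rw [← S.add]; group⟩
  · right; exact ⟨c + a, b, k, hk, by rw [← S.add]; group⟩

theorem big_H (S : IsStein g) (hφx : ∀ t, φ (g true t) = upper t)
    (hφy : ∀ t, φ (g false t) = lower t) {k' : D} (hk' : k' ∈ Hs g) {d : D}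
    (hd : d ∈ Big g) : k' * d ∈ Big g := by
  obtain ⟨c, hc, hx, hy, hm⟩ := Pch_of_mem (φ := φ) S hφx hφy hk'
  rcases hd with ⟨a, k, hk, rfl⟩ | ⟨a, b, k, hk, rfl⟩
  · left
    refine ⟨c ^ 2 * a, k' * k, mul_mem hk' hk, ?_⟩
    rw [← hx a]; group
  · right
    refine ⟨c ^ 2 * a, b, k' * k, mul_mem hk' hk, ?_⟩
    rw [← hx a]; group

theorem aux0 (S : IsStein g) (hφx : ∀ t, φ (g true t) = upper t)
    (hφy : ∀ t, φ (g false t) = lower t) {k : D} (hk : k ∈ Hs g) (b : K) :
    ∃ e : K, ∃ k3 ∈ Hs g, W g true 1 * k * W g true 1 * g true b = g true e * k3 := by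
  have hk2 := w1_conj_mem S hk
  have hh1 : (hh g (-1))⁻¹ ∈ Hs g :=
    inv_mem (Subgroup.subset_closure ⟨-1, by norm_num, rfl⟩)
  have hk3m : W g true 1 * k * (W g true 1)⁻¹ * (hh g (-1))⁻¹ ∈ Hs g := mul_mem hk2 hh1
  obtain ⟨c, hc, hx, hy, hm⟩ := Pch_of_mem (φ := φ) S hφx hφy hk3m
  refine ⟨c ^ 2 * b, _, hk3m, ?_⟩
  rw [← hx b, ← S.w1_sq]; group

theorem big_w (S : IsStein g) (hφx : ∀ t, φ (g true t) = upper t)
    (hφy : ∀ t, φ (g false t) = lower t) {d : D} (hd : d ∈ Big g) :
    W g true 1 * d ∈ Big g := by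
  rcases hd with ⟨a, k, hk, rfl⟩ | ⟨a, b, k, hk, rfl⟩
  · obtain ⟨c, hc, hx, hy, hm⟩ := Pch_of_mem (φ := φ) S hφx hφy (inv_mem hk)
    right
    refine ⟨0, c ^ 2 * a, W g true 1 * k * (W g true 1)⁻¹, w1_conj_mem S hk, ?_⟩
    rw [S.zero, ← hx a]; group
  · obtain ⟨e, k3, hk3, he⟩ := aux0 (φ := φ) S hφx hφy hk b
    by_cases ha : a = 0
    · subst ha
      left
      refine ⟨e, k3, hk3, ?_⟩
      rw [S.zero, ← he]; group
    · obtain ⟨c, hc, hx, hy, hm⟩ := Pch_of_mem (φ := φ) S hφx hφy (inv_mem hk3)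
      right
      refine ⟨-a⁻¹, c ^ 2 * (-a⁻¹ + e), hh g a⁻¹ * (W g true 1 * k3 * (W g true 1)⁻¹),
        mul_mem (Subgroup.subset_closure ⟨a⁻¹, inv_ne_zero ha, rfl⟩) (w1_conj_mem S hk3), ?_⟩
      have e1 : W g true 1 * g true a = g false (-a) * W g true 1 := by
        rw [← S.w1_conj_x a]; group
      have e2 : W g true 1 * (g true a * k * W g true 1 * g true b) =
          g false (-a) * (W g true 1 * k * W g true 1 * g true b) := by
        calc W g true 1 * (g true a * k * W g true 1 * g true b)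
            = (W g true 1 * g true a) * (k * W g true 1 * g true b) := by group
          _ = _ := by rw [e1]; group
      rw [e2, he, S.y_eq a, ← hx (-a⁻¹ + e), ← S.add]
      group

theorem big_univ (S : IsStein g) (hφx : ∀ t, φ (g true t) = upper t)
    (hφy : ∀ t, φ (g false t) = lower t)
    (hgen : Subgroup.closure (Set.range fun p : Bool × K => g p.1 p.2) = ⊤) :
    ∀ d : D, d ∈ Big g := by
  let T : Subgroup D :=
    { carrier := {z | ∀ d ∈ Big g, z * d ∈ Big g ∧ z⁻¹ * d ∈ Big g}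
      mul_mem' := by
        intro z z' hz hz' d hd
        refine ⟨?_, ?_⟩
        · rw [mul_assoc]; exact (hz _ (hz' d hd).1).1
        · rw [_root_.mul_inv_rev, mul_assoc]; exact (hz' _ (hz d hd).2).2
      one_mem' := by intro d hd; simp [hd]
      inv_mem' := by intro z hz d hd; rw [inv_inv]; exact ⟨(hz d hd).2, (hz d hd).1⟩ }
  have hx : ∀ c, g true c ∈ T := by
    intro c d hd
    refine ⟨big_x S c hd, ?_⟩
    rw [S.inv]; exact big_x S (-c) hd
  have hw : W g true 1 ∈ T := by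
    intro d hd
    refine ⟨big_w (φ := φ) S hφx hφy hd, ?_⟩
    rw [S.w1_inv_eq, mul_assoc]
    exact big_H (φ := φ) S hφx hφy (Subgroup.subset_closure ⟨-1, by norm_num, rfl⟩)
      (big_w (φ := φ) S hφx hφy hd)
  have hy : ∀ c, g false c ∈ T := by
    intro c
    have : g false c = W g true 1 * g true (-c) * (W g true 1)⁻¹ := by
      rw [S.w1_conj_x, neg_neg]
    rw [this]
    exact T.mul_mem (T.mul_mem hw (hx _)) (T.inv_mem hw)
  have hT : T = ⊤ := by
    rw [eq_top_iff, ← hgen, Subgroup.closure_le]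
    rintro _ ⟨⟨b, c⟩, rfl⟩
    cases b
    · exact hy c
    · exact hx c
  intro d
  have hd : d ∈ T := hT ▸ Subgroup.mem_top d
  have h1 : (1 : D) ∈ Big g := Or.inl ⟨0, 1, one_mem _, by rw [S.zero, mul_one]⟩
  have h2 := (hd 1 h1).1
  rwa [mul_one] at h2

theorem ker_le (S : IsStein g) (hφx : ∀ t, φ (g true t) = upper t)
    (hφy : ∀ t, φ (g false t) = lower t)
    (hgen : Subgroup.closure (Set.range fun p : Bool × K => g p.1 p.2) = ⊤)
    {d : D} (hd : d ∈ φ.ker) : d ∈ Hs g ∧ d ∈ Subgroup.center D := by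
  have hφw : ((φ (W g true 1) : Matrix.SpecialLinearGroup (Fin 2) K) :
      Matrix (Fin 2) (Fin 2) K) = !![0, 1; -1, 0] := by
    simpa using phi_W hφx hφy 1 one_ne_zero
  have hd1 : φ d = 1 := MonoidHom.mem_ker.mp hd
  rcases big_univ S hφx hφy hgen d with ⟨a, k, hk, rfl⟩ | ⟨a, b, k, hk, rfl⟩
  · obtain ⟨c, hc, hx, hy, hm⟩ := Pch_of_mem (φ := φ) S hφx hφy hk
    have hmat : ((φ (g true a * k) : Matrix.SpecialLinearGroup (Fin 2) K) :
        Matrix (Fin 2) (Fin 2) K) = !![c, a * c⁻¹; 0, c⁻¹] := by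
      rw [map_mul, Matrix.SpecialLinearGroup.coe_mul, hφx, hm]
      show (!![1, a; 0, 1] * !![c, 0; 0, c⁻¹] : Matrix (Fin 2) (Fin 2) K) = _
      rw [Matrix.mul_fin_two]
      simp
    rw [hd1, Matrix.SpecialLinearGroup.coe_one, Matrix.one_fin_two] at hmat
    have h00 : (1 : K) = c := by simpa using congrFun (congrFun hmat 0) 0
    have h01 : (0 : K) = a * c⁻¹ := by simpa using congrFun (congrFun hmat 0) 1
    have hc1 : c = 1 := h00.symm
    subst hc1
    have ha : a = 0 := by simpa using h01.symm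
    subst ha
    rw [S.zero, one_mul]
    refine ⟨hk, ?_⟩
    have hcent : Subgroup.closure (Set.range fun p : Bool × K => g p.1 p.2) ≤
        Subgroup.centralizer {k} := by
      rw [Subgroup.closure_le]
      rintro _ ⟨⟨b, u⟩, rfl⟩
      rw [SetLike.mem_coe, Subgroup.mem_centralizer_iff]
      intro z hz
      rw [Set.mem_singleton_iff] at hz
      subst hz
      cases b
      · show z * g false u = g false u * z
        have h := hy u
        simp only [inv_one, one_pow, one_mul] at h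
        nth_rewrite 2 [← h]; group
      · show z * g true u = g true u * z
        have h := hx u
        simp only [one_pow, one_mul] at h
        nth_rewrite 2 [← h]; group
    rw [hgen] at hcent
    rw [Subgroup.mem_center_iff]
    intro z
    have hz := hcent (Subgroup.mem_top z)
    rw [Subgroup.mem_centralizer_iff] at hz
    exact (hz k rfl).symm
  · exfalso
    obtain ⟨c, hc, hx, hy, hm⟩ := Pch_of_mem (φ := φ) S hφx hφy hk
    have hmat : ((φ (g true a * k * W g true 1 * g true b) :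
        Matrix.SpecialLinearGroup (Fin 2) K) : Matrix (Fin 2) (Fin 2) K) 1 0 = -c⁻¹ := by
      rw [map_mul, map_mul, map_mul, Matrix.SpecialLinearGroup.coe_mul,
        Matrix.SpecialLinearGroup.coe_mul, Matrix.SpecialLinearGroup.coe_mul, hφx, hφx, hm, hφw]
      show (!![1, a; 0, 1] * !![c, 0; 0, c⁻¹] * !![0, 1; -1, 0] * !![1, b; 0, 1] :
        Matrix (Fin 2) (Fin 2) K) 1 0 = _
      simp [Matrix.mul_apply, Fin.sum_univ_two]
    rw [hd1] at hmat
    simp at hmat
    exact hc hmat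

theorem hh_mem_commutator (S : IsStein g) (t : K) (ht : t ≠ 0) : hh g t ∈ commutator D := by
  rw [← Abelianization.ker_of D, MonoidHom.mem_ker]
  have hconjα : ∀ w a : D, (Abelianization.of (w * a * w⁻¹) : Abelianization D) =
      Abelianization.of a := by
    intro w a; rw [map_mul, map_mul, map_inv, mul_comm, inv_mul_cancel_left]
  have hXadd : ∀ u v, (Abelianization.of (g true u) : Abelianization D) *
      Abelianization.of (g true v) = Abelianization.of (g true (u + v)) := by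
    intro u v; rw [← map_mul, S.add]
  have hXinv : ∀ u, (Abelianization.of (g true u) : Abelianization D)⁻¹ =
      Abelianization.of (g true (-u)) := by
    intro u; rw [← map_inv, S.inv]
  have hY : ∀ u, (Abelianization.of (g false (-u)) : Abelianization D) =
      Abelianization.of (g true u) := by
    intro u; rw [← S.w1_conj_x u, hconjα]
  have hW : ∀ s : K, (Abelianization.of (W g true s) : Abelianization D) =
      Abelianization.of (g true (s + s⁻¹ + s)) := by
    intro s
    have h : W g true s = g true s * g false (-s⁻¹) * g true s := rfl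
    rw [h, map_mul, map_mul, hY, hXadd, hXadd]
  have hkill : ∀ s : K, s ≠ 0 → ∀ u,
      (Abelianization.of (g true ((s ^ 2 - 1) * u)) : Abelianization D) = 1 := by
    intro s hs u
    have h1 := S.hh_conj_x s u hs
    have h2 := congrArg (Abelianization.of : D → Abelianization D) h1
    rw [hconjα] at h2
    have e : (s ^ 2 - 1) * u = s ^ 2 * u + (-u) := by ring
    rw [e, ← hXadd, ← h2, ← hXinv, mul_inv_cancel]
  have hval : (Abelianization.of (hh g t) : Abelianization D) =
      Abelianization.of (g true (t + t⁻¹ + t + -(1 + 1⁻¹ + 1))) := by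
    unfold hh
    rw [map_mul, map_inv, hW t, hW 1, hXinv, hXadd]
  rw [hval]
  by_cases hex : ∃ s : K, s ≠ 0 ∧ s ^ 2 ≠ 1
  · obtain ⟨s, hs, hs2⟩ := hex
    have hne : s ^ 2 - 1 ≠ 0 := sub_ne_zero.mpr hs2
    have h := hkill s hs ((t + t⁻¹ + t + -(1 + 1⁻¹ + 1)) / (s ^ 2 - 1))
    have e : (s ^ 2 - 1) * ((t + t⁻¹ + t + -(1 + 1⁻¹ + 1)) / (s ^ 2 - 1)) =
        t + t⁻¹ + t + -(1 + 1⁻¹ + 1) := by field_simp
    rwa [e] at h
  · push Not at hex
    have ht2 : t ^ 2 = 1 := hex t ht
    have hti : t⁻¹ = t := inv_eq_of_mul_eq_one_right (by rw [← pow_two]; exact ht2)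
    have h6 : (6 : K) = 0 := by
      by_cases h2 : (2 : K) = 0
      · linear_combination (3 : K) * h2
      · have h4 := hex 2 h2
        linear_combination (2 : K) * h4
    have hzero : t + t⁻¹ + t + -(1 + 1⁻¹ + 1) = 0 := by
      rw [hti, inv_one]
      have hcases : (t - 1) * (t + 1) = 0 := by linear_combination ht2
      rcases mul_eq_zero.mp hcases with h | h
      · have : t = 1 := sub_eq_zero.mp h
        rw [this]; ring
      · have : t = -1 := eq_neg_of_add_eq_zero_left h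
        rw [this]; linear_combination (-1 : K) * h6
    rw [hzero, S.zero, map_one]

theorem Hs_le_commutator (S : IsStein g) : Hs g ≤ commutator D := by
  unfold Hs
  rw [Subgroup.closure_le]
  rintro d ⟨t, ht, rfl⟩
  exact hh_mem_commutator S t ht

theorem finite_commutatorSet_of_center {G : Type*} [Group G]
    [(Subgroup.center G).FiniteIndex] : Finite (commutatorSet G) := by
  haveI : Finite (G ⧸ Subgroup.center G) := Subgroup.finite_quotient_of_finiteIndex
  let f : (G ⧸ Subgroup.center G) × (G ⧸ Subgroup.center G) → G :=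
    fun p => ⁅p.1.out, p.2.out⁆
  have hsub : commutatorSet G ⊆ Set.range f := by
    rintro _ ⟨a, b, rfl⟩
    refine ⟨(QuotientGroup.mk a, QuotientGroup.mk b), ?_⟩
    obtain ⟨z, hz⟩ := QuotientGroup.mk_out_eq_mul (Subgroup.center G) a
    obtain ⟨z', hz'⟩ := QuotientGroup.mk_out_eq_mul (Subgroup.center G) b
    show ⁅(QuotientGroup.mk a : G ⧸ Subgroup.center G).out,
      (QuotientGroup.mk b : G ⧸ Subgroup.center G).out⁆ = ⁅a, b⁆
    rw [hz, hz', Cfsg.Agent.S2117.comm_mul_central_left z.2,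
      Cfsg.Agent.S2117.comm_mul_central_right z'.2]
  exact (Set.Finite.subset (Set.finite_range f) hsub).to_subtype

theorem finite_of_stein [Finite K] (S : IsStein g) (hφx : ∀ t, φ (g true t) = upper t)
    (hφy : ∀ t, φ (g false t) = lower t)
    (hgen : Subgroup.closure (Set.range fun p : Bool × K => g p.1 p.2) = ⊤) : Finite D := by
  classical
  have hker_le : φ.ker ≤ Subgroup.center D := fun d hd => (ker_le S hφx hφy hgen hd).2
  haveI : Fintype K := Fintype.ofFinite K
  haveI : Finite (Matrix.SpecialLinearGroup (Fin 2) K) := inferInstance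
  haveI : φ.ker.FiniteIndex := by
    constructor
    rw [Subgroup.index_ker]
    exact Nat.card_pos.ne'
  haveI : (Subgroup.center D).FiniteIndex := Subgroup.finiteIndex_of_le hker_le
  haveI : Finite (commutatorSet D) := finite_commutatorSet_of_center
  haveI : Finite (commutator D) := inferInstance
  have hHle : Hs g ≤ commutator D := Hs_le_commutator S
  haveI : Finite (Hs g) :=
    Finite.of_injective (Subgroup.inclusion hHle) (Subgroup.inclusion_injective hHle)
  let f : (K × Hs g) ⊕ (K × Hs g × K) → D := fun s =>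
    match s with
    | Sum.inl p => g true p.1 * (p.2 : D)
    | Sum.inr p => g true p.1 * (p.2.1 : D) * W g true 1 * g true p.2.2
  apply Finite.of_surjective f
  intro d
  rcases big_univ S hφx hφy hgen d with ⟨a, k, hk, rfl⟩ | ⟨a, b, k, hk, rfl⟩
  · exact ⟨Sum.inl (a, ⟨k, hk⟩), rfl⟩
  · exact ⟨Sum.inr (a, ⟨k, hk⟩, b), rfl⟩

end Cfsg.Agent.Lib.Helper20.Stein
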