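import Mathlib
import Cfsg.Agent.Lib.Helper20.SteinSL2b

/-!
# Rank-one Steinberg relations over a finite field present `SL₂` (helper20)
-/

set_option autoImplicit false
set_option linter.style.haveILetI false

namespace Cfsg.Agent.Lib.Helper20.Stein

open Matrix Cfsg Cfsg.Agent.Lib.Helper21 Cfsg.Agent.Lib.Helper3.SL2 Cfsg.Agent.S2117
open scoped commutatorElement

/-- a finite stem extension of `SL₂(F)` in which the preimage of the upper unitriangular group
is abelian is an isomorphism -/
theorem ker_eq_bot_of_unip_comm {F : Type*} [Field F] [Fintype F] {Γ : Type*} [Group Γ]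
    [Finite Γ] (σ : Γ →* Matrix.SpecialLinearGroup (Fin 2) F) (hσ : IsStemExtension σ)
    (hUc : ∀ x y : Γ, σ x ∈ (U : Subgroup (Matrix.SpecialLinearGroup (Fin 2) F)) →
      σ y ∈ (U : Subgroup (Matrix.SpecialLinearGroup (Fin 2) F)) → x * y = y * x) :
    σ.ker = ⊥ := by
  classical
  by_contra hne
  have hcard : Nat.card σ.ker ≠ 1 := fun h => hne (Subgroup.card_eq_one.mp h)
  obtain ⟨r, hr, hrdvd⟩ := Nat.exists_prime_and_dvd hcard
  haveI : Fact r.Prime := ⟨hr⟩
  obtain ⟨p, hcharp⟩ := CharP.exists F
  haveI := hcharp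
  haveI hpf : Fact p.Prime := ⟨CharP.char_is_prime F p⟩
  obtain ⟨hsurj, hcen, hcomm⟩ := hσ
  by_cases hrp : r = p
  · subst hrp
    obtain ⟨z, hz⟩ := exists_prime_orderOf_dvd_card' r hrdvd
    have hzo : orderOf (z : Γ) = r := by rw [Subgroup.orderOf_coe]; exact hz
    set V : Subgroup Γ := (U : Subgroup (Matrix.SpecialLinearGroup (Fin 2) F)).comap σ with hV
    have hVcomm : ∀ a b : V, a * b = b * a := by
      intro a b
      apply Subtype.ext
      simp only [Subgroup.coe_mul]
      exact hUc a b a.2 b.2
    have hbot : commutator V = ⊥ := by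
      rw [commutator_def, Subgroup.commutator_eq_bot_iff_le_centralizer]
      intro a _
      rw [Subgroup.mem_centralizer_iff]
      intro b _
      exact hVcomm b a
    obtain ⟨h, hmem⟩ := Cfsg.Agent.Lib.Helper12.Schur.pow_index_mem_commutator V
      (hcen z.2) (hcomm z.2)
    rw [hbot, Subgroup.mem_bot] at hmem
    have h1 : (z : Γ) ^ V.index = 1 := by
      have := congrArg Subtype.val hmem
      simpa using this
    have hd : r ∣ V.index := by
      have h3 := orderOf_dvd_of_pow_eq_one h1
      rwa [hzo] at h3
    have hidx : V.index = (U : Subgroup (Matrix.SpecialLinearGroup (Fin 2) F)).index :=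
      Subgroup.index_comap_of_surjective _ hsurj
    have hmul := Subgroup.index_mul_card (U : Subgroup (Matrix.SpecialLinearGroup (Fin 2) F))
    rw [card_U, Cfsg.Agent.Lib.Helper3.CardSL.card_SL2, Nat.card_eq_fintype_card] at hmul
    have hqpos : 0 < Fintype.card F := Fintype.card_pos
    have hidx2 : (U : Subgroup (Matrix.SpecialLinearGroup (Fin 2) F)).index =
        Fintype.card F ^ 2 - 1 := by
      apply Nat.eq_of_mul_eq_mul_right hqpos
      rw [hmul, mul_comm]
    have hpq : r ∣ Fintype.card F := by
      rw [← CharP.cast_eq_zero_iff F r]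
      exact Nat.cast_card_eq_zero F
    rw [hidx, hidx2] at hd
    have hq1 : 1 ≤ Fintype.card F ^ 2 := Nat.one_le_pow _ _ hqpos
    have hpq2 : r ∣ Fintype.card F ^ 2 := dvd_pow hpq (by norm_num)
    have hp1 : r ∣ 1 := by
      have := (Nat.dvd_sub hpq2 hd)
      have e : Fintype.card F ^ 2 - (Fintype.card F ^ 2 - 1) = 1 := by omega
      rwa [e] at this
    exact hr.one_lt.ne' (Nat.dvd_one.mp hp1)
  · have hσ : IsStemExtension σ := ⟨hsurj, hcen, hcomm⟩
    refine not_dvd_of_sylow_trivial σ r ?_ hrdvd
    intro R a haR haker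
    have hT : ((R.mapSurjective hsurj : Sylow r (Matrix.SpecialLinearGroup (Fin 2) F)) :
        Subgroup (Matrix.SpecialLinearGroup (Fin 2) F)) = (R : Subgroup Γ).map σ :=
      Sylow.coe_mapSurjective hsurj R
    by_cases hr2 : r = 2
    · have hodd : Odd (Fintype.card F) := by
        obtain ⟨n, hp, hn⟩ := FiniteField.card F p
        rw [hn]
        apply Odd.pow
        rcases hp.eq_two_or_odd' with h | h
        · exact absurd (hr2.trans h.symm) hrp
        · exact h
      subst hr2
      obtain ⟨k, hk, ⟨e₀⟩⟩ := Cfsg.Agent.S0261.result hodd (R.mapSurjective hsurj)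
      obtain ⟨τ, hτ, hτker⟩ := sylow_stem σ hσ 2 R
        ((MulEquiv.subgroupCongr hT.symm).trans e₀)
      have hbot := ker_eq_bot_of_quaternion (2 ^ k) τ hτ
      have hmem : (⟨a, haR⟩ : (R : Subgroup Γ)) ∈ τ.ker := (hτker _).mpr haker
      rw [hbot, Subgroup.mem_bot] at hmem
      exact congrArg Subtype.val hmem
    · have hcyc : IsCyclic ((R : Subgroup Γ).map σ) := by
        rw [← hT]
        exact Cfsg.Agent.S0262.result p r hr2 hrp (R.mapSurjective hsurj)
      obtain ⟨τ, hτ, hτker⟩ := sylow_stem σ hσ r R (MulEquiv.refl _)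
      have hbot := ker_eq_bot_of_cyclic τ hτ
      have hmem : (⟨a, haR⟩ : (R : Subgroup Γ)) ∈ τ.ker := (hτker _).mpr haker
      rw [hbot, Subgroup.mem_bot] at hmem
      exact congrArg Subtype.val hmem

variable {K : Type*} [Field K] {D : Type*} [Group D]
variable {g : Bool → K → D} {φ : D →* Matrix.SpecialLinearGroup (Fin 2) K}

/-- over a finite field, any group generated by elements satisfying the rank-one Steinberg
relations and mapping compatibly to `SL₂(K)` is isomorphic to `SL₂(K)` -/
theorem bijective_of_stein [Finite K] (S : IsStein g) (hφx : ∀ t, φ (g true t) = upper t)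
    (hφy : ∀ t, φ (g false t) = lower t)
    (hgen : Subgroup.closure (Set.range fun p : Bool × K => g p.1 p.2) = ⊤) :
    Function.Bijective φ := by
  classical
  haveI : Fintype K := Fintype.ofFinite K
  haveI : Finite D := finite_of_stein S hφx hφy hgen
  have hsurj : Function.Surjective φ := by
    intro A
    have hA : A ∈ φ.range := by
      refine Cfsg.Agent.S0249.transvection_induction (fun A => A ∈ φ.range)
        (fun i j hij c => ?_) (fun _ _ => Subgroup.mul_mem _) A
      fin_cases i <;> fin_cases j
      · exact absurd rfl hij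
      · rw [transvection_01]; exact ⟨g true c, hφx c⟩
      · rw [transvection_10]; exact ⟨g false c, hφy c⟩
      · exact absurd rfl hij
    exact hA
  have hstem : IsStemExtension φ :=
    ⟨hsurj, fun d hd => (ker_le S hφx hφy hgen hd).2,
      fun d hd => Hs_le_commutator S (ker_le S hφx hφy hgen hd).1⟩
  have hUc : ∀ x y : D, φ x ∈ (U : Subgroup (Matrix.SpecialLinearGroup (Fin 2) K)) →
      φ y ∈ (U : Subgroup (Matrix.SpecialLinearGroup (Fin 2) K)) → x * y = y * x := by
    intro x y hx hy
    obtain ⟨a, ha⟩ := (mem_U_iff _).mp hx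
    obtain ⟨b, hb⟩ := (mem_U_iff _).mp hy
    have hz : (g true a)⁻¹ * x ∈ Subgroup.center D := by
      apply hstem.2.1
      rw [MonoidHom.mem_ker, map_mul, map_inv, hφx, ha, inv_mul_cancel]
    have hz' : (g true b)⁻¹ * y ∈ Subgroup.center D := by
      apply hstem.2.1
      rw [MonoidHom.mem_ker, map_mul, map_inv, hφx, hb, inv_mul_cancel]
    have hzc := Subgroup.mem_center_iff.mp hz
    have hzc' := Subgroup.mem_center_iff.mp hz'
    have hx' : x = g true a * ((g true a)⁻¹ * x) := by group
    have hy' : y = g true b * ((g true b)⁻¹ * y) := by group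
    set z := (g true a)⁻¹ * x
    set z' := (g true b)⁻¹ * y
    rw [hx', hy']
    calc g true a * z * (g true b * z') = g true a * (z * g true b) * z' := by group
      _ = g true a * (g true b * z) * z' := by rw [← hzc (g true b)]
      _ = (g true a * g true b) * (z * z') := by group
      _ = (g true b * g true a) * (z' * z) := by
          rw [S.add, S.add, add_comm, hzc z']
      _ = g true b * (g true a * z') * z := by group
      _ = g true b * (z' * g true a) * z := by rw [hzc' (g true a)]
      _ = g true b * z' * (g true a * z) := by group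
  have hker := ker_eq_bot_of_unip_comm φ hstem hUc
  exact ⟨(MonoidHom.ker_eq_bot_iff φ).mp hker, hsurj⟩

end Cfsg.Agent.Lib.Helper20.Stein
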