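import Mathlib
import Cfsg.Agent.S2117
import Cfsg.Agent.Lib.Helper12.SchurMore
import Cfsg.Agent.Lib.Helper21.StemExt

/-!
General tools on finite stem extensions: transfer into an abelian preimage, commuting lifts,
the kernel over a group of order dividing four, and the bound two over a group whose order
divides sixty.
-/

set_option autoImplicit false
set_option linter.style.haveILetI false

namespace Cfsg.Agent.Lib.Helper20.StemTools

open Cfsg Cfsg.Agent.Lib.Helper21
open Cfsg.Agent.S2117 (comm_congr comm_conj comm_mul_left' comm_mul_right' sylow_stem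
  not_dvd_of_sylow_trivial ker_eq_bot_of_cyclic)
open scoped commutatorElement

theorem isPGroup_zpowers' {G : Type*} [Group G] (p k : ℕ) (x : G) (hx : x ^ p ^ k = 1) :
    IsPGroup p (Subgroup.zpowers x) := by
  rintro ⟨g, hg⟩
  obtain ⟨m, rfl⟩ := Subgroup.mem_zpowers_iff.mp hg
  refine ⟨k, Subtype.ext ?_⟩
  rw [Subgroup.coe_pow, Subgroup.coe_one]
  show (x ^ m) ^ p ^ k = 1
  rw [← zpow_natCast, ← zpow_mul, mul_comm, zpow_mul, zpow_natCast, hx, one_zpow]

theorem mem_normalizer_zpowers' {G : Type*} [Group G] {a b : G}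
    (h1 : b * a * b⁻¹ ∈ Subgroup.zpowers a) (h2 : b⁻¹ * a * b ∈ Subgroup.zpowers a) :
    b ∈ Subgroup.normalizer (Subgroup.zpowers a : Set G) := by
  rw [Subgroup.mem_normalizer_iff]
  intro h
  constructor
  · intro hh
    obtain ⟨m, rfl⟩ := Subgroup.mem_zpowers_iff.mp hh
    rw [← conj_zpow]
    exact Subgroup.zpow_mem _ h1 m
  · intro hh
    obtain ⟨m, hm⟩ := Subgroup.mem_zpowers_iff.mp hh
    have e : h = (b⁻¹ * a * b) ^ m := by
      have e1 : b⁻¹ * a * b = b⁻¹ * a * b⁻¹⁻¹ := by rw [inv_inv]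
      rw [e1, conj_zpow, hm]
      group
    rw [e]
    exact Subgroup.zpow_mem _ h2 m

/-- lifts of a commuting pair, one of order three, fixed resp. inverted by a third element,
commute in any central extension -/
theorem lifts_commute' {Γ G : Type*} [Group Γ] [Group G] (σ : Γ →* G)
    (hsurj : Function.Surjective σ) (hcen : σ.ker ≤ Subgroup.center Γ) {x y n : G}
    (hx3 : x ^ 3 = 1) (hxy : x * y = y * x) (hnx : n * x * n⁻¹ = x) (hny : n * y * n⁻¹ = y⁻¹)
    {u v : Γ} (hu : σ u = x) (hv : σ v = y) : u * v = v * u := by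
  obtain ⟨m, hm⟩ := hsurj n
  have hker : ∀ u' v' : Γ, σ u' * σ v' = σ v' * σ u' → ⁅u', v'⁆ ∈ Subgroup.center Γ := by
    intro u' v' h
    apply hcen
    rw [MonoidHom.mem_ker, map_commutatorElement, commutatorElement_eq_one_iff_mul_comm]
    exact h
  have hcc : ⁅u, v⁆ ∈ Subgroup.center Γ := hker u v (by rw [hu, hv, hxy])
  have hu3 : u * (u * u) ∈ Subgroup.center Γ := by
    apply hcen
    rw [MonoidHom.mem_ker, map_mul, map_mul, hu]
    calc x * (x * x) = x ^ 3 := by rw [pow_succ, pow_two, mul_assoc]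
      _ = 1 := hx3
  have h3 : ⁅u, v⁆ * (⁅u, v⁆ * ⁅u, v⁆) = 1 := by
    have e1 : ⁅u * u, v⁆ = ⁅u, v⁆ * ⁅u, v⁆ := comm_mul_left' hcc
    have e2 : ⁅u * (u * u), v⁆ = ⁅u, v⁆ * ⁅u * u, v⁆ :=
      comm_mul_left' (by rw [e1]; exact Subgroup.mul_mem _ hcc hcc)
    rw [e1] at e2
    rw [← e2, commutatorElement_eq_one_iff_mul_comm]
    exact (Subgroup.mem_center_iff.mp hu3 v).symm
  have hinv : ⁅u, v⁻¹⁆ = ⁅u, v⁆⁻¹ := by
    have hxy' : x * y⁻¹ = y⁻¹ * x := (Commute.inv_right (show Commute x y from hxy)).eq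
    have hc' : ⁅u, v⁻¹⁆ ∈ Subgroup.center Γ := hker u v⁻¹ (by rw [map_inv, hu, hv, hxy'])
    have e : ⁅u, v * v⁻¹⁆ = ⁅u, v⁆ * ⁅u, v⁻¹⁆ := comm_mul_right' hc'
    rw [mul_inv_cancel, commutatorElement_one_right] at e
    exact eq_inv_of_mul_eq_one_right e.symm
  have hconj : ⁅m * u * m⁻¹, m * v * m⁻¹⁆ = ⁅u, v⁆ := comm_conj hcc
  have hcongr : ⁅m * u * m⁻¹, m * v * m⁻¹⁆ = ⁅u, v⁻¹⁆ := by
    apply comm_congr σ hcen
    · rw [map_mul, map_mul, map_inv, hm, hu, hnx]
    · rw [map_mul, map_mul, map_inv, map_inv, hm, hv, hny]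
  have h2 : ⁅u, v⁆ * ⁅u, v⁆ = 1 := by
    have e : ⁅u, v⁆ = ⁅u, v⁆⁻¹ := by rw [← hinv, ← hcongr, hconj]
    calc ⁅u, v⁆ * ⁅u, v⁆ = ⁅u, v⁆ * ⁅u, v⁆⁻¹ := by rw [← e]
      _ = 1 := mul_inv_cancel _
  have h1 : ⁅u, v⁆ = 1 := by
    rw [h2, mul_one] at h3
    exact h3
  exact commutatorElement_eq_one_iff_mul_comm.mp h1

/-- transfer: if the preimage of a subgroup of index prime to `p` is abelian, `p` does not divide
the order of the kernel of a stem extension -/
theorem not_dvd_of_abelian_comap' {Γ G : Type*} [Group Γ] [Finite Γ] [Group G] (σ : Γ →* G)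
    (hσ : IsStemExtension σ) (p : ℕ) [Fact p.Prime] (P : Subgroup G) (hidx : ¬ p ∣ P.index)
    (hab : ∀ u v : Γ, σ u ∈ P → σ v ∈ P → u * v = v * u) : ¬ p ∣ Nat.card σ.ker := by
  intro hdvd
  obtain ⟨hsurj, hcen, hcomm⟩ := hσ
  obtain ⟨z, hz⟩ := exists_prime_orderOf_dvd_card' p hdvd
  have hzo : orderOf (z : Γ) = p := by rw [Subgroup.orderOf_coe]; exact hz
  set V : Subgroup Γ := P.comap σ with hV
  have hVcomm : ∀ a b : V, a * b = b * a := by
    intro a b
    apply Subtype.ext
    simp only [Subgroup.coe_mul]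
    exact hab a b a.2 b.2
  have hbot : commutator V = ⊥ := by
    rw [commutator_def, Subgroup.commutator_eq_bot_iff_le_centralizer]
    intro a _
    rw [Subgroup.mem_centralizer_iff]
    intro b _
    exact hVcomm b a
  obtain ⟨h, hmem⟩ := Cfsg.Agent.Lib.Helper12.Schur.pow_index_mem_commutator V
    (hcen z.2) (hcomm z.2)
  rw [hbot, Subgroup.mem_bot] at hmem
  have h1 : (z : Γ) ^ V.index = 1 := by
    have := congrArg Subtype.val hmem
    simpa using this
  have hd : p ∣ V.index := by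
    have h3 := orderOf_dvd_of_pow_eq_one h1
    rwa [hzo] at h3
  have hidx' : V.index = P.index := Subgroup.index_comap_of_surjective _ hsurj
  rw [hidx'] at hd
  exact hidx hd

theorem three_index' {G : Type*} [Group G] [Finite G] (x y : G) (hx3 : x ^ 3 = 1)
    (hy3 : y ^ 3 = 1) (hxy : x * y = y * x) (hx1 : x ≠ 1) (hyx : y ∉ Subgroup.zpowers x)
    (h27 : ¬ 27 ∣ Nat.card G) : ¬ 3 ∣ (Subgroup.closure ({x, y} : Set G)).index := by
  set P := Subgroup.closure ({x, y} : Set G) with hP
  have hPeq : P = Subgroup.zpowers y ⊔ Subgroup.zpowers x := by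
    rw [hP, Subgroup.zpowers_eq_closure, Subgroup.zpowers_eq_closure, ← Subgroup.closure_union]
    congr 1
    ext w
    simp [or_comm]
  have hpg : IsPGroup 3 P := by
    rw [hPeq]
    apply IsPGroup.to_sup_of_normal_right'
      (isPGroup_zpowers' 3 1 y (by rw [pow_one]; exact hy3))
      (isPGroup_zpowers' 3 1 x (by rw [pow_one]; exact hx3))
    rw [Subgroup.zpowers_le]
    apply mem_normalizer_zpowers'
    · have e : y * x * y⁻¹ = x := by rw [← hxy, mul_inv_cancel_right]
      rw [e]; exact Subgroup.mem_zpowers x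
    · have e : y⁻¹ * x * y = x := by rw [mul_assoc, hxy, inv_mul_cancel_left]
      rw [e]; exact Subgroup.mem_zpowers x
  obtain ⟨k, hk⟩ := hpg.exists_card_eq
  have hx : Subgroup.zpowers x ≤ P := by
    rw [hP, Subgroup.zpowers_le]; exact Subgroup.subset_closure (by simp)
  have hy : y ∈ P := Subgroup.subset_closure (by simp)
  have hlt : 3 < Nat.card P := by
    have h3 : Nat.card (Subgroup.zpowers x) = 3 := by
      rw [Nat.card_zpowers]; exact orderOf_eq_prime hx3 hx1
    by_contra hle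
    have e : Subgroup.zpowers x = P := Subgroup.eq_of_le_of_card_ge hx (by rw [h3]; omega)
    exact hyx (e ▸ hy)
  have hk2 : 2 ≤ k := by
    by_contra h
    have h01 : k = 0 ∨ k = 1 := by omega
    rcases h01 with rfl | rfl
    · rw [pow_zero] at hk; omega
    · rw [pow_one] at hk; omega
  intro hdvd
  have hmul := P.card_mul_index
  rw [hk] at hmul
  obtain ⟨m, hm⟩ := hdvd
  apply h27
  rw [← hmul, hm]
  obtain ⟨j, rfl⟩ := Nat.exists_eq_add_of_le hk2
  exact ⟨3 ^ j * m, by ring⟩

/-- an elementary abelian pair of order three with an element fixing one and inverting the other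
kills the 3-part of the kernel of a stem extension -/
theorem three_not_dvd_of_elems {Γ Q : Type*} [Group Γ] [Finite Γ] [Group Q] [Finite Q]
    (σ : Γ →* Q) (hσ : IsStemExtension σ) (x y n : Q) (hx3 : x ^ 3 = 1) (hy3 : y ^ 3 = 1)
    (hxy : x * y = y * x) (hnx : n * x * n⁻¹ = x) (hny : n * y * n⁻¹ = y⁻¹) (hx1 : x ≠ 1)
    (hyx : y ∉ Subgroup.zpowers x) (h27 : ¬ 27 ∣ Nat.card Q) : ¬ 3 ∣ Nat.card σ.ker := by
  apply not_dvd_of_abelian_comap' σ hσ 3 (Subgroup.closure ({x, y} : Set Q))
    (three_index' x y hx3 hy3 hxy hx1 hyx h27)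
  intro u v hu hv
  obtain ⟨hsurj, hcen, -⟩ := hσ
  obtain ⟨xt, hxt⟩ := hsurj x
  obtain ⟨yt, hyt⟩ := hsurj y
  have hxy' : xt * yt = yt * xt := lifts_commute' σ hsurj hcen hx3 hxy hnx hny hxt hyt
  let S : Set Γ := ({xt, yt} : Set Γ) ∪ (σ.ker : Set Γ)
  have hScomm : ∀ p ∈ S, ∀ q ∈ S, p * q = q * p := by
    intro p hp q hq
    rcases hp with hp | hp
    · rcases hq with hq | hq
      · rcases hp with rfl | rfl <;> rcases hq with rfl | rfl
        · rfl
        · exact hxy'
        · exact hxy'.symm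
        · rfl
      · exact Subgroup.mem_center_iff.mp (hcen hq) p
    · exact (Subgroup.mem_center_iff.mp (hcen hp) q).symm
  have hcl := Subgroup.isMulCommutative_closure hScomm
  have hmemcl : ∀ w : Γ, σ w ∈ Subgroup.closure ({x, y} : Set Q) →
      w ∈ Subgroup.closure S := by
    intro w hw
    have hmap : Subgroup.closure ({x, y} : Set Q) =
        (Subgroup.closure ({xt, yt} : Set Γ)).map σ := by
      rw [MonoidHom.map_closure, Set.image_pair, hxt, hyt]
    rw [hmap] at hw
    obtain ⟨w', hw', hww⟩ := Subgroup.mem_map.mp hw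
    have h1 : w' ∈ Subgroup.closure S := Subgroup.closure_mono Set.subset_union_left hw'
    have h2 : w'⁻¹ * w ∈ Subgroup.closure S := by
      apply Subgroup.subset_closure
      right
      show w'⁻¹ * w ∈ σ.ker
      rw [MonoidHom.mem_ker, map_mul, map_inv, hww, inv_mul_cancel]
    have e : w = w' * (w'⁻¹ * w) := by group
    rw [e]; exact Subgroup.mul_mem _ h1 h2
  have h := hcl.is_comm.comm (⟨u, hmemcl u hu⟩ : Subgroup.closure S) ⟨v, hmemcl v hv⟩
  exact congrArg Subtype.val h

/-! ### small quotients -/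

/-- a finite stem extension of a group of order dividing four has kernel of order dividing two -/
theorem card_ker_dvd_two {Γ : Type*} {T : Type*} [Group Γ] [Finite Γ] [Group T] (τ : Γ →* T)
    (hτ : IsStemExtension τ) (hT : Nat.card T ∣ 4) : Nat.card τ.ker ∣ 2 := by
  haveI : Finite T := Nat.finite_of_card_ne_zero (ne_zero_of_dvd_ne_zero (by norm_num) hT)
  by_cases hcyc : IsCyclic T
  · rw [ker_eq_bot_of_cyclic τ hτ, Subgroup.card_bot]; exact one_dvd 2
  have hne : ∃ a : T, a ≠ 1 := by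
    by_contra hall
    push Not at hall
    haveI : Subsingleton T := ⟨fun a b => by rw [hall a, hall b]⟩
    exact hcyc isCyclic_of_subsingleton
  obtain ⟨a, ha⟩ := hne
  have hoa : orderOf a ∣ Nat.card T := orderOf_dvd_natCard a
  have hoa1 : orderOf a ≠ 1 := fun h => ha (orderOf_eq_one_iff.mp h)
  have hoaT : orderOf a ≠ Nat.card T := fun h => hcyc (isCyclic_of_orderOf_eq_card a h)
  have hTle : Nat.card T ≤ 4 := Nat.le_of_dvd (by norm_num) hT
  have hTpos : 0 < Nat.card T := Nat.card_pos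
  have hole : orderOf a ≤ Nat.card T := Nat.le_of_dvd hTpos hoa
  have hopos : 0 < orderOf a := orderOf_pos a
  have hT4 : Nat.card T = 4 ∧ orderOf a = 2 := by
    have hT124 : Nat.card T = 1 ∨ Nat.card T = 2 ∨ Nat.card T = 4 := by
      have : Nat.card T ≠ 3 := by
        intro h; rw [h] at hT; omega
      omega
    rcases hT124 with h | h | h
    · omega
    · omega
    · refine ⟨h, ?_⟩
      rw [h] at hoa hoaT hole
      have : orderOf a ≠ 3 := by
        intro h3; rw [h3] at hoa; omega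
      omega
  obtain ⟨hT4, ho2⟩ := hT4
  set A : Subgroup T := Subgroup.zpowers a with hA
  have hAcard : Nat.card A = 2 := by rw [hA, Nat.card_zpowers, ho2]
  have hAidx : A.index = 2 := by
    have := A.card_mul_index
    rw [hAcard, hT4] at this
    omega
  haveI hAn : A.Normal := Subgroup.normal_of_index_eq_two hAidx
  have hAcyc : IsCyclic A := by rw [hA]; infer_instance
  have hb : ∃ b : T, b ∉ A := by
    by_contra hall
    push Not at hall
    have : A = ⊤ := by rw [eq_top_iff]; intro x _; exact hall x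
    rw [this, Subgroup.card_top, hT4] at hAcard
    omega
  obtain ⟨b, hb⟩ := hb
  have hgen : A ⊔ Subgroup.zpowers b = ⊤ := by
    set H := A ⊔ Subgroup.zpowers b with hH
    have hAH : A ≤ H := le_sup_left
    have hbH : b ∈ H := (le_sup_right : Subgroup.zpowers b ≤ H) (Subgroup.mem_zpowers b)
    have h2 : 2 ∣ Nat.card H := by rw [← hAcard]; exact Subgroup.card_dvd_of_le hAH
    have h4 : Nat.card H ∣ 4 := by rw [← hT4]; exact Subgroup.card_subgroup_dvd_card H
    have hne : Nat.card H ≠ 2 := by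
      intro h
      have e : A = H := Subgroup.eq_of_le_of_card_ge hAH (by rw [h, hAcard])
      exact hb (e ▸ hbH)
    have h4' : Nat.card H = 4 := by
      obtain ⟨m, hm⟩ := h2
      have hle := Nat.le_of_dvd (by norm_num) h4
      have hpos : 0 < Nat.card H := Nat.card_pos
      have hm12 : m = 1 ∨ m = 2 := by omega
      rcases hm12 with rfl | rfl
      · omega
      · omega
    exact (Subgroup.card_eq_iff_eq_top H).mp (by rw [h4', hT4])
  obtain ⟨t, ht⟩ := hτ.1 b
  have hcard := stem_card_centralizer τ hτ A hAcyc b hgen t ht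
  have hle := ker_le_comap_inf_centralizer τ hτ A t
  have h1 : Nat.card τ.ker ∣ Nat.card ↥(A ⊓ Subgroup.centralizer ({b} : Set T)) := by
    rw [← hcard]; exact Subgroup.card_dvd_of_le hle
  have h2 : Nat.card ↥(A ⊓ Subgroup.centralizer ({b} : Set T)) ∣ 2 := by
    rw [← hAcard]; exact Subgroup.card_dvd_of_le inf_le_left
  exact h1.trans h2

/-- a finite stem extension of a group of order dividing sixty has kernel of order dividing two -/
theorem card_ker_dvd_two_of_dvd_sixty {Γ : Type*} {Q : Type*} [Group Γ] [Finite Γ] [Group Q]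
    (σ : Γ →* Q) (hσ : IsStemExtension σ) (hQ : Nat.card Q ∣ 60) : Nat.card σ.ker ∣ 2 := by
  classical
  haveI : Finite Q := Nat.finite_of_card_ne_zero (ne_zero_of_dvd_ne_zero (by norm_num) hQ)
  have hsurj := hσ.1
  -- odd primes
  have hodd : ∀ r : ℕ, r.Prime → r ≠ 2 → ¬ r ∣ Nat.card σ.ker := by
    intro r hr hr2
    haveI : Fact r.Prime := ⟨hr⟩
    refine not_dvd_of_sylow_trivial σ r ?_
    intro R a haR haker
    have hT : ((R.mapSurjective hsurj : Sylow r Q) : Subgroup Q) = (R : Subgroup Γ).map σ :=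
      Sylow.coe_mapSurjective hsurj R
    obtain ⟨f, hf⟩ := (R.mapSurjective hsurj).2.exists_card_eq
    have hdvd : r ^ f ∣ 60 := by
      rw [← hf]; exact (Subgroup.card_subgroup_dvd_card _).trans hQ
    have hf1 : f ≤ 1 := by
      by_contra h
      have h2 : r ^ 2 ∣ 60 := (pow_dvd_pow r (by omega : 2 ≤ f)).trans hdvd
      have hc2 : Nat.Coprime r 2 := (Nat.coprime_primes hr Nat.prime_two).mpr hr2
      have hc : Nat.Coprime (r ^ 2) (2 ^ 2) := Nat.Coprime.pow _ _ hc2
      have e : (60 : ℕ) = 2 ^ 2 * 15 := by norm_num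
      rw [e] at h2
      have h15 : r ^ 2 ∣ 15 := hc.dvd_of_dvd_mul_left h2
      have hle : r ^ 2 ≤ 15 := Nat.le_of_dvd (by norm_num) h15
      have hr3 : r ≤ 3 := by nlinarith
      have hr2' := hr.two_le
      have : r = 3 := by omega
      subst this
      norm_num at h15
    have hcyc : IsCyclic ((R : Subgroup Γ).map σ) := by
      rw [← hT]
      have h01 : f = 0 ∨ f = 1 := by omega
      rcases h01 with rfl | rfl
      · rw [pow_zero] at hf
        haveI : Subsingleton ↥((R.mapSurjective hsurj : Sylow r Q) : Subgroup Q) :=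
          (Nat.card_eq_one_iff_unique.mp hf).1
        exact isCyclic_of_subsingleton
      · rw [pow_one] at hf
        exact isCyclic_of_prime_card hf
    obtain ⟨τ, hτ, hτker⟩ := sylow_stem σ hσ r R (MulEquiv.refl _)
    have hbot := ker_eq_bot_of_cyclic τ hτ
    have hmem : (⟨a, haR⟩ : (R : Subgroup Γ)) ∈ τ.ker := (hτker _).mpr haker
    rw [hbot, Subgroup.mem_bot] at hmem
    exact congrArg Subtype.val hmem
  -- the kernel is a 2-group
  have hpow : ∃ j, Nat.card σ.ker = 2 ^ j := by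
    rcases Nat.eq_two_pow_or_exists_odd_prime_and_dvd (Nat.card σ.ker) with h | ⟨p, hp, hpd, hpo⟩
    · exact h
    · exfalso
      refine hodd p hp ?_ hpd
      rintro rfl
      exact absurd hpo (by decide)
  obtain ⟨j, hj⟩ := hpow
  haveI : Fact (Nat.Prime 2) := ⟨Nat.prime_two⟩
  have hkp : IsPGroup 2 σ.ker := IsPGroup.of_card hj
  obtain ⟨R, hR⟩ := hkp.exists_le_sylow
  have hT : ((R.mapSurjective hsurj : Sylow 2 Q) : Subgroup Q) = (R : Subgroup Γ).map σ :=
    Sylow.coe_mapSurjective hsurj R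
  obtain ⟨f, hf⟩ := (R.mapSurjective hsurj).2.exists_card_eq
  have hdvd : 2 ^ f ∣ 60 := by
    rw [← hf]; exact (Subgroup.card_subgroup_dvd_card _).trans hQ
  have hf2 : f ≤ 2 := by
    by_contra h
    have h8 : 2 ^ 3 ∣ 60 := (pow_dvd_pow 2 (by omega : 3 ≤ f)).trans hdvd
    norm_num at h8
  have hT4 : Nat.card ((R : Subgroup Γ).map σ) ∣ 4 := by
    rw [← hT, hf]
    exact pow_dvd_pow 2 hf2
  obtain ⟨τ, hτ, hτker⟩ := sylow_stem σ hσ 2 R (MulEquiv.refl _)
  have h2 := card_ker_dvd_two τ hτ hT4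
  have hkeq : τ.ker = σ.ker.subgroupOf (R : Subgroup Γ) := by
    ext a
    rw [Subgroup.mem_subgroupOf]
    exact hτker a
  rw [hkeq, Nat.card_congr (Subgroup.subgroupOfEquivOfLe hR).toEquiv] at h2
  exact h2

end Cfsg.Agent.Lib.Helper20.StemTools
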