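import Mathlib
import Cfsg.Agent.Lib.Helper20.RelSub
import Cfsg.Agent.Lib.Helper20.BestOffComp
import Cfsg.Agent.S0538
import Cfsg.Agent.S0597
import Cfsg.Agent.Lib.Helper17.Subnormal
import Cfsg.Agent.H5.QuadStab
import Cfsg.Agent.H5.Cores

/-!
# Subnormal subgroups acting irreducibly on their commutators (KS 9.3.6)
-/

set_option autoImplicit false

namespace Cfsg.Agent.Lib.Helper20.SI

open Subgroup
open scoped commutatorElement
open Cfsg.Agent.Lib.Helper20 (SnIn)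
open Cfsg.Agent.Lib.Helper20.BO (le_normalizer_inf' le_normalizer_of_map_conj_le
  le_normalizer_commutator_of_le)

variable {G : Type*} [Group G]

theorem SnIn_sup [Finite G] {A B M : Subgroup G} (hA : SnIn A M) (hB : SnIn B M) :
    SnIn (A ⊔ B) M := by
  refine ⟨sup_le hA.1 hB.1, ?_⟩
  rw [Subgroup.subgroupOf_sup hA.1 hB.1]
  exact Cfsg.Agent.S0538.result _ _ hA.2 hB.2

theorem SnIn_conj {X M : Subgroup G} (h : SnIn X M) {g : G} (hg : g ∈ M) :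
    SnIn (X.map (MulAut.conj g).toMonoidHom) M := by
  refine ⟨?_, ?_⟩
  · rintro _ ⟨x, hx, rfl⟩
    exact M.mul_mem (M.mul_mem hg (h.1 hx)) (M.inv_mem hg)
  · have h1 : (X.map (MulAut.conj g).toMonoidHom).subgroupOf M =
        (X.subgroupOf M).map (MulAut.conj (⟨g, hg⟩ : ↥M)).toMonoidHom := by
      ext ⟨m, hm⟩
      rw [Subgroup.mem_subgroupOf, Subgroup.mem_map, Subgroup.mem_map]
      constructor
      · rintro ⟨x, hx, hxm⟩
        refine ⟨⟨x, h.1 hx⟩, Subgroup.mem_subgroupOf.mpr hx, ?_⟩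
        apply Subtype.ext
        exact hxm
      · rintro ⟨⟨x, hxM⟩, hx, hxm⟩
        refine ⟨x, Subgroup.mem_subgroupOf.mp hx, ?_⟩
        exact congrArg Subtype.val hxm
    rw [h1]
    exact h.2.map (MulAut.conj (⟨g, hg⟩ : ↥M)).surjective

/-- no nontrivial subnormal `p`-subgroups -/
def NoSnP (p : ℕ) (E : Subgroup G) : Prop :=
  ∀ P : Subgroup G, SnIn P E → IsPGroup p P → P = ⊥

/-- `X` acts irreducibly on `[V, X]` -/
def Irr (V X : Subgroup G) : Prop :=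
  ∀ U : Subgroup G, U ≤ ⁅V, X⁆ → X ≤ normalizer (U : Set G) → U = ⊥ ∨ U = ⁅V, X⁆

theorem noSnP_of_pCore [Finite G] {p : ℕ} [Fact p.Prime] {E : Subgroup G}
    (h : Cfsg.pCore p ↥E = ⊥) : NoSnP p E := by
  intro P hP hPp
  have hPp' : IsPGroup p ↥(P.subgroupOf E) :=
    IsPGroup.of_injective hPp (Subgroup.subgroupOfEquivOfLe hP.1).toMonoidHom
      (Subgroup.subgroupOfEquivOfLe hP.1).injective
  obtain ⟨N, hNn, hNp, hPN⟩ :=
    Cfsg.Agent.Lib.Helper17.exists_normal_pgroup_ge_of_isSubnormal hP.2 hPp'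
  have h1 : N ≤ Cfsg.pCore p ↥E := Cfsg.H5.le_pCore hNn hNp
  rw [h] at h1
  have h2 : P.subgroupOf E = ⊥ := le_bot_iff.mp (hPN.trans h1)
  rw [Subgroup.subgroupOf_eq_bot, disjoint_iff, inf_eq_left.mpr hP.1] at h2
  exact h2

theorem map_conj_map_conj_inv (g : G) (U : Subgroup G) :
    (U.map (MulAut.conj g⁻¹).toMonoidHom).map (MulAut.conj g).toMonoidHom = U := by
  rw [Subgroup.map_map]
  have h1 : (MulAut.conj g).toMonoidHom.comp (MulAut.conj g⁻¹).toMonoidHom = MonoidHom.id G := by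
    ext t
    show g * (g⁻¹ * t * g⁻¹⁻¹) * g⁻¹ = t
    group
  rw [h1, Subgroup.map_id]

theorem Irr_conj {V X : Subgroup G} (h : Irr V X) {g : G} (hg : g ∈ normalizer (V : Set G)) :
    Irr V (X.map (MulAut.conj g).toMonoidHom) := by
  intro U hU hXU
  have hW : ⁅V, X.map (MulAut.conj g).toMonoidHom⁆ = (⁅V, X⁆).map (MulAut.conj g).toMonoidHom := by
    rw [Subgroup.map_commutator, Cfsg.H5.map_conj_eq_of_mem_normalizer hg]
  rw [hW] at hU ⊢
  have hUU' : (U.map (MulAut.conj g⁻¹).toMonoidHom).map (MulAut.conj g).toMonoidHom = U :=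
    map_conj_map_conj_inv g U
  have h1 : U.map (MulAut.conj g⁻¹).toMonoidHom ≤ ⁅V, X⁆ := by
    rintro _ ⟨u, hu, rfl⟩
    obtain ⟨w, hw, hwu⟩ := hU hu
    have h2 : (MulAut.conj g⁻¹).toMonoidHom u = w := by
      rw [← hwu]
      show g⁻¹ * (g * w * g⁻¹) * g⁻¹⁻¹ = w
      group
    rw [h2]; exact hw
  have h2 : X ≤ normalizer ((U.map (MulAut.conj g⁻¹).toMonoidHom : Subgroup G) : Set G) := by
    apply le_normalizer_of_map_conj_le
    intro x hx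
    rintro _ ⟨_, ⟨u, hu, rfl⟩, rfl⟩
    have hq : g * x * g⁻¹ ∈ X.map (MulAut.conj g).toMonoidHom := ⟨x, hx, rfl⟩
    have hn := (mem_normalizer_iff.mp (hXU hq) u).mp hu
    refine ⟨g * x * g⁻¹ * u * (g * x * g⁻¹)⁻¹, hn, ?_⟩
    show g⁻¹ * (g * x * g⁻¹ * u * (g * x * g⁻¹)⁻¹) * g⁻¹⁻¹ = x * (g⁻¹ * u * g⁻¹⁻¹) * x⁻¹
    group
  rcases h _ h1 h2 with h3 | h3
  · left
    rw [← hUU', h3, Subgroup.map_bot]
  · right
    rw [← hUU', h3]

/-- a subnormal subgroup acts faithfully on its commutator -/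
theorem inf_centralizer_commutator_eq_bot [Finite G] {p : ℕ} [Fact p.Prime] {V E X : Subgroup G}
    (hV : Cfsg.IsElementaryAbelian p V) (hEV : E ≤ normalizer (V : Set G))
    (hf : E ⊓ centralizer (V : Set G) = ⊥) (hnp : NoSnP p E) (hX : SnIn X E) :
    X ⊓ centralizer ((⁅V, X⁆ : Subgroup G) : Set G) = ⊥ := by
  have hXV : X ≤ normalizer (V : Set G) := hX.1.trans hEV
  have hWV : ⁅V, X⁆ ≤ V := Cfsg.Agent.Lib.Helper1.commutator_le_of_le_normalizer hXV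
  have hXW : X ≤ normalizer ((⁅V, X⁆ : Subgroup G) : Set G) :=
    Cfsg.H5.le_normalizer_commutator hXV
  apply hnp
  · refine SnIn.trans (SnIn.of_normal inf_le_left ?_) hX
    apply le_normalizer_inf' Subgroup.le_normalizer
    apply Cfsg.Agent.Lib.Helper1.le_normalizer_of_forall_conj_mem
    intro x hx c hc
    exact Cfsg.H5.QS.conj_mem_centralizer (hXW hx) hc
  · intro g
    refine ⟨1, ?_⟩
    rw [pow_one]
    have hg := mem_inf.mp g.2
    have hgT : (g : G) ∈ Cfsg.H5.QS.stabQuot V ⁅V, X⁆ := by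
      refine Cfsg.H5.QS.mem_stabQuot.mpr ⟨centralizer_le_normalizer _ hg.2, fun v hv => ?_⟩
      exact Subgroup.commutator_mem_commutator hv hg.1
    have h1 := Cfsg.H5.QS.pow_mem_centralizer hWV hV.2 hg.2 hgT
    have h2 : (g : G) ^ p ∈ E ⊓ centralizer (V : Set G) :=
      mem_inf.mpr ⟨E.pow_mem (hX.1 hg.1) p, h1⟩
    rw [hf, mem_bot] at h2
    exact Subtype.ext (by simpa using h2)

/-- the configuration of KS 9.3.6 -/
structure Cfg (p : ℕ) (V E X Y : Subgroup G) : Prop where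
  hEV : E ≤ normalizer (V : Set G)
  hf : E ⊓ centralizer (V : Set G) = ⊥
  hnp : NoSnP p E
  hX : SnIn X E
  hY : SnIn Y E
  hiX : Irr V X
  hiY : Irr V Y
  hcX : 2 < Nat.card X
  hcY : 2 < Nat.card Y
  h12 : ¬ ⁅V, X⁆ ≤ ⁅V, Y⁆
  h21 : ¬ ⁅V, Y⁆ ≤ ⁅V, X⁆

theorem cfg_symm {p : ℕ} {V E X Y : Subgroup G} (h : Cfg p V E X Y) : Cfg p V E Y X :=
  ⟨h.hEV, h.hf, h.hnp, h.hY, h.hX, h.hiY, h.hiX, h.hcY, h.hcX, h.h21, h.h12⟩

theorem lemmaA [Finite G] {p : ℕ} [Fact p.Prime] {V E X Y : Subgroup G}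
    (h : Cfg p V E X Y)
    (ih : ∀ E' X' Y' : Subgroup G, Nat.card E' < Nat.card E → Cfg p V E' X' Y' →
      ⁅⁅V, X'⁆, Y'⁆ = ⊥)
    (hWY : ⁅⁅V, X⁆, Y⁆ = ⁅V, Y⁆) :
    (∃ y ∈ Y, y ∉ normalizer ((⁅V, X⁆ : Subgroup G) : Set G)) ∧
    ∀ y ∈ Y, y ∉ normalizer ((⁅V, X⁆ : Subgroup G) : Set G) →
      X ≤ centralizer (((⁅V, X⁆).map (MulAut.conj y).toMonoidHom : Subgroup G) : Set G) ∧
      ⁅V, X⁆ ⊓ (⁅V, X⁆).map (MulAut.conj y).toMonoidHom = ⊥ := by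
  have hXV : X ≤ normalizer (V : Set G) := h.hX.1.trans h.hEV
  have hXW : X ≤ normalizer ((⁅V, X⁆ : Subgroup G) : Set G) :=
    Cfsg.H5.le_normalizer_commutator hXV
  constructor
  · by_contra hcon
    push Not at hcon
    have hYW : Y ≤ normalizer ((⁅V, X⁆ : Subgroup G) : Set G) := fun y hy => hcon y hy
    have h1 : ⁅⁅V, X⁆, Y⁆ ≤ ⁅V, X⁆ :=
      Cfsg.Agent.Lib.Helper1.commutator_le_of_le_normalizer hYW
    rw [hWY] at h1
    exact h.h21 h1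
  · intro y hyY hyW
    have hyE : y ∈ E := h.hY.1 hyY
    have hyV : y ∈ normalizer (V : Set G) := h.hEV hyE
    have hXne : X.subgroupOf E ≠ ⊤ := by
      intro htop
      have hEX : E ≤ X := Subgroup.subgroupOf_eq_top.mp htop
      apply h.h21
      exact Subgroup.commutator_mono le_rfl (h.hY.1.trans hEX)
    obtain ⟨K', hK'n, hXK', hK'lt⟩ := h.hX.2.exists_normal_and_le_and_lt_top_of_ne hXne
    have hKE : K'.map E.subtype ≤ E := Subgroup.map_subtype_le K'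
    have hXK : X ≤ K'.map E.subtype := by
      intro x hx
      exact ⟨⟨x, h.hX.1 hx⟩, hXK' (Subgroup.mem_subgroupOf.mpr hx), rfl⟩
    have hKcard : Nat.card ↥(K'.map E.subtype) < Nat.card E := by
      rw [Subgroup.card_map_of_injective E.subtype_injective]
      have h1 : Nat.card K' ≤ Nat.card ↥E := Subgroup.card_le_card_group K'
      have h2 : Nat.card K' ≠ Nat.card ↥E := fun h3 =>
        hK'lt.ne (Subgroup.eq_top_of_card_eq K' h3)
      omega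
    have hyK : ∀ k ∈ K'.map E.subtype, y * k * y⁻¹ ∈ K'.map E.subtype := by
      rintro _ ⟨k, hk, rfl⟩
      exact ⟨⟨y, hyE⟩ * k * ⟨y, hyE⟩⁻¹, hK'n.conj_mem k hk ⟨y, hyE⟩, rfl⟩
    have hXyK : X.map (MulAut.conj y).toMonoidHom ≤ K'.map E.subtype := by
      rintro _ ⟨x, hx, rfl⟩
      exact hyK x (hXK hx)
    have hLK : X ⊔ X.map (MulAut.conj y).toMonoidHom ≤ K'.map E.subtype := sup_le hXK hXyK
    have hLcard : Nat.card ↥(X ⊔ X.map (MulAut.conj y).toMonoidHom) < Nat.card E :=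
      lt_of_le_of_lt (Subgroup.card_le_of_le hLK) hKcard
    have hLE : X ⊔ X.map (MulAut.conj y).toMonoidHom ≤ E := hLK.trans hKE
    have hXysn : SnIn (X.map (MulAut.conj y).toMonoidHom) E := SnIn_conj h.hX hyE
    have hLsn : SnIn (X ⊔ X.map (MulAut.conj y).toMonoidHom) E := SnIn_sup h.hX hXysn
    have hWy : ⁅V, X.map (MulAut.conj y).toMonoidHom⁆ =
        (⁅V, X⁆).map (MulAut.conj y).toMonoidHom := by
      rw [Subgroup.map_commutator, Cfsg.H5.map_conj_eq_of_mem_normalizer hyV]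
    have hcardWy : Nat.card ↥(⁅V, X.map (MulAut.conj y).toMonoidHom⁆) = Nat.card ↥(⁅V, X⁆) := by
      rw [hWy, Subgroup.card_map_of_injective (MulAut.conj y).injective]
    have hne : ⁅V, X.map (MulAut.conj y).toMonoidHom⁆ ≠ ⁅V, X⁆ := by
      intro heq
      apply hyW
      apply Cfsg.H5.mem_normalizer_of_map_conj_eq
      rw [← hWy, heq]
    have hcfg : Cfg p V (X ⊔ X.map (MulAut.conj y).toMonoidHom) X
        (X.map (MulAut.conj y).toMonoidHom) := by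
      refine ⟨hLE.trans h.hEV, ?_, ?_, h.hX.restrict le_sup_left hLE,
        hXysn.restrict le_sup_right hLE, h.hiX, Irr_conj h.hiX hyV, h.hcX, ?_, ?_, ?_⟩
      · rw [eq_bot_iff, ← h.hf]; exact inf_le_inf_right _ hLE
      · intro P hP hPp; exact h.hnp P (hP.trans hLsn) hPp
      · rw [Subgroup.card_map_of_injective (MulAut.conj y).injective]; exact h.hcX
      · intro hle; exact hne (Subgroup.eq_of_le_of_card_ge hle hcardWy.le).symm
      · intro hle; exact hne (Subgroup.eq_of_le_of_card_ge hle hcardWy.ge)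
    have h1 := ih _ _ _ hLcard (cfg_symm hcfg)
    have hXc : X ≤ centralizer ((⁅V, X.map (MulAut.conj y).toMonoidHom⁆ : Subgroup G) : Set G) :=
      Subgroup.le_centralizer_iff.mp (Subgroup.commutator_eq_bot_iff_le_centralizer.mp h1)
    rw [hWy] at hXc hne
    refine ⟨hXc, ?_⟩
    have hXn : X ≤ normalizer ((⁅V, X⁆ ⊓ (⁅V, X⁆).map (MulAut.conj y).toMonoidHom : Subgroup G) :
        Set G) := le_normalizer_inf' hXW (hXc.trans (centralizer_le_normalizer _))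
    rcases h.hiX _ inf_le_left hXn with h2 | h2
    · exact h2
    · exfalso
      apply hne
      have hle : ⁅V, X⁆ ≤ (⁅V, X⁆).map (MulAut.conj y).toMonoidHom := by
        intro w hw
        have h3 : w ∈ ⁅V, X⁆ ⊓ (⁅V, X⁆).map (MulAut.conj y).toMonoidHom := by rw [h2]; exact hw
        exact (mem_inf.mp h3).2
      exact (Subgroup.eq_of_le_of_card_ge hle
        (by rw [Subgroup.card_map_of_injective (MulAut.conj y).injective])).symm

theorem lemmaB [Finite G] {V X Y : Subgroup G} {y : G} (hyY : y ∈ Y)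
    (hdisj : ⁅V, X⁆ ⊓ (⁅V, X⁆).map (MulAut.conj y).toMonoidHom = ⊥)
    (hWY : ⁅⁅V, X⁆, Y⁆ = ⁅V, Y⁆) :
    Nat.card ↥(⁅V, X⁆) ≤ Nat.card ↥(⁅V, Y⁆) ∧
    (Nat.card ↥(⁅V, Y⁆) ≤ Nat.card ↥(⁅V, X⁆) →
      ∀ u ∈ ⁅V, Y⁆, ∃ w ∈ ⁅V, X⁆, u = w⁻¹ * (y * w * y⁻¹)) := by
  let f : ↥(⁅V, X⁆) → ↥(⁅V, Y⁆) := fun w => ⟨(w : G)⁻¹ * (y * w * y⁻¹), by
    have h1 : (w : G)⁻¹ * (y * w * y⁻¹) = ⁅(w : G)⁻¹, y⁆ := by
      rw [commutatorElement_def]; group
    rw [h1, ← hWY]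
    exact Subgroup.commutator_mem_commutator (Subgroup.inv_mem _ w.2) hyY⟩
  have hinj : Function.Injective f := by
    intro w w' hww
    have h1 : (w : G)⁻¹ * (y * w * y⁻¹) = (w' : G)⁻¹ * (y * w' * y⁻¹) :=
      congrArg Subtype.val hww
    have hu1 : (w' : G) * (w : G)⁻¹ ∈ ⁅V, X⁆ :=
      Subgroup.mul_mem _ w'.2 (Subgroup.inv_mem _ w.2)
    have hu2 : y * ((w' : G) * (w : G)⁻¹) * y⁻¹ = (w' : G) * (w : G)⁻¹ := by
      have h2 : y * (w' : G) * y⁻¹ = (w' : G) * ((w : G)⁻¹ * (y * w * y⁻¹)) := by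
        rw [h1]; group
      calc y * ((w' : G) * (w : G)⁻¹) * y⁻¹ = (y * w' * y⁻¹) * (y * w * y⁻¹)⁻¹ := by group
        _ = (w' : G) * ((w : G)⁻¹ * (y * w * y⁻¹)) * (y * w * y⁻¹)⁻¹ := by rw [h2]
        _ = (w' : G) * (w : G)⁻¹ := by group
    have hu3 : (w' : G) * (w : G)⁻¹ ∈ (⁅V, X⁆).map (MulAut.conj y).toMonoidHom :=
      ⟨_, hu1, hu2⟩
    have hu4 : (w' : G) * (w : G)⁻¹ ∈ ⁅V, X⁆ ⊓ (⁅V, X⁆).map (MulAut.conj y).toMonoidHom :=
      mem_inf.mpr ⟨hu1, hu3⟩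
    rw [hdisj, mem_bot] at hu4
    apply Subtype.ext
    exact (mul_inv_eq_one.mp hu4).symm
  refine ⟨Nat.card_le_card_of_injective f hinj, fun hc u hu => ?_⟩
  obtain ⟨w, hw⟩ := (hinj.bijective_of_nat_card_le hc).2 ⟨u, hu⟩
  exact ⟨w, w.2, (congrArg Subtype.val hw).symm⟩

/-- **KS 9.3.6**, the key step: `[V, X, Y] = 1`. -/
theorem key [Finite G] {p : ℕ} [Fact p.Prime] {V : Subgroup G}
    (hV : Cfsg.IsElementaryAbelian p V) :
    ∀ n : ℕ, ∀ E X Y : Subgroup G, Nat.card E = n → Cfg p V E X Y → ⁅⁅V, X⁆, Y⁆ = ⊥ := by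
  intro n
  induction n using Nat.strong_induction_on with
  | _ n ih =>
  intro E X Y hn h
  have ih' : ∀ E' X' Y' : Subgroup G, Nat.card E' < Nat.card E → Cfg p V E' X' Y' →
      ⁅⁅V, X'⁆, Y'⁆ = ⊥ :=
    fun E' X' Y' hlt h' => ih (Nat.card E') (hn ▸ hlt) E' X' Y' rfl h'
  by_contra hne
  have hXV : X ≤ normalizer (V : Set G) := h.hX.1.trans h.hEV
  have hYV : Y ≤ normalizer (V : Set G) := h.hY.1.trans h.hEV
  have hWV : ⁅V, X⁆ ≤ V := Cfsg.Agent.Lib.Helper1.commutator_le_of_le_normalizer hXV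
  have hW'V : ⁅V, Y⁆ ≤ V := Cfsg.Agent.Lib.Helper1.commutator_le_of_le_normalizer hYV
  have hWY : ⁅⁅V, X⁆, Y⁆ = ⁅V, Y⁆ := by
    rcases h.hiY _ (Subgroup.commutator_mono hWV le_rfl)
      Cfsg.Agent.Lib.Helper1.le_normalizer_commutator_right with h1 | h1
    · exact absurd h1 hne
    · exact h1
  have hW'X : ⁅⁅V, Y⁆, X⁆ = ⁅V, X⁆ := by
    rcases h.hiX _ (Subgroup.commutator_mono hW'V le_rfl)
      Cfsg.Agent.Lib.Helper1.le_normalizer_commutator_right with h1 | h1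
    · exfalso
      have h2 := Cfsg.Agent.S0597.result V E hV h.hEV h.hf Y X h.hY.1 h.hX.1 h.hY.2 h.hX.2 h1
      have h3 : (Cfsg.pCore p ↥E).map E.subtype = ⊥ := by
        apply h.hnp
        · refine ⟨Subgroup.map_subtype_le _, ?_⟩
          have h4 : ((Cfsg.pCore p ↥E).map E.subtype).subgroupOf E = Cfsg.pCore p ↥E :=
            Subgroup.comap_map_eq_self_of_injective E.subtype_injective _
          rw [h4]
          exact (Cfsg.H5.pCore_normal p ↥E).isSubnormal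
        · exact (Cfsg.H5.pCore_isPGroup p ↥E).map E.subtype
      rw [h3] at h2
      have h4 : ⁅Y, X⁆ = ⊥ := le_bot_iff.mp h2
      have h5 : Y ≤ centralizer (X : Set G) :=
        Subgroup.commutator_eq_bot_iff_le_centralizer.mp h4
      have h6 : Y ≤ normalizer ((⁅V, X⁆ : Subgroup G) : Set G) :=
        le_normalizer_commutator_of_le hYV (h5.trans (centralizer_le_normalizer _))
      have h7 : ⁅⁅V, X⁆, Y⁆ ≤ ⁅V, X⁆ :=
        Cfsg.Agent.Lib.Helper1.commutator_le_of_le_normalizer h6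
      rw [hWY] at h7
      exact h.h21 h7
    · exact h1
  obtain ⟨⟨y, hyY, hyW⟩, hA⟩ := lemmaA h ih' hWY
  obtain ⟨⟨x, hxX, hxW'⟩, hA'⟩ := lemmaA (cfg_symm h) ih' hW'X
  obtain ⟨hXcy, hdisj⟩ := hA y hyY hyW
  obtain ⟨hYcx, hdisj'⟩ := hA' x hxX hxW'
  have hcard : Nat.card ↥(⁅V, Y⁆) ≤ Nat.card ↥(⁅V, X⁆) := (lemmaB hxX hdisj' hW'X).1
  have hS : ∀ y' ∈ Y, y' ∉ normalizer ((⁅V, X⁆ : Subgroup G) : Set G) →
      ∀ u ∈ ⁅V, Y⁆, ∃ w ∈ ⁅V, X⁆, u = w⁻¹ * (y' * w * y'⁻¹) := by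
    intro y' hy'Y hy'W
    exact (lemmaB hy'Y (hA y' hy'Y hy'W).2 hWY).2 hcard
  have hWW' : ⁅V, X⁆ ⊓ ⁅V, Y⁆ = ⊥ := by
    rw [eq_bot_iff]
    intro u hu
    rw [mem_inf] at hu
    obtain ⟨w, hw, huw⟩ := hS y hyY hyW u hu.2
    have h1 : y * w * y⁻¹ = w * u := by rw [huw]; group
    have h2 : y * w * y⁻¹ ∈ ⁅V, X⁆ ⊓ (⁅V, X⁆).map (MulAut.conj y).toMonoidHom :=
      mem_inf.mpr ⟨by rw [h1]; exact Subgroup.mul_mem _ hw hu.1, ⟨w, hw, rfl⟩⟩
    rw [hdisj, mem_bot] at h2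
    have hw1 : w = 1 := by
      have h3 : w = y⁻¹ * (y * w * y⁻¹) * y := by group
      rw [h3, h2]; group
    rw [mem_bot, huw, hw1]; group
  have hFX := inf_centralizer_commutator_eq_bot hV h.hEV h.hf h.hnp h.hX
  have hFY := inf_centralizer_commutator_eq_bot hV h.hEV h.hf h.hnp h.hY
  have hCWX : ⁅V, X⁆ ⊓ centralizer (X : Set G) = ⊥ := by
    have hn : X ≤ normalizer ((⁅V, X⁆ ⊓ centralizer (X : Set G) : Subgroup G) : Set G) :=
      (Subgroup.le_centralizer_iff.mp inf_le_right).trans (centralizer_le_normalizer _)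
    rcases h.hiX _ inf_le_left hn with h1 | h1
    · exact h1
    · exfalso
      have h2 : ⁅V, X⁆ ≤ centralizer (X : Set G) := by
        intro w hw
        have h3 : w ∈ ⁅V, X⁆ ⊓ centralizer (X : Set G) := by rw [h1]; exact hw
        exact (mem_inf.mp h3).2
      have h3 : X ≤ X ⊓ centralizer ((⁅V, X⁆ : Subgroup G) : Set G) :=
        le_inf le_rfl (Subgroup.le_centralizer_iff.mp h2)
      rw [hFX] at h3
      have h4 : X = ⊥ := le_bot_iff.mp h3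
      have h5 := h.hcX
      rw [h4, Subgroup.card_bot] at h5
      omega
  have hO : ∀ y' ∈ Y, y' ∉ normalizer ((⁅V, X⁆ : Subgroup G) : Set G) →
      ∀ w ∈ ⁅V, X⁆, y' * w * y'⁻¹ = y * w * y⁻¹ := by
    intro y' hy'Y hy'W w hw
    have hu : w⁻¹ * (y * w * y⁻¹) ∈ ⁅V, Y⁆ := by
      have h1 : w⁻¹ * (y * w * y⁻¹) = ⁅w⁻¹, y⁆ := by rw [commutatorElement_def]; group
      rw [h1, ← hWY]
      exact Subgroup.commutator_mem_commutator (Subgroup.inv_mem _ hw) hyY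
    obtain ⟨w₁, hw₁, huw⟩ := hS y' hy'Y hy'W _ hu
    have hacX : y * w * y⁻¹ ∈ centralizer (X : Set G) :=
      (Subgroup.le_centralizer_iff.mp hXcy) ⟨w, hw, rfl⟩
    have hbcX : y' * w₁ * y'⁻¹ ∈ centralizer (X : Set G) :=
      (Subgroup.le_centralizer_iff.mp (hA y' hy'Y hy'W).1) ⟨w₁, hw₁, rfl⟩
    have hz : w₁ * w⁻¹ = (y' * w₁ * y'⁻¹) * (y * w * y⁻¹)⁻¹ := by
      calc w₁ * w⁻¹ = w₁ * (w⁻¹ * (y * w * y⁻¹)) * (y * w * y⁻¹)⁻¹ := by group
        _ = w₁ * (w₁⁻¹ * (y' * w₁ * y'⁻¹)) * (y * w * y⁻¹)⁻¹ := by rw [huw]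
        _ = (y' * w₁ * y'⁻¹) * (y * w * y⁻¹)⁻¹ := by group
    have hz1 : w₁ * w⁻¹ ∈ ⁅V, X⁆ ⊓ centralizer (X : Set G) :=
      mem_inf.mpr ⟨Subgroup.mul_mem _ hw₁ (Subgroup.inv_mem _ hw), by
        rw [hz]; exact Subgroup.mul_mem _ hbcX (Subgroup.inv_mem _ hacX)⟩
    rw [hCWX, mem_bot] at hz1
    have hw₁w : w₁ = w := mul_inv_eq_one.mp hz1
    rw [hz1] at hz
    have hba : y' * w₁ * y'⁻¹ = y * w * y⁻¹ := mul_inv_eq_one.mp hz.symm
    rw [hw₁w] at hba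
    exact hba
  have hY₀ : Y ⊓ normalizer ((⁅V, X⁆ : Subgroup G) : Set G) = ⊥ := by
    rw [eq_bot_iff, ← hFY]
    intro y₀ hy₀
    rw [mem_inf] at hy₀
    refine mem_inf.mpr ⟨hy₀.1, ?_⟩
    have hcW : ∀ w ∈ ⁅V, X⁆, y₀ * w * y₀⁻¹ = w := by
      intro w hw
      have h1 : y₀ * w * y₀⁻¹ * w⁻¹ ∈ ⁅V, X⁆ :=
        Subgroup.mul_mem _ ((mem_normalizer_iff.mp hy₀.2 w).mp hw) (Subgroup.inv_mem _ hw)
      have h2 : y₀ * w * y₀⁻¹ * w⁻¹ ∈ ⁅V, Y⁆ := by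
        rw [← hWY]
        have h3 : y₀ * w * y₀⁻¹ * w⁻¹ = (⁅w, y₀⁆)⁻¹ := by rw [commutatorElement_def]; group
        rw [h3]
        exact Subgroup.inv_mem _ (Subgroup.commutator_mem_commutator hw hy₀.1)
      have h3 : y₀ * w * y₀⁻¹ * w⁻¹ ∈ ⁅V, X⁆ ⊓ ⁅V, Y⁆ := mem_inf.mpr ⟨h1, h2⟩
      rw [hWW', mem_bot] at h3
      exact mul_inv_eq_one.mp h3
    rw [mem_centralizer_iff]
    intro u hu
    obtain ⟨w, hw, huw⟩ := hS y hyY hyW u hu
    have hy₀y : y₀ * y ∉ normalizer ((⁅V, X⁆ : Subgroup G) : Set G) := by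
      intro hmem
      apply hyW
      have h1 : y = y₀⁻¹ * (y₀ * y) := by group
      rw [h1]
      exact Subgroup.mul_mem _ (Subgroup.inv_mem _ hy₀.2) hmem
    have h4 := hO (y₀ * y) (Y.mul_mem hy₀.1 hyY) hy₀y w hw
    have h5 : y₀ * u * y₀⁻¹ = u := by
      rw [huw]
      calc y₀ * (w⁻¹ * (y * w * y⁻¹)) * y₀⁻¹
          = (y₀ * w * y₀⁻¹)⁻¹ * ((y₀ * y) * w * (y₀ * y)⁻¹) := by group
        _ = w⁻¹ * (y * w * y⁻¹) := by rw [hcW w hw, h4]
    calc u * y₀ = (y₀ * u * y₀⁻¹) * y₀ := by rw [h5]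
      _ = y₀ * u := by group
  have hall : ∀ g ∈ Y, g = 1 ∨ g = y := by
    intro g hg
    by_cases hgW : g ∈ normalizer ((⁅V, X⁆ : Subgroup G) : Set G)
    · left
      have h1 : g ∈ Y ⊓ normalizer ((⁅V, X⁆ : Subgroup G) : Set G) := mem_inf.mpr ⟨hg, hgW⟩
      rw [hY₀, mem_bot] at h1
      exact h1
    · right
      have h1 : y⁻¹ * g ∈ Y ⊓ normalizer ((⁅V, X⁆ : Subgroup G) : Set G) := by
        refine mem_inf.mpr ⟨Y.mul_mem (Y.inv_mem hyY) hg, ?_⟩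
        apply centralizer_le_normalizer
        rw [mem_centralizer_iff]
        intro w hw
        have h2 := hO g hg hgW w hw
        calc w * (y⁻¹ * g) = y⁻¹ * (y * w * y⁻¹) * g := by group
          _ = y⁻¹ * (g * w * g⁻¹) * g := by rw [h2]
          _ = y⁻¹ * g * w := by group
      rw [hY₀, mem_bot] at h1
      exact (inv_mul_eq_one.mp h1).symm
  have hsub : (Y : Set G) ⊆ {1, y} := fun g hg => by
    rcases hall g hg with h1 | h1
    · rw [h1]; exact Set.mem_insert _ _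
    · rw [h1]; exact Set.mem_insert_of_mem _ rfl
  have hc2 : Nat.card Y ≤ 2 := by
    have h1 : Nat.card Y = (Y : Set G).ncard := Nat.card_coe_set_eq _
    rw [h1]
    calc (Y : Set G).ncard ≤ ({1, y} : Set G).ncard := Set.ncard_le_ncard hsub (Set.toFinite _)
      _ ≤ ({y} : Set G).ncard + 1 := Set.ncard_insert_le _ _
      _ = 2 := by rw [Set.ncard_singleton]
  have h5 := h.hcY
  omega

end Cfsg.Agent.Lib.Helper20.SI
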