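import Mathlib

/-!
# Sylow subgroups of two groups sharing a common `p`-subgroup of full `p`-part order
-/

set_option autoImplicit false

namespace Cfsg.Agent.Lib.Helper20.Syl8

/-- if a group embeds into two finite groups and its order is the full `p`-part of both, then
Sylow `p`-subgroups of the two groups are isomorphic -/
theorem sylow_iso_of_injective {G₀ G H : Type*} [Group G₀] [Group G] [Group H] [Finite G] [Finite H]
    {p : ℕ} [Fact p.Prime] (f : G₀ →* G) (hf : Function.Injective f) (g : G₀ →* H)
    (hg : Function.Injective g)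
    (hG : Nat.card G₀ = p ^ (Nat.card G).factorization p)
    (hH : Nat.card G₀ = p ^ (Nat.card H).factorization p)
    (P : Sylow p G) (Q : Sylow p H) : Nonempty (↥(P : Subgroup G) ≃* ↥(Q : Subgroup H)) := by
  have hrf : Nat.card f.range = p ^ (Nat.card G).factorization p := by
    rw [← hG]; exact Nat.card_congr (MonoidHom.ofInjective hf).toEquiv.symm
  have hrg : Nat.card g.range = p ^ (Nat.card H).factorization p := by
    rw [← hH]; exact Nat.card_congr (MonoidHom.ofInjective hg).toEquiv.symm
  let P0 : Sylow p G := Sylow.ofCard f.range hrf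
  let Q0 : Sylow p H := Sylow.ofCard g.range hrg
  have e1 : G₀ ≃* (P0 : Subgroup G) := MonoidHom.ofInjective hf
  have e2 : G₀ ≃* (Q0 : Subgroup H) := MonoidHom.ofInjective hg
  exact ⟨(Sylow.equiv P P0).trans (e1.symm.trans (e2.trans (Sylow.equiv Q0 Q)))⟩

/-- the 2-adic valuation of `2 ^ k * m` with `m` odd -/
theorem fac_two (n k m : ℕ) (h : n = 2 ^ k * m) (hm : ¬ 2 ∣ m) : n.factorization 2 = k := by
  subst h
  have hm0 : m ≠ 0 := by
    rintro rfl
    exact hm (dvd_zero 2)
  rw [Nat.factorization_mul (pow_ne_zero _ (by norm_num)) hm0, Nat.factorization_pow]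
  simp [Nat.Prime.factorization_self Nat.prime_two, Nat.factorization_eq_zero_of_not_dvd hm]

end Cfsg.Agent.Lib.Helper20.Syl8
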