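import Mathlib
import Cfsg.Agent.S4623

/-!
# The group `(Q₈ × Q₈) : 2` acting on eight points

The twisted left-right action of `Q₈ ≀ C₂` on the set `Q₈`, with kernel of order two and image
inside the alternating group.
-/

set_option autoImplicit false

namespace Cfsg.Agent.Lib.Helper20.Syl8

open QuaternionGroup

/-- the quaternion group of order eight -/
abbrev Q8 := QuaternionGroup 2

/-- an outer involutory automorphism of the quaternion group -/
def sg : Q8 → Q8
  | a i => a (-i)
  | xa i => xa (1 - i)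

theorem sg_mul : ∀ x y : Q8, sg (x * y) = sg x * sg y := by decide

theorem sg_sg : ∀ x : Q8, sg (sg x) = x := by decide

theorem sg_one : sg 1 = 1 := by decide

theorem sg_inv : ∀ x : Q8, sg x⁻¹ = (sg x)⁻¹ := by decide

theorem ker_aux1 : ∀ x y : Q8, (∀ q : Q8, y * q * (sg x)⁻¹ = q) →
    (x = 1 ∧ y = 1) ∨ (x = a 2 ∧ y = a 2) := by decide

theorem ker_aux2 : ∀ x y : Q8, ¬ (∀ q : Q8, y * (sg q)⁻¹ * (sg x)⁻¹ = q) := by decide

theorem ker_aux3 : ∀ q : Q8, (a 2 : Q8) * q * (sg (a 2))⁻¹ = q := by decide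

theorem compat_aux : ∀ x y q : Q8,
    x * q * (sg y)⁻¹ = (sg (y * (sg q)⁻¹ * (sg x)⁻¹))⁻¹ := by decide

/-- the group `Q₈ ≀ C₂` -/
abbrev GQ := (Fin 2 → Q8) ⋊[Cfsg.Agent.S4623.actAut (Fin 2) Q8] Equiv.Perm (Fin 2)

/-- the base group acts by twisted left-right multiplication -/
def th1 : (Fin 2 → Q8) →* Equiv.Perm Q8 where
  toFun f :=
    { toFun := fun q => f 1 * q * (sg (f 0))⁻¹
      invFun := fun q => (f 1)⁻¹ * q * sg (f 0)
      left_inv := fun q => by simp [mul_assoc]
      right_inv := fun q => by simp [mul_assoc] }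
  map_one' := by
    ext q
    simp [sg_one]
  map_mul' f g := by
    ext q
    simp [sg_mul, mul_assoc]

theorem th1_apply (f : Fin 2 → Q8) (q : Q8) : th1 f q = f 1 * q * (sg (f 0))⁻¹ := rfl

/-- the twisted inversion -/
def Jp : Equiv.Perm Q8 where
  toFun q := (sg q)⁻¹
  invFun q := (sg q)⁻¹
  left_inv := by
    intro q
    show (sg ((sg q)⁻¹))⁻¹ = q
    rw [sg_inv, sg_sg, inv_inv]
  right_inv := by
    intro q
    show (sg ((sg q)⁻¹))⁻¹ = q
    rw [sg_inv, sg_sg, inv_inv]

theorem Jp_apply (q : Q8) : Jp q = (sg q)⁻¹ := rfl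

theorem Jp_mul_Jp : Jp * Jp = 1 := by
  ext q
  rw [Equiv.Perm.mul_apply, Jp_apply, Jp_apply, sg_inv, sg_sg, inv_inv, Equiv.Perm.one_apply]

theorem Jp_inv : Jp⁻¹ = Jp := inv_eq_of_mul_eq_one_left Jp_mul_Jp

theorem perm_fin_two (t : Equiv.Perm (Fin 2)) : t = 1 ∨ t = Equiv.swap 0 1 := by
  revert t; decide

/-- the top group acts through the twisted inversion -/
def th2 : Equiv.Perm (Fin 2) →* Equiv.Perm Q8 where
  toFun t := if t = 1 then 1 else Jp
  map_one' := if_pos rfl
  map_mul' s t := by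
    rcases perm_fin_two s with rfl | rfl <;> rcases perm_fin_two t with rfl | rfl
    · simp
    · simp
    · simp
    · have h1 : (Equiv.swap (0 : Fin 2) 1) * Equiv.swap 0 1 = 1 := Equiv.swap_mul_self 0 1
      have h2 : Equiv.swap (0 : Fin 2) 1 ≠ 1 := by decide
      rw [h1, if_pos rfl, if_neg h2, Jp_mul_Jp]

theorem th2_one : th2 1 = 1 := map_one th2

theorem th2_swap : th2 (Equiv.swap 0 1) = Jp := by
  have h2 : Equiv.swap (0 : Fin 2) 1 ≠ 1 := by decide
  show (if Equiv.swap (0 : Fin 2) 1 = 1 then 1 else Jp) = Jp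
  rw [if_neg h2]

theorem th_compat (t : Equiv.Perm (Fin 2)) :
    th1.comp (MulEquiv.toMonoidHom (Cfsg.Agent.S4623.actAut (Fin 2) Q8 t)) =
      (MulEquiv.toMonoidHom (MulAut.conj (th2 t))).comp th1 := by
  refine MonoidHom.ext fun f => ?_
  ext q
  rcases perm_fin_two t with rfl | rfl
  · show th1 (f ∘ ⇑(1 : Equiv.Perm (Fin 2)).symm) q = (th2 1 * th1 f * (th2 1)⁻¹) q
    rw [th2_one]
    simp
    rfl
  · show th1 (f ∘ ⇑(Equiv.swap (0 : Fin 2) 1).symm) q =
      (th2 (Equiv.swap 0 1) * th1 f * (th2 (Equiv.swap 0 1))⁻¹) q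
    rw [th2_swap, Jp_inv, Equiv.Perm.mul_apply, Equiv.Perm.mul_apply, th1_apply, th1_apply,
      Jp_apply, Jp_apply]
    have h0 : (f ∘ ⇑(Equiv.swap (0 : Fin 2) 1).symm) 0 = f 1 := by simp
    have h1 : (f ∘ ⇑(Equiv.swap (0 : Fin 2) 1).symm) 1 = f 0 := by simp
    rw [h0, h1]
    exact compat_aux (f 0) (f 1) q

/-- the action of `Q₈ ≀ C₂` on eight points -/
def Th : GQ →* Equiv.Perm Q8 := SemidirectProduct.lift th1 th2 th_compat

theorem Th_apply (g : GQ) : Th g = th1 g.left * th2 g.right := by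
  conv_lhs => rw [← SemidirectProduct.inl_left_mul_inr_right g]
  rw [map_mul, Th, SemidirectProduct.lift_inl, SemidirectProduct.lift_inr]

/-- the central involution -/
def zQ : GQ := SemidirectProduct.inl (fun _ => a 2)

theorem Th_eq_one_iff (g : GQ) : Th g = 1 ↔ g = 1 ∨ g = zQ := by
  constructor
  · intro h
    rw [Th_apply] at h
    rcases perm_fin_two g.right with ht | ht
    · rw [ht, th2_one, mul_one] at h
      have h1 : ∀ q : Q8, g.left 1 * q * (sg (g.left 0))⁻¹ = q := by
        intro q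
        rw [← th1_apply, h, Equiv.Perm.one_apply]
      rcases ker_aux1 _ _ h1 with ⟨h2, h3⟩ | ⟨h2, h3⟩
      · left
        apply SemidirectProduct.ext
        · funext i
          fin_cases i
          · exact h2
          · exact h3
        · exact ht
      · right
        apply SemidirectProduct.ext
        · funext i
          fin_cases i
          · exact h2
          · exact h3
        · exact ht
    · exfalso
      rw [ht, th2_swap] at h
      apply ker_aux2 (g.left 0) (g.left 1)
      intro q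
      have := congrArg (fun e : Equiv.Perm Q8 => e q) h
      simpa [th1_apply, Jp_apply] using this
  · rintro (rfl | rfl)
    · exact map_one Th
    · rw [Th_apply]
      have h1 : zQ.right = 1 := rfl
      rw [h1, th2_one, mul_one]
      ext q
      rw [th1_apply, Equiv.Perm.one_apply]
      exact ker_aux3 q

theorem sign_mulLeft : ∀ x : Q8, Equiv.Perm.sign (Equiv.mulLeft x) = 1 := by decide

theorem sign_mulRight : ∀ x : Q8, Equiv.Perm.sign (Equiv.mulRight x) = 1 := by decide

theorem sign_Jp : Equiv.Perm.sign Jp = 1 := by decide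

theorem sign_Th (g : GQ) : Equiv.Perm.sign (Th g) = 1 := by
  rw [Th_apply, map_mul]
  have h1 : th1 g.left = Equiv.mulLeft (g.left 1) * Equiv.mulRight ((sg (g.left 0))⁻¹) := by
    ext q
    simp [th1_apply, mul_assoc]
  rw [h1, map_mul, sign_mulLeft, sign_mulRight, one_mul, one_mul]
  rcases perm_fin_two g.right with ht | ht
  · rw [ht, th2_one, map_one]
  · rw [ht, th2_swap, sign_Jp]

theorem zQ_ne_one : zQ ≠ 1 := by
  intro h
  have h1 := congrArg (fun g : GQ => g.left 0) h
  have h2 : (a 2 : Q8) = 1 := h1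
  revert h2
  decide

theorem card_GQ : Nat.card GQ = 128 := by
  rw [SemidirectProduct.card, Nat.card_fun, Nat.card_fin, Nat.card_perm, Nat.card_fin,
    Nat.card_eq_fintype_card, QuaternionGroup.card]
  rfl

end Cfsg.Agent.Lib.Helper20.Syl8
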