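import Mathlib
import Cfsg.Prelude.Def_Classical
import Cfsg.Agent.S4624
import Cfsg.Agent.S0245
import Cfsg.Agent.S0246
import Cfsg.Agent.Lib.Helper2.SympCenter
import Cfsg.Agent.Lib.Helper20.Syl8A
import Cfsg.Agent.Lib.Helper20.Syl8B

/-!
# Sylow 2-subgroups of `A₈` and `PSp₄(3)`
-/

set_option autoImplicit false
set_option linter.style.haveILetI false

namespace Cfsg.Agent.Lib.Helper20.Syl8

open QuaternionGroup Matrix Cfsg.Agent.Lib.Helper14

/-- the matrix `i` -/
def mI : SpecialLinearGroup (Fin 2) (ZMod 3) := ⟨!![0, 1; 2, 0], by decide⟩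

/-- the matrix `j` -/
def mJ : SpecialLinearGroup (Fin 2) (ZMod 3) := ⟨!![1, 1; 1, 2], by decide⟩

/-- the underlying function of the embedding -/
def iota3Fun : Q8 → SpecialLinearGroup (Fin 2) (ZMod 3)
  | a i => mI ^ i.val
  | xa i => mJ * mI ^ i.val

theorem iota3Fun_mul : ∀ x y : Q8, iota3Fun (x * y) = iota3Fun x * iota3Fun y := by
  decide

/-- the quaternion group inside `SL₂(3)` -/
def iota3 : Q8 →* SpecialLinearGroup (Fin 2) (ZMod 3) where
  toFun := iota3Fun
  map_one' := by decide
  map_mul' := iota3Fun_mul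

theorem iota3_injective : Function.Injective iota3 := by
  intro x y h
  have h' : iota3Fun x = iota3Fun y := h
  revert x y
  decide

theorem iota3_a2 : ((iota3 (a 2) : SpecialLinearGroup (Fin 2) (ZMod 3)) :
    Matrix (Fin 2) (Fin 2) (ZMod 3)) = -1 := by
  show ((iota3Fun (a 2) : SpecialLinearGroup (Fin 2) (ZMod 3)) :
    Matrix (Fin 2) (Fin 2) (ZMod 3)) = -1
  decide

section field
variable {F : Type*} [Field F] [CharP F 3]

theorem slmap_injective {R S : Type*} [CommRing R] [CommRing S] (f : R →+* S)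
    (hf : Function.Injective f) :
    Function.Injective (SpecialLinearGroup.map (n := Fin 2) f) := by
  intro A B h
  apply Subtype.ext
  ext i j
  have h1 := congrArg (fun M : SpecialLinearGroup (Fin 2) S => M.1 i j) h
  simp only [SpecialLinearGroup.map_apply_coe, RingHom.mapMatrix_apply, Matrix.map_apply] at h1
  exact hf h1

/-- the quaternion group inside `SL₂(F)` -/
def iotaF : Q8 →* SpecialLinearGroup (Fin 2) F :=
  (SpecialLinearGroup.map (ZMod.castHom (dvd_refl 3) F)).comp iota3

theorem iotaF_injective : Function.Injective (iotaF (F := F)) := by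
  rw [iotaF, MonoidHom.coe_comp]
  exact (slmap_injective _ (RingHom.injective _)).comp iota3_injective

theorem iotaF_a2 : ((iotaF (F := F) (a 2) : SpecialLinearGroup (Fin 2) F) :
    Matrix (Fin 2) (Fin 2) F) = -1 := by
  rw [iotaF, MonoidHom.comp_apply, SpecialLinearGroup.map_apply_coe, iota3_a2, map_neg, map_one]

theorem PsiQ_compat (t : Equiv.Perm (Fin 2)) :
    ((sl2ToSp (F := F) (l := Fin 2)).comp ((iotaF (F := F)).compLeft (Fin 2))).comp
        (MulEquiv.toMonoidHom (Cfsg.Agent.S4623.actAut (Fin 2) Q8 t)) =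
      (MulEquiv.toMonoidHom (MulAut.conj ((permSp (F := F) (l := Fin 2)) t))).comp
        ((sl2ToSp (F := F) (l := Fin 2)).comp ((iotaF (F := F)).compLeft (Fin 2))) := by
  refine MonoidHom.ext fun f => ?_
  show sl2ToSp ((iotaF (F := F)).compLeft (Fin 2) (f ∘ ⇑t.symm)) =
    permSp t * sl2ToSp ((iotaF (F := F)).compLeft (Fin 2) f) * (permSp t)⁻¹
  rw [permSp_mul_sl2ToSp, mul_inv_cancel_right]
  rfl

/-- the embedding of `Q₈ ≀ C₂` into `Sp₄(F)` -/
def PsiQ : GQ →* symplecticGroup (Fin 2) F :=
  SemidirectProduct.lift ((sl2ToSp (F := F) (l := Fin 2)).comp ((iotaF (F := F)).compLeft (Fin 2)))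
    (permSp (F := F) (l := Fin 2)) PsiQ_compat

theorem PsiQ_injective : Function.Injective (PsiQ (F := F)) := by
  rw [injective_iff_map_eq_one]
  intro w hw
  rw [← SemidirectProduct.inl_left_mul_inr_right w, map_mul, PsiQ, SemidirectProduct.lift_inl,
    SemidirectProduct.lift_inr] at hw
  have h1 : sl2ToSp ((iotaF (F := F)).compLeft (Fin 2) w.left) = permSp (w.right⁻¹) := by
    rw [map_inv]
    exact eq_inv_of_mul_eq_one_left hw
  obtain ⟨h2, h3⟩ := sl2ToSp_eq_permSp _ _ h1
  apply SemidirectProduct.ext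
  · show w.left = 1
    funext i
    apply iotaF_injective (F := F)
    rw [Pi.one_apply, map_one]
    exact congrFun h2 i
  · show w.right = 1
    rw [inv_eq_one] at h3
    exact h3

theorem PsiQ_zQ : PsiQ (F := F) zQ = Cfsg.Agent.Lib.Helper2.sympNegOne 2 F := by
  rw [PsiQ, zQ, SemidirectProduct.lift_inl]
  apply Subtype.ext
  show sl2Mat ((iotaF (F := F)).compLeft (Fin 2) (fun _ => a 2)) = -1
  have h : ∀ i : Fin 2, (((iotaF (F := F)).compLeft (Fin 2) (fun _ => a 2)) i).1 = -1 := by
    intro i
    exact iotaF_a2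
  unfold sl2Mat
  simp only [h]
  rw [← fromBlocks_one, fromBlocks_neg]
  congr 1 <;> ext i j <;> by_cases hij : i = j <;> simp [Matrix.diagonal_apply, Matrix.one_apply, hij]

theorem PsiQ_mem_center_iff (g : GQ) :
    PsiQ (F := F) g ∈ Subgroup.center (symplecticGroup (Fin 2) F) ↔ g = 1 ∨ g = zQ := by
  have h := Cfsg.Agent.Lib.Helper2.symp_center_eq_pair (m := 2) (F := F) (by norm_num)
  have h1 : PsiQ (F := F) g ∈ Subgroup.center (symplecticGroup (Fin 2) F) ↔
      PsiQ (F := F) g ∈ ((Subgroup.center (symplecticGroup (Fin 2) F) : Subgroup _) :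
        Set (symplecticGroup (Fin 2) F)) := Iff.rfl
  rw [h1, h, Set.mem_insert_iff, Set.mem_singleton_iff, ← PsiQ_zQ, ← map_one (PsiQ (F := F)),
    PsiQ_injective.eq_iff, PsiQ_injective.eq_iff]

end field

theorem card_ker_Th : Nat.card Th.ker = 2 := by
  rw [Nat.card_eq_two_iff]
  refine ⟨⟨1, one_mem _⟩, ⟨zQ, (Th_eq_one_iff zQ).mpr (Or.inr rfl)⟩, ?_, ?_⟩
  · intro h
    exact zQ_ne_one (congrArg Subtype.val h).symm
  · ext x
    simp only [Set.mem_insert_iff, Set.mem_singleton_iff, Set.mem_univ, iff_true]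
    rcases (Th_eq_one_iff x.1).mp x.2 with h | h
    · left; exact Subtype.ext h
    · right; exact Subtype.ext h

theorem card_quot_Th : Nat.card (GQ ⧸ Th.ker) = 64 := by
  have h := Subgroup.card_eq_card_quotient_mul_card_subgroup Th.ker
  rw [card_GQ, card_ker_Th] at h
  omega

/-- the action on eight points, inside the alternating group -/
noncomputable def ThAlt : GQ →* alternatingGroup (Fin 8) :=
  ((((Fintype.equivFinOfCardEq (α := Q8) (n := 8)
      (by rw [QuaternionGroup.card])).permCongrHom : Equiv.Perm Q8 ≃* Equiv.Perm (Fin 8)) :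
    Equiv.Perm Q8 →* Equiv.Perm (Fin 8)).comp Th).codRestrict (alternatingGroup (Fin 8)) (by
  intro g
  rw [Equiv.Perm.mem_alternatingGroup, MonoidHom.comp_apply]
  show Equiv.Perm.sign ((Fintype.equivFinOfCardEq (α := Q8) (n := 8) _).permCongrHom (Th g)) = 1
  rw [Equiv.permCongrHom_coe, Equiv.Perm.sign_permCongr, sign_Th])

theorem ThAlt_eq_one_iff (g : GQ) : ThAlt g = 1 ↔ Th g = 1 := by
  constructor
  · intro h
    have h1 := congrArg Subtype.val h
    have h2 : (Fintype.equivFinOfCardEq (α := Q8) (n := 8)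
      (by rw [QuaternionGroup.card])).permCongrHom (Th g) = 1 := h1
    rw [← map_one ((Fintype.equivFinOfCardEq (α := Q8) (n := 8)
      (by rw [QuaternionGroup.card])).permCongrHom)] at h2
    exact (MulEquiv.injective _) h2
  · intro h
    apply Subtype.ext
    show (Fintype.equivFinOfCardEq (α := Q8) (n := 8)
      (by rw [QuaternionGroup.card])).permCongrHom (Th g) = 1
    rw [h, map_one]

/-- Sylow 2-subgroups of `A₈` and `PSp₄(3)` are isomorphic -/
theorem part_one (F : Type) [Field F] [Fintype F] (hF : Fintype.card F = 3)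
    (P : Sylow 2 ↥(alternatingGroup (Fin 8))) (Q : Sylow 2 (Cfsg.PSp 2 F)) :
    Nonempty (↥(P : Subgroup ↥(alternatingGroup (Fin 8))) ≃* ↥(Q : Subgroup (Cfsg.PSp 2 F))) := by
  haveI : CharP F 3 := by
    have h3 : ((3 : ℕ) : F) = 0 := by
      rw [← hF]
      exact Nat.cast_card_eq_zero F
    exact (CharP.charP_iff_prime_eq_zero Nat.prime_three).mpr h3
  -- the two injective homomorphisms from the quotient
  let f : GQ ⧸ Th.ker →* alternatingGroup (Fin 8) :=
    QuotientGroup.lift Th.ker ThAlt (fun g hg => (ThAlt_eq_one_iff g).mpr hg)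
  have hf : Function.Injective f := by
    rw [injective_iff_map_eq_one]
    intro x hx
    induction x using QuotientGroup.induction_on with
    | H g =>
      have h1 : ThAlt g = 1 := hx
      rw [QuotientGroup.eq_one_iff]
      exact (ThAlt_eq_one_iff g).mp h1
  let φ : GQ →* Cfsg.PSp 2 F :=
    (QuotientGroup.mk' (Subgroup.center (symplecticGroup (Fin 2) F))).comp (PsiQ (F := F))
  have hφ : ∀ g : GQ, φ g = 1 ↔ Th g = 1 := by
    intro g
    rw [Th_eq_one_iff, ← PsiQ_mem_center_iff (F := F)]
    exact QuotientGroup.eq_one_iff _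
  let g' : GQ ⧸ Th.ker →* Cfsg.PSp 2 F :=
    QuotientGroup.lift Th.ker φ (fun g hg => (hφ g).mpr hg)
  have hg' : Function.Injective g' := by
    rw [injective_iff_map_eq_one]
    intro x hx
    induction x using QuotientGroup.induction_on with
    | H g =>
      have h1 : φ g = 1 := hx
      rw [QuotientGroup.eq_one_iff]
      exact (hφ g).mp h1
  -- the orders
  have hA : (Nat.card (alternatingGroup (Fin 8))).factorization 2 = 6 := by
    rw [nat_card_alternatingGroup, Nat.card_fin]
    exact fac_two _ 6 315 (by decide) (by decide)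
  have hSp : Nat.card (symplecticGroup (Fin 2) F) = 51840 := by
    rw [Cfsg.Agent.S0245.result hF 2]
    decide
  have hZ : Nat.card (Subgroup.center (symplecticGroup (Fin 2) F)) = 2 := by
    rw [Cfsg.Agent.S0246.result hF 2 (by norm_num)]
    decide
  have hP : (Nat.card (Cfsg.PSp 2 F)).factorization 2 = 6 := by
    have h := Subgroup.card_eq_card_quotient_mul_card_subgroup
      (Subgroup.center (symplecticGroup (Fin 2) F))
    rw [hSp, hZ] at h
    have h2 : Nat.card (Cfsg.PSp 2 F) = 25920 := by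
      show Nat.card (symplecticGroup (Fin 2) F ⧸ Subgroup.center (symplecticGroup (Fin 2) F)) = _
      omega
    rw [h2]
    exact fac_two _ 6 405 (by decide) (by decide)
  exact sylow_iso_of_injective f hf g' hg' (by rw [card_quot_Th, hA]; norm_num)
    (by rw [card_quot_Th, hP]; norm_num) P Q

end Cfsg.Agent.Lib.Helper20.Syl8
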