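import Mathlib
import Cfsg.Prelude.Def_Classical
import Cfsg.Agent.S4623
import Cfsg.Agent.Lib.Helper6.Siegel
import Cfsg.Agent.Lib.Helper13.OrthCharTwoMat
import Cfsg.Agent.Lib.Helper15.OPlus1

/-!
# The group `C₂ ≀ P` (`P ≤ S₄`) inside the orthogonal group `O₆⁻(2)`

A model quadratic form on `F₂^(2+4)`, Siegel transformations for the base group and coordinate
permutations for the top group.
-/

set_option autoImplicit false
set_option linter.unusedSectionVars false

namespace Cfsg.Agent.Lib.Helper20.Syl8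

open Matrix Cfsg.Agent.Lib.Helper6 Cfsg.Agent.Lib.Helper15

/-- the index type of the model -/
abbrev I6 := Fin 2 ⊕ Fin 4

/-- the model form as a function -/
def qm (v : I6 → ZMod 2) : ZMod 2 :=
  v (Sum.inl 0) * v (Sum.inl 1) +
    ∑ i : Fin 4, ∑ j : Fin 4, if i ≤ j then v (Sum.inr i) * v (Sum.inr j) else 0

/-- the model form as a quadratic form -/
def Qm : QuadraticForm (ZMod 2) (I6 → ZMod 2) :=
  QuadraticMap.proj (Sum.inl 0) (Sum.inl 1) +
    ∑ i : Fin 4, ∑ j : Fin 4, if i ≤ j then QuadraticMap.proj (Sum.inr i) (Sum.inr j) else 0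

theorem Qm_apply (v : I6 → ZMod 2) : Qm v = qm v := by
  unfold Qm qm
  rw [_root_.add_apply, _root_.sum_apply]
  congr 1

/-- the singular vector -/
def uv : I6 → ZMod 2 := Pi.single (Sum.inl 0) 1

/-- its hyperbolic partner -/
def fv : I6 → ZMod 2 := Pi.single (Sum.inl 1) 1

/-- vectors of the anisotropic part -/
def wv (c : Fin 4 → ZMod 2) : I6 → ZMod 2 := Sum.elim 0 c

theorem Qm_uv : Qm uv = 0 := by
  rw [Qm_apply]
  decide

theorem polar_uv_wv (c : Fin 4 → ZMod 2) : QuadraticMap.polar (⇑Qm) uv (wv c) = 0 := by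
  unfold QuadraticMap.polar
  rw [Qm_apply, Qm_apply, Qm_apply]
  revert c
  decide

theorem polar_uv_fv : QuadraticMap.polar (⇑Qm) uv fv = 1 := by
  unfold QuadraticMap.polar
  rw [Qm_apply, Qm_apply, Qm_apply]
  decide

theorem wv_add (c d : Fin 4 → ZMod 2) : wv (c + d) = wv c + wv d := by
  funext x
  rcases x with x | x <;> simp [wv]

theorem wv_zero : wv 0 = 0 := by
  funext x
  rcases x with x | x <;> simp [wv]

theorem siegIso_congr2 {F : Type*} [Field F] {ι : Type} [Fintype ι] [DecidableEq ι]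
    (Q : QuadraticForm F (ι → F)) (u u' w w' : ι → F) (hu : Q u = 0)
    (huw : QuadraticMap.polar (⇑Q) u w = 0) (hu' : Q u' = 0)
    (huw' : QuadraticMap.polar (⇑Q) u' w' = 0) (h1 : u = u') (h2 : w = w') :
    siegIso Q u w hu huw = siegIso Q u' w' hu' huw' := by
  subst h1; subst h2; rfl

/-- the base group -/
def be1 : (Fin 4 → Multiplicative (ZMod 2)) →* ↥(Cfsg.isometryGroup (ZMod 2) ⇑Qm) where
  toFun c := siegIso Qm uv (wv (fun i => Multiplicative.toAdd (c i))) Qm_uv (polar_uv_wv _)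
  map_one' := by
    rw [← siegIso_zero Qm uv Qm_uv]
    apply siegIso_congr2 _ _ _ _ _ _ _ _ _ rfl
    exact wv_zero
  map_mul' c d := by
    rw [siegIso_mul]
    apply siegIso_congr2 _ _ _ _ _ _ _ _ _ rfl
    rw [← wv_add]
    rfl

/-- the permutation of the six coordinates -/
def s6 (σ : Equiv.Perm (Fin 4)) : Equiv.Perm I6 := Equiv.sumCongr (Equiv.refl (Fin 2)) σ

theorem qm_perm : ∀ (σ : Equiv.Perm (Fin 4)) (v : I6 → ZMod 2), qm (v ∘ s6 σ) = qm v := by
  decide

theorem Qm_perm (σ : Equiv.Perm (Fin 4)) (v : I6 → ZMod 2) : Qm (v ∘ s6 σ) = Qm v := by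
  rw [Qm_apply, Qm_apply, qm_perm]

/-- the top group -/
def be2 : Equiv.Perm (Fin 4) →* ↥(Cfsg.isometryGroup (ZMod 2) ⇑Qm) where
  toFun σ := permIso (⇑Qm) (s6 σ⁻¹) (Qm_perm σ⁻¹)
  map_one' := by
    apply isometry_ext
    intro v
    rw [permIso_mulVec]
    show v ∘ s6 (1 : Equiv.Perm (Fin 4))⁻¹ = (1 : Matrix I6 I6 (ZMod 2)) *ᵥ v
    rw [Matrix.one_mulVec]
    funext x
    rcases x with x | x <;> rfl
  map_mul' σ τ := by
    apply isometry_ext
    intro v
    rw [isometry_mul_mulVec, permIso_mulVec, permIso_mulVec, permIso_mulVec]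
    funext x
    rcases x with x | x <;> simp [s6]

theorem gact_be2 (σ : Equiv.Perm (Fin 4)) (v : I6 → ZMod 2) :
    gact Qm (be2 σ) v = v ∘ s6 σ⁻¹ :=
  permIso_mulVec (⇑Qm) (s6 σ⁻¹) (Qm_perm σ⁻¹) v

theorem be_compat (σ : Equiv.Perm (Fin 4)) :
    be1.comp (MulEquiv.toMonoidHom
      (Cfsg.Agent.S4623.actAut (Fin 4) (Multiplicative (ZMod 2)) σ)) =
      (MulEquiv.toMonoidHom (MulAut.conj (be2 σ))).comp be1 := by
  refine MonoidHom.ext fun c => ?_
  show be1 (c ∘ ⇑σ.symm) = be2 σ * be1 c * (be2 σ)⁻¹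
  show siegIso Qm uv (wv (fun i => Multiplicative.toAdd ((c ∘ ⇑σ.symm) i))) Qm_uv (polar_uv_wv _) =
    be2 σ * siegIso Qm uv (wv (fun i => Multiplicative.toAdd (c i))) Qm_uv (polar_uv_wv _) *
      (be2 σ)⁻¹
  rw [conj_siegIso]
  apply siegIso_congr2
  · rw [gact_be2]
    funext x
    rcases x with x | x
    · fin_cases x <;> rfl
    · rfl
  · rw [gact_be2]
    funext x
    rcases x with x | x
    · rfl
    · rfl

end Cfsg.Agent.Lib.Helper20.Syl8
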