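import Mathlib
import Cfsg.Prelude.Def_Classical
import Cfsg.Agent.S0288
import Cfsg.Agent.S0825
import Cfsg.Agent.Lib.Helper20.Syl8A
import Cfsg.Agent.Lib.Helper20.Syl8D

/-!
# Sylow 2-subgroups of `S₈` and `O₆⁻(2)`
-/

set_option autoImplicit false
set_option linter.unusedSectionVars false

namespace Cfsg.Agent.Lib.Helper20.Syl8

open Matrix Cfsg.Agent.Lib.Helper6 Cfsg.Agent.Lib.Helper15 Cfsg.Agent.Lib.Helper13

/-- the embedding of the wreath-type group into the isometry group of the model form -/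
theorem beW_compat (Pm : Subgroup (Equiv.Perm (Fin 4))) (t : Pm) :
    be1.comp (MulEquiv.toMonoidHom
      (((Cfsg.Agent.S4623.actAut (Fin 4) (Multiplicative (ZMod 2))).comp Pm.subtype) t)) =
      (MulEquiv.toMonoidHom (MulAut.conj ((be2.comp Pm.subtype) t))).comp be1 :=
  be_compat (t : Equiv.Perm (Fin 4))

def beW (Pm : Subgroup (Equiv.Perm (Fin 4))) :
    Cfsg.Agent.S4623.Wr 2 4 Pm →* ↥(Cfsg.isometryGroup (ZMod 2) ⇑Qm) :=
  SemidirectProduct.lift be1 (be2.comp Pm.subtype) (beW_compat Pm)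

theorem fv_perm (σ : Equiv.Perm (Fin 4)) : fv ∘ s6 σ = fv := by
  funext x
  rcases x with x | x
  · fin_cases x <;> rfl
  · rfl

theorem be2_eq_one (σ : Equiv.Perm (Fin 4)) (h : be2 σ = 1) : σ = 1 := by
  have h1 : ∀ v : I6 → ZMod 2, v ∘ s6 σ⁻¹ = v := by
    intro v
    rw [← gact_be2, h, gact_one]
  apply Equiv.ext
  intro i
  show σ i = i
  have h2 := congrFun (h1 (Pi.single (Sum.inr i) 1)) (Sum.inr (σ i))
  have h3 : s6 σ⁻¹ (Sum.inr (σ i)) = Sum.inr i := by
    simp [s6]
  rw [Function.comp_apply, h3, Pi.single_eq_same] at h2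
  by_contra hne
  have hne' : (Sum.inr (σ i) : I6) ≠ Sum.inr i := fun h => hne (Sum.inr.inj h)
  rw [Pi.single_eq_of_ne hne'] at h2
  exact one_ne_zero h2

theorem be1_eq (c : Fin 4 → Multiplicative (ZMod 2)) :
    be1 c = siegIso Qm uv (wv (fun i => Multiplicative.toAdd (c i))) Qm_uv (polar_uv_wv _) := rfl

theorem beW_injective (Pm : Subgroup (Equiv.Perm (Fin 4))) : Function.Injective (beW Pm) := by
  rw [injective_iff_map_eq_one]
  intro w hw
  rw [← SemidirectProduct.inl_left_mul_inr_right w, map_mul, beW, SemidirectProduct.lift_inl,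
    SemidirectProduct.lift_inr] at hw
  have hw' : be1 w.left * be2 (w.right : Equiv.Perm (Fin 4)) = 1 := hw
  have h1 : ∀ v, gact Qm (be1 w.left) (gact Qm (be2 (w.right : Equiv.Perm (Fin 4))) v) = v := by
    intro v
    rw [← gact_mul, hw', gact_one]
  have hc : ∀ i, Multiplicative.toAdd (w.left i) = 0 := by
    intro i
    have h2 := congrFun (h1 fv) (Sum.inr i)
    rw [gact_be2, fv_perm, be1_eq, gact_siegIso, polar_uv_fv] at h2
    have h3 : fv (Sum.inr i) = 0 := rfl
    have h4 : uv (Sum.inr i) = 0 := rfl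
    have h5 : wv (fun i => Multiplicative.toAdd (w.left i)) (Sum.inr i) =
      Multiplicative.toAdd (w.left i) := rfl
    simp only [Pi.add_apply, Pi.smul_apply, smul_eq_mul, h3, h4, h5, mul_zero, add_zero,
      zero_add] at h2
    have h6 : (-1 : ZMod 2) = 1 := by decide
    rw [h6, one_mul] at h2
    exact h2
  have hl : w.left = 1 := by
    funext i
    exact hc i
  have hr : be2 (w.right : Equiv.Perm (Fin 4)) = 1 := by
    rw [hl, map_one, one_mul] at hw'
    exact hw'
  apply SemidirectProduct.ext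
  · exact hl
  · exact Subtype.ext (be2_eq_one _ hr)

section transport
universe u
variable {F : Type u} [Field F] {ι ι' : Type} [Fintype ι] [DecidableEq ι] [Fintype ι']
  [DecidableEq ι']

/-- transport of isometries along a linear isometry -/
noncomputable def isoTransport (Q : (ι → F) → F) (Q' : (ι' → F) → F)
    (g : (ι → F) ≃ₗ[F] (ι' → F)) (hg : ∀ v, Q v = Q' (g v)) :
    ↥(Cfsg.isometryGroup F Q) →* ↥(Cfsg.isometryGroup F Q') where
  toFun x := ⟨glEquiv.symm ((g.symm.trans (glEquiv x.1)).trans g), by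
    rw [mem_isometryGroup_iff]
    intro u
    rw [glEquiv_symm_mulVec]
    change Q' (g ((x.1 : Matrix ι ι F) *ᵥ g.symm u)) = Q' u
    rw [← hg, (mem_isometryGroup_iff Q x.1).mp x.2, hg, g.apply_symm_apply]⟩
  map_one' := by
    apply Subtype.ext
    show glEquiv.symm ((g.symm.trans (glEquiv (1 : GL ι F))).trans g) = 1
    rw [← map_one (glEquiv (F := F) (ι := ι')).symm]
    congr 1
    apply LinearEquiv.ext
    intro v
    show g (glEquiv (1 : GL ι F) (g.symm v)) = v
    rw [map_one]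
    show g (g.symm v) = v
    exact g.apply_symm_apply v
  map_mul' x y := by
    apply Subtype.ext
    show glEquiv.symm ((g.symm.trans (glEquiv (x.1 * y.1))).trans g) =
      glEquiv.symm ((g.symm.trans (glEquiv x.1)).trans g) *
        glEquiv.symm ((g.symm.trans (glEquiv y.1)).trans g)
    rw [← map_mul]
    congr 1
    apply LinearEquiv.ext
    intro v
    show g (glEquiv (x.1 * y.1) (g.symm v)) =
      g (glEquiv x.1 (g.symm (g (glEquiv y.1 (g.symm v)))))
    rw [g.symm_apply_apply, map_mul]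
    rfl

theorem isoTransport_injective (Q : (ι → F) → F) (Q' : (ι' → F) → F)
    (g : (ι → F) ≃ₗ[F] (ι' → F)) (hg : ∀ v, Q v = Q' (g v)) :
    Function.Injective (isoTransport Q Q' g hg) := by
  intro x y h
  have h1 : glEquiv.symm ((g.symm.trans (glEquiv x.1)).trans g) =
      glEquiv.symm ((g.symm.trans (glEquiv y.1)).trans g) := congrArg Subtype.val h
  have h2 := glEquiv.symm.injective h1
  apply Subtype.ext
  apply (glEquiv (F := F) (ι := ι)).injective
  apply LinearEquiv.ext
  intro v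
  have h3 := LinearEquiv.congr_fun h2 (g v)
  have h4 : g (glEquiv x.1 (g.symm (g v))) = g (glEquiv y.1 (g.symm (g v))) := h3
  rw [g.symm_apply_apply] at h4
  exact g.injective h4

end transport

/-- the index type of the minus form -/
abbrev J6 := (Fin 2 ⊕ Fin 2) ⊕ Fin 2

/-- the change of coordinates -/
def gLfun (v : I6 → ZMod 2) : J6 → ZMod 2 :=
  Sum.elim (Sum.elim ![v (Sum.inl 0), v (Sum.inr 2)] ![v (Sum.inl 1), v (Sum.inr 3)])
    ![v (Sum.inr 0) + v (Sum.inr 2) + v (Sum.inr 3), v (Sum.inr 1) + v (Sum.inr 2) + v (Sum.inr 3)]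

/-- the inverse change of coordinates -/
def gLinv (u : J6 → ZMod 2) : I6 → ZMod 2 :=
  Sum.elim ![u (Sum.inl (Sum.inl 0)), u (Sum.inl (Sum.inr 0))]
    ![u (Sum.inr 0) + u (Sum.inl (Sum.inl 1)) + u (Sum.inl (Sum.inr 1)),
      u (Sum.inr 1) + u (Sum.inl (Sum.inl 1)) + u (Sum.inl (Sum.inr 1)),
      u (Sum.inl (Sum.inl 1)), u (Sum.inl (Sum.inr 1))]

theorem gLfun_add (v w : I6 → ZMod 2) : gLfun (v + w) = gLfun v + gLfun w := by
  funext k
  rcases k with (k | k) | k <;> fin_cases k <;> simp [gLfun] <;> ring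

theorem gLinv_gLfun : ∀ v : I6 → ZMod 2, gLinv (gLfun v) = v := by decide

theorem gLfun_gLinv : ∀ u : J6 → ZMod 2, gLfun (gLinv u) = u := by decide

theorem gLfun_form : ∀ v : I6 → ZMod 2, qm v = Cfsg.quadFormMinus 2 (ZMod 2) 1 1 (gLfun v) := by
  decide

theorem gLfun_zero : gLfun 0 = 0 := by decide

/-- the linear change of coordinates -/
def gL : (I6 → ZMod 2) ≃ₗ[ZMod 2] (J6 → ZMod 2) where
  toFun := gLfun
  invFun := gLinv
  left_inv := gLinv_gLfun
  right_inv := gLfun_gLinv
  map_add' := gLfun_add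
  map_smul' c v := by
    have hc : c = 0 ∨ c = 1 := by revert c; decide
    rcases hc with rfl | rfl
    · rw [zero_smul, RingHom.id_apply, zero_smul]
      exact gLfun_zero
    · rw [one_smul, RingHom.id_apply, one_smul]

theorem gL_form (v : I6 → ZMod 2) : (⇑Qm) v = Cfsg.quadFormMinus 2 (ZMod 2) 1 1 (gL v) := by
  rw [Qm_apply]
  exact gLfun_form v

end Cfsg.Agent.Lib.Helper20.Syl8
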