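import Mathlib
import Cfsg.Prelude.Def_Classical
import Cfsg.Agent.Lib.Helper20.Syl8E

/-!
# Sylow 2-subgroups of `S₈` and `O₆⁻(2)`: the final statement
-/

set_option autoImplicit false

namespace Cfsg.Agent.Lib.Helper20.Syl8

theorem aniso_two : ∀ a' b' : ZMod 2,
    (∀ z₁ z₂ : ZMod 2, z₁ ^ 2 + a' * z₁ * z₂ + b' * z₂ ^ 2 = 0 → z₁ = 0 ∧ z₂ = 0) →
      a' = 1 ∧ b' = 1 := by decide

/-- Sylow 2-subgroups of `S₈` and `O₆⁻(2)` are isomorphic -/
theorem part_two (K : Type) [Field K] [Fintype K] (hK : Fintype.card K = 2) (a b : K)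
    (hab : ∀ z₁ z₂ : K, z₁ ^ 2 + a * z₁ * z₂ + b * z₂ ^ 2 = 0 → z₁ = 0 ∧ z₂ = 0)
    (P' : Sylow 2 (Equiv.Perm (Fin 8)))
    (Q' : Sylow 2 ↥(Cfsg.isometryGroup K (Cfsg.quadFormMinus 2 K a b))) :
    Nonempty (↥(P' : Subgroup (Equiv.Perm (Fin 8))) ≃*
      ↥(Q' : Subgroup ↥(Cfsg.isometryGroup K (Cfsg.quadFormMinus 2 K a b)))) := by
  let e : K ≃+* ZMod 2 := (ZMod.ringEquivOfPrime K Nat.prime_two hK).symm
  have hab' : ∀ z₁ z₂ : ZMod 2, z₁ ^ 2 + e a * z₁ * z₂ + e b * z₂ ^ 2 = 0 → z₁ = 0 ∧ z₂ = 0 := by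
    intro z₁ z₂ h
    have h1 := hab (e.symm z₁) (e.symm z₂) (by
      apply e.injective
      simp only [map_add, map_mul, map_pow, RingEquiv.apply_symm_apply, map_zero]
      exact h)
    constructor
    · have := congrArg e h1.1
      simpa using this
    · have := congrArg e h1.2
      simpa using this
  obtain ⟨ha1, hb1⟩ := aniso_two (e a) (e b) hab'
  have hform : ∀ v : J6 → K, e (Cfsg.quadFormMinus 2 K a b v) =
      Cfsg.quadFormMinus 2 (ZMod 2) 1 1 (fun i => e (v i)) := by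
    intro v
    unfold Cfsg.quadFormMinus
    simp only [map_add, map_mul, map_sum, map_pow, ha1, hb1]
  obtain ⟨E⟩ := Cfsg.Agent.S0825.isometryGroup_congr e (Cfsg.quadFormMinus 2 K a b)
    (Cfsg.quadFormMinus 2 (ZMod 2) 1 1) hform
  obtain ⟨Pm⟩ : Nonempty (Sylow 2 (Equiv.Perm (Fin (8 / 2)))) := inferInstance
  obtain ⟨Φ, hΦ, -, hcard⟩ := Cfsg.Agent.S4623.model 2 8 Pm
  let β : Cfsg.Agent.S4623.Wr 2 (8 / 2) Pm →*
      ↥(Cfsg.isometryGroup K (Cfsg.quadFormMinus 2 K a b)) :=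
    E.symm.toMonoidHom.comp
      ((isoTransport (⇑Qm) (Cfsg.quadFormMinus 2 (ZMod 2) 1 1) gL gL_form).comp
        (beW (Pm : Subgroup (Equiv.Perm (Fin 4)))))
  have hβ : Function.Injective β :=
    E.symm.injective.comp ((isoTransport_injective _ _ gL gL_form).comp (beW_injective _))
  have h8 : (Nat.card (Equiv.Perm (Fin 8))).factorization 2 = 7 := by
    rw [Nat.card_perm, Nat.card_fin]
    exact fac_two _ 7 315 (by decide) (by decide)
  have hO : Nat.card ↥(Cfsg.isometryGroup K (Cfsg.quadFormMinus 2 K a b)) = 51840 := by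
    have h := Cfsg.Agent.S0288.result hK 3 (by norm_num) a b hab
    rw [show Cfsg.quadFormMinus (3 - 1) K a b = Cfsg.quadFormMinus 2 K a b from rfl] at h
    rw [h]
    decide
  have hO7 : (Nat.card ↥(Cfsg.isometryGroup K (Cfsg.quadFormMinus 2 K a b))).factorization 2 = 7 := by
    rw [hO]
    exact fac_two _ 7 405 (by decide) (by decide)
  exact sylow_iso_of_injective Φ hΦ β hβ hcard (by rw [hcard, h8, hO7]) P' Q'

end Cfsg.Agent.Lib.Helper20.Syl8
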