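import Cfsg.Agent.Lib.Helper28.SylAlt.Defs

set_option autoImplicit false

/-! S2221 farm (architect helper28), piece [S1]: fixed points of a Sylow 2-subgroup of
`Perm (Fin m)`. -/

namespace Cfsg.Agent.Lib.Helper28.SylAlt

open SW Equiv

variable {m : ℕ}

namespace Helper20

/-- a point is fixed by all of `T` iff it is a fixed point of the action of `↥T` -/
theorem mem_fixedPoints_iff (T : Subgroup (Perm (Fin m))) (a : Fin m) :
    a ∈ MulAction.fixedPoints ↥T (Fin m) ↔ ∀ t ∈ T, t a = a := by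
  constructor
  · intro h t ht
    exact h ⟨t, ht⟩
  · intro h t
    exact h t.1 t.2

end Helper20

theorem syl_fix_unique (T : Sylow 2 (Perm (Fin m))) (a b : Fin m) (ha : ∀ t ∈ T, t a = a)
    (hb : ∀ t ∈ T, t b = b) : a = b := by
  by_contra hab
  have hs2 : IsPGroup 2 (Subgroup.zpowers (swap a b)) := by
    have h2 : (swap a b) ^ 2 = 1 := by
      rw [pow_two, swap_mul_self]
    intro g
    obtain ⟨g, hg⟩ := g
    obtain ⟨k, rfl⟩ := Subgroup.mem_zpowers_iff.mp hg
    refine ⟨1, ?_⟩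
    apply Subtype.ext
    simp only [pow_one, Subgroup.coe_pow, Subgroup.coe_one]
    rw [← zpow_natCast, ← zpow_mul, mul_comm, zpow_mul, zpow_natCast, h2, one_zpow]
  have hcomm : ∀ t ∈ T, t * swap a b * t⁻¹ = swap a b := by
    intro t ht
    have := Equiv.swap_apply_apply t a b
    rw [ha t ht, hb t ht] at this
    exact this.symm
  have hle : (T : Subgroup (Perm (Fin m))) ≤ Subgroup.normalizer
      (Subgroup.zpowers (swap a b) : Set (Perm (Fin m))) := by
    intro t ht
    rw [Subgroup.mem_normalizer_iff]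
    intro h
    have key : ∀ h, h ∈ Subgroup.zpowers (swap a b) → t * h * t⁻¹ = h := by
      intro h hh
      obtain ⟨k, rfl⟩ := Subgroup.mem_zpowers_iff.mp hh
      have : t * swap a b ^ k * t⁻¹ = (t * swap a b * t⁻¹) ^ k := by
        rw [conj_zpow]
      rw [this, hcomm t ht]
    constructor
    · intro hh
      rw [key h hh]; exact hh
    · intro hh
      have h1 : t⁻¹ * (t * h * t⁻¹) * t = h := by group
      have h2 := key _ hh
      -- t * (t h t⁻¹) t⁻¹ = t h t⁻¹, so t h t⁻¹ = h after cancelling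
      have h3 : t * h * t⁻¹ = h := by
        have : t * (t * h * t⁻¹) * t⁻¹ = t * h * t⁻¹ := h2
        have h4 : t⁻¹ * (t * (t * h * t⁻¹) * t⁻¹) * t = t⁻¹ * (t * h * t⁻¹) * t := by rw [this]
        have h5 : t⁻¹ * (t * (t * h * t⁻¹) * t⁻¹) * t = t * h * t⁻¹ := by group
        rw [h5, h1] at h4
        exact h4
      rw [← h3]; exact hh
  have hp : IsPGroup 2 ((T : Subgroup (Perm (Fin m))) ⊔ Subgroup.zpowers (swap a b) :
      Subgroup (Perm (Fin m))) :=
    IsPGroup.to_sup_of_normal_right' T.isPGroup' hs2 hle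
  have heq := T.is_maximal' hp le_sup_left
  have hmem : swap a b ∈ (T : Subgroup (Perm (Fin m))) := by
    rw [← heq]
    exact (le_sup_right : Subgroup.zpowers (swap a b) ≤ _) (Subgroup.mem_zpowers _)
  have := ha _ hmem
  rw [swap_apply_left] at this
  exact hab this.symm

theorem syl_exists_fix (T : Sylow 2 (Perm (Fin m))) (hodd : Odd m) : ∃ a, ∀ t ∈ T, t a = a := by
  have hT : IsPGroup 2 ↥(T : Subgroup (Perm (Fin m))) := T.isPGroup'
  have hnd : ¬ 2 ∣ Nat.card (Fin m) := by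
    rw [Nat.card_eq_fintype_card, Fintype.card_fin]
    exact hodd.not_two_dvd_nat
  obtain ⟨a, ha⟩ := IsPGroup.nonempty_fixed_point_of_prime_not_dvd_card hT (Fin m) hnd
  exact ⟨a, (Helper20.mem_fixedPoints_iff _ a).mp ha⟩

theorem syl_no_fix (T : Sylow 2 (Perm (Fin m))) (hev : Even m) (i : Fin m) :
    ∃ t ∈ T, t i ≠ i := by
  by_contra hno
  have hi : ∀ t ∈ T, t i = i := by
    intro t ht
    by_contra h
    exact hno ⟨t, ht, h⟩
  have hT : IsPGroup 2 ↥(T : Subgroup (Perm (Fin m))) := T.isPGroup'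
  have hdvd : 2 ∣ Nat.card (Fin m) := by
    rw [Nat.card_eq_fintype_card, Fintype.card_fin]
    exact hev.two_dvd
  obtain ⟨j, hj, hji⟩ := IsPGroup.exists_fixed_point_of_prime_dvd_card_of_fixed_point hT (Fin m)
    hdvd ((Helper20.mem_fixedPoints_iff _ i).mpr hi)
  exact hji (syl_fix_unique T i j hi ((Helper20.mem_fixedPoints_iff _ j).mp hj))

theorem pow_of_trans (T : Subgroup (Perm (Fin m))) (hT : IsPGroup 2 T) (hm : 2 ≤ m) (a : Fin m)
    (ha : ∀ t ∈ T, t a = a) (htr : ∀ i i', i ≠ a → i' ≠ a → ∃ t ∈ T, t i = i') :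
    ∃ j : ℕ, m = 2 ^ j + 1 := by
  -- pick i ≠ a
  obtain ⟨i, hi⟩ : ∃ i : Fin m, i ≠ a := by
    by_cases h0 : (a : ℕ) = 0
    · refine ⟨⟨1, by omega⟩, ?_⟩
      intro h
      rw [← h] at h0
      simp at h0
    · refine ⟨⟨0, by omega⟩, ?_⟩
      intro h
      rw [← h] at h0
      simp at h0
  obtain ⟨j, hj⟩ := hT.card_orbit (α := Fin m) i
  refine ⟨j, ?_⟩
  have horb : MulAction.orbit ↥T i = {x | x ≠ a} := by
    ext x
    constructor
    · rintro ⟨t, rfl⟩
      intro hx
      apply hi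
      have h1 : (t : Perm (Fin m)) i = a := hx
      have h2 := ha t.1 t.2
      have : (t : Perm (Fin m)) i = (t : Perm (Fin m)) a := by rw [h1, h2]
      exact (t : Perm (Fin m)).injective this
    · intro hx
      obtain ⟨t, ht, hti⟩ := htr i x hi hx
      exact ⟨⟨t, ht⟩, hti⟩
  rw [horb] at hj
  have hc : Nat.card ↥({x | x ≠ a} : Set (Fin m)) = m - 1 := by
    rw [Nat.card_coe_set_eq]
    have : ({x | x ≠ a} : Set (Fin m)) = ({a} : Set (Fin m))ᶜ := by
      ext x; simp
    rw [this, Set.ncard_compl, Set.ncard_singleton, Nat.card_eq_fintype_card, Fintype.card_fin]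
  rw [hc] at hj
  omega

end Cfsg.Agent.Lib.Helper28.SylAlt
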