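import Cfsg.Agent.Lib.Helper20.SylAltS1

set_option autoImplicit false

/-! S2221 farm (architect helper28), piece [S3]: a Sylow 2-subgroup of `Perm (Fin (2 ^ j + 1))`
is transitive off its fixed point. -/

namespace Cfsg.Agent.Lib.Helper28.SylAlt

open SW Equiv

variable {m : ℕ}

namespace Helper20

open scoped Pointwise

/-- KEY LEMMA: if a set `O` is invariant under a Sylow 2-subgroup `T` of `Perm (Fin m)` then
`choose m #O` is odd. -/
theorem not_two_dvd_choose_of_invariant (T : Sylow 2 (Perm (Fin m))) (O : Finset (Fin m))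
    (hO : ∀ t ∈ T, ∀ x ∈ O, t x ∈ O) : ¬ 2 ∣ m.choose O.card := by
  classical
  let s : Set.powersetCard (Fin m) O.card := ⟨O, rfl⟩
  have hle : (T : Subgroup (Perm (Fin m))) ≤ MulAction.stabilizer (Perm (Fin m)) s := by
    intro t ht
    rw [MulAction.mem_stabilizer_iff]
    apply Subtype.ext
    rw [Set.powersetCard.coe_smul]
    show t • O = O
    apply Finset.eq_of_subset_of_card_le
    · intro x hx
      obtain ⟨y, hy, rfl⟩ := Finset.mem_smul_finset.mp hx
      exact hO t ht y hy
    · rw [Finset.card_smul_finset]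
  have htrans : MulAction.IsPretransitive (Perm (Fin m)) (Set.powersetCard (Fin m) O.card) :=
    Set.powersetCard.isPretransitive
  have hidx : (MulAction.stabilizer (Perm (Fin m)) s).index = m.choose O.card := by
    rw [MulAction.index_stabilizer_of_transitive, Set.powersetCard.card, Nat.card_eq_fintype_card,
      Fintype.card_fin]
  have hdvd := Subgroup.index_dvd_of_le hle
  rw [hidx] at hdvd
  intro h2
  exact T.not_dvd_index (h2.trans hdvd)

end Helper20

theorem syl_trans_pow_succ (T : Sylow 2 (Perm (Fin m))) (j : ℕ) (hm : m = 2 ^ j + 1) (a : Fin m)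
    (ha : ∀ t ∈ T, t a = a) : ∀ i i', i ≠ a → i' ≠ a → ∃ t ∈ T, t i = i' := by
  classical
  intro i i' hi hi'
  -- the orbit of i
  let O : Finset (Fin m) := Finset.univ.filter fun x => ∃ t ∈ T, t i = x
  have hmemO : ∀ x, x ∈ O ↔ ∃ t ∈ T, t i = x := by
    intro x
    simp only [O, Finset.mem_filter, Finset.mem_univ, true_and]
  have hinv : ∀ t ∈ T, ∀ x ∈ O, t x ∈ O := by
    intro t ht x hx
    obtain ⟨u, hu, rfl⟩ := (hmemO x).mp hx
    exact (hmemO _).mpr ⟨t * u, mul_mem ht hu, rfl⟩
  have hiO : i ∈ O := (hmemO i).mpr ⟨1, one_mem _, rfl⟩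
  have haO : a ∉ O := by
    intro h
    obtain ⟨t, ht, hta⟩ := (hmemO a).mp h
    apply hi
    have : t i = t a := by rw [hta, ha t ht]
    exact t.injective this
  have hsub : O ⊆ Finset.univ.erase a := by
    intro x hx
    rw [Finset.mem_erase]
    exact ⟨fun h => haO (h ▸ hx), Finset.mem_univ _⟩
  have hcardE : (Finset.univ.erase a : Finset (Fin m)).card = 2 ^ j := by
    rw [Finset.card_erase_of_mem (Finset.mem_univ _), Finset.card_univ, Fintype.card_fin, hm]
    simp
  have hle : O.card ≤ 2 ^ j := hcardE ▸ Finset.card_le_card hsub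
  -- the orbit has at least two elements
  have h2 : 2 ≤ O.card := by
    by_contra hlt
    have h1 : O.card = 1 := by
      have : 0 < O.card := Finset.card_pos.mpr ⟨i, hiO⟩
      omega
    obtain ⟨y, hy⟩ := Finset.card_eq_one.mp h1
    have hiy : i = y := by
      have := hiO; rw [hy, Finset.mem_singleton] at this; exact this
    have hfix : ∀ t ∈ T, t i = i := by
      intro t ht
      have := hinv t ht i hiO
      rw [hy, Finset.mem_singleton] at this
      rw [this, hiy]
    exact hi (syl_fix_unique T i a hfix ha)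
  have hodd := Helper20.not_two_dvd_choose_of_invariant T O hinv
  -- the orbit has exactly 2 ^ j elements
  have hcard : O.card = 2 ^ j := by
    by_contra hne
    apply hodd
    obtain ⟨k, hk⟩ : ∃ k, O.card = k + 1 := ⟨O.card - 1, by omega⟩
    have hch : m.choose O.card = (2 ^ j).choose k + (2 ^ j).choose (k + 1) := by
      generalize O.card = c at hk
      rw [hm, hk, Nat.choose_succ_succ]
    rw [hch]
    have hk0 : k ≠ 0 := by omega
    have hk1 : k ≠ 2 ^ j := by omega
    have hk2 : k + 1 ≠ 2 ^ j := by omega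
    exact dvd_add (Nat.Prime.dvd_choose_pow Nat.prime_two hk0 hk1)
      (Nat.Prime.dvd_choose_pow Nat.prime_two (by omega) hk2)
  have hO : O = Finset.univ.erase a :=
    Finset.eq_of_subset_of_card_le hsub (by rw [hcardE, hcard])
  have hi'O : i' ∈ O := by
    rw [hO, Finset.mem_erase]
    exact ⟨hi', Finset.mem_univ _⟩
  exact (hmemO i').mp hi'O

end Cfsg.Agent.Lib.Helper28.SylAlt
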