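import Mathlib
import Cfsg.Prelude.Def_KGroupFacts
import Cfsg.Agent.H5.StemTC
import Cfsg.Agent.Lib.Helper7.Sz8Data

/-!
# S2112, piece [E] (helper20, for helper7): the group presented by `relsHat` is a stem extension of
`Sz(8)` with kernel `C₂ × C₂`

`exists_cover_of` takes the statements of helper7's `card_le_of_relsG` (Todd–Coxeter bound) and
`exists_model` (the permutation model on `2080` points) as hypotheses.
-/

set_option autoImplicit false
set_option linter.style.haveILetI false
set_option linter.unusedSectionVars false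
set_option linter.unusedVariables false

namespace Cfsg.Agent.Lib.Helper7.Sz8

open Cfsg Cfsg.H5.TCk
open scoped commutatorElement

universe u

namespace Helper20

/-! ### words -/

theorem ev_congr' {Γ : Type*} [Group Γ] (g g' : ℕ → Γ) (t : ℕ) (h : ∀ i < t, g i = g' i)
    (w : List ℕ) (hw : w.all (fun l => decide (l < 2 * t)) = true) : ev g w = ev g' w := by
  induction w with
  | nil => rfl
  | cons l w ih =>
    rw [List.all_cons, Bool.and_eq_true] at hw
    have hl : l < 2 * t := of_decide_eq_true hw.1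
    have hl2 : l / 2 < t := by omega
    simp only [ev]
    rw [ih hw.2]
    congr 1
    unfold gl
    rw [h _ hl2]

theorem gl_two_mul {Γ : Type*} [Group Γ] (γ : ℕ → Γ) (i : ℕ) : gl γ (2 * i) = γ i := by
  unfold gl
  have h1 : (2 * i) % 2 = 0 := by omega
  have h2 : (2 * i) / 2 = i := by omega
  rw [if_pos h1, h2]

theorem gl_two_mul_add_one {Γ : Type*} [Group Γ] (γ : ℕ → Γ) (i : ℕ) :
    gl γ (2 * i + 1) = (γ i)⁻¹ := by
  unfold gl
  have h1 : ¬ (2 * i + 1) % 2 = 0 := by omega
  have h2 : (2 * i + 1) / 2 = i := by omega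
  rw [if_neg h1, h2]

theorem ev_cwordS {Γ : Type*} [Group Γ] (γ : ℕ → Γ) (r : List ℕ) (i : ℕ) :
    ev γ (cwordS r i) = ev γ r * γ i * (ev γ r)⁻¹ * (γ i)⁻¹ := by
  unfold cwordS
  rw [ev_append, ev_append, ev_append, ev_winv]
  simp only [ev, mul_one, gl_two_mul, gl_two_mul_add_one]

theorem ev_wordC1 {Γ : Type*} [Group Γ] (γ : ℕ → Γ) :
    ev γ wordC1 = ⁅ev γ w1, ev γ v1⁆ := by
  unfold wordC1
  rw [ev_append, ev_append, ev_append, ev_winv, ev_winv, commutatorElement_def]

theorem ev_wordC2 {Γ : Type*} [Group Γ] (γ : ℕ → Γ) :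
    ev γ wordC2 = ⁅ev γ w2, ev γ v2⁆ := by
  unfold wordC2
  rw [ev_append, ev_append, ev_append, ev_winv, ev_winv, commutatorElement_def]

theorem relsHat_all : ∀ r ∈ relsHat, r.all (fun l => decide (l < 2 * 3)) = true := by decide

theorem wordC1_all : wordC1.all (fun l => decide (l < 2 * 3)) = true := by decide

theorem wordC2_all : wordC2.all (fun l => decide (l < 2 * 3)) = true := by decide

/-! ### the presented group -/

/-- the free generators as a sequence -/
def fgen : ℕ → FreeGroup (ULift.{u} (Fin 3)) :=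
  fun i => if h : i < 3 then FreeGroup.of (ULift.up ⟨i, h⟩) else 1

/-- the relators as elements of the free group -/
def relSet : Set (FreeGroup (ULift.{u} (Fin 3))) := {x | ∃ r ∈ relsHat, x = ev fgen r}

/-- the group presented by `relsHat` -/
abbrev Cover : Type u := PresentedGroup relSet.{u}

/-- its generators as a sequence -/
def cgen : ℕ → Cover.{u} := fun i => PresentedGroup.mk relSet (fgen i)

theorem cgen_rel (r : List ℕ) (hr : r ∈ relsHat) : ev cgen.{u} r = 1 := by
  have h1 := Cfsg.H5.StemTC.map_ev (PresentedGroup.mk relSet.{u}) fgen r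
  have h2 : ev cgen.{u} r = PresentedGroup.mk relSet.{u} (ev fgen r) := h1.symm
  rw [h2]
  exact PresentedGroup.one_of_mem ⟨r, hr, rfl⟩

theorem closure_cgen :
    Subgroup.closure (Set.range fun i : Fin 3 => cgen.{u} i.val) = ⊤ := by
  rw [← PresentedGroup.closure_range_of relSet.{u}]
  congr 1
  ext x
  constructor
  · rintro ⟨i, rfl⟩
    refine ⟨ULift.up i, ?_⟩
    show PresentedGroup.of (ULift.up i) = PresentedGroup.mk relSet (fgen i.val)
    unfold fgen
    rw [dif_pos i.2]
    rfl
  · rintro ⟨j, rfl⟩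
    refine ⟨j.down, ?_⟩
    show PresentedGroup.mk relSet (fgen j.down.val) = PresentedGroup.of j
    unfold fgen
    rw [dif_pos j.down.2]
    rfl

/-- the universal property -/
theorem exists_hom {H : Type*} [Group H] (h : ℕ → H) (hrel : ∀ r ∈ relsHat, ev h r = 1) :
    ∃ ψ : Cover.{u} →* H, ∀ w : List ℕ, w.all (fun l => decide (l < 2 * 3)) = true →
      ψ (ev cgen w) = ev h w := by
  have hlift : ∀ i < 3, FreeGroup.lift (fun j : ULift.{u} (Fin 3) => h j.down.val) (fgen i) = h i := by
    intro i hi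
    unfold fgen
    rw [dif_pos hi, FreeGroup.lift_apply_of]
  have hr : ∀ x ∈ relSet.{u}, FreeGroup.lift (fun j : ULift.{u} (Fin 3) => h j.down.val) x = 1 := by
    rintro x ⟨r, hr, rfl⟩
    rw [Cfsg.H5.StemTC.map_ev, ev_congr' _ h 3 hlift r (relsHat_all r hr)]
    exact hrel r hr
  refine ⟨PresentedGroup.toGroup hr, fun w hw => ?_⟩
  rw [Cfsg.H5.StemTC.map_ev]
  apply ev_congr' _ h 3 _ w hw
  intro i hi
  show PresentedGroup.toGroup hr (PresentedGroup.mk relSet (fgen i)) = h i
  unfold fgen
  rw [dif_pos hi]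
  exact PresentedGroup.toGroup.of hr

/-! ### group-theoretic lemmas -/

theorem mem_center_of_gens {Γ : Type*} [Group Γ] (S : Set Γ) (hS : Subgroup.closure S = ⊤) (c : Γ)
    (hc : ∀ s ∈ S, s * c = c * s) : c ∈ Subgroup.center Γ := by
  rw [Subgroup.mem_center_iff]
  intro g
  have hg : g ∈ Subgroup.closure S := by rw [hS]; exact Subgroup.mem_top g
  induction hg using Subgroup.closure_induction with
  | mem x hx => exact hc x hx
  | one => simp
  | mul x y _ _ hx hy => rw [mul_assoc, hy, ← mul_assoc, hx, mul_assoc]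
  | inv x _ hx =>
    have := congrArg (fun z => x⁻¹ * z * x⁻¹) hx
    simpa [mul_assoc] using this.symm

theorem normal_of_le_center {Γ : Type*} [Group Γ] (S : Subgroup Γ) (h : S ≤ Subgroup.center Γ) :
    S.Normal := by
  constructor
  intro n hn g
  have := Subgroup.mem_center_iff.mp (h hn) g
  rw [this, mul_inv_cancel_right]
  exact hn

/-- the subgroup generated by two commuting involutions -/
theorem mem_closure_pair_of_invol {Γ : Type*} [Group Γ] {c1 c2 : Γ} (h1 : c1 * c1 = 1)
    (h2 : c2 * c2 = 1) (hc : c2 * c1 = c1 * c2) {x : Γ}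
    (hx : x ∈ Subgroup.closure ({c1, c2} : Set Γ)) :
    x = 1 ∨ x = c1 ∨ x = c2 ∨ x = c1 * c2 := by
  have h1' : ∀ y : Γ, c1 * (c1 * y) = y := fun y => by rw [← mul_assoc, h1, one_mul]
  have h2' : ∀ y : Γ, c2 * (c2 * y) = y := fun y => by rw [← mul_assoc, h2, one_mul]
  have hc' : ∀ y : Γ, c2 * (c1 * y) = c1 * (c2 * y) := fun y => by
    rw [← mul_assoc, hc, mul_assoc]
  have hi1 : c1⁻¹ = c1 := inv_eq_of_mul_eq_one_left h1
  have hi2 : c2⁻¹ = c2 := inv_eq_of_mul_eq_one_left h2
  induction hx using Subgroup.closure_induction with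
  | mem x hx =>
    rcases hx with rfl | rfl
    · right; left; rfl
    · right; right; left; rfl
  | one => left; rfl
  | mul x y _ _ hx hy =>
    rcases hx with rfl | rfl | rfl | rfl <;> rcases hy with rfl | rfl | rfl | rfl <;>
      simp [mul_assoc, h1, h2, hc, h1', hc']
  | inv x _ hx =>
    rcases hx with rfl | rfl | rfl | rfl
    · left; simp
    · right; left; exact hi1
    · right; right; left; exact hi2
    · right; right; right
      rw [_root_.mul_inv_rev, hi1, hi2, hc]

end Helper20

open Helper20 in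
/-- **[E]** existence of the cover, from the Todd–Coxeter bound and the permutation model -/
theorem exists_cover_of
    (hTA : ∀ (Q : Type u) [Group Q] (q : ℕ → Q),
      Subgroup.closure (Set.range fun i : Fin 3 => q i.val) = ⊤ →
      (∀ r ∈ relsG, ev q r = 1) → Finite Q ∧ Nat.card Q ≤ 29120)
    (hM : ∃ p : ℕ → Equiv.Perm (Fin 2080), (∀ r ∈ relsHat, ev p r = 1) ∧
      ev p wordC1 ≠ 1 ∧ ev p wordC2 ≠ 1 ∧ ev p (wordC1 ++ wordC2) ≠ 1)
    {G : Type u} [Group G] (g : ℕ → G) (hg : IsSz8Triple g) :
    ∃ (Γ : Type u) (_ : Group Γ) (_ : Finite Γ) (σ : Γ →* G), IsStemExtension σ ∧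
      Nonempty (σ.ker ≃* Multiplicative (ZMod 2 × ZMod 2)) := by
  classical
  -- the two central involutions
  obtain ⟨c1, hc1def⟩ : ∃ c1 : Cover.{u}, c1 = ev cgen wordC1 := ⟨_, rfl⟩
  obtain ⟨c2, hc2def⟩ : ∃ c2 : Cover.{u}, c2 = ev cgen wordC2 := ⟨_, rfl⟩
  have h1 : c1 * c1 = 1 := by
    rw [hc1def, ← ev_append]
    exact cgen_rel _ (by decide)
  have h2 : c2 * c2 = 1 := by
    rw [hc2def, ← ev_append]
    exact cgen_rel _ (by decide)
  have hcomm1 : ∀ i : Fin 3, cgen.{u} i.val * c1 = c1 * cgen i.val := by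
    intro i
    have h := cgen_rel.{u} (cwordS wordC1 i.val) (by fin_cases i <;> decide)
    rw [ev_cwordS, ← hc1def] at h
    have h' : c1 * cgen i.val * c1⁻¹ = cgen i.val := by
      rw [mul_inv_eq_one] at h
      exact h
    have := congrArg (· * c1) h'
    simpa [mul_assoc] using this.symm
  have hcomm2 : ∀ i : Fin 3, cgen.{u} i.val * c2 = c2 * cgen i.val := by
    intro i
    have h := cgen_rel.{u} (cwordS wordC2 i.val) (by fin_cases i <;> decide)
    rw [ev_cwordS, ← hc2def] at h
    have h' : c2 * cgen i.val * c2⁻¹ = cgen i.val := by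
      rw [mul_inv_eq_one] at h
      exact h
    have := congrArg (· * c2) h'
    simpa [mul_assoc] using this.symm
  have hcen1 : c1 ∈ Subgroup.center Cover.{u} :=
    mem_center_of_gens _ closure_cgen c1 (by rintro _ ⟨i, rfl⟩; exact hcomm1 i)
  have hcen2 : c2 ∈ Subgroup.center Cover.{u} :=
    mem_center_of_gens _ closure_cgen c2 (by rintro _ ⟨i, rfl⟩; exact hcomm2 i)
  have hc : c2 * c1 = c1 * c2 := Subgroup.mem_center_iff.mp hcen1 c2
  -- the subgroup `S = ⟨c1, c2⟩`
  obtain ⟨S, hSdef⟩ : ∃ S : Subgroup Cover.{u}, S = Subgroup.closure {c1, c2} := ⟨_, rfl⟩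
  have hc1S : c1 ∈ S := by rw [hSdef]; exact Subgroup.subset_closure (by simp)
  have hc2S : c2 ∈ S := by rw [hSdef]; exact Subgroup.subset_closure (by simp)
  have hSmem : ∀ x ∈ S, x = 1 ∨ x = c1 ∨ x = c2 ∨ x = c1 * c2 := by
    intro x hx
    rw [hSdef] at hx
    exact mem_closure_pair_of_invol h1 h2 hc hx
  have hScen : S ≤ Subgroup.center Cover.{u} := by
    rw [hSdef, Subgroup.closure_le]
    rintro x (rfl | rfl)
    · exact hcen1
    · exact hcen2
  haveI hSn : S.Normal := normal_of_le_center S hScen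
  have hSsub : (S : Set Cover.{u}) ⊆ (({1, c1, c2, c1 * c2} : Finset Cover.{u}) : Set Cover.{u}) := by
    intro x hx
    rcases hSmem x hx with rfl | rfl | rfl | rfl <;> simp
  have hSfin : (S : Set Cover.{u}).Finite := (Finset.finite_toSet _).subset hSsub
  haveI hSfin' : Finite S := hSfin
  have hScard : Nat.card S ≤ 4 := by
    rw [← SetLike.coe_sort_coe, Nat.card_coe_set_eq]
    calc (S : Set Cover.{u}).ncard ≤ (({1, c1, c2, c1 * c2} : Finset Cover.{u}) : Set Cover.{u}).ncard :=
          Set.ncard_le_ncard hSsub (Finset.finite_toSet _)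
      _ = ({1, c1, c2, c1 * c2} : Finset Cover.{u}).card := Set.ncard_coe_finset _
      _ ≤ 4 := Finset.card_le_four
  -- the homomorphism onto `G`
  have hgrel : ∀ r ∈ relsHat, ev g r = 1 := by
    intro r hr
    have hG := hg.rels
    have hC1 := hg.c1
    have hC2 := hg.c2
    simp only [relsHat, relsGhat, List.cons_append, List.nil_append, List.mem_cons,
      List.not_mem_nil, or_false] at hr
    rcases hr with rfl | rfl | rfl | rfl | rfl | rfl | rfl | rfl | rfl | rfl | rfl | rfl | rfl |
      rfl | rfl | rfl | rfl | rfl | rfl | rfl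
    · exact hG _ (by decide)
    · exact hG _ (by decide)
    · rw [ev_append, hG relR3 (by decide), hC1, one_mul]
    · rw [ev_append, hG relR4 (by decide), hC2, one_mul]
    · exact hG _ (by decide)
    · exact hG _ (by decide)
    · rw [ev_append, hG relR7 (by decide), hC1, one_mul]
    · exact hG _ (by decide)
    · exact hG _ (by decide)
    · exact hG _ (by decide)
    · exact hG _ (by decide)
    · rw [ev_append, hG relR12 (by decide), hC2, one_mul]
    · rw [ev_append, hC1, one_mul]
    · rw [ev_append, hC2, one_mul]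
    · rw [ev_cwordS, hC1]; simp
    · rw [ev_cwordS, hC1]; simp
    · rw [ev_cwordS, hC1]; simp
    · rw [ev_cwordS, hC2]; simp
    · rw [ev_cwordS, hC2]; simp
    · rw [ev_cwordS, hC2]; simp
  obtain ⟨φ, hφ⟩ := exists_hom.{u} g hgrel
  have hφgen : ∀ i : Fin 3, φ (cgen i.val) = g i.val := by
    intro i
    have := hφ [2 * i.val] (by fin_cases i <;> decide)
    simpa [ev, gl_two_mul] using this
  have hφsurj : Function.Surjective φ := by
    rw [← MonoidHom.range_eq_top, eq_top_iff, ← hg.gen, Subgroup.closure_le]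
    rintro _ ⟨i, rfl⟩
    exact ⟨cgen i.val, hφgen i⟩
  have hSker : S ≤ φ.ker := by
    rw [hSdef, Subgroup.closure_le]
    intro x hx
    rcases hx with h | h
    · show φ x = 1
      rw [h, hc1def, hφ _ wordC1_all]; exact hg.c1
    · show φ x = 1
      rw [Set.mem_singleton_iff] at h
      rw [h, hc2def, hφ _ wordC2_all]; exact hg.c2
  -- the quotient by `S` satisfies `relsG`
  have hrG : ∀ r ∈ relsG, ev cgen.{u} r ∈ S := by
    intro r hr
    simp only [relsG, relsB, List.cons_append, List.nil_append, List.mem_cons,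
      List.not_mem_nil, or_false] at hr
    have hcorr : ∀ (r c : List ℕ), r ++ c ∈ relsHat → ev cgen.{u} c ∈ S → ev cgen.{u} r ∈ S := by
      intro r c hrc hcS
      have h := cgen_rel.{u} (r ++ c) hrc
      rw [ev_append] at h
      rw [eq_inv_of_mul_eq_one_left h]
      exact S.inv_mem hcS
    rcases hr with rfl | rfl | rfl | rfl | rfl | rfl | rfl | rfl | rfl | rfl | rfl | rfl
    · rw [cgen_rel _ (by decide)]; exact S.one_mem
    · rw [cgen_rel _ (by decide)]; exact S.one_mem
    · exact hcorr relR3 wordC1 (by decide) (hc1def ▸ hc1S)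
    · exact hcorr relR4 wordC2 (by decide) (hc2def ▸ hc2S)
    · rw [cgen_rel _ (by decide)]; exact S.one_mem
    · rw [cgen_rel _ (by decide)]; exact S.one_mem
    · exact hcorr relR7 wordC1 (by decide) (hc1def ▸ hc1S)
    · rw [cgen_rel _ (by decide)]; exact S.one_mem
    · rw [cgen_rel _ (by decide)]; exact S.one_mem
    · rw [cgen_rel _ (by decide)]; exact S.one_mem
    · rw [cgen_rel _ (by decide)]; exact S.one_mem
    · exact hcorr relR12 wordC2 (by decide) (hc2def ▸ hc2S)
  have hQ := hTA (Cover.{u} ⧸ S) (fun i => QuotientGroup.mk' S (cgen i)) (by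
      have h1 : (Set.range fun i : Fin 3 => QuotientGroup.mk' S (cgen.{u} i.val)) =
          (QuotientGroup.mk' S) '' (Set.range fun i : Fin 3 => cgen.{u} i.val) := by
        rw [← Set.range_comp]; rfl
      rw [h1, ← MonoidHom.map_closure, closure_cgen, ← MonoidHom.range_eq_map,
        MonoidHom.range_eq_top]
      exact QuotientGroup.mk'_surjective S) (by
      intro r hr
      rw [← Cfsg.H5.StemTC.map_ev (QuotientGroup.mk' S) cgen r]
      exact (QuotientGroup.eq_one_iff _).mpr (hrG r hr))
  obtain ⟨hQfin, hQcard⟩ := hQ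
  have hcardΓ : Nat.card Cover.{u} = Nat.card (Cover.{u} ⧸ S) * Nat.card S :=
    Subgroup.card_eq_card_quotient_mul_card_subgroup S
  haveI hfin : Finite Cover.{u} := by
    apply Nat.finite_of_card_ne_zero
    rw [hcardΓ]
    exact Nat.mul_ne_zero Nat.card_pos.ne' Nat.card_pos.ne'
  -- the kernel is `S`
  have hcardker : Nat.card Cover.{u} = Nat.card G * Nat.card φ.ker := by
    rw [Subgroup.card_eq_card_quotient_mul_card_subgroup φ.ker,
      Nat.card_congr (QuotientGroup.quotientKerEquivOfSurjective φ hφsurj).toEquiv]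
  have hkerle : Nat.card φ.ker ≤ Nat.card S := by
    rw [hg.card] at hcardker
    have h3 : 29120 * Nat.card φ.ker ≤ 29120 * Nat.card S := by
      rw [← hcardker, hcardΓ]
      exact Nat.mul_le_mul_right _ hQcard
    exact Nat.le_of_mul_le_mul_left h3 (by norm_num)
  have hSeq : S = φ.ker := Subgroup.eq_of_le_of_card_ge hSker hkerle
  -- distinctness from the model
  obtain ⟨p, hprel, hp1, hp2, hp12⟩ := hM
  obtain ⟨ψ, hψ⟩ := exists_hom.{u} p hprel
  have hne1 : c1 ≠ 1 := by
    intro h
    apply hp1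
    rw [← hψ _ wordC1_all, ← hc1def, h, map_one]
  have hne2 : c2 ≠ 1 := by
    intro h
    apply hp2
    rw [← hψ _ wordC2_all, ← hc2def, h, map_one]
  have hne12 : c1 * c2 ≠ 1 := by
    intro h
    apply hp12
    rw [ev_append, ← hψ _ wordC1_all, ← hψ _ wordC2_all, ← hc1def, ← hc2def, ← map_mul, h, map_one]
  have hne : c1 ≠ c2 := by
    intro h
    apply hne12
    rw [h]; exact h2
  have hcard4 : Nat.card S = 4 := by
    apply le_antisymm hScard
    have hsub : (({1, c1, c2, c1 * c2} : Finset Cover.{u}) : Set Cover.{u}) ⊆ (S : Set Cover.{u}) := by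
      intro x hx
      simp only [Finset.coe_insert, Finset.coe_singleton, Set.mem_insert_iff,
        Set.mem_singleton_iff] at hx
      rcases hx with rfl | rfl | rfl | rfl
      · exact S.one_mem
      · exact hc1S
      · exact hc2S
      · exact S.mul_mem hc1S hc2S
    have hc4 : ({1, c1, c2, c1 * c2} : Finset Cover.{u}).card = 4 := by
      rw [Finset.card_insert_of_notMem, Finset.card_insert_of_notMem,
        Finset.card_insert_of_notMem, Finset.card_singleton]
      · simp only [Finset.mem_singleton]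
        intro h
        apply hne1
        have := congrArg (· * c2) h
        simpa [mul_assoc, h2] using this.symm
      · simp only [Finset.mem_insert, Finset.mem_singleton, not_or]
        refine ⟨hne, ?_⟩
        intro h
        apply hne2
        have := congrArg (c1 * ·) h
        simpa [← mul_assoc, h1] using this.symm
      · simp only [Finset.mem_insert, Finset.mem_singleton, not_or]
        exact ⟨Ne.symm hne1, Ne.symm hne2, Ne.symm hne12⟩
    rw [← SetLike.coe_sort_coe, Nat.card_coe_set_eq]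
    calc 4 = ({1, c1, c2, c1 * c2} : Finset Cover.{u}).card := hc4.symm
      _ = (({1, c1, c2, c1 * c2} : Finset Cover.{u}) : Set Cover.{u}).ncard :=
          (Set.ncard_coe_finset _).symm
      _ ≤ (S : Set Cover.{u}).ncard := Set.ncard_le_ncard hsub hSfin
  -- Klein four
  have hexp : Monoid.exponent S = 2 := by
    have hdvd : Monoid.exponent S ∣ 2 := by
      apply Monoid.exponent_dvd_of_forall_pow_eq_one
      intro x
      apply Subtype.ext
      rw [Subgroup.coe_pow, Subgroup.coe_one, pow_two]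
      rcases hSmem x.1 x.2 with h | h | h | h <;> rw [h]
      · simp
      · exact h1
      · exact h2
      · rw [mul_assoc, ← mul_assoc c2, hc, mul_assoc, h2, mul_one, h1]
    rcases (Nat.dvd_prime Nat.prime_two).mp hdvd with h | h
    · exfalso
      rw [Monoid.exp_eq_one_iff] at h
      have := Nat.card_eq_one_iff_unique.mpr ⟨h, ⟨1⟩⟩
      omega
    · exact h
  haveI hK4 : IsKleinFour S := ⟨hcard4, hexp⟩
  have hiso : Nonempty (S ≃* Multiplicative (ZMod 2 × ZMod 2)) := IsKleinFour.nonempty_mulEquiv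
  -- stem
  have hcomm : S ≤ commutator Cover.{u} := by
    rw [hSdef, Subgroup.closure_le, commutator_def]
    rintro x (rfl | rfl)
    · rw [hc1def, ev_wordC1]
      exact Subgroup.commutator_mem_commutator (Subgroup.mem_top _) (Subgroup.mem_top _)
    · rw [hc2def, ev_wordC2]
      exact Subgroup.commutator_mem_commutator (Subgroup.mem_top _) (Subgroup.mem_top _)
  refine ⟨Cover.{u}, inferInstance, hfin, φ, ⟨hφsurj, ?_, ?_⟩, ?_⟩
  · rw [← hSeq]; exact hScen
  · rw [← hSeq]; exact hcomm
  · rw [← hSeq]; exact hiso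

end Cfsg.Agent.Lib.Helper7.Sz8
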