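import Mathlib
import Cfsg.Agent.Lib.Helper20.ModLift

/-!
Groups with a TI Sylow `p`-subgroup `P` and `H ≥ N_G(P)`: a complex representation
generated by an `H`-fixed vector `w` with zero `G`-trace and of dimension `< |P|` is zero
(helper20).
-/

set_option autoImplicit false

namespace Cfsg.Agent.Lib.Helper20.TILattice

open IsLocalRing Cfsg.Agent.Lib.Helper20.ModLift
open scoped Pointwise

theorem free_on_cosets {G : Type*} [Group G] [Finite G] (p : ℕ) [Fact p.Prime] (P : Sylow p G)
    (hTI : ∀ g : G, g ∉ Subgroup.normalizer ((P : Subgroup G) : Set G) →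
      (P : Subgroup G) ⊓ (MulAut.conj g • (P : Subgroup G)) = ⊥)
    (H : Subgroup G) (hH : Subgroup.normalizer ((P : Subgroup G) : Set G) ≤ H)
    (t : G) (ht : t ∉ H) (u : G) (hu : u ∈ (P : Subgroup G)) (hfix : t⁻¹ * u * t ∈ H) :
    u = 1 := by
  have hPH : (P : Subgroup G) ≤ H := le_trans Subgroup.le_normalizer hH
  obtain ⟨k, hk⟩ := P.isPGroup' ⟨u, hu⟩
  have huk : u ^ (p ^ k) = 1 := by
    have := congrArg Subtype.val hk
    simpa using this
  have hyk : (⟨t⁻¹ * u * t, hfix⟩ : ↥H) ^ (p ^ k) = 1 := by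
    apply Subtype.ext
    show (t⁻¹ * u * t) ^ (p ^ k) = 1
    have e : t⁻¹ * u * t = t⁻¹ * u * (t⁻¹)⁻¹ := by rw [inv_inv]
    rw [e, conj_pow, huk, mul_one, mul_inv_cancel]
  have hz : IsPGroup p (Subgroup.zpowers (⟨t⁻¹ * u * t, hfix⟩ : ↥H)) := by
    rintro ⟨z, hz⟩
    obtain ⟨m, rfl⟩ := Subgroup.mem_zpowers_iff.mp hz
    refine ⟨k, Subtype.ext ?_⟩
    show ((⟨t⁻¹ * u * t, hfix⟩ : ↥H) ^ m) ^ (p ^ k) = 1
    rw [← zpow_natCast, ← zpow_mul, mul_comm, zpow_mul, zpow_natCast, hyk, one_zpow]
  obtain ⟨Q, hQ⟩ := hz.exists_le_sylow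
  obtain ⟨h, rfl⟩ := MulAction.exists_smul_eq (↥H) (P.subtype hPH) Q
  have hy : (⟨t⁻¹ * u * t, hfix⟩ : ↥H) ∈ ((h • P.subtype hPH : Sylow p ↥H) : Subgroup ↥H) :=
    hQ (Subgroup.mem_zpowers _)
  rw [Sylow.coe_subgroup_smul, Subgroup.mem_pointwise_smul_iff_inv_smul_mem, Sylow.coe_subtype,
    Subgroup.mem_subgroupOf] at hy
  have hy' : (h : G)⁻¹ * (t⁻¹ * u * t) * (h : G) ∈ (P : Subgroup G) := by
    have e : (((MulAut.conj h)⁻¹ • (⟨t⁻¹ * u * t, hfix⟩ : ↥H) : ↥H) : G) =
        (h : G)⁻¹ * (t⁻¹ * u * t) * (h : G) := by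
      rw [← map_inv, MulAut.smul_def, MulAut.conj_apply]
      simp
    rw [e] at hy
    exact hy
  have hgP : (t * (h : G))⁻¹ * u * (t * (h : G)) ∈ (P : Subgroup G) := by
    have e : (t * (h : G))⁻¹ * u * (t * (h : G)) = (h : G)⁻¹ * (t⁻¹ * u * t) * (h : G) := by
      group
    rw [e]; exact hy'
  by_cases hgN : t * (h : G) ∈ Subgroup.normalizer ((P : Subgroup G) : Set G)
  · exfalso
    apply ht
    have h1 : t * (h : G) ∈ H := hH hgN
    have h2 : t = t * (h : G) * (h : G)⁻¹ := by group
    rw [h2]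
    exact H.mul_mem h1 (H.inv_mem h.2)
  · have h1 := hTI _ hgN
    have hmem : u ∈ (P : Subgroup G) ⊓ (MulAut.conj (t * (h : G)) • (P : Subgroup G)) := by
      refine Subgroup.mem_inf.mpr ⟨hu, ?_⟩
      rw [Subgroup.mem_pointwise_smul_iff_inv_smul_mem, ← map_inv, MulAut.smul_def,
        MulAut.conj_apply, inv_inv]
      exact hgP
    rw [h1] at hmem
    exact Subgroup.mem_bot.mp hmem

theorem orbit_sum_mem {Γ Ω W : Type*} [Group Γ] [Fintype Γ] [DecidableEq Ω] [AddCommGroup W]
    (act : Γ → Ω → Ω) (h1 : ∀ ω, act 1 ω = ω) (hm : ∀ a b ω, act (a * b) ω = act a (act b ω))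
    (N : AddSubgroup W) (f : Ω → W) :
    ∀ S : Finset Ω, (∀ a : Γ, ∀ ω ∈ S, act a ω ∈ S) →
      (∀ ω ∈ S, ∀ a : Γ, act a ω = ω → a = 1) →
      (∀ ω ∈ S, ∑ a : Γ, f (act a ω) ∈ N) → ∑ ω ∈ S, f ω ∈ N := by
  classical
  intro S
  induction S using Finset.strongInduction with
  | H S ih =>
    intro hS hfree hN
    rcases S.eq_empty_or_nonempty with rfl | ⟨ω0, hω0⟩
    · simp
    · have hO0S : Finset.univ.image (fun a : Γ => act a ω0) ⊆ S := by
        intro ω hω
        obtain ⟨a, -, rfl⟩ := Finset.mem_image.mp hω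
        exact hS a ω0 hω0
      have hinj : Function.Injective (fun a : Γ => act a ω0) := by
        intro a b hab
        have hab' : act a ω0 = act b ω0 := hab
        have e : act (b⁻¹ * a) ω0 = ω0 := by
          rw [hm, hab', ← hm, inv_mul_cancel, h1]
        have := hfree ω0 hω0 _ e
        exact (inv_mul_eq_one.mp this).symm
      have hsumO : ∑ ω ∈ Finset.univ.image (fun a : Γ => act a ω0), f ω =
          ∑ a : Γ, f (act a ω0) := by
        rw [Finset.sum_image (fun a _ b _ hab => hinj hab)]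
      have hS' : S \ Finset.univ.image (fun a : Γ => act a ω0) ⊂ S :=
        Finset.sdiff_ssubset hO0S
          ⟨act 1 ω0, Finset.mem_image.mpr ⟨1, Finset.mem_univ _, rfl⟩⟩
      have hstab' : ∀ a : Γ, ∀ ω ∈ S \ Finset.univ.image (fun a : Γ => act a ω0),
          act a ω ∈ S \ Finset.univ.image (fun a : Γ => act a ω0) := by
        intro a ω hω
        rw [Finset.mem_sdiff] at hω ⊢
        refine ⟨hS a ω hω.1, fun hmem => hω.2 ?_⟩
        obtain ⟨b, -, hb⟩ := Finset.mem_image.mp hmem
        have hb' : act b ω0 = act a ω := hb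
        refine Finset.mem_image.mpr ⟨a⁻¹ * b, Finset.mem_univ _, ?_⟩
        show act (a⁻¹ * b) ω0 = ω
        rw [hm, hb', ← hm, inv_mul_cancel, h1]
      have h2 := ih _ hS' hstab' (fun ω hω => hfree ω (Finset.mem_sdiff.mp hω).1)
        (fun ω hω => hN ω (Finset.mem_sdiff.mp hω).1)
      rw [← Finset.sum_sdiff hO0S]
      exact N.add_mem h2 (by rw [hsumO]; exact hN ω0 hω0)

theorem fixed_eq_zero {G : Type*} [Group G] [Fintype G] (p : ℕ) [Fact p.Prime] (P : Sylow p G)
    (hTI : ∀ g : G, g ∉ Subgroup.normalizer ((P : Subgroup G) : Set G) →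
      (P : Subgroup G) ⊓ (MulAut.conj g • (P : Subgroup G)) = ⊥)
    (H : Subgroup G) (hH : Subgroup.normalizer ((P : Subgroup G) : Set G) ≤ H)
    {W : Type*} [AddCommGroup W] [Module ℂ W] (c : Representation ℂ G W)
    (w : W) (hw : ∀ h ∈ H, c h w = w) (hsum : ∑ g : G, c g w = 0)
    (hdim : Module.finrank ℂ (Submodule.span ℂ (Set.range fun g : G => c g w)) <
      Nat.card (P : Subgroup G)) : w = 0 := by
  classical
  obtain ⟨O, hO⟩ := exists_valuationSubring p
  obtain ⟨hpO, hpm⟩ := ValuationSubring.mem_nonunits_iff_exists_mem_maximalIdeal.mp hO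
  have hpm' : ((p : ℕ) : ↥O) ∈ maximalIdeal ↥O := by
    have e : ((p : ℕ) : ↥O) = ⟨(p : ℂ), hpO⟩ := Subtype.ext (by simp)
    rw [e]; exact hpm
  have hPH : (P : Subgroup G) ≤ H := le_trans Subgroup.le_normalizer hH
  have hLfg : (Submodule.span ↥O (Set.range fun g : G => c g w)).FG :=
    Submodule.fg_span (Set.finite_range _)
  have hcL : ∀ g : G, ∀ y ∈ Submodule.span ↥O (Set.range fun g : G => c g w),
      c g y ∈ Submodule.span ↥O (Set.range fun g : G => c g w) := by
    intro g y hy
    induction hy using Submodule.span_induction with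
    | mem y hy =>
      obtain ⟨g', rfl⟩ := hy
      apply Submodule.subset_span
      refine ⟨g * g', ?_⟩
      show c (g * g') w = c g (c g' w)
      rw [map_mul]; rfl
    | zero => rw [map_zero]; exact Submodule.zero_mem _
    | add a b _ _ ha hb => rw [map_add]; exact Submodule.add_mem _ ha hb
    | smul r a _ ha => rw [LinearMap.map_smul_of_tower]; exact Submodule.smul_mem _ r ha
  have hcIL : ∀ g : G, ∀ y ∈ (maximalIdeal ↥O) • Submodule.span ↥O (Set.range fun g : G => c g w),
      c g y ∈ (maximalIdeal ↥O) • Submodule.span ↥O (Set.range fun g : G => c g w) := by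
    intro g y hy
    refine Submodule.smul_induction_on hy ?_ ?_
    · intro r hr n hn
      rw [LinearMap.map_smul_of_tower]
      exact Submodule.smul_mem_smul hr (hcL g n hn)
    · intro a b ha hb
      rw [map_add]; exact add_mem ha hb
  -- key: the norm of P maps L into I • L
  have hkey : ∀ x ∈ Submodule.span ↥O (Set.range fun g : G => c g w),
      ∑ u : ↥(P : Subgroup G), c (u : G) x ∈
        (maximalIdeal ↥O) • Submodule.span ↥O (Set.range fun g : G => c g w) := by
    intro x hx
    by_contra hnot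
    let L : Submodule ↥O W := Submodule.span ↥O (Set.range fun g : G => c g w)
    let cL : ↥(P : Subgroup G) →* (↥L →ₗ[↥O] ↥L) :=
      { toFun := fun u => ((c (u : G)).restrictScalars ↥O).restrict (fun y hy => hcL u y hy)
        map_one' := by
          apply LinearMap.ext
          intro y
          apply Subtype.ext
          show c ((1 : ↥(P : Subgroup G)) : G) y.1 = y.1
          rw [Subgroup.coe_one, map_one]; rfl
        map_mul' := fun u v => by
          apply LinearMap.ext
          intro y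
          apply Subtype.ext
          show c ((u * v : ↥(P : Subgroup G)) : G) y.1 = c (u : G) (c (v : G) y.1)
          rw [Subgroup.coe_mul, map_mul]; rfl }
    have hcLval : ∀ (u : ↥(P : Subgroup G)) (y : ↥L), ((cL u y : ↥L) : W) = c (u : G) y.1 :=
      fun u y => rfl
    have hmap : Submodule.map L.subtype ((maximalIdeal ↥O) • (⊤ : Submodule ↥O ↥L)) =
        (maximalIdeal ↥O) • L := by
      rw [Submodule.map_smul'', Submodule.map_top, Submodule.range_subtype]
    have hx' : ∑ u : ↥(P : Subgroup G), cL u ⟨x, hx⟩ ∉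
        (maximalIdeal ↥O) • (⊤ : Submodule ↥O ↥L) := by
      intro hmem
      apply hnot
      show _ ∈ (maximalIdeal ↥O) • L
      rw [← hmap]
      refine ⟨_, hmem, ?_⟩
      rw [map_sum]
      rfl
    have hind := indep_mod p hpm' P.isPGroup' cL ⟨x, hx⟩ hx'
    have hlin : LinearIndependent ℂ (fun u : ↥(P : Subgroup G) => c (u : G) x) := by
      apply lift_indep O L
      intro a ha
      apply hind a
      rw [← hmap] at ha
      obtain ⟨y, hy, hye⟩ := ha
      have e : y = ∑ u, a u • cL u ⟨x, hx⟩ := by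
        apply Subtype.ext
        have e2 : ((∑ u, a u • cL u ⟨x, hx⟩ : ↥L) : W) = ∑ u, a u • c (u : G) x := by
          rw [← Submodule.subtype_apply, map_sum]
          rfl
        rw [e2]
        exact hye
      rw [← e]; exact hy
    -- count
    have hLle : L ≤ (Submodule.span ℂ (Set.range fun g : G => c g w)).restrictScalars ↥O :=
      Submodule.span_le_restrictScalars ↥O ℂ _
    have hmemspan : ∀ u : ↥(P : Subgroup G),
        c (u : G) x ∈ Submodule.span ℂ (Set.range fun g : G => c g w) :=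
      fun u => hLle (hcL u x hx)
    have hlin' : LinearIndependent ℂ (fun u : ↥(P : Subgroup G) =>
        (⟨c (u : G) x, hmemspan u⟩ : ↥(Submodule.span ℂ (Set.range fun g : G => c g w)))) := by
      apply LinearIndependent.of_comp (Submodule.subtype _)
      exact hlin
    have : FiniteDimensional ℂ ↥(Submodule.span ℂ (Set.range fun g : G => c g w)) :=
      FiniteDimensional.span_of_finite ℂ (Set.finite_range _)
    have h1 := hlin'.fintype_card_le_finrank
    rw [Nat.card_eq_fintype_card] at hdim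
    omega
  -- orbit argument: w ∈ I • L
  have hwL : w ∈ Submodule.span ↥O (Set.range fun g : G => c g w) := by
    apply Submodule.subset_span
    refine ⟨1, ?_⟩
    show c 1 w = w
    rw [map_one]; rfl
  have hwIL : w ∈ (maximalIdeal ↥O) • Submodule.span ↥O (Set.range fun g : G => c g w) := by
    let N : AddSubgroup W :=
      ((maximalIdeal ↥O) • Submodule.span ↥O (Set.range fun g : G => c g w)).toAddSubgroup.map
        (DistribSMul.toAddMonoidHom W ((Fintype.card ↥H : ℕ) : ℂ))
    have hN := orbit_sum_mem (Γ := ↥(P : Subgroup G) × ↥H) (Ω := G) (W := W)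
      (fun a g => (a.1 : G) * g * (a.2 : G)⁻¹)
      (by intro g; simp)
      (by intro a b g; simp [mul_assoc])
      N (fun g => c g w) (Finset.univ.filter fun g : G => g ∉ H)
      (by
        intro a g hg
        rw [Finset.mem_filter] at hg ⊢
        refine ⟨Finset.mem_univ _, fun hmem => hg.2 ?_⟩
        have e : g = (a.1 : G)⁻¹ * ((a.1 : G) * g * (a.2 : G)⁻¹) * (a.2 : G) := by group
        rw [e]
        exact H.mul_mem (H.mul_mem (H.inv_mem (hPH a.1.2)) hmem) a.2.2)
      (by
        intro g hg a ha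
        rw [Finset.mem_filter] at hg
        have ha' : (a.1 : G) * g * (a.2 : G)⁻¹ = g := ha
        have e : g⁻¹ * (a.1 : G) * g = (a.2 : G) := by
          have : (a.1 : G) * g = g * (a.2 : G) := mul_inv_eq_iff_eq_mul.mp ha'
          rw [mul_assoc, this]; group
        have hu : (a.1 : G) = 1 :=
          free_on_cosets p P hTI H hH g hg.2 a.1 a.1.2 (by rw [e]; exact a.2.2)
        have hh : (a.2 : G) = 1 := by
          rw [← e, hu]; group
        exact Prod.ext (Subtype.ext hu) (Subtype.ext hh))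
      (by
        intro g _
        rw [Fintype.sum_prod_type]
        have e : ∀ u : ↥(P : Subgroup G), ∑ h : ↥H, c ((u : G) * g * (h : G)⁻¹) w =
            ((Fintype.card ↥H : ℕ) : ℂ) • c (u : G) (c g w) := by
          intro u
          have e1 : ∀ h : ↥H, c ((u : G) * g * (h : G)⁻¹) w = c (u : G) (c g w) := by
            intro h
            rw [map_mul, map_mul]
            show c (u : G) (c g (c (h : G)⁻¹ w)) = _
            rw [hw _ (H.inv_mem h.2)]
          rw [Finset.sum_congr rfl (fun h _ => e1 h), Finset.sum_const, Finset.card_univ,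
            Nat.cast_smul_eq_nsmul]
        rw [Finset.sum_congr rfl (fun u _ => e u), ← Finset.smul_sum]
        refine AddSubgroup.mem_map.mpr ⟨_, hkey (c g w) (hcL g w hwL), ?_⟩
        rfl)
    obtain ⟨y, hy, hye⟩ := AddSubgroup.mem_map.mp hN
    have hye' : ((Fintype.card ↥H : ℕ) : ℂ) • y = ∑ g ∈ Finset.univ.filter (fun g : G => g ∉ H),
        c g w := hye
    have hsplit := Finset.sum_filter_add_sum_filter_not Finset.univ (fun g : G => g ∈ H)
      (fun g => c g w)
    have hHsum : ∑ g ∈ Finset.univ.filter (fun g : G => g ∈ H), c g w =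
        ((Fintype.card ↥H : ℕ) : ℂ) • w := by
      rw [Finset.sum_subtype (p := fun g : G => g ∈ H) _ (by intro g; simp) (fun g => c g w)]
      rw [Finset.sum_congr rfl (fun h _ => hw h.1 h.2), Finset.sum_const, Finset.card_univ,
        Nat.cast_smul_eq_nsmul]
    rw [hHsum, ← hye', hsum, ← smul_add, smul_eq_zero] at hsplit
    rcases hsplit with h0 | h0
    · exfalso
      have : (Fintype.card ↥H : ℂ) ≠ 0 := by
        exact_mod_cast Fintype.card_ne_zero
      exact this h0
    · have e : w = -y := eq_neg_of_add_eq_zero_left h0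
      have hy' : -y ∈ (maximalIdeal ↥O) • Submodule.span ↥O (Set.range fun g : G => c g w) :=
        Submodule.neg_mem _ hy
      rw [← e] at hy'
      exact hy'
  -- Nakayama
  have hle : Submodule.span ↥O (Set.range fun g : G => c g w) ≤
      (maximalIdeal ↥O) • Submodule.span ↥O (Set.range fun g : G => c g w) := by
    rw [Submodule.span_le]
    rintro _ ⟨g, rfl⟩
    exact hcIL g w hwIL
  have hbot := Submodule.eq_bot_of_le_smul_of_le_jacobson_bot (maximalIdeal ↥O) _ hLfg hle
    (by rw [jacobson_eq_maximalIdeal ⊥ bot_ne_top])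
  rw [hbot] at hwL
  exact (Submodule.mem_bot _).mp hwL

end Cfsg.Agent.Lib.Helper20.TILattice
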