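import Mathlib
import Cfsg.Agent.S3734
import Cfsg.Agent.Lib.Helper1.Hall
import Cfsg.Agent.Lib.Helper1.SZ
import Cfsg.Agent.Lib.Helper1.CoprimeSylow
import Cfsg.Agent.Lib.Helper10.FrobFpf

/-!
Three primes in a solvable configuration are never pairwise non-adjacent in the prime graph.

* `core`: `V` abelian `ℓ`-group, `W` abelian of exponent `w` normalizing `V`, `y` of order `t`
  normalizing both: there is an element of order `ℓ w`, `ℓ t` or `w t`.
* `of_normal_abelian`, `three_primes`: consequences for solvable groups.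
-/

set_option autoImplicit false

namespace Cfsg.Agent.Lib.Helper20.ThreePrimes

open Subgroup Cfsg.Agent.Lib.Helper1
open Pointwise

universe u

section Core

variable {X : Type u} [Group X]

/-- Conjugation action of `N(V)` on `V`. -/
def conjAut (V : Subgroup X) : ↥(normalizer (V : Set X)) →* MulAut ↥V where
  toFun n :=
    { toFun := fun v => ⟨n * v * (n : X)⁻¹, (mem_normalizer_iff.mp n.2 v).mp v.2⟩
      invFun := fun v => ⟨(n : X)⁻¹ * v * n, by
        have := (mem_normalizer_iff.mp (inv_mem n.2) v).mp v.2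
        simpa using this⟩
      left_inv := by intro v; apply Subtype.ext; simp [mul_assoc]
      right_inv := by intro v; apply Subtype.ext; simp [mul_assoc]
      map_mul' := by intro v v'; apply Subtype.ext; simp [mul_assoc] }
  map_one' := by
    apply MulEquiv.ext
    intro v
    apply Subtype.ext
    simp
  map_mul' := by
    intro a b
    apply MulEquiv.ext
    intro v
    apply Subtype.ext
    simp [mul_assoc]

theorem conjAut_apply (V : Subgroup X) (n : ↥(normalizer (V : Set X))) (v : ↥V) :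
    ((conjAut V n v : ↥V) : X) = n * v * (n : X)⁻¹ := rfl

/-- A nontrivial element of an `ℓ`-group commuting with an element of order `n` prime to `ℓ`
yields an element of order `ℓ * n`. -/
theorem exists_orderOf_mul [Finite X] {ℓ n : ℕ} (hℓ : ℓ.Prime) {V : Subgroup X}
    (hVℓ : IsPGroup ℓ V) {v e : X} (hv : v ∈ V) (hv1 : v ≠ 1) (he : orderOf e = n)
    (hcop : ℓ.Coprime n) (hcomm : e * v = v * e) : ∃ g : X, orderOf g = ℓ * n := by
  haveI := Fact.mk hℓ
  obtain ⟨k, hk⟩ := (IsPGroup.iff_orderOf.mp hVℓ) ⟨v, hv⟩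
  rw [Subgroup.orderOf_mk] at hk
  have hk0 : k ≠ 0 := by
    rintro rfl
    rw [pow_zero, orderOf_eq_one_iff] at hk
    exact hv1 hk
  have hpos : orderOf v ≠ 0 := by rw [hk]; exact pow_ne_zero _ hℓ.pos.ne'
  have hdvd : ℓ ∣ orderOf v := by rw [hk]; exact dvd_pow_self ℓ hk0
  have h1 := orderOf_pow_orderOf_div hpos hdvd
  refine ⟨v ^ (orderOf v / ℓ) * e, ?_⟩
  have hc : Commute (v ^ (orderOf v / ℓ)) e := (Commute.pow_right (show Commute e v from hcomm) _).symm
  rw [hc.orderOf_mul_eq_mul_orderOf_of_coprime (by rw [h1, he]; exact hcop), h1, he]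

/-- In a cyclic group of prime order, a generator is a power of every nontrivial element. -/
theorem mem_zpowers_of_orderOf_prime {Y : Type*} [Group Y] {z g : Y} {t : ℕ} (ht : t.Prime)
    (hz : orderOf z = t) (hg : g ∈ zpowers z) (hg1 : g ≠ 1) : z ∈ zpowers g := by
  haveI := Fact.mk ht
  have hcard : Nat.card (zpowers z) = t := by rw [Nat.card_zpowers, hz]
  have h1 := mem_zpowers_of_prime_card (G := ↥(zpowers z)) hcard (g := ⟨g, hg⟩)
    (g' := ⟨z, mem_zpowers z⟩) (by intro h; exact hg1 (congrArg Subtype.val h))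
  obtain ⟨k, hk⟩ := h1
  exact ⟨k, by simpa using congrArg Subtype.val hk⟩

/-- **Core lemma.** `V` a nontrivial abelian `ℓ`-group, `W` a nontrivial abelian group of exponent
`w` normalizing `V`, `y` of order `t` normalizing `V` and `W`, with `ℓ, w, t` distinct primes:
there is an element of order `ℓ w`, `ℓ t` or `w t`. -/
theorem core [Finite X] {ℓ w t : ℕ} (hℓ : ℓ.Prime) (hw : w.Prime) (ht : t.Prime)
    (hℓw : ℓ ≠ w) (hℓt : ℓ ≠ t) (hwt : w ≠ t) (V W : Subgroup X) (y : X)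
    (hVab : ∀ a ∈ V, ∀ b ∈ V, a * b = b * a) (hVℓ : IsPGroup ℓ V) (hV1 : V ≠ ⊥)
    (hWab : ∀ a ∈ W, ∀ b ∈ W, a * b = b * a) (hWexp : ∀ a ∈ W, a ^ w = 1) (hW1 : W ≠ ⊥)
    (hy : orderOf y = t) (hWV : W ≤ normalizer (V : Set X)) (hyV : y ∈ normalizer (V : Set X))
    (hyW : y ∈ normalizer (W : Set X)) :
    (∃ g : X, orderOf g = ℓ * w) ∨ (∃ g : X, orderOf g = ℓ * t) ∨
      (∃ g : X, orderOf g = w * t) := by
  haveI := Fact.mk hℓ
  haveI := Fact.mk hw
  haveI := Fact.mk ht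
  have hcopw : ℓ.Coprime w := (Nat.coprime_primes hℓ hw).mpr hℓw
  have hcopt : ℓ.Coprime t := (Nat.coprime_primes hℓ ht).mpr hℓt
  have hordW : ∀ e ∈ W, e ≠ 1 → orderOf e = w :=
    fun e he he1 => orderOf_eq_prime (hWexp e he) he1
  by_cases h1 : ∃ e ∈ W, e ≠ 1 ∧ ∃ v ∈ V, v ≠ 1 ∧ e * v = v * e
  · obtain ⟨e, he, he1, v, hv, hv1, hc⟩ := h1
    exact Or.inl (exists_orderOf_mul hℓ hVℓ hv hv1 (hordW e he he1) hcopw hc)
  by_cases h2 : ∃ v ∈ V, v ≠ 1 ∧ y * v = v * y
  · obtain ⟨v, hv, hv1, hc⟩ := h2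
    exact Or.inr (Or.inl (exists_orderOf_mul hℓ hVℓ hv hv1 hy hcopt hc))
  push Not at h1 h2
  have hWp : IsPGroup w W := fun e => ⟨1, by
    apply Subtype.ext
    simpa using hWexp e e.2⟩
  have hcard_cop : (Nat.card W).Coprime (Nat.card V) := by
    obtain ⟨a, ha⟩ := hWp.exists_card_eq
    obtain ⟨b, hb⟩ := hVℓ.exists_card_eq
    rw [ha, hb]
    exact Nat.Coprime.pow _ _ hcopw.symm
  have hWcomm : IsMulCommutative W := ⟨⟨fun a b => Subtype.ext (hWab a a.2 b b.2)⟩⟩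
  have hgen := (Cfsg.Agent.S3734.result W V hWcomm hWV hcard_cop).1
  obtain ⟨x, hxW, hWx⟩ : ∃ x ∈ W, W = zpowers x := by
    by_contra hno
    push Not at hno
    apply hV1
    rw [← hgen, eq_bot_iff]
    refine iSup₂_le fun B hB => ?_
    obtain ⟨hBW, a, haW, hBa⟩ := hB
    rcases Subgroup.bot_or_exists_ne_one B with hB1 | ⟨e, heB, he1⟩
    · exfalso
      rw [hB1, bot_sup_eq] at hBa
      exact hno a haW hBa.symm
    · intro v hv
      obtain ⟨hvV, hvC⟩ := mem_inf.mp hv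
      rw [mem_bot]
      by_contra hv1
      exact h1 e (hBW heB) he1 v hvV hv1 (mem_centralizer_iff.mp hvC e heB)
  have hx1 : x ≠ 1 := by
    rintro rfl
    apply hW1
    rw [hWx, zpowers_one_eq_bot]
  have hxord : orderOf x = w := hordW x hxW hx1
  by_cases h4 : y * x = x * y
  · right; right
    refine ⟨x * y, ?_⟩
    have hc : Commute x y := h4.symm
    rw [hc.orderOf_mul_eq_mul_orderOf_of_coprime
      (by rw [hxord, hy]; exact (Nat.coprime_primes hw ht).mpr hwt), hxord, hy]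
  exfalso
  letI : CommGroup ↥V :=
    { (inferInstance : Group ↥V) with mul_comm := fun a b => Subtype.ext (hVab a a.2 b b.2) }
  have hxN : x ∈ normalizer (V : Set X) := hWV hxW
  set x' : ↥(normalizer (V : Set X)) := ⟨x, hxN⟩ with hx'
  set y' : ↥(normalizer (V : Set X)) := ⟨y, hyV⟩ with hy'
  have hx'ord : orderOf x' = w := by rw [← hxord]; exact Subgroup.orderOf_mk x hxN
  have hy'ord : orderOf y' = t := by rw [← hy]; exact Subgroup.orderOf_mk y hyV
  have hmem : ∀ m : ↥(normalizer (V : Set X)), m ∈ zpowers x' ↔ (m : X) ∈ W := by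
    intro m
    rw [hWx]
    constructor
    · rintro ⟨k, rfl⟩
      exact ⟨k, by simp [x']⟩
    · rintro ⟨k, hk⟩
      exact ⟨k, Subtype.ext (by simpa [x'] using hk)⟩
  have key := Cfsg.Agent.Lib.Helper10.pow_card_eq_one_of_frobenius_fpf (conjAut V)
    (zpowers x') (zpowers y') ?_ ?_ ?_ ?_
  · apply hV1
    rw [eq_bot_iff]
    intro v hv
    have h5 := key ⟨v, hv⟩
    rw [Nat.card_zpowers, hx'ord] at h5
    obtain ⟨k, hk⟩ := hVℓ ⟨v, hv⟩
    have h6 : orderOf (⟨v, hv⟩ : V) ∣ Nat.gcd w (ℓ ^ k) :=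
      Nat.dvd_gcd (orderOf_dvd_of_pow_eq_one h5) (orderOf_dvd_of_pow_eq_one hk)
    have h7 : Nat.gcd w (ℓ ^ k) = 1 := Nat.Coprime.pow_right k hcopw.symm
    rw [h7, Nat.dvd_one, orderOf_eq_one_iff] at h6
    rw [mem_bot]
    exact congrArg Subtype.val h6
  · rw [zpowers_le, mem_normalizer_iff]
    intro m
    rw [hmem, hmem]
    exact mem_normalizer_iff.mp hyW m
  · intro g hg hg1 m hm hmg
    by_contra hm1
    obtain ⟨i, hi⟩ := mem_zpowers_of_orderOf_prime ht hy'ord hg hg1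
    obtain ⟨j, hj⟩ := mem_zpowers_of_orderOf_prime hw hx'ord hm hm1
    apply h4
    have hc : Commute m g := hmg
    have hc2 : Commute x' y' := by
      rw [← hi, ← hj]
      exact (hc.zpow_left j).zpow_right i
    have hc3 := congrArg Subtype.val hc2.eq
    exact hc3.symm
  · intro v hv
    by_contra hv1
    have h5 := hv x' (mem_zpowers x')
    have h6 := congrArg Subtype.val h5
    rw [conjAut_apply] at h6
    apply h1 x hxW hx1 v v.2 (fun h => hv1 (Subtype.ext h))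
    calc x * (v : X) = x * v * x⁻¹ * x := by group
      _ = v * x := by rw [h6]
  · intro v hv
    by_contra hv1
    have h5 := hv y' (mem_zpowers y')
    have h6 := congrArg Subtype.val h5
    rw [conjAut_apply] at h6
    apply h2 v v.2 (fun h => hv1 (Subtype.ext h))
    calc y * (v : X) = y * v * y⁻¹ * y := by group
      _ = v * y := by rw [h6]

end Core

section Tools

variable {X : Type u} [Group X]

/-- `Ω₁(Z(P))` with respect to the exponent `w`: central elements of `P` killed by `w`. -/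
def omegaZ (P : Subgroup X) (w : ℕ) : Subgroup X where
  carrier := {x | x ∈ P ∧ (∀ z ∈ P, z * x = x * z) ∧ x ^ w = 1}
  one_mem' := ⟨one_mem _, by simp, one_pow _⟩
  mul_mem' := by
    rintro a b ⟨ha, hac, haw⟩ ⟨hb, hbc, hbw⟩
    refine ⟨mul_mem ha hb, ?_, ?_⟩
    · intro z hz
      rw [← mul_assoc, hac z hz, mul_assoc, hbc z hz, mul_assoc]
    · have hc : Commute a b := hbc a ha
      rw [hc.mul_pow, haw, hbw, one_mul]
  inv_mem' := by
    rintro a ⟨ha, hac, haw⟩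
    refine ⟨inv_mem ha, ?_, by rw [inv_pow, haw, inv_one]⟩
    intro z hz
    have h1 := hac z hz
    calc z * a⁻¹ = a⁻¹ * (a * z) * a⁻¹ := by group
      _ = a⁻¹ * (z * a) * a⁻¹ := by rw [h1]
      _ = a⁻¹ * z := by group

theorem mem_omegaZ {P : Subgroup X} {w : ℕ} {x : X} :
    x ∈ omegaZ P w ↔ x ∈ P ∧ (∀ z ∈ P, z * x = x * z) ∧ x ^ w = 1 := Iff.rfl

theorem omegaZ_le (P : Subgroup X) (w : ℕ) : omegaZ P w ≤ P := fun _ hx => hx.1

theorem omegaZ_comm (P : Subgroup X) (w : ℕ) :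
    ∀ a ∈ omegaZ P w, ∀ b ∈ omegaZ P w, a * b = b * a :=
  fun a ha b hb => hb.2.1 a ha.1

theorem omegaZ_exp (P : Subgroup X) (w : ℕ) : ∀ a ∈ omegaZ P w, a ^ w = 1 := fun _ ha => ha.2.2

theorem normalizer_le_normalizer_omegaZ (P : Subgroup X) (w : ℕ) :
    normalizer (P : Set X) ≤ normalizer (omegaZ P w : Set X) := by
  apply le_normalizer_of_forall_conj_mem
  intro n hn x hx
  obtain ⟨hxP, hxc, hxw⟩ := hx
  refine ⟨(mem_normalizer_iff.mp hn x).mp hxP, ?_, by rw [conj_pow, hxw, mul_one, mul_inv_cancel]⟩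
  intro z hz
  have hz' : n⁻¹ * z * n ∈ P := by
    have := (mem_normalizer_iff.mp (inv_mem hn) z).mp hz
    simpa using this
  have h1 := hxc _ hz'
  calc z * (n * x * n⁻¹) = n * ((n⁻¹ * z * n) * x) * n⁻¹ := by group
    _ = n * (x * (n⁻¹ * z * n)) * n⁻¹ := by rw [h1]
    _ = n * x * n⁻¹ * z := by group

theorem omegaZ_ne_bot [Finite X] {P : Subgroup X} {w : ℕ} [hw : Fact w.Prime] (hP : IsPGroup w P)
    (hP1 : P ≠ ⊥) : omegaZ P w ≠ ⊥ := by
  haveI : Nontrivial P := (Subgroup.nontrivial_iff_ne_bot P).mpr hP1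
  haveI := hP.center_nontrivial
  obtain ⟨z, hz⟩ := exists_ne (1 : center P)
  have hzc : ∀ y ∈ P, y * ((z : P) : X) = ((z : P) : X) * y := by
    intro y hy
    have := (mem_center_iff.mp z.2) ⟨y, hy⟩
    exact congrArg Subtype.val this
  have hz1 : ((z : P) : X) ≠ 1 := fun h => hz (Subtype.ext (Subtype.ext h))
  obtain ⟨k, hk⟩ := (IsPGroup.iff_orderOf.mp hP) (z : P)
  have hk' : orderOf ((z : P) : X) = w ^ k := by rw [← hk]; exact (Subgroup.orderOf_coe _)
  have hk0 : k ≠ 0 := by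
    rintro rfl
    rw [pow_zero, orderOf_eq_one_iff] at hk'
    exact hz1 hk'
  have hpos : orderOf ((z : P) : X) ≠ 0 := by rw [hk']; exact pow_ne_zero _ hw.out.pos.ne'
  have hdvd : w ∣ orderOf ((z : P) : X) := by rw [hk']; exact dvd_pow_self w hk0
  have h1 := orderOf_pow_orderOf_div hpos hdvd
  intro hbot
  have hmem : ((z : P) : X) ^ (orderOf ((z : P) : X) / w) ∈ omegaZ P w := by
    refine ⟨pow_mem (z : P).2 _, ?_, ?_⟩
    · intro y hy
      exact ((Commute.pow_right (show Commute y ((z : P) : X) from hzc y hy) _)).eq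
    · have h2 := pow_orderOf_eq_one (((z : P) : X) ^ (orderOf ((z : P) : X) / w))
      rwa [h1] at h2
  rw [hbot, mem_bot] at hmem
  rw [hmem, orderOf_one] at h1
  exact hw.out.one_lt.ne h1

/-- Frattini argument in subgroup form. -/
theorem frattini_sylSet {q : ℕ} [Fact q.Prime] [Finite X] {A B : Subgroup X} (hBA : B ≤ A)
    (hAB : A ≤ normalizer (B : Set X)) (Q : SylSet q B) :
    A ≤ (normalizer (Q.1 : Set X) ⊓ A) ⊔ B := by
  intro h hh
  have hQ' : MulAut.conj h • Q.1 ≤ B := conj_smul_le_of_mem_normalizer (hAB hh) Q.2.1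
  have hcard : Nat.card (MulAut.conj h • Q.1 : Subgroup X) = q ^ (Nat.card B).factorization q := by
    rw [card_conj_smul]; exact Q.2.2
  obtain ⟨k, hkB, hk⟩ := exists_conj_eq_of_sylSet (⟨MulAut.conj h • Q.1, hQ', hcard⟩ : SylSet q B) Q
  have hkh : k * h ∈ normalizer (Q.1 : Set X) := by
    rw [← conj_smul_eq_self_iff_mem_normalizer, map_mul, mul_smul]
    exact hk
  have h1 : h = (k * h) * (h⁻¹ * k⁻¹ * h) := by group
  rw [h1]
  refine mul_mem_sup (mem_inf.mpr ⟨hkh, mul_mem (hBA hkB) hh⟩) ?_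
  have := (mem_normalizer_iff.mp (inv_mem (hAB hh)) k⁻¹).mp (inv_mem hkB)
  simpa using this

/-- If `A ⊔ B = C` with `B` normal, then `|C| / |B|` divides `|A|`. -/
theorem card_div_dvd_of_sup_eq [Finite X] {A B C : Subgroup X} [B.Normal] (h : A ⊔ B = C) :
    Nat.card C / Nat.card B ∣ Nat.card A := by
  have h1 := card_sup_mul_card_inf A B
  rw [h] at h1
  have hBC : B ≤ C := h ▸ le_sup_right
  obtain ⟨c, hc⟩ := Subgroup.card_dvd_of_le hBC
  have hpos : 0 < Nat.card B := Nat.card_pos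
  rw [hc, Nat.mul_div_cancel_left _ hpos]
  refine ⟨Nat.card (A ⊓ B : Subgroup X), ?_⟩
  have h2 : Nat.card B * (c * Nat.card (A ⊓ B : Subgroup X)) = Nat.card B * Nat.card A := by
    rw [hc] at h1
    rw [← mul_assoc, h1, mul_comm]
  exact (Nat.eq_of_mul_eq_mul_left hpos h2).symm

theorem sylSet_ne_bot [Finite X] {q : ℕ} [hq : Fact q.Prime] {B : Subgroup X} (Q : SylSet q B)
    (h : q ∣ Nat.card B) : Q.1 ≠ ⊥ := by
  intro hbot
  have h1 := Q.2.2
  rw [hbot, Subgroup.card_bot] at h1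
  have h2 : 1 ≤ (Nat.card B).factorization q :=
    (hq.out.dvd_iff_one_le_factorization Nat.card_pos.ne').mp h
  have h3 : q ^ 1 ∣ q ^ (Nat.card B).factorization q := pow_dvd_pow q h2
  rw [← h1, pow_one] at h3
  exact hq.out.one_lt.ne' (Nat.dvd_one.mp h3)

theorem sylSet_isPGroup [Finite X] {q : ℕ} [hq : Fact q.Prime] {B : Subgroup X} (Q : SylSet q B) :
    IsPGroup q Q.1 := IsPGroup.of_card Q.2.2

end Tools

section Solvable

/-- A solvable group with a nontrivial normal abelian `ℓ`-subgroup and two further prime divisors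
`s`, `u` has an element of order `ℓ s`, `ℓ u` or `s u`. -/
theorem of_normal_abelian {X : Type u} [Group X] [Finite X] [Group.IsSolvable X] {ℓ s u : ℕ}
    (hℓ : ℓ.Prime) (hs : s.Prime) (hu : u.Prime) (hℓs : ℓ ≠ s) (hℓu : ℓ ≠ u) (hsu : s ≠ u)
    (V : Subgroup X) [hVn : V.Normal] (hVab : ∀ a ∈ V, ∀ b ∈ V, a * b = b * a)
    (hVℓ : IsPGroup ℓ V) (hV1 : V ≠ ⊥) (hsX : s ∣ Nat.card X) (huX : u ∣ Nat.card X) :
    (∃ g : X, orderOf g = ℓ * s) ∨ (∃ g : X, orderOf g = ℓ * u) ∨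
      (∃ g : X, orderOf g = s * u) := by
  haveI := Fact.mk hs
  haveI := Fact.mk hu
  have hcardX : Nat.card X ≠ 0 := Nat.card_pos.ne'
  obtain ⟨a, n', hsn', hX⟩ := Nat.exists_eq_pow_mul_and_not_dvd hcardX s hs.ne_one
  have hn'0 : n' ≠ 0 := by
    rintro rfl
    rw [mul_zero] at hX
    exact hcardX hX
  obtain ⟨b, n, hun, hn'⟩ := Nat.exists_eq_pow_mul_and_not_dvd hn'0 u hu.ne_one
  have hsn : ¬ s ∣ n := fun h => hsn' (hn' ▸ Dvd.dvd.mul_left h _)
  have hcard : Nat.card X = (s ^ a * u ^ b) * n := by rw [hX, hn', mul_assoc]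
  have hcop : (s ^ a * u ^ b).Coprime n :=
    Nat.Coprime.mul_left (Nat.Coprime.pow_left a ((Nat.Prime.coprime_iff_not_dvd hs).mpr hsn))
      (Nat.Coprime.pow_left b ((Nat.Prime.coprime_iff_not_dvd hu).mpr hun))
  have ha0 : a ≠ 0 := by
    rintro rfl
    rw [pow_zero, one_mul] at hX
    exact hsn' (hX ▸ hsX)
  have hb0 : b ≠ 0 := by
    rintro rfl
    rw [pow_zero, one_mul] at hn'
    have h1 : u ∣ s ^ a * n' := hX ▸ huX
    have h2 : u ∣ n' :=
      (Nat.Coprime.dvd_mul_left (Nat.Coprime.pow_right a ((Nat.coprime_primes hu hs).mpr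
        (Ne.symm hsu)))).mp h1
    exact hun (hn' ▸ h2)
  obtain ⟨D, hD⟩ := hall_exists (G := X) (s ^ a * u ^ b) n hcard hcop
  have hsD : s ∣ Nat.card D := by rw [hD]; exact Dvd.dvd.mul_right (dvd_pow_self s ha0) _
  have huD : u ∣ Nat.card D := by rw [hD]; exact Dvd.dvd.mul_left (dvd_pow_self u hb0) _
  have hDnt : (⊤ : Subgroup D) ≠ ⊥ := by
    intro h
    have h1 : Nat.card (⊤ : Subgroup D) = 1 := by rw [h, Subgroup.card_bot]
    rw [Subgroup.card_top] at h1
    rw [h1] at hsD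
    exact hs.one_lt.ne' (Nat.dvd_one.mp hsD)
  obtain ⟨w, hw, P, hPn, -, hP1, hPcomm, hPexp⟩ :=
    exists_normal_elementary_abelian_le (G := ↥D) _ (⊤ : Subgroup D) rfl hDnt inferInstance
  haveI := Fact.mk hw
  -- `w` is `s` or `u`
  have hwD : w ∣ Nat.card D := by
    rcases Subgroup.bot_or_exists_ne_one P with h | ⟨x, hx, hx1⟩
    · exact absurd h hP1
    · have h1 : orderOf x = w := orderOf_eq_prime (hPexp x hx) hx1
      rw [← h1]
      exact orderOf_dvd_natCard x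
  have hwsu : w = s ∨ w = u := by
    rw [hD] at hwD
    rcases (Nat.Prime.dvd_mul hw).mp hwD with h | h
    · exact Or.inl ((Nat.prime_dvd_prime_iff_eq hw hs).mp (hw.dvd_of_dvd_pow h))
    · exact Or.inr ((Nat.prime_dvd_prime_iff_eq hw hu).mp (hw.dvd_of_dvd_pow h))
  set W : Subgroup X := P.map D.subtype with hW
  have hWab : ∀ a ∈ W, ∀ b ∈ W, a * b = b * a := by
    rintro _ ⟨a, ha, rfl⟩ _ ⟨b, hb, rfl⟩
    have := hPcomm.is_comm.comm (⟨a, ha⟩ : P) ⟨b, hb⟩
    have h2 := congrArg (fun z : P => ((z : D) : X)) this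
    exact h2
  have hWexp : ∀ a ∈ W, a ^ w = 1 := by
    rintro _ ⟨a, ha, rfl⟩
    have := hPexp a ha
    have h2 := congrArg (fun z : D => (z : X)) this
    simpa using h2
  have hW1 : W ≠ ⊥ := by
    intro h
    apply hP1
    rw [eq_bot_iff]
    intro x hx
    have h1 : (x : X) ∈ W := Subgroup.mem_map_of_mem D.subtype hx
    rw [h, mem_bot] at h1
    rw [mem_bot]
    exact Subtype.ext h1
  have hDW : D ≤ normalizer (W : Set X) := by
    apply le_normalizer_of_forall_conj_mem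
    rintro d hd _ ⟨x, hx, rfl⟩
    have h1 := hPn.conj_mem x hx ⟨d, hd⟩
    exact ⟨_, h1, rfl⟩
  have hnV : ∀ g : X, g ∈ normalizer (V : Set X) := by
    intro g
    rw [normalizer_eq_top]
    trivial
  rcases hwsu with rfl | rfl
  · obtain ⟨y', hy'⟩ := exists_prime_orderOf_dvd_card' u huD
    have hy : orderOf (y' : X) = u := by rw [Subgroup.orderOf_coe]; exact hy'
    exact core hℓ hw hu hℓs hℓu hsu V W (y' : X) hVab hVℓ hV1 hWab hWexp hW1 hy
      (fun g _ => hnV g) (hnV _) (hDW y'.2)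
  · obtain ⟨y', hy'⟩ := exists_prime_orderOf_dvd_card' s hsD
    have hy : orderOf (y' : X) = s := by rw [Subgroup.orderOf_coe]; exact hy'
    rcases core hℓ hw hs hℓu hℓs (Ne.symm hsu) V W (y' : X) hVab hVℓ hV1 hWab hWexp hW1 hy
      (fun g _ => hnV g) (hnV _) (hDW y'.2) with h | h | h
    · exact Or.inr (Or.inl h)
    · exact Or.inl h
    · obtain ⟨g, hg⟩ := h
      exact Or.inr (Or.inr ⟨g, by rw [hg, mul_comm]⟩)

/-- **Three primes.** A finite solvable group whose order is divisible by three distinct primes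
`r`, `s`, `u` has an element of order `r s`, `r u` or `s u`. -/
theorem three_primes {L : Type u} [Group L] [Finite L] [Group.IsSolvable L] {r s u : ℕ}
    (hr : r.Prime) (hs : s.Prime) (hu : u.Prime) (hrs : r ≠ s) (hru : r ≠ u) (hsu : s ≠ u)
    (hrL : r ∣ Nat.card L) (hsL : s ∣ Nat.card L) (huL : u ∣ Nat.card L) :
    (∃ g : L, orderOf g = r * s) ∨ (∃ g : L, orderOf g = r * u) ∨
      (∃ g : L, orderOf g = s * u) := by
  have hcardL : Nat.card L ≠ 0 := Nat.card_pos.ne'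
  obtain ⟨a, n₁, hrn₁, hL⟩ := Nat.exists_eq_pow_mul_and_not_dvd hcardL r hr.ne_one
  have hn₁0 : n₁ ≠ 0 := by
    rintro rfl
    rw [mul_zero] at hL
    exact hcardL hL
  obtain ⟨b, n₂, hsn₂, hn₁⟩ := Nat.exists_eq_pow_mul_and_not_dvd hn₁0 s hs.ne_one
  have hn₂0 : n₂ ≠ 0 := by
    rintro rfl
    rw [mul_zero] at hn₁
    exact hn₁0 hn₁
  obtain ⟨c, n, hun, hn₂⟩ := Nat.exists_eq_pow_mul_and_not_dvd hn₂0 u hu.ne_one
  have hsn : ¬ s ∣ n := fun h => hsn₂ (hn₂ ▸ Dvd.dvd.mul_left h _)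
  have hrn₂ : ¬ r ∣ n₂ := fun h => hrn₁ (hn₁ ▸ Dvd.dvd.mul_left h _)
  have hrn : ¬ r ∣ n := fun h => hrn₂ (hn₂ ▸ Dvd.dvd.mul_left h _)
  have hcard : Nat.card L = (r ^ a * s ^ b * u ^ c) * n := by
    rw [hL, hn₁, hn₂]; ring
  have hcop : (r ^ a * s ^ b * u ^ c).Coprime n :=
    Nat.Coprime.mul_left (Nat.Coprime.mul_left
      (Nat.Coprime.pow_left a ((Nat.Prime.coprime_iff_not_dvd hr).mpr hrn))
      (Nat.Coprime.pow_left b ((Nat.Prime.coprime_iff_not_dvd hs).mpr hsn)))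
      (Nat.Coprime.pow_left c ((Nat.Prime.coprime_iff_not_dvd hu).mpr hun))
  have ha0 : a ≠ 0 := by
    rintro rfl
    rw [pow_zero, one_mul] at hL
    exact hrn₁ (hL ▸ hrL)
  have hb0 : b ≠ 0 := by
    rintro rfl
    rw [pow_zero, one_mul] at hn₁
    have h1 : s ∣ r ^ a * n₁ := hL ▸ hsL
    have h2 : s ∣ n₁ :=
      (Nat.Coprime.dvd_mul_left (Nat.Coprime.pow_right a ((Nat.coprime_primes hs hr).mpr
        (Ne.symm hrs)))).mp h1
    exact hsn₂ (hn₁ ▸ h2)
  have hc0 : c ≠ 0 := by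
    rintro rfl
    rw [pow_zero, one_mul] at hn₂
    have h1 : u ∣ r ^ a * n₁ := hL ▸ huL
    have h2 : u ∣ n₁ :=
      (Nat.Coprime.dvd_mul_left (Nat.Coprime.pow_right a ((Nat.coprime_primes hu hr).mpr
        (Ne.symm hru)))).mp h1
    rw [hn₁] at h2
    have h3 : u ∣ n₂ :=
      (Nat.Coprime.dvd_mul_left (Nat.Coprime.pow_right b ((Nat.coprime_primes hu hs).mpr
        (Ne.symm hsu)))).mp h2
    exact hun (hn₂ ▸ h3)
  obtain ⟨L₁, hL₁⟩ := hall_exists (G := L) (r ^ a * s ^ b * u ^ c) n hcard hcop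
  have hrL₁ : r ∣ Nat.card L₁ := by
    rw [hL₁]; exact Dvd.dvd.mul_right (Dvd.dvd.mul_right (dvd_pow_self r ha0) _) _
  have hsL₁ : s ∣ Nat.card L₁ := by
    rw [hL₁]; exact Dvd.dvd.mul_right (Dvd.dvd.mul_left (dvd_pow_self s hb0) _) _
  have huL₁ : u ∣ Nat.card L₁ := by
    rw [hL₁]; exact Dvd.dvd.mul_left (dvd_pow_self u hc0) _
  have hL₁nt : (⊤ : Subgroup L₁) ≠ ⊥ := by
    intro h
    have h1 : Nat.card (⊤ : Subgroup L₁) = 1 := by rw [h, Subgroup.card_bot]
    rw [Subgroup.card_top] at h1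
    rw [h1] at hrL₁
    exact hr.one_lt.ne' (Nat.dvd_one.mp hrL₁)
  obtain ⟨ℓ, hℓ, V, hVn, -, hV1, hVcomm, hVexp⟩ :=
    exists_normal_elementary_abelian_le (G := ↥L₁) _ (⊤ : Subgroup L₁) rfl hL₁nt inferInstance
  haveI := Fact.mk hℓ
  haveI := hVn
  have hVab : ∀ a ∈ V, ∀ b ∈ V, a * b = b * a := by
    intro a ha b hb
    have := hVcomm.is_comm.comm (⟨a, ha⟩ : V) ⟨b, hb⟩
    exact congrArg Subtype.val this
  have hVℓ : IsPGroup ℓ V := fun x => ⟨1, by
    apply Subtype.ext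
    simpa using hVexp x x.2⟩
  have hℓL₁ : ℓ ∣ Nat.card L₁ := by
    rcases Subgroup.bot_or_exists_ne_one V with h | ⟨x, hx, hx1⟩
    · exact absurd h hV1
    · have h1 : orderOf x = ℓ := orderOf_eq_prime (hVexp x hx) hx1
      rw [← h1]
      exact orderOf_dvd_natCard x
  have hℓrsu : ℓ = r ∨ ℓ = s ∨ ℓ = u := by
    rw [hL₁] at hℓL₁
    rcases (Nat.Prime.dvd_mul hℓ).mp hℓL₁ with h | h
    · rcases (Nat.Prime.dvd_mul hℓ).mp h with h | h
      · exact Or.inl ((Nat.prime_dvd_prime_iff_eq hℓ hr).mp (hℓ.dvd_of_dvd_pow h))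
      · exact Or.inr (Or.inl ((Nat.prime_dvd_prime_iff_eq hℓ hs).mp (hℓ.dvd_of_dvd_pow h)))
    · exact Or.inr (Or.inr ((Nat.prime_dvd_prime_iff_eq hℓ hu).mp (hℓ.dvd_of_dvd_pow h)))
  have lift : ∀ m : ℕ, (∃ g : L₁, orderOf g = m) → ∃ g : L, orderOf g = m := by
    rintro m ⟨g, hg⟩
    exact ⟨g, by rw [Subgroup.orderOf_coe]; exact hg⟩
  rcases hℓrsu with rfl | rfl | rfl
  · rcases of_normal_abelian hℓ hs hu hrs hru hsu V hVab hVℓ hV1 hsL₁ huL₁ with h | h | h
    · exact Or.inl (lift _ h)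
    · exact Or.inr (Or.inl (lift _ h))
    · exact Or.inr (Or.inr (lift _ h))
  · rcases of_normal_abelian hℓ hr hu (Ne.symm hrs) hsu hru V hVab hVℓ hV1 hrL₁ huL₁ with
      h | h | h
    · obtain ⟨g, hg⟩ := lift _ h
      exact Or.inl ⟨g, by rw [hg, mul_comm]⟩
    · exact Or.inr (Or.inr (lift _ h))
    · exact Or.inr (Or.inl (lift _ h))
  · rcases of_normal_abelian hℓ hr hs (Ne.symm hru) (Ne.symm hsu) hrs V hVab hVℓ hV1 hrL₁ hsL₁
      with h | h | h
    · obtain ⟨g, hg⟩ := lift _ h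
      exact Or.inr (Or.inl ⟨g, by rw [hg, mul_comm]⟩)
    · obtain ⟨g, hg⟩ := lift _ h
      exact Or.inr (Or.inr ⟨g, by rw [hg, mul_comm]⟩)
    · exact Or.inl (lift _ h)

end Solvable

end Cfsg.Agent.Lib.Helper20.ThreePrimes
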