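import Mathlib
import Cfsg.Prelude.Def_Classical
import Cfsg.Agent.Lib.Helper16.SUCenter

/-!
# `SU₃(4)` has no elements of order 6, 26, 39, 65

Piece A3 + A4 of S3663 (helper7 architect).
-/

set_option autoImplicit false
set_option linter.unusedSectionVars false
set_option linter.unusedVariables false
set_option linter.unusedSimpArgs false
set_option linter.style.haveILetI false

namespace Cfsg.Agent.Lib.Helper20.U34NoOrd

open Matrix

section basics

variable {F : Type*} [Field F] [Fintype F]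

/-- the matrix of an element of `SU₃(4)` -/
def toM (g : ↥(Cfsg.SU 3 F 4)) : Matrix (Fin 3) (Fin 3) F :=
  ((g : Matrix.SpecialLinearGroup (Fin 3) F) : Matrix (Fin 3) (Fin 3) F)

theorem toM_one : toM (1 : ↥(Cfsg.SU 3 F 4)) = 1 := rfl

theorem toM_mul (g h : ↥(Cfsg.SU 3 F 4)) : toM (g * h) = toM g * toM h := rfl

theorem toM_pow (g : ↥(Cfsg.SU 3 F 4)) (n : ℕ) : toM (g ^ n) = toM g ^ n := by
  induction n with
  | zero => simp [toM_one]
  | succ n ih => rw [pow_succ, pow_succ, toM_mul, ih]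

theorem toM_injective : Function.Injective (toM (F := F)) := by
  intro g h hgh
  apply Subtype.ext
  apply Subtype.ext
  exact hgh

theorem det_toM (g : ↥(Cfsg.SU 3 F 4)) : (toM g).det = 1 := g.1.2

theorem toM_unitary (g : ↥(Cfsg.SU 3 F 4)) (x y : Fin 3 → F) :
    Cfsg.hermForm 3 F 4 (toM g *ᵥ x) (toM g *ᵥ y) = Cfsg.hermForm 3 F 4 x y := g.2 x y

theorem charP_two (hF : Fintype.card F = 16) : CharP F 2 := by
  obtain ⟨p, hp⟩ := CharP.exists F
  have := hp
  obtain ⟨n, hpp, hn⟩ := FiniteField.card F p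
  have h1 : p ∣ 2 ^ 4 := by
    have : p ∣ p ^ (n : ℕ) := dvd_pow_self p n.ne_zero
    rw [← hn, hF] at this
    exact this
  have h2 : p ∣ 2 := hpp.dvd_of_dvd_pow h1
  have h3 : p = 2 := (Nat.prime_dvd_prime_iff_eq hpp Nat.prime_two).1 h2
  subst h3
  exact hp

theorem pow_sixteen (hF : Fintype.card F = 16) (a : F) : a ^ 16 = a := by
  have := FiniteField.pow_card a
  rwa [hF] at this

theorem pow_fifteen (hF : Fintype.card F = 16) {a : F} (ha : a ≠ 0) : a ^ 15 = 1 := by
  have := FiniteField.pow_card_sub_one_eq_one a ha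
  rwa [hF] at this

/-- a primitive cube root of unity -/
theorem exists_omega (hF : Fintype.card F = 16) : ∃ w : F, w ≠ 1 ∧ w ^ 3 = 1 := by
  classical
  obtain ⟨ζ, hζ⟩ := IsCyclic.exists_generator (α := Fˣ)
  have hcard : Fintype.card Fˣ = 15 := by rw [Fintype.card_units, hF]
  have hord : orderOf ζ = 15 := by
    rw [orderOf_eq_card_of_forall_mem_zpowers hζ, Nat.card_eq_fintype_card, hcard]
  refine ⟨((ζ ^ 5 : Fˣ) : F), ?_, ?_⟩
  · intro h
    have h1 : ζ ^ 5 = 1 := Units.ext (by simpa using h)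
    have := orderOf_dvd_of_pow_eq_one h1
    rw [hord] at this
    omega
  · have h1 : (ζ ^ 5) ^ 3 = 1 := by
      rw [← pow_mul, show 5 * 3 = orderOf ζ from hord.symm]; exact pow_orderOf_eq_one ζ
    have := congrArg (fun u : Fˣ => (u : F)) h1
    simpa using this

end basics

section counting

variable {F : Type*} [Field F] [Fintype F]

/-- the submodule of vectors fixed by a matrix -/
def fixSub (T : Matrix (Fin 3) (Fin 3) F) : Submodule F (Fin 3 → F) :=
  LinearMap.ker (Matrix.mulVecLin (T - 1))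

theorem mem_fixSub {T : Matrix (Fin 3) (Fin 3) F} {x : Fin 3 → F} :
    x ∈ fixSub T ↔ T *ᵥ x = x := by
  simp [fixSub, LinearMap.mem_ker, Matrix.sub_mulVec, sub_eq_zero]

/-- orbit counting for a matrix of order dividing 13 on an invariant subspace -/
theorem card_modEq (T : Matrix (Fin 3) (Fin 3) F) (hT : T ^ 13 = 1)
    (W : Submodule F (Fin 3 → F)) (hW : ∀ x ∈ W, T *ᵥ x ∈ W) :
    Nat.card W ≡ Nat.card ↥(W ⊓ fixSub T) [MOD 13] := by
  classical
  haveI : Fact (Nat.Prime 13) := ⟨by norm_num⟩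
  haveI : Fintype W := Fintype.ofFinite _
  let f : Function.End W := fun x => ⟨T *ᵥ (x : Fin 3 → F), hW x x.2⟩
  have hfn : ∀ n : ℕ, ∀ x : W, ((f ^ n) x : Fin 3 → F) = (T ^ n) *ᵥ (x : Fin 3 → F) := by
    intro n
    induction n with
    | zero => intro x; rw [pow_zero, pow_zero, Matrix.one_mulVec]; rfl
    | succ n ih =>
      intro x
      have h1 : (f ^ (n + 1)) x = (f ^ n) (f x) := by rw [pow_succ]; rfl
      rw [h1, ih (f x), pow_succ, ← Matrix.mulVec_mulVec]
  have hf : f ^ 13 ^ 1 = 1 := by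
    funext x
    apply Subtype.ext
    rw [pow_one, hfn 13 x, hT, Matrix.one_mulVec]
    rfl
  have key := Equiv.Perm.card_fixedPoints_modEq (p := 13) (n := 1) hf
  have hc : Fintype.card ↥(Function.fixedPoints f) = Nat.card ↥(W ⊓ fixSub T) := by
    rw [← Nat.card_eq_fintype_card]
    apply Nat.card_congr
    refine ⟨fun x => ⟨x.1.1, ⟨x.1.2, ?_⟩⟩, fun x => ⟨⟨x.1, x.2.1⟩, ?_⟩, ?_, ?_⟩
    · refine mem_fixSub.2 ?_
      have := x.2
      have h2 : f x.1 = x.1 := this
      exact congrArg Subtype.val h2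
    · show f ⟨x.1, x.2.1⟩ = ⟨x.1, x.2.1⟩
      apply Subtype.ext
      exact mem_fixSub.1 x.2.2
    · intro x; rfl
    · intro x; rfl
  rw [hc, ← Nat.card_eq_fintype_card] at key
  exact key

theorem natCard_sub (hF : Fintype.card F = 16) (W : Submodule F (Fin 3 → F)) :
    Nat.card W = 16 ^ Module.finrank F W := by
  rw [Module.natCard_eq_pow_finrank (K := F) (V := W), Nat.card_eq_fintype_card, hF]

theorem finrank_le_three (W : Submodule F (Fin 3 → F)) : Module.finrank F W ≤ 3 := by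
  have := Submodule.finrank_le W
  simpa using this

theorem eq_top_of_finrank_three (W : Submodule F (Fin 3 → F)) (h : Module.finrank F W = 3) :
    W = ⊤ := by
  apply Submodule.eq_top_of_finrank_eq
  rw [h]; simp

/-- a matrix of order 13 has no non-zero fixed vector -/
theorem fixSub_eq_bot (hF : Fintype.card F = 16) (T : Matrix (Fin 3) (Fin 3) F)
    (hT : T ^ 13 = 1) (hT1 : T ≠ 1) : fixSub T = ⊥ := by
  have key := card_modEq T hT ⊤ (fun x _ => Submodule.mem_top)
  rw [top_inf_eq, natCard_sub hF, natCard_sub hF] at key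
  have h3 : Module.finrank F (⊤ : Submodule F (Fin 3 → F)) = 3 := by simp
  rw [h3] at key
  have hle := finrank_le_three (fixSub T)
  have hd : Module.finrank F (fixSub T) = 0 ∨ Module.finrank F (fixSub T) = 3 := by
    generalize Module.finrank F (fixSub T) = d at key hle
    interval_cases d
    · left; rfl
    · exfalso; revert key; decide
    · exfalso; revert key; decide
    · right; rfl
  rcases hd with hd | hd
  · exact Submodule.finrank_eq_zero.1 hd
  · exfalso
    apply hT1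
    have htop := eq_top_of_finrank_three _ hd
    have hx : ∀ x : Fin 3 → F, T *ᵥ x = x := fun x => mem_fixSub.1 (htop ▸ Submodule.mem_top)
    ext i j
    have := congrFun (hx (Pi.single j 1)) i
    simpa [Matrix.mulVec_single, Matrix.one_apply, Pi.single_apply, eq_comm] using this

/-- an invariant subspace of a matrix of order 13 is trivial or everything -/
theorem invariant_eq_bot_or_top (hF : Fintype.card F = 16) (T : Matrix (Fin 3) (Fin 3) F)
    (hT : T ^ 13 = 1) (hfix : fixSub T = ⊥)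
    (W : Submodule F (Fin 3 → F)) (hW : ∀ x ∈ W, T *ᵥ x ∈ W) : W = ⊥ ∨ W = ⊤ := by
  have key := card_modEq T hT W hW
  rw [hfix, inf_bot_eq, natCard_sub hF, natCard_sub hF] at key
  have h0 : Module.finrank F (⊥ : Submodule F (Fin 3 → F)) = 0 := by simp
  rw [h0] at key
  have hle := finrank_le_three W
  have hd : Module.finrank F W = 0 ∨ Module.finrank F W = 3 := by
    generalize Module.finrank F W = d at key hle
    interval_cases d
    · left; rfl
    · exfalso; revert key; decide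
    · exfalso; revert key; decide
    · right; rfl
  rcases hd with hd | hd
  · left; exact Submodule.finrank_eq_zero.1 hd
  · right; exact eq_top_of_finrank_three _ hd

end counting

section eigen

open Polynomial

variable {F : Type*} [Field F] [Fintype F]

theorem prod_list_X_sub_C (hF : Fintype.card F = 16) [DecidableEq F] :
    ((Finset.univ : Finset F).toList.map (fun a : F => (X - C a : F[X]))).prod = X ^ 16 - X := by
  have hroots := FiniteField.roots_X_pow_card_sub_X F
  rw [hF] at hroots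
  have hmonic : (X ^ 16 - X : F[X]).Monic := by
    apply Polynomial.monic_X_pow_sub
    rw [degree_X]; norm_num
  have hnd : (X ^ 16 - X : F[X]).natDegree = 16 :=
    FiniteField.X_pow_card_sub_X_natDegree_eq F (by norm_num)
  have hcard : Multiset.card (X ^ 16 - X : F[X]).roots = (X ^ 16 - X : F[X]).natDegree := by
    rw [hroots, hnd]; simp [hF]
  have := Polynomial.prod_multiset_X_sub_C_of_monic_of_roots_card_eq hmonic hcard
  rw [hroots] at this
  rw [Finset.prod_map_toList, Finset.prod_eq_multiset_prod]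
  exact this

theorem exists_eig_of_pow15 (hF : Fintype.card F = 16) (M : Matrix (Fin 3) (Fin 3) F)
    (hM : M ^ 15 = 1) : ∃ a : F, ∃ v : Fin 3 → F, v ≠ 0 ∧ M *ᵥ v = a • v := by
  classical
  have hp := prod_list_X_sub_C hF
  have h1 := congrArg (Polynomial.aeval M) hp
  rw [map_list_prod, List.map_map] at h1
  have h16 : M ^ 16 = M := by rw [pow_succ, hM, one_mul]
  have h2 : (Polynomial.aeval M) (X ^ 16 - X : F[X]) = 0 := by
    simp [h16]
  rw [h2] at h1
  have h3 := congrArg Matrix.det h1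
  rw [Matrix.det_zero] at h3
  have h4 : (((Finset.univ : Finset F).toList.map ((Polynomial.aeval M) ∘ fun a : F => (X - C a : F[X]))).map Matrix.det).prod = 0 := by
    rw [← h3]
    exact (map_list_prod (Matrix.detMonoidHom (n := Fin 3) (R := F)) _).symm
  rw [List.prod_eq_zero_iff] at h4
  simp only [List.map_map, List.mem_map, Finset.mem_toList, Finset.mem_univ, true_and,
    Function.comp] at h4
  obtain ⟨a, ha⟩ := h4
  refine ⟨a, ?_⟩
  have hdet : (M - a • (1 : Matrix (Fin 3) (Fin 3) F)).det = 0 := by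
    rw [← ha]
    congr 1
    simp [Algebra.algebraMap_eq_smul_one]
  obtain ⟨v, hv0, hv⟩ := Matrix.exists_mulVec_eq_zero_iff.2 hdet
  refine ⟨v, hv0, ?_⟩
  rw [Matrix.sub_mulVec, Matrix.smul_mulVec, Matrix.one_mulVec, sub_eq_zero] at hv
  exact hv

end eigen

section commutant

variable {F : Type*} [Field F] [Fintype F]

/-- the `a`-eigenspace of a matrix -/
def eigSub (M : Matrix (Fin 3) (Fin 3) F) (a : F) : Submodule F (Fin 3 → F) :=
  LinearMap.ker (Matrix.mulVecLin (M - a • 1))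

theorem mem_eigSub {M : Matrix (Fin 3) (Fin 3) F} {a : F} {x : Fin 3 → F} :
    x ∈ eigSub M a ↔ M *ᵥ x = a • x := by
  simp [eigSub, LinearMap.mem_ker, Matrix.sub_mulVec, sub_eq_zero, Matrix.smul_mulVec]

theorem eigSub_invariant {M T : Matrix (Fin 3) (Fin 3) F} (hcomm : M * T = T * M) (a : F) :
    ∀ x ∈ eigSub M a, T *ᵥ x ∈ eigSub M a := by
  intro x hx
  rw [mem_eigSub] at hx ⊢
  rw [Matrix.mulVec_mulVec, hcomm, ← Matrix.mulVec_mulVec, hx, Matrix.mulVec_smul]

theorem eq_smul_one_of_forall {M : Matrix (Fin 3) (Fin 3) F} {a : F}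
    (h : ∀ x : Fin 3 → F, M *ᵥ x = a • x) : M = a • 1 := by
  ext i j
  have := congrFun (h (Pi.single j 1)) i
  simpa [Matrix.mulVec_single, Matrix.one_apply, Pi.single_apply, eq_comm] using this

/-- a matrix commuting with a matrix of order 13 and having an eigenvector is scalar -/
theorem scalar_of_eig (hF : Fintype.card F = 16) (T : Matrix (Fin 3) (Fin 3) F)
    (hT : T ^ 13 = 1) (hT1 : T ≠ 1) (M : Matrix (Fin 3) (Fin 3) F) (hcomm : M * T = T * M)
    (a : F) (v : Fin 3 → F) (hv : v ≠ 0) (hMv : M *ᵥ v = a • v) : M = a • 1 := by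
  have hfix := fixSub_eq_bot hF T hT hT1
  rcases invariant_eq_bot_or_top hF T hT hfix (eigSub M a) (eigSub_invariant hcomm a) with h | h
  · exfalso
    have : v ∈ eigSub M a := mem_eigSub.2 hMv
    rw [h, Submodule.mem_bot] at this
    exact hv this
  · apply eq_smul_one_of_forall
    intro x
    exact mem_eigSub.1 (h ▸ Submodule.mem_top)

theorem comm_pow15 (hF : Fintype.card F = 16) (T : Matrix (Fin 3) (Fin 3) F)
    (hT : T ^ 13 = 1) (hT1 : T ≠ 1) (M : Matrix (Fin 3) (Fin 3) F) (hcomm : M * T = T * M)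
    (hM : M ^ 15 = 1) : ∃ a : F, M = a • 1 := by
  obtain ⟨a, v, hv, hMv⟩ := exists_eig_of_pow15 hF M hM
  exact ⟨a, scalar_of_eig hF T hT hT1 M hcomm a v hv hMv⟩

theorem comm_sq (hF : Fintype.card F = 16) (T : Matrix (Fin 3) (Fin 3) F)
    (hT : T ^ 13 = 1) (hT1 : T ≠ 1) (M : Matrix (Fin 3) (Fin 3) F) (hcomm : M * T = T * M)
    (hM : M ^ 2 = 1) : M = 1 := by
  haveI := charP_two hF
  have h2 : (2 : F) = 0 := by exact_mod_cast CharP.cast_eq_zero F 2
  have hneg : ∀ y : Fin 3 → F, y + y = 0 := by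
    intro y
    rw [← two_smul F y, h2, zero_smul]
  -- a non-zero vector fixed by `M`
  obtain ⟨v, hv, hMv⟩ : ∃ v : Fin 3 → F, v ≠ 0 ∧ M *ᵥ v = (1 : F) • v := by
    let x0 : Fin 3 → F := Pi.single 0 1
    have hx0 : x0 ≠ 0 := by
      intro h
      have := congrFun h 0
      simp [x0] at this
    by_cases hy : M *ᵥ x0 + x0 = 0
    · refine ⟨x0, hx0, ?_⟩
      rw [one_smul]
      have := hneg x0
      have h3 : M *ᵥ x0 = -x0 := eq_neg_of_add_eq_zero_left hy
      rw [h3]
      exact (eq_neg_of_add_eq_zero_left (hneg x0)).symm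
    · refine ⟨M *ᵥ x0 + x0, hy, ?_⟩
      rw [one_smul, Matrix.mulVec_add, Matrix.mulVec_mulVec, ← pow_two, hM, Matrix.one_mulVec,
        add_comm]
  have := scalar_of_eig hF T hT hT1 M hcomm 1 v hv hMv
  rw [this, one_smul]

end commutant

section main13

variable {F : Type*} [Field F] [Fintype F]

/-- a scalar element of `SU₃(4)` is trivial -/
theorem scalar_SU_eq_one (c : ↥(Cfsg.SU 3 F 4)) (a : F)
    (h : toM c = a • (1 : Matrix (Fin 3) (Fin 3) F)) : c = 1 := by
  have hdet := det_toM c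
  rw [h, Matrix.det_smul, Matrix.det_one, mul_one, Fintype.card_fin] at hdet
  have hu := toM_unitary c (Pi.single 0 1) (Pi.single 0 1)
  rw [h] at hu
  simp only [Cfsg.hermForm, Matrix.smul_mulVec, Matrix.one_mulVec, Fin.sum_univ_three,
    Pi.smul_apply, Pi.single_apply, smul_eq_mul] at hu
  simp at hu
  have h5 : a ^ 5 = 1 := by
    rw [← hu]; ring
  have ha : a = 1 := by
    have h6 : a ^ 6 = 1 := by rw [show 6 = 3 * 2 from rfl, pow_mul, hdet, one_pow]
    calc a = a * a ^ 5 := by rw [h5, mul_one]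
      _ = a ^ 6 := by ring
      _ = 1 := h6
  apply toM_injective
  rw [h, ha, one_smul, toM_one]

theorem no_order_13r (hF : Fintype.card F = 16) (g : ↥(Cfsg.SU 3 F 4)) (r : ℕ)
    (hr : r = 2 ∨ r = 3 ∨ r = 5) : orderOf g ≠ 13 * r := by
  intro hord
  have hrpos : 2 ≤ r ∧ r ≤ 5 := by rcases hr with rfl | rfl | rfl <;> omega
  have hT : toM (g ^ r) ^ 13 = 1 := by
    rw [← toM_pow, ← pow_mul, mul_comm, ← hord, pow_orderOf_eq_one, toM_one]
  have hT1 : toM (g ^ r) ≠ 1 := by
    intro h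
    have h1 : g ^ r = 1 := toM_injective (h.trans toM_one.symm)
    have h2 := orderOf_dvd_of_pow_eq_one h1
    rw [hord] at h2
    have := Nat.le_of_dvd (by omega) h2
    omega
  have hcomm : toM (g ^ 13) * toM (g ^ r) = toM (g ^ r) * toM (g ^ 13) := by
    rw [← toM_mul, ← toM_mul, ← pow_add, ← pow_add, add_comm]
  have hc1 : g ^ 13 ≠ 1 := by
    intro h1
    have h2 := orderOf_dvd_of_pow_eq_one h1
    rw [hord] at h2
    have := Nat.le_of_dvd (by omega) h2
    nlinarith
  have hcr : toM (g ^ 13) ^ r = 1 := by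
    rw [← toM_pow, ← pow_mul, ← hord, pow_orderOf_eq_one, toM_one]
  rcases hr with rfl | rfl | rfl
  · have := comm_sq hF _ hT hT1 _ hcomm hcr
    exact hc1 (toM_injective (this.trans toM_one.symm))
  · have h15 : toM (g ^ 13) ^ 15 = 1 := by
      rw [show 15 = 3 * 5 from rfl, pow_mul, hcr, one_pow]
    obtain ⟨a, ha⟩ := comm_pow15 hF _ hT hT1 _ hcomm h15
    exact hc1 (scalar_SU_eq_one _ a ha)
  · have h15 : toM (g ^ 13) ^ 15 = 1 := by
      rw [show 15 = 5 * 3 from rfl, pow_mul, hcr, one_pow]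
    obtain ⟨a, ha⟩ := comm_pow15 hF _ hT hT1 _ hcomm h15
    exact hc1 (scalar_SU_eq_one _ a ha)

end main13

section main6

variable {F : Type*} [Field F] [Fintype F]

/-- Lagrange component: an eigenvector of a matrix of order 3 -/
theorem eig_component (S : Matrix (Fin 3) (Fin 3) F) (hS : S ^ 3 = 1) (l : F) (hl : l ^ 3 = 1)
    (x : Fin 3 → F) :
    S *ᵥ (x + l ^ 2 • S *ᵥ x + l • S *ᵥ (S *ᵥ x)) = l • (x + l ^ 2 • S *ᵥ x + l • S *ᵥ (S *ᵥ x)) := by
  have h3 : S *ᵥ (S *ᵥ (S *ᵥ x)) = x := by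
    rw [Matrix.mulVec_mulVec, Matrix.mulVec_mulVec, ← pow_two, ← pow_succ, hS, Matrix.one_mulVec]
  rw [Matrix.mulVec_add, Matrix.mulVec_add, Matrix.mulVec_smul, Matrix.mulVec_smul, h3]
  linear_combination (norm := module) -(hl • S *ᵥ x)

/-- the three Lagrange components add up to the vector (characteristic 2) -/
theorem sum_components (w : F) (h2 : (2 : F) = 0) (hsum : 1 + w + w ^ 2 = 0) (hw3 : w ^ 3 = 1)
    (x a b : Fin 3 → F) :
    x = (x + (1 : F) ^ 2 • a + (1 : F) • b) + (x + w ^ 2 • a + w • b)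
      + (x + (w ^ 2) ^ 2 • a + w ^ 2 • b) := by
  linear_combination (norm := module) -(h2 • x) - hsum • (a + b) - (hw3 • (w • a))

/-- core of the order 6 argument, normalised to eigenvalue one -/
theorem eq_one_of_fixed_pair (hF : Fintype.card F = 16) (S N : Matrix (Fin 3) (Fin 3) F)
    (hS : S ^ 3 = 1) (hdet : S.det = 1) (y : Fin 3 → F)
    (hv : N *ᵥ y ≠ 0) (hNv : N *ᵥ (N *ᵥ y) = 0) (hSy : S *ᵥ y = y)
    (hSv : S *ᵥ (N *ᵥ y) = N *ᵥ y) : S = 1 := by
  classical
  haveI := charP_two hF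
  have h2 : (2 : F) = 0 := by exact_mod_cast CharP.cast_eq_zero F 2
  obtain ⟨w, hw1, hw3⟩ := exists_omega hF
  have hsum : 1 + w + w ^ 2 = 0 := by
    have h : (w - 1) * (1 + w + w ^ 2) = 0 := by
      have : (w - 1) * (1 + w + w ^ 2) = w ^ 3 - 1 := by ring
      rw [this, hw3, sub_self]
    rcases mul_eq_zero.1 h with h | h
    · exact absurd (sub_eq_zero.1 h) hw1
    · exact h
  have hw2_1 : w ^ 2 ≠ 1 := by
    intro h
    apply hw1
    calc w = w * 1 := (mul_one w).symm
      _ = w * w ^ 3 := by rw [hw3]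
      _ = (w ^ 2) ^ 2 := by ring
      _ = 1 := by rw [h, one_pow]
  have hw23 : (w ^ 2) ^ 3 = 1 := by rw [← pow_mul, mul_comm, pow_mul, hw3, one_pow]
  by_contra hS1
  -- a vector not fixed by `S`
  obtain ⟨x1, hx1⟩ : ∃ x1 : Fin 3 → F, S *ᵥ x1 ≠ x1 := by
    by_contra hcon
    push Not at hcon
    apply hS1
    have := eq_smul_one_of_forall (M := S) (a := 1) (fun x => by rw [one_smul]; exact hcon x)
    rw [this, one_smul]
  -- an eigenvector for an eigenvalue different from one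
  obtain ⟨z, nu, hz0, hnu1, hSz⟩ : ∃ (z : Fin 3 → F) (nu : F), z ≠ 0 ∧ nu ≠ 1 ∧ S *ᵥ z = nu • z := by
    have hdec := sum_components w h2 hsum hw3 x1 (S *ᵥ x1) (S *ᵥ (S *ᵥ x1))
    have e1 := eig_component S hS 1 (one_pow 3) x1
    have ew := eig_component S hS w hw3 x1
    have ew2 := eig_component S hS (w ^ 2) hw23 x1
    by_cases hzw : x1 + w ^ 2 • S *ᵥ x1 + w • S *ᵥ (S *ᵥ x1) = 0
    · by_cases hzw2 : x1 + (w ^ 2) ^ 2 • S *ᵥ x1 + w ^ 2 • S *ᵥ (S *ᵥ x1) = 0
      · exfalso
        rw [hzw, hzw2, add_zero, add_zero] at hdec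
        rw [one_smul (M := F) (x1 + (1 : F) ^ 2 • S *ᵥ x1 + (1 : F) • S *ᵥ (S *ᵥ x1))] at e1
        apply hx1
        rw [hdec]
        exact e1
      · exact ⟨_, w ^ 2, hzw2, hw2_1, ew2⟩
    · exact ⟨_, w, hzw, hw1, ew⟩
  -- the matrix with columns `v, y, z`
  set v : Fin 3 → F := N *ᵥ y with hvdef
  let B : Matrix (Fin 3) (Fin 3) F := Matrix.of fun i j => ![v, y, z] j i
  have hSB : S * B = B * Matrix.diagonal ![1, 1, nu] := by
    ext i j
    rw [Matrix.mul_diagonal]
    have hcol : ∀ j : Fin 3, (fun i => B i j) = ![v, y, z] j := fun j => rfl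
    have h1 : (S * B) i j = (S *ᵥ (![v, y, z] j)) i := by
      rw [← hcol j]; rfl
    rw [h1]
    fin_cases j
    · simp [B, hSv]
    · simp [B, hSy]
    · simp [B, hSz, mul_comm]
  have hdetB : B.det = 0 := by
    have h := congrArg Matrix.det hSB
    rw [Matrix.det_mul, Matrix.det_mul, Matrix.det_diagonal, hdet, one_mul, Fin.prod_univ_three] at h
    simp only [Matrix.cons_val_zero, Matrix.cons_val_one, Matrix.cons_val_two, Matrix.head_cons,
      Matrix.tail_cons, one_mul] at h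
    have h' : B.det * (nu - 1) = 0 := by
      have : B.det * (nu - 1) = B.det * nu - B.det := by ring
      rw [this, ← h, sub_self]
    rcases mul_eq_zero.1 h' with h' | h'
    · exact h'
    · exact absurd (sub_eq_zero.1 h') hnu1
  obtain ⟨c, hc0, hc⟩ := Matrix.exists_mulVec_eq_zero_iff.2 hdetB
  have hlin : c 0 • v + c 1 • y + c 2 • z = 0 := by
    rw [← hc]
    ext i
    simp [Matrix.mulVec, dotProduct, Fin.sum_univ_three, B, mul_comm]
  -- apply `S`
  have hlinS : c 0 • v + c 1 • y + (c 2 * nu) • z = 0 := by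
    have := congrArg (fun u => S *ᵥ u) hlin
    simp only [Matrix.mulVec_add, Matrix.mulVec_smul, hSv, hSy, hSz, Matrix.mulVec_zero,
      smul_smul] at this
    exact this
  have hc2z : (c 2 * (nu - 1)) • z = 0 := by
    linear_combination (norm := module) hlinS - hlin
  have hc2 : c 2 = 0 := by
    rcases smul_eq_zero.1 hc2z with h | h
    · rcases mul_eq_zero.1 h with h | h
      · exact h
      · exact absurd (sub_eq_zero.1 h) hnu1
    · exact absurd h hz0
  rw [hc2, zero_smul, add_zero] at hlin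
  -- apply `N`
  have hlinN : c 1 • v = 0 := by
    have := congrArg (fun u => N *ᵥ u) hlin
    simp only [Matrix.mulVec_add, Matrix.mulVec_smul, hNv, Matrix.mulVec_zero, smul_zero,
      zero_add] at this
    exact this
  have hc1 : c 1 = 0 := by
    rcases smul_eq_zero.1 hlinN with h | h
    · exact h
    · exact absurd h hv
  rw [hc1, zero_smul, add_zero] at hlin
  have hc0' : c 0 = 0 := by
    rcases smul_eq_zero.1 hlin with h | h
    · exact h
    · exact absurd h hv
  apply hc0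
  ext i
  fin_cases i
  · exact hc0'
  · exact hc1
  · exact hc2

/-- a matrix of order 3 and determinant 1 commuting with a non-zero square-zero matrix is
scalar -/
theorem scalar_of_comm_nilp (hF : Fintype.card F = 16) (S N : Matrix (Fin 3) (Fin 3) F)
    (hS : S ^ 3 = 1) (hdet : S.det = 1) (hN2 : N * N = 0) (hN : N ≠ 0)
    (hcomm : S * N = N * S) : ∃ l : F, l ^ 3 = 1 ∧ S = l • 1 := by
  classical
  haveI := charP_two hF
  have h2 : (2 : F) = 0 := by exact_mod_cast CharP.cast_eq_zero F 2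
  obtain ⟨w, hw1, hw3⟩ := exists_omega hF
  have hsum : 1 + w + w ^ 2 = 0 := by
    have h : (w - 1) * (1 + w + w ^ 2) = 0 := by
      have : (w - 1) * (1 + w + w ^ 2) = w ^ 3 - 1 := by ring
      rw [this, hw3, sub_self]
    rcases mul_eq_zero.1 h with h | h
    · exact absurd (sub_eq_zero.1 h) hw1
    · exact h
  have hw23 : (w ^ 2) ^ 3 = 1 := by rw [← pow_mul, mul_comm, pow_mul, hw3, one_pow]
  obtain ⟨x, hx⟩ : ∃ x : Fin 3 → F, N *ᵥ x ≠ 0 := by
    by_contra hcon
    push Not at hcon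
    apply hN
    have := eq_smul_one_of_forall (M := N) (a := 0) (fun x => by rw [zero_smul]; exact hcon x)
    rw [this, zero_smul]
  -- an eigenvector `y` of `S` with `N y ≠ 0`
  obtain ⟨y, l, hl, hSy, hNy⟩ : ∃ (y : Fin 3 → F) (l : F), l ^ 3 = 1 ∧ S *ᵥ y = l • y ∧
      N *ᵥ y ≠ 0 := by
    have hdec := sum_components w h2 hsum hw3 x (S *ᵥ x) (S *ᵥ (S *ᵥ x))
    by_cases h1 : N *ᵥ (x + (1 : F) ^ 2 • S *ᵥ x + (1 : F) • S *ᵥ (S *ᵥ x)) = 0
    · by_cases hw' : N *ᵥ (x + w ^ 2 • S *ᵥ x + w • S *ᵥ (S *ᵥ x)) = 0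
      · by_cases hw2' : N *ᵥ (x + (w ^ 2) ^ 2 • S *ᵥ x + w ^ 2 • S *ᵥ (S *ᵥ x)) = 0
        · exfalso
          apply hx
          rw [hdec, Matrix.mulVec_add, Matrix.mulVec_add, h1, hw', hw2', add_zero, add_zero]
        · exact ⟨_, w ^ 2, hw23, eig_component S hS (w ^ 2) hw23 x, hw2'⟩
      · exact ⟨_, w, hw3, eig_component S hS w hw3 x, hw'⟩
    · exact ⟨_, 1, one_pow 3, eig_component S hS 1 (one_pow 3) x, h1⟩
  -- normalise
  have hSN : ∀ u : Fin 3 → F, S *ᵥ (N *ᵥ u) = N *ᵥ (S *ᵥ u) := by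
    intro u
    rw [Matrix.mulVec_mulVec, Matrix.mulVec_mulVec, hcomm]
  have hl6 : (l ^ 2) ^ 3 = 1 := by rw [← pow_mul, mul_comm, pow_mul, hl, one_pow]
  have key := eq_one_of_fixed_pair hF (l ^ 2 • S) N
    (by rw [smul_pow, hS, hl6, one_smul])
    (by rw [Matrix.det_smul, hdet, mul_one, Fintype.card_fin, hl6])
    y hNy
    (by rw [Matrix.mulVec_mulVec, hN2, Matrix.zero_mulVec])
    (by rw [Matrix.smul_mulVec, hSy, smul_smul, ← pow_succ, hl, one_smul])
    (by rw [Matrix.smul_mulVec, hSN, hSy, Matrix.mulVec_smul, smul_smul, ← pow_succ, hl,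
      one_smul])
  refine ⟨l, hl, ?_⟩
  calc S = (l * l ^ 2) • S := by rw [← pow_succ', hl, one_smul]
    _ = l • (l ^ 2 • S) := by rw [smul_smul]
    _ = l • 1 := by rw [key]

/-- `SU₃(4)` has no element of order 6 -/
theorem no_order_six (hF : Fintype.card F = 16) (g : ↥(Cfsg.SU 3 F 4)) : orderOf g ≠ 6 := by
  intro hord
  haveI := charP_two hF
  have h2 : (2 : F) = 0 := by exact_mod_cast CharP.cast_eq_zero F 2
  have hM2 : ∀ M : Matrix (Fin 3) (Fin 3) F, M + M = 0 := by
    intro M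
    rw [← two_smul F M, h2, zero_smul]
  have hg6 : g ^ 6 = 1 := by rw [← hord]; exact pow_orderOf_eq_one g
  have hU2 : toM (g ^ 3) * toM (g ^ 3) = 1 := by
    rw [← toM_mul, ← pow_add, hg6, toM_one]
  have hS3 : toM (g ^ 2) ^ 3 = 1 := by
    rw [← toM_pow, ← pow_mul, hg6, toM_one]
  have hN2 : (toM (g ^ 3) + 1) * (toM (g ^ 3) + 1) = 0 := by
    rw [add_mul, mul_add, mul_add, hU2, mul_one, one_mul, one_mul]
    have : (1 : Matrix (Fin 3) (Fin 3) F) + toM (g ^ 3) + (toM (g ^ 3) + 1)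
        = (1 + 1) + (toM (g ^ 3) + toM (g ^ 3)) := by abel
    rw [this, hM2, hM2, add_zero]
  have hN : toM (g ^ 3) + 1 ≠ 0 := by
    intro h
    have h1 : toM (g ^ 3) = 1 := by
      have := eq_neg_of_add_eq_zero_left h
      rw [this]
      exact (eq_neg_of_add_eq_zero_left (hM2 1)).symm
    have h3 : g ^ 3 = 1 := toM_injective (h1.trans toM_one.symm)
    have := orderOf_dvd_of_pow_eq_one h3
    rw [hord] at this
    omega
  have hcomm : toM (g ^ 2) * (toM (g ^ 3) + 1) = (toM (g ^ 3) + 1) * toM (g ^ 2) := by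
    rw [mul_add, add_mul, mul_one, one_mul, ← toM_mul, ← toM_mul, ← pow_add, ← pow_add]
  obtain ⟨l, hl, hSl⟩ := scalar_of_comm_nilp hF _ _ hS3 (det_toM _) hN2 hN hcomm
  have h2' : g ^ 2 = 1 := scalar_SU_eq_one _ l hSl
  have := orderOf_dvd_of_pow_eq_one h2'
  rw [hord] at this
  omega

end main6

section transfer

variable {F : Type*} [Field F] [Fintype F]

theorem center_SU_eq_bot (hF : Fintype.card F = 16) :
    Subgroup.center (Cfsg.SU 3 F 4) = ⊥ := by
  have hF' : Fintype.card F = 4 ^ 2 := by rw [hF]; norm_num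
  have := Cfsg.Agent.Lib.Helper16.card_center_SU (n := 3) hF' (by norm_num)
  apply Subgroup.eq_bot_of_card_eq
  rw [this]
  norm_num

/-- `SU₃(4) ≃* PSU₃(4)` (the centre is trivial) -/
noncomputable def suEquivPSU (hF : Fintype.card F = 16) : ↥(Cfsg.SU 3 F 4) ≃* Cfsg.PSU 3 F 4 :=
  MulEquiv.ofBijective (QuotientGroup.mk' (Subgroup.center (Cfsg.SU 3 F 4)))
    ⟨by
      rw [← MonoidHom.ker_eq_bot_iff, QuotientGroup.ker_mk']
      exact center_SU_eq_bot hF,
     QuotientGroup.mk'_surjective _⟩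

theorem orderOf_suEquivPSU (hF : Fintype.card F = 16) (g : ↥(Cfsg.SU 3 F 4)) :
    orderOf (suEquivPSU hF g) = orderOf g :=
  MulEquiv.orderOf_eq (suEquivPSU hF) g

/-- **A3 + A4 for `SU₃(4)`**: no element of order 6, 26, 39 or 65. -/
theorem su34_orderOf_ne (hF : Fintype.card F = 16) (g : ↥(Cfsg.SU 3 F 4)) :
    orderOf g ≠ 6 ∧ orderOf g ≠ 26 ∧ orderOf g ≠ 39 ∧ orderOf g ≠ 65 :=
  ⟨no_order_six hF g, no_order_13r hF g 2 (Or.inl rfl), no_order_13r hF g 3 (Or.inr (Or.inl rfl)),
    no_order_13r hF g 5 (Or.inr (Or.inr rfl))⟩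

/-- **A3 + A4 for `PSU₃(4)`**: no element of order 6, 26, 39 or 65. -/
theorem psu34_orderOf_ne (hF : Fintype.card F = 16) (g : Cfsg.PSU 3 F 4) :
    orderOf g ≠ 6 ∧ orderOf g ≠ 26 ∧ orderOf g ≠ 39 ∧ orderOf g ≠ 65 := by
  have h := su34_orderOf_ne hF ((suEquivPSU hF).symm g)
  have he : orderOf g = orderOf ((suEquivPSU hF).symm g) := by
    rw [← orderOf_suEquivPSU hF, MulEquiv.apply_symm_apply]
  rw [he]
  exact h

end transfer

end Cfsg.Agent.Lib.Helper20.U34NoOrd
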