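import Mathlib
import Cfsg.Agent.Lib.Helper9.U35MinDefs
import Cfsg.Agent.Lib.Helper5.U35MinPG

/-!
# S2149 front, piece B2: the structure of the normal Sylow 5-subgroup `U` (order 125, non-abelian)
of the Borel group of order 1000, transported from the generic `p ^ 3` lemmas applied to `↥U`.
-/

set_option autoImplicit false
set_option linter.style.haveILetI false

namespace Cfsg.Agent.Lib.Helper9.U35Min

open scoped commutatorElement

section B
variable {S : Type*} [Group S] {u1 u2 t : S}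

/-- B2: structure of `U` transported to subgroups of `S` (from PG applied to `↥U`) -/
theorem Borel.U_struct (hB : Borel S u1 u2 t) (U : Subgroup S) (hU : U.Normal) (hcard : Nat.card U = 125)
    (hu1 : u1 ∈ U) (hu2 : u2 ∈ U) :
    ⁅u1, u2⁆ ≠ 1 ∧ ⁅u1, u2⁆ ^ 5 = 1 ∧ ⁅u1, u2⁆ ∈ U ∧ (∀ x ∈ U, x * ⁅u1, u2⁆ = ⁅u1, u2⁆ * x) ∧
    (∀ x ∈ U, ∀ y ∈ U, ⁅x, y⁆ ∈ Subgroup.zpowers ⁅u1, u2⁆) ∧
    (∀ s : S, s * ⁅u1, u2⁆ * s⁻¹ ∈ Subgroup.zpowers ⁅u1, u2⁆) ∧
    Subgroup.closure {u1, u2} = U ∧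
    (∀ W : Subgroup S, W ≤ U → ⁅u1, u2⁆ ∉ W → Nat.card W ≤ 5) := by
  haveI : Fact (Nat.Prime 5) := ⟨Nat.prime_five⟩
  have hc3 : Nat.card U = 5 ^ 3 := by rw [hcard]; norm_num
  -- the two generators inside `↥U`
  set a : U := ⟨u1, hu1⟩ with ha
  set b : U := ⟨u2, hu2⟩ with hb
  have hab : a * b ≠ b * a := by
    intro h
    exact hB.hnc (congrArg Subtype.val h)
  have hcoe : ((⁅a, b⁆ : U) : S) = ⁅u1, u2⁆ := by
    rw [commutatorElement_def, commutatorElement_def]
    rfl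
  obtain ⟨hcen, hcencard⟩ := pg_center_eq_zpowers hc3 hab
  have hzc : ⁅a, b⁆ ∈ Subgroup.center U := pg_comm_mem_center hc3 a b
  -- 5. commutators of elements of `U` are powers of `z`
  have h5 : ∀ x ∈ U, ∀ y ∈ U, ⁅x, y⁆ ∈ Subgroup.zpowers ⁅u1, u2⁆ := by
    intro x hx y hy
    have hm : ⁅(⟨x, hx⟩ : U), (⟨y, hy⟩ : U)⁆ ∈ Subgroup.center U := pg_comm_mem_center hc3 _ _
    rw [hcen] at hm
    obtain ⟨k, hk⟩ := Subgroup.mem_zpowers_iff.1 hm
    refine Subgroup.mem_zpowers_iff.2 ⟨k, ?_⟩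
    have := congrArg (Subtype.val : U → S) hk
    rw [Subgroup.coe_zpow, hcoe] at this
    rw [this, commutatorElement_def, commutatorElement_def]
    rfl
  refine ⟨?_, ?_, ?_, ?_, h5, ?_, ?_, ?_⟩
  · -- 1. `z ≠ 1`
    intro h
    exact hB.hnc (commutatorElement_eq_one_iff_mul_comm.1 h)
  · -- 2. `z ^ 5 = 1`
    have h1 : (⟨⁅a, b⁆, hzc⟩ : Subgroup.center U) ^ Nat.card (Subgroup.center U) = 1 :=
      pow_card_eq_one'
    rw [hcencard] at h1
    have h2 : (⁅a, b⁆ : U) ^ 5 = 1 := by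
      have := congrArg (Subtype.val : Subgroup.center U → U) h1
      simpa using this
    have h3 := congrArg (Subtype.val : U → S) h2
    rw [Subgroup.coe_pow, hcoe] at h3
    simpa using h3
  · -- 3. `z ∈ U`
    rw [← hcoe]
    exact (⁅a, b⁆ : U).2
  · -- 4. `z` is central in `U`
    intro x hx
    have h := Subgroup.mem_center_iff.1 hzc ⟨x, hx⟩
    have h' := congrArg (Subtype.val : U → S) h
    rw [Subgroup.coe_mul, Subgroup.coe_mul, hcoe] at h'
    exact h'
  · -- 6. `⟨z⟩` is normal in `S`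
    intro s
    rw [conjugate_commutatorElement]
    exact h5 _ (hU.conj_mem _ hu1 s) _ (hU.conj_mem _ hu2 s)
  · -- 7. `u1, u2` generate `U`
    have hcl := pg_closure_eq_top hc3 hab
    have hmap := congrArg (Subgroup.map U.subtype) hcl
    rw [MonoidHom.map_closure, ← MonoidHom.range_eq_map, Subgroup.range_subtype] at hmap
    rw [← hmap]
    congr 1
    ext x
    simp only [Set.mem_image, Set.mem_insert_iff, Set.mem_singleton_iff]
    constructor
    · rintro (rfl | rfl)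
      · exact ⟨a, Or.inl rfl, rfl⟩
      · exact ⟨b, Or.inr rfl, rfl⟩
    · rintro ⟨y, (rfl | rfl), rfl⟩
      · exact Or.inl rfl
      · exact Or.inr rfl
  · -- 8. subgroups of `U` missing `z` have order at most 5
    intro W hWU hzW
    have hW' : ⁅a, b⁆ ∉ W.subgroupOf U := by
      rw [Subgroup.mem_subgroupOf, hcoe]
      exact hzW
    have h := pg_card_le hc3 hab (W.subgroupOf U) hW'
    rwa [Nat.card_congr (Subgroup.subgroupOfEquivOfLe hWU).toEquiv] at h

end B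

end Cfsg.Agent.Lib.Helper9.U35Min
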