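import Mathlib

set_option autoImplicit false

namespace Cfsg.Agent.Lib.Helper20.UPart

/-- backward arithmetic: the criterion gives an admissible `t` for every `j`. -/
theorem arith_backward (r qa l qb k : ℕ) (hr : 2 ≤ r) (hl : l < r) (hk : k < r) (hqa : 1 ≤ qa)
    (D1 : l * k < r) (D2 : qb = 0 ∨ l ≤ k * qa + 1) (j : ℕ)
    (hjr : j * r ≤ (r * qa + l) * (r * qb + k)) :
    ∃ t : ℕ, t * r ≤ r * qb + k ∧ t * (r * qa + l) ≤ j ∧
      j ≤ t * (r * qa + l) + (r * qb + k - t * r) * qa := by
  set a := r * qa + l with ha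
  have hapos : 0 < a := by
    have : 1 ≤ r * qa := Nat.mul_pos (by omega) hqa
    omega
  by_cases hc : qb ≤ j / a
  · refine ⟨qb, by nlinarith, ?_, ?_⟩
    · calc qb * a ≤ (j / a) * a := Nat.mul_le_mul_right _ hc
        _ ≤ j := Nat.div_mul_le_self _ _
    · have h1 : r * qb + k - qb * r = k := by
        rw [mul_comm qb r]; omega
      rw [h1]
      have h2 : a * (r * qb + k) = r * (qb * a) + r * (qa * k) + l * k := by
        rw [ha]; ring
      have h3 : j * r < r * (qb * a + k * qa + 1) := by
        calc j * r ≤ a * (r * qb + k) := hjr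
          _ = r * (qb * a) + r * (qa * k) + l * k := h2
          _ < r * (qb * a) + r * (qa * k) + r := by omega
          _ = r * (qb * a + k * qa + 1) := by ring
      have h4 : j < qb * a + k * qa + 1 := by
        rw [mul_comm j r] at h3
        exact Nat.lt_of_mul_lt_mul_left h3
      omega
  · push Not at hc
    have hqb : 1 ≤ qb := Nat.lt_of_le_of_lt (Nat.zero_le _) hc
    have hD2 : l ≤ k * qa + 1 := by
      rcases D2 with h | h
      · omega
      · exact h
    set t := j / a with ht
    have ht1 : t + 1 ≤ qb := hc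
    have htr : t * r + r ≤ r * qb := by
      calc t * r + r = (t + 1) * r := by ring
        _ ≤ qb * r := Nat.mul_le_mul_right _ ht1
        _ = r * qb := by ring
    refine ⟨t, by omega, Nat.div_mul_le_self _ _, ?_⟩
    have h1 : j < a * (t + 1) := by
      rw [ht]
      exact Nat.lt_mul_div_succ j hapos
    obtain ⟨d, hd⟩ : ∃ d, r * qb + k - t * r = d := ⟨_, rfl⟩
    rw [hd]
    have hd2 : r + k ≤ d := by omega
    have h2 : (r + k) * qa ≤ d * qa := Nat.mul_le_mul_right _ hd2
    have h3 : (r + k) * qa = r * qa + k * qa := by ring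
    have h4 : a * (t + 1) = t * a + a := by ring
    omega

/-- forward arithmetic: admissible `t` for all `j` gives the criterion. -/
theorem arith_forward (r qa l qb k : ℕ) (hr : 2 ≤ r) (hl : l < r) (hk : k < r)
    (ha2 : 2 ≤ r * qa + l) (hb2 : 2 ≤ r * qb + k)
    (hrab : r ≤ (r * qa + l) * (r * qb + k))
    (H : ∀ j : ℕ, 1 ≤ j → j * r ≤ (r * qa + l) * (r * qb + k) →
      ∃ t : ℕ, t * r ≤ r * qb + k ∧ t * (r * qa + l) ≤ j ∧
        j ≤ t * (r * qa + l) + (r * qb + k - t * r) * qa) :
    1 ≤ qa ∧ l * k < r ∧ (qb = 0 ∨ l ≤ k * qa + 1) := by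
  set a := r * qa + l with ha
  set b := r * qb + k with hb
  -- general upper bound
  have hub : ∀ t : ℕ, t * r ≤ b → t ≤ qb ∧ t * a + (b - t * r) * qa = b * qa + t * l := by
    intro t ht
    constructor
    · by_contra hcon
      push Not at hcon
      have : (qb + 1) * r ≤ t * r := Nat.mul_le_mul_right _ hcon
      have h2 : (qb + 1) * r = r * qb + r := by ring
      omega
    · obtain ⟨d, hd⟩ : ∃ d, d + t * r = b := ⟨b - t * r, Nat.sub_add_cancel ht⟩
      have hd' : b - t * r = d := by omega
      rw [hd', ← hd, ha]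
      ring
  have hqa : 1 ≤ qa := by
    by_contra hcon
    have hqa0 : qa = 0 := by omega
    obtain ⟨t, ht1, ht2, ht3⟩ := H 1 le_rfl (by simpa using hrab)
    rw [hqa0] at ht3
    simp only [mul_zero, add_zero] at ht3
    have hta : t * a = 1 := le_antisymm ht2 ht3
    have := Nat.eq_one_of_mul_eq_one_left hta
    omega
  refine ⟨hqa, ?_, ?_⟩
  · by_contra hcon
    push Not at hcon
    set j := a * b / r with hj
    have hrpos : 0 < r := by omega
    have hj1 : 1 ≤ j := by
      rw [hj]
      exact (Nat.one_le_div_iff hrpos).mpr hrab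
    have hj2 : j * r ≤ a * b := Nat.div_mul_le_self _ _
    have hj3 : a * b < (j + 1) * r := by
      have h := Nat.lt_mul_div_succ (a * b) hrpos
      calc a * b < r * (a * b / r + 1) := h
        _ = (j + 1) * r := by rw [hj]; ring
    obtain ⟨t, ht1, ht2, ht3⟩ := H j hj1 hj2
    obtain ⟨htq, hteq⟩ := hub t ht1
    rw [hteq] at ht3
    have h1 : t * l ≤ qb * l := Nat.mul_le_mul_right _ htq
    have h2 : j + 1 ≤ b * qa + qb * l + 1 := by omega
    have h3 : (j + 1) * r ≤ (b * qa + qb * l + 1) * r := Nat.mul_le_mul_right _ h2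
    have h4 : a * b = (b * qa + qb * l) * r + l * k := by
      rw [ha, hb]; ring
    have h5 : (b * qa + qb * l + 1) * r = (b * qa + qb * l) * r + r := by ring
    omega
  · by_cases hqb : qb = 0
    · left; exact hqb
    · right
      have hqb1 : 1 ≤ qb := by omega
      have hqa2 : 2 ≤ qb * a := by
        calc 2 ≤ a := ha2
          _ = 1 * a := (one_mul a).symm
          _ ≤ qb * a := Nat.mul_le_mul_right _ hqb1
      have hj2 : (qb * a - 1) * r ≤ a * b := by
        calc (qb * a - 1) * r ≤ (qb * a) * r := Nat.mul_le_mul_right _ (Nat.sub_le _ _)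
          _ = a * (r * qb) := by ring
          _ ≤ a * b := Nat.mul_le_mul_left _ (by omega)
      obtain ⟨t, ht1, ht2, ht3⟩ := H (qb * a - 1) (by omega) hj2
      obtain ⟨htq, hteq⟩ := hub t ht1
      rw [hteq] at ht3
      have htlt : t < qb := by
        by_contra hcon
        push Not at hcon
        have : qb * a ≤ t * a := Nat.mul_le_mul_right _ hcon
        omega
      have h1 : t * l ≤ (qb - 1) * l := Nat.mul_le_mul_right _ (by omega)
      have h2 : qb * a = qb * r * qa + qb * l := by rw [ha]; ring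
      have h3 : b * qa = qb * r * qa + k * qa := by rw [hb]; ring
      have h4 : qb * l = (qb - 1) * l + l := by
        obtain ⟨q', rfl⟩ : ∃ q', qb = q' + 1 := ⟨qb - 1, by omega⟩
        simp only [Nat.add_sub_cancel]
        ring
      omega

end Cfsg.Agent.Lib.Helper20.UPart
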