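import Mathlib

set_option autoImplicit false

namespace Cfsg.Agent.Lib.Helper20.UPart

open Equiv Finset

section TestModel

variable (r : ℕ) [Fact r.Prime] (j z : ℕ)

/-- `j` groups of `r` points, plus `z` further points. -/
abbrev TY := (Fin j × ZMod r) ⊕ Fin z

/-- shift all `r`-groups by `s`. -/
def tyFun (s : ZMod r) : TY r j z → TY r j z
  | Sum.inl (i, u) => Sum.inl (i, u + s)
  | Sum.inr w => Sum.inr w

theorem tyFun_add (s s' : ZMod r) (x : TY r j z) :
    tyFun r j z s (tyFun r j z s' x) = tyFun r j z (s' + s) x := by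
  rcases x with ⟨i, u⟩ | w <;> simp [tyFun, add_assoc]

theorem tyFun_zero (x : TY r j z) : tyFun r j z 0 x = x := by
  rcases x with ⟨i, u⟩ | w <;> simp [tyFun]

/-- the rotation permutation. -/
def tyPerm : Perm (TY r j z) where
  toFun := tyFun r j z 1
  invFun := tyFun r j z (-1)
  left_inv x := by rw [tyFun_add]; simp [tyFun_zero]
  right_inv x := by rw [tyFun_add]; simp [tyFun_zero]

theorem tyPerm_apply (x : TY r j z) : tyPerm r j z x = tyFun r j z 1 x := rfl

theorem tyPerm_pow (k : ℕ) (x : TY r j z) :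
    ((tyPerm r j z) ^ k) x = tyFun r j z (k : ZMod r) x := by
  induction k generalizing x with
  | zero => simp [tyFun_zero]
  | succ k ih =>
    rw [pow_succ', Perm.mul_apply, ih, tyPerm_apply, tyFun_add]
    push_cast
    rfl

theorem tyPerm_pow_r : (tyPerm r j z) ^ r = 1 := by
  ext x
  rw [tyPerm_pow]
  simp [tyFun_zero]

theorem tyPerm_support : (tyPerm r j z).support =
    Finset.univ.map ⟨Sum.inl, Sum.inl_injective⟩ := by
  ext x
  rcases x with ⟨i, u⟩ | w
  · simp [Perm.mem_support, tyPerm_apply, tyFun]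
  · simp [Perm.mem_support, tyPerm_apply, tyFun]

theorem tyPerm_support_card : (tyPerm r j z).support.card = j * r := by
  rw [tyPerm_support, Finset.card_map, Finset.card_univ, Fintype.card_prod, Fintype.card_fin,
    ZMod.card]

theorem tyPerm_orderOf (hj : 0 < j) : orderOf (tyPerm r j z) = r := by
  apply orderOf_eq_prime (tyPerm_pow_r r j z)
  intro h
  have := tyPerm_support_card r j z
  rw [h, Perm.support_one, Finset.card_empty] at this
  have hr : 0 < r := (Fact.out : r.Prime).pos
  have : 0 < j * r := Nat.mul_pos hj hr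
  omega

theorem TY_card : Fintype.card (TY r j z) = j * r + z := by
  simp [ZMod.card]

end TestModel

section Model

variable (r : ℕ) [Fact r.Prime] (t m q l : ℕ) (s : Finset (Fin m × Fin q))

/-- the model block. -/
abbrev MA := (Fin q × ZMod r) ⊕ Fin l

/-- the model set. -/
abbrev MX := TY r t m × MA r q l

/-- shift by `d`. -/
def mxFun (d : ZMod r) : MX r t m q l → MX r t m q l
  | (Sum.inl (g, u), y) => (Sum.inl (g, u + d), y)
  | (Sum.inr c, Sum.inl (h, v)) => (Sum.inr c, Sum.inl (h, if (c, h) ∈ s then v + d else v))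
  | (Sum.inr c, Sum.inr w) => (Sum.inr c, Sum.inr w)

theorem mxFun_add (d d' : ZMod r) (x : MX r t m q l) :
    mxFun r t m q l s d (mxFun r t m q l s d' x) = mxFun r t m q l s (d' + d) x := by
  rcases x with ⟨⟨g, u⟩ | c, ⟨h, v⟩ | w⟩
  · simp [mxFun, add_assoc]
  · simp [mxFun, add_assoc]
  · by_cases hs : (c, h) ∈ s <;> simp [mxFun, hs, add_assoc]
  · simp [mxFun]

theorem mxFun_zero (x : MX r t m q l) : mxFun r t m q l s 0 x = x := by
  rcases x with ⟨⟨g, u⟩ | c, ⟨h, v⟩ | w⟩ <;> simp [mxFun]

/-- the model permutation. -/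
def mxPerm : Perm (MX r t m q l) where
  toFun := mxFun r t m q l s 1
  invFun := mxFun r t m q l s (-1)
  left_inv x := by rw [mxFun_add]; simp [mxFun_zero]
  right_inv x := by rw [mxFun_add]; simp [mxFun_zero]

theorem mxPerm_apply (x : MX r t m q l) : mxPerm r t m q l s x = mxFun r t m q l s 1 x := rfl

theorem mxPerm_pow (k : ℕ) (x : MX r t m q l) :
    ((mxPerm r t m q l s) ^ k) x = mxFun r t m q l s (k : ZMod r) x := by
  induction k generalizing x with
  | zero => simp [mxFun_zero]
  | succ k ih =>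
    rw [pow_succ', Perm.mul_apply, ih, mxPerm_apply, mxFun_add]
    push_cast
    rfl

theorem mxPerm_pow_r : (mxPerm r t m q l s) ^ r = 1 := by
  refine Equiv.ext fun x => ?_
  rw [mxPerm_pow]
  simp [mxFun_zero]

theorem mxPerm_fst (x : MX r t m q l) :
    (mxPerm r t m q l s x).1 = tyPerm r t m x.1 := by
  rcases x with ⟨⟨g, u⟩ | c, ⟨h, v⟩ | w⟩ <;> rfl

theorem mx_fibre_card (β : TY r t m) :
    Fintype.card {x : MX r t m q l // x.1 = β} = q * r + l := by
  have e : {x : MX r t m q l // x.1 = β} ≃ MA r q l :=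
    { toFun := fun x => x.1.2
      invFun := fun y => ⟨(β, y), rfl⟩
      left_inv := by rintro ⟨⟨b, y⟩, rfl⟩; rfl
      right_inv := fun y => rfl }
  rw [Fintype.card_congr e]
  simp [ZMod.card]

theorem MX_card : Fintype.card (MX r t m q l) = (t * r + m) * (q * r + l) := by
  simp [ZMod.card]

theorem mxPerm_support_card :
    (mxPerm r t m q l s).support.card = t * r * (q * r + l) + s.card * r := by
  have h1 : (mxPerm r t m q l s).support =
      Finset.univ.filter (fun x => mxPerm r t m q l s x ≠ x) := by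
    ext x; simp [Perm.mem_support]
  rw [h1, Finset.card_filter, Fintype.sum_prod_type, Fintype.sum_sum_type]
  have hA : ∀ (gu : Fin t × ZMod r) (y : MA r q l),
      (if mxPerm r t m q l s (Sum.inl gu, y) ≠ (Sum.inl gu, y) then 1 else 0) = 1 := by
    rintro ⟨g, u⟩ y
    simp [mxPerm_apply, mxFun]
  have hB1 : ∀ (c : Fin m) (hv : Fin q × ZMod r),
      (if mxPerm r t m q l s (Sum.inr c, Sum.inl hv) ≠ (Sum.inr c, Sum.inl hv) then 1 else 0) =
        if (c, hv.1) ∈ s then 1 else 0 := by
    rintro c ⟨h, v⟩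
    by_cases hs : (c, h) ∈ s <;> simp [mxPerm_apply, mxFun, hs]
  have hB2 : ∀ (c : Fin m) (w : Fin l),
      (if mxPerm r t m q l s (Sum.inr c, Sum.inr w) ≠ (Sum.inr c, Sum.inr w) then 1 else 0) = 0 := by
    intro c w
    simp [mxPerm_apply, mxFun]
  have hsumA : ∑ gu : Fin t × ZMod r, ∑ y : MA r q l,
      (if mxPerm r t m q l s (Sum.inl gu, y) ≠ (Sum.inl gu, y) then 1 else 0)
        = t * r * (q * r + l) := by
    simp only [hA]
    simp [ZMod.card]
  have hsumB : ∑ c : Fin m, ∑ y : MA r q l,
      (if mxPerm r t m q l s (Sum.inr c, y) ≠ (Sum.inr c, y) then 1 else 0)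
        = s.card * r := by
    simp only [Fintype.sum_sum_type, hB1, hB2, Finset.sum_const_zero, add_zero]
    have h2 : ∀ c : Fin m, ∑ hv : Fin q × ZMod r, (if (c, hv.1) ∈ s then 1 else 0) =
        r * ∑ h : Fin q, (if (c, h) ∈ s then 1 else 0) := by
      intro c
      rw [Fintype.sum_prod_type, Finset.mul_sum]
      apply Finset.sum_congr rfl
      intro h _
      by_cases hs : (c, h) ∈ s <;> simp [hs, ZMod.card]
    simp only [h2]
    rw [← Finset.mul_sum]
    have h3 : ∑ c : Fin m, ∑ h : Fin q, (if (c, h) ∈ s then 1 else 0) = s.card := by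
      rw [← Fintype.sum_prod_type (f := fun p : Fin m × Fin q => if p ∈ s then 1 else 0)]
      simp
    rw [h3, mul_comm]
  rw [hsumA, hsumB]

theorem mxPerm_orderOf (h : 0 < t * r * (q * r + l) + s.card * r) :
    orderOf (mxPerm r t m q l s) = r := by
  apply orderOf_eq_prime (mxPerm_pow_r r t m q l s)
  intro h1
  have := mxPerm_support_card r t m q l s
  rw [h1, Perm.support_one, Finset.card_empty] at this
  omega

end Model

end Cfsg.Agent.Lib.Helper20.UPart
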