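import Mathlib

set_option autoImplicit false

namespace Cfsg.Agent.Lib.Helper20.UPart

open Equiv Finset

/-- Necessity: a permutation `τ` with `τ ^ r = 1` (`r` prime) permuting the fibres of a map `f`
whose fibres all have `a` elements has a support of constrained size. -/
theorem necessity {X B : Type*} [Fintype X] [DecidableEq X] [Fintype B] [DecidableEq B]
    (r a : ℕ) [Fact r.Prime] (ha : 0 < a) (τ : Perm X) (hτ : τ ^ r = 1) (f : X → B)
    (hf : ∀ β : B, Fintype.card {x : X // f x = β} = a) (π : Perm B)
    (h : ∀ x, f (τ x) = π (f x)) :
    ∃ t : ℕ, t * r ≤ Fintype.card B ∧ t * r * a ≤ τ.support.card ∧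
      τ.support.card ≤ t * r * a + (Fintype.card B - t * r) * (a - a % r) := by
  classical
  have hr : r.Prime := Fact.out
  -- powers
  have key : ∀ (k : ℕ) (x : X), f ((τ ^ k) x) = (π ^ k) (f x) := by
    intro k
    induction k with
    | zero => intro x; simp
    | succ k ih =>
      intro x
      rw [pow_succ', pow_succ', Perm.mul_apply, Perm.mul_apply, h, ih]
  have hsurj : ∀ β : B, ∃ x, f x = β := by
    intro β
    have h1 : 0 < Fintype.card {x : X // f x = β} := by rw [hf]; exact ha
    obtain ⟨⟨x, hx⟩⟩ := Fintype.card_pos_iff.mp h1
    exact ⟨x, hx⟩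
  have hπ : π ^ r = 1 := by
    ext β
    obtain ⟨x, rfl⟩ := hsurj β
    rw [← key, hτ]
    simp
  -- the number of moved blocks is a multiple of r
  have hM : r ∣ π.support.card := by
    have h1 := Equiv.Perm.card_compl_support_modEq (p := r) (n := 1) (σ := π) (by simpa using hπ)
    have h2 : π.supportᶜ.card ≤ Fintype.card B := Finset.card_le_univ _
    have h3 := (Nat.modEq_iff_dvd' h2).mp h1
    have h4 : Fintype.card B - π.supportᶜ.card = π.support.card := by
      have := Finset.card_compl_add_card π.support
      omega
    rwa [h4] at h3
  obtain ⟨t, ht⟩ := hM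
  refine ⟨t, ?_, ?_⟩
  · rw [mul_comm, ← ht]; exact Finset.card_le_univ _
  -- fibrewise count
  have hcount : τ.support.card = ∑ β : B, (τ.support.filter (fun x => f x = β)).card :=
    Finset.card_eq_sum_card_fiberwise (fun x _ => Finset.mem_univ (f x))
  have hmoved : ∀ β ∈ π.support, (τ.support.filter (fun x => f x = β)).card = a := by
    intro β hβ
    have h1 : τ.support.filter (fun x => f x = β) = Finset.univ.filter (fun x => f x = β) := by
      ext x
      simp only [Finset.mem_filter, Finset.mem_univ, true_and, Perm.mem_support,
        and_iff_right_iff_imp]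
      intro hx hfix
      have := h x
      rw [hfix, hx] at this
      exact (Perm.mem_support.mp hβ) this.symm
    rw [h1, ← hf β, Fintype.card_subtype]
  have hfixed : ∀ β ∈ π.supportᶜ, (τ.support.filter (fun x => f x = β)).card ≤ a - a % r := by
    intro β hβ
    have hπβ : π β = β := by
      have := Finset.mem_compl.mp hβ
      simpa [Perm.mem_support] using this
    have hinv : ∀ x, f (τ x) = β ↔ f x = β := by
      intro x
      rw [h x]
      constructor
      · intro h1
        apply π.injective
        rw [h1, hπβ]
      · intro h1
        rw [h1, hπβ]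
    set τβ : Perm {x : X // f x = β} := τ.subtypePerm hinv with hτβ
    have hτβr : τβ ^ r = 1 := by
      ext ⟨x, hx⟩
      rw [hτβ, Perm.subtypePerm_pow]
      simp [hτ]
    have h1 := Equiv.Perm.card_compl_support_modEq (p := r) (n := 1) (σ := τβ)
      (by simpa using hτβr)
    rw [hf β] at h1
    have h2 : a % r ≤ τβ.supportᶜ.card := by
      have h3 : τβ.supportᶜ.card % r = a % r := h1
      rw [← h3]
      exact Nat.mod_le _ _
    have h4 : τβ.supportᶜ.card + τβ.support.card = a := by
      rw [Finset.card_compl_add_card, hf β]
    have h5 : τ.support.filter (fun x => f x = β) =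
        τβ.support.map (Function.Embedding.subtype _) := by
      ext x
      simp only [Finset.mem_filter, Perm.mem_support, Finset.mem_map,
        Function.Embedding.coe_subtype, Subtype.exists, exists_and_right, exists_eq_right]
      constructor
      · rintro ⟨hx1, hx2⟩
        refine ⟨hx2, ?_⟩
        intro hh
        apply hx1
        have := congrArg Subtype.val hh
        simpa [hτβ] using this
      · rintro ⟨hx2, hx1⟩
        refine ⟨?_, hx2⟩
        intro hh
        apply hx1
        apply Subtype.ext
        simpa [hτβ] using hh
    rw [h5, Finset.card_map]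
    omega
  constructor
  · rw [hcount, ← Finset.sum_add_sum_compl π.support]
    rw [Finset.sum_congr rfl hmoved]
    simp only [Finset.sum_const, smul_eq_mul]
    rw [ht]
    have : t * r * a = r * t * a := by ring
    rw [this]
    exact Nat.le_add_right _ _
  · rw [hcount, ← Finset.sum_add_sum_compl π.support]
    rw [Finset.sum_congr rfl hmoved]
    simp only [Finset.sum_const, smul_eq_mul]
    have h6 : ∑ β ∈ π.supportᶜ, (τ.support.filter (fun x => f x = β)).card ≤
        π.supportᶜ.card * (a - a % r) := by
      have := Finset.sum_le_card_nsmul π.supportᶜ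
        (fun β => (τ.support.filter (fun x => f x = β)).card) (a - a % r) hfixed
      simpa using this
    have h7 : π.supportᶜ.card = Fintype.card B - t * r := by
      have := Finset.card_compl_add_card π.support
      rw [Finset.card_compl, ht, mul_comm]
    rw [h7] at h6
    rw [ht]
    have : t * r * a = r * t * a := by ring
    rw [this]
    exact Nat.add_le_add_left h6 _

end Cfsg.Agent.Lib.Helper20.UPart
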