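import Mathlib

set_option autoImplicit false

namespace Cfsg.Agent.Lib.Helper20.UPart

open Equiv Finset

theorem support_permCongr_card {X Y : Type*} [Fintype X] [DecidableEq X] [Fintype Y]
    [DecidableEq Y] (e : X ≃ Y) (τ : Perm X) :
    (e.permCongr τ).support.card = τ.support.card := by
  have h : (e.permCongr τ).support = τ.support.map e.toEmbedding := by
    ext y
    simp only [Perm.mem_support, Equiv.permCongr_apply, ne_eq, Finset.mem_map,
      Equiv.coe_toEmbedding]
    constructor
    · intro hy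
      refine ⟨e.symm y, ?_, by simp⟩
      intro hh
      apply hy
      rw [hh]
      simp
    · rintro ⟨x, hx, rfl⟩
      simpa using hx
  rw [h, Finset.card_map]

theorem orderOf_permCongr {X Y : Type*} (e : X ≃ Y) (τ : Perm X) :
    orderOf (e.permCongr τ) = orderOf τ := by
  have := MulEquiv.orderOf_eq e.permCongrHom τ
  rwa [Equiv.permCongrHom_coe] at this

/-- Two permutations of the same prime order with supports of the same size are conjugate. -/
theorem isConj_of_prime_order {Y : Type*} [Fintype Y] [DecidableEq Y] (r : ℕ) (hr : r.Prime)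
    (σ τ : Perm Y) (hσ : orderOf σ = r) (hτ : orderOf τ = r)
    (hs : σ.support.card = τ.support.card) : IsConj σ τ := by
  rw [Equiv.Perm.isConj_iff_cycleType_eq]
  obtain ⟨n, hn⟩ := Equiv.Perm.cycleType_prime_order (σ := σ) (by rw [hσ]; exact hr)
  obtain ⟨n', hn'⟩ := Equiv.Perm.cycleType_prime_order (σ := τ) (by rw [hτ]; exact hr)
  rw [hσ] at hn
  rw [hτ] at hn'
  have h1 := Equiv.Perm.sum_cycleType σ
  have h2 := Equiv.Perm.sum_cycleType τ
  rw [hn, Multiset.sum_replicate] at h1
  rw [hn', Multiset.sum_replicate] at h2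
  have h3 : (n + 1) * r = (n' + 1) * r := by
    simp only [smul_eq_mul] at h1 h2
    rw [h1, h2, hs]
  have h4 : n + 1 = n' + 1 := Nat.eq_of_mul_eq_mul_right hr.pos h3
  rw [hn, hn', h4]

theorem transport {X B' : Type*} [Fintype X] [DecidableEq X] [Fintype B'] [DecidableEq B']
    (a b r : ℕ) (hr : r.Prime) (σ : Perm (Fin (a * b))) (hσ : orderOf σ = r)
    (τ : Perm X) (hτ : orderOf τ = r) (hX : Fintype.card X = a * b)
    (hB : Fintype.card B' = b)
    (hsupp : τ.support.card = σ.support.card) (f₀ : X → B')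
    (hf₀ : ∀ β, Fintype.card {x // f₀ x = β} = a) (π₀ : Perm B')
    (h₀ : ∀ x, f₀ (τ x) = π₀ (f₀ x)) :
    ∃ f : Fin (a * b) → Fin b, (∀ j : Fin b, Nat.card {x : Fin (a * b) // f x = j} = a) ∧
      ∃ π : Perm (Fin b), ∀ x : Fin (a * b), f (σ x) = π (f x) := by
  classical
  let e₀ : X ≃ Fin (a * b) := Fintype.equivFinOfCardEq hX
  let eB : B' ≃ Fin b := Fintype.equivFinOfCardEq hB
  have hconj : IsConj σ (e₀.permCongr τ) := by
    apply isConj_of_prime_order r hr σ _ hσ
    · rw [orderOf_permCongr, hτ]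
    · rw [support_permCongr_card, hsupp]
  obtain ⟨c, hc⟩ := isConj_iff.mp hconj
  have hc' : ∀ x, c (σ x) = e₀ (τ (e₀.symm (c x))) := by
    intro x
    have h1 : c * σ = e₀.permCongr τ * c := by
      rw [← hc]; group
    have h2 := congrArg (fun p : Perm (Fin (a * b)) => p x) h1
    simpa using h2
  refine ⟨fun x => eB (f₀ (e₀.symm (c x))), ?_, eB.permCongr π₀, ?_⟩
  · intro j
    rw [Nat.card_eq_fintype_card]
    refine Eq.trans ?_ (hf₀ (eB.symm j))
    apply Fintype.card_congr
    refine (c.trans e₀.symm).subtypeEquiv ?_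
    intro x
    simp only [Equiv.trans_apply]
    exact (Equiv.eq_symm_apply eB).symm
  · intro x
    simp only [Equiv.permCongr_apply, Equiv.symm_apply_apply]
    rw [hc' x, Equiv.symm_apply_apply, h₀]

end Cfsg.Agent.Lib.Helper20.UPart
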